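import Groth.Agent.SitesTopoi.Mod.TensorLocal
import Mathlib.CategoryTheory.Adjunction.AdjointFunctorTheorems

/-!
Tensoring with a sheaf of modules preserves colimits; the internal hom exists.
-/

universe u

open CategoryTheory CategoryTheory.Limits Opposite MonoidalCategory

namespace Groth.SitesTopoi.ModH

/-- A functor out of a reflective subcategory preserves colimits if its composite with the reflector does. -/
lemma preservesColimitsOfShape_of_reflective {A B E K : Type*} [Category A] [Category B] [Category E] [Category K]
    {L : A ⥤ B} {R : B ⥤ A} (adj : L ⊣ R) [IsIso adj.counit] [HasColimitsOfShape K A] (G : B ⥤ E)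
    [PreservesColimitsOfShape K (L ⋙ G)] : PreservesColimitsOfShape K G where
  preservesColimit {D} := by
    have : L.IsLeftAdjoint := adj.isLeftAdjoint
    have : PreservesColimit ((D ⋙ R) ⋙ L) G :=
      preservesColimit_of_preserves_colimit_cocone (isColimitOfPreserves L (colimit.isColimit (D ⋙ R)))
        (isColimitOfPreserves (L ⋙ G) (colimit.isColimit (D ⋙ R)))
    exact preservesColimit_of_iso_diagram G (Functor.associator _ _ _ ≪≫ Functor.isoWhiskerLeft D (asIso adj.counit) ≪≫
      D.rightUnitor)

variable {C : Type u} [SmallCategory C] {J : GrothendieckTopology C} {O : Sheaf J CommRingCat.{u}}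

/-- The functor tensoring with a sheaf of modules, computed on presheaves. -/
noncomputable def tensorFlipIso (F : ModSite.Mod O) :
    (ModSite.tensorBi O).flip.obj F ≅ forgetP O ⋙ tensorRight (C := PM O) F.val ⋙ aP O :=
  NatIso.ofComponents (fun G => Iso.refl _) (fun {G G'} φ => by
    dsimp [ModSite.tensorBi]
    exact (Category.comp_id _).trans (Category.id_comp _).symm)

/-- The unit tensored with a sheaf of modules, after sheafification. -/
noncomputable def whiskerEtaIso (F : ModSite.Mod O) (M : PM O) :
    (aP O).obj (M ⊗ F.val : PM O) ≅ (aP O).obj (((aP O).obj M).val ⊗ F.val : PM O) :=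
  @asIso _ _ _ _ ((aP O).map (etaP M ▷ F.val)) (isIso_aP_map_whiskerRight (etaP M) F.val)

lemma whiskerEtaIso_naturality (F : ModSite.Mod O) {M N : PM O} (f : M ⟶ N) :
    (aP O).map (f ▷ F.val) ≫ (whiskerEtaIso F N).hom =
      (whiskerEtaIso F M).hom ≫ (aP O).map (MonoidalCategory.whiskerRight (C := PM O) ((aP O).map f).val F.val) := by
  refine ((aP O).map_comp _ _).symm.trans (Eq.trans ?_ ((aP O).map_comp _ _))
  refine congrArg (aP O).map ?_
  refine (comp_whiskerRight (C := PM O) _ _ _).symm.trans (Eq.trans ?_ (comp_whiskerRight (C := PM O) _ _ _))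
  exact congrArg (fun φ => MonoidalCategory.whiskerRight (C := PM O) φ F.val) ((adjP O).unit.naturality f)

/-- Tensoring after sheafification. -/
noncomputable def aPTensorFlipIso (F : ModSite.Mod O) :
    aP O ⋙ (ModSite.tensorBi O).flip.obj F ≅ tensorRight (C := PM O) F.val ⋙ aP O :=
  ((NatIso.ofComponents (F := tensorRight (C := PM O) F.val ⋙ aP O)
      (G := aP O ⋙ forgetP O ⋙ tensorRight (C := PM O) F.val ⋙ aP O)
      (fun M => whiskerEtaIso F M) (fun f => whiskerEtaIso_naturality F f)) ≪≫
    Functor.isoWhiskerLeft (aP O) (tensorFlipIso F).symm).symm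

instance tensorFlip_preservesColimits (F : ModSite.Mod O) :
    PreservesColimitsOfSize.{u, u} ((ModSite.tensorBi O).flip.obj F) where
  preservesColimitsOfShape {K} _ := by
    have : (aP O).IsLeftAdjoint := (adjP O).isLeftAdjoint
    have : PreservesColimitsOfShape K (aP O ⋙ (ModSite.tensorBi O).flip.obj F) :=
      preservesColimitsOfShape_of_natIso (aPTensorFlipIso F).symm
    exact preservesColimitsOfShape_of_reflective (adjP O) _

/-- Internal hom of sheaves of modules exists. -/
lemma hasSheafHom (F : ModSite.Mod O) : ModSite.HasSheafHom F :=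
  have : WellPowered.{u} (ModSite.Mod O)ᵒᵖ :=
    @CategoryTheory.Abelian.wellPowered_opposite _ _ _ inferInstance (IsGrothendieckAbelian.wellPowered (ModSite.Mod O))
  isLeftAdjoint_of_preservesColimits_of_isSeparating
    ((isSeparator_separator (ModSite.Mod O)) : _) _

instance toSheaf_preservesColimits :
    PreservesColimitsOfSize.{u, u} (SheafOfModules.toSheaf.{u} (ModSite.ringSh O)) where
  preservesColimitsOfShape {K} _ := by
    have : (presheafToSheaf J AddCommGrpCat.{u}).IsLeftAdjoint := (sheafificationAdjunction J _).isLeftAdjoint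
    have : PreservesColimitsOfShape K (PresheafOfModules.toPresheaf (ModSite.ringSh O).obj ⋙ presheafToSheaf J AddCommGrpCat.{u}) :=
      comp_preservesColimitsOfShape _ _
    have : PreservesColimitsOfShape K (aP O ⋙ SheafOfModules.toSheaf.{u} (ModSite.ringSh O)) :=
      @preservesColimitsOfShape_of_natIso _ _ _ _ _ _ _ _
        (PresheafOfModules.sheafificationCompToSheaf (𝟙 (ModSite.ringSh O).obj)).symm this
    exact preservesColimitsOfShape_of_reflective (adjP O) _

instance tensorFlip_preservesFiniteColimits (F : ModSite.Mod O) :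
    PreservesFiniteColimits ((ModSite.tensorBi O).flip.obj F) :=
  PreservesColimitsOfSize.preservesFiniteColimits.{u, u} _

end Groth.SitesTopoi.ModH
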