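import Groth.Agent.SitesTopoi.Mod.PullMono
import Mathlib.CategoryTheory.Sites.Abelian

/-!
Short exact sequences with flat quotient stay exact under inverse image.
-/

universe u

open CategoryTheory CategoryTheory.Limits Opposite

namespace Groth.SitesTopoi.ModH

variable {C D : Type u} [SmallCategory C] [SmallCategory D] {J : GrothendieckTopology C}
  {K : GrothendieckTopology D} {O_C : Sheaf J CommRingCat.{u}} {O_D : Sheaf K CommRingCat.{u}}

lemma locSurj_of_epi {M N : ModSite.Mod O_D} (p : M ⟶ N) [Epi p] : LocSurj p.val := by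
  have : Epi ((SheafOfModules.toSheaf.{u} (ModSite.ringSh O_D)).map p) := inferInstance
  exact (locSurj_iff p.val).2 ((Sheaf.isLocallySurjective_iff_epi' AddCommGrpCat.{u}
    ((SheafOfModules.toSheaf.{u} (ModSite.ringSh O_D)).map p)).2 this)

lemma exists_lift_finset {M N : ModSite.Mod O_D} (p : M ⟶ N) [Epi p] {d : D} {ι : Type*} (s : Finset ι)
    (t : ι → sc N.val d) :
    ∃ T ∈ K d, ∀ ⦃d' : D⦄ (w : d' ⟶ d), T w → ∃ u : ι → sc M.val d', ∀ i ∈ s, apm p.val d' (u i) = rsm N.val w (t i) := by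
  classical
  induction s using Finset.induction_on with
  | empty => exact ⟨⊤, K.top_mem d, fun d' w _ => ⟨0, fun i hi => absurd hi (Finset.notMem_empty i)⟩⟩
  | insert i₀ s _ ih =>
    obtain ⟨T, hT, h⟩ := ih
    obtain ⟨R, hR, h₀⟩ := locSurj_of_epi p d (t i₀)
    refine ⟨T ⊓ R, K.intersection_covering hT hR, fun d' w hw => ?_⟩
    obtain ⟨u, hu⟩ := h w hw.1
    obtain ⟨m, hm⟩ := h₀ w hw.2
    refine ⟨fun i => if i = i₀ then m else u i, fun i hi => ?_⟩
    dsimp only
    split_ifs with h'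
    · rw [h', hm]
    · exact hu i ((Finset.mem_insert.1 hi).resolve_left h')

lemma exists_preimage {S : ShortComplex (ModSite.Mod O_D)} (hS : S.ShortExact) {d : D} (x : sc S.X₂.val d)
    (hx : apm S.g.val d x = 0) : ∃ y, apm S.f.val d y = x := by
  have := hS.mono_f
  have : (forgetP O_D).IsRightAdjoint := (adjP O_D).isRightAdjoint
  have hlim : PreservesFiniteLimits (forgetP O_D ⋙ PresheafOfModules.evaluation _ (op d)) :=
    comp_preservesFiniteLimits _ _
  have hadd : (forgetP O_D ⋙ PresheafOfModules.evaluation _ (op d)).Additive := ⟨fun {_ _ _ _} => rfl⟩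
  have hh := (forgetP O_D ⋙ PresheafOfModules.evaluation _ (op d)).preservesFiniteLimits_tfae.out 3 1
  exact (ShortComplex.moduleCat_exact_iff _).1 (hh.1 hlim S ⟨hS.exact, hS.mono_f⟩).1 x hx

/-- A local retraction on finitely many sections compatible with given relations. -/
lemma exists_retraction {S : ShortComplex (ModSite.Mod O_D)} (hS : S.ShortExact) (hH : RelTriv S.X₃) {d : D}
    (E : Finset (sc S.X₁.val d)) (L : List (LinearMap.ker (combD S.X₂ d))) :
    ∃ T ∈ K d, ∀ ⦃d' : D⦄ (w : d' ⟶ d), T w → ∃ Z : sc S.X₂.val d → sc S.X₁.val d',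
      (∀ x ∈ E, rsm S.X₁.val w x = Z (apm S.f.val d x)) ∧
      ∀ r ∈ L, (r : sc S.X₂.val d →₀ rsec O_D d).sum (fun y a => rsR w a • Z y) = 0 := by
  classical
  have := hS.epi_g
  have hmono := hS.mono_f
  let Y : Finset (sc S.X₂.val d) :=
    E.image (apm S.f.val d) ∪ L.toFinset.biUnion fun r => (r : sc S.X₂.val d →₀ rsec O_D d).support
  have hY : ∀ r ∈ L, (r : sc S.X₂.val d →₀ rsec O_D d).support ⊆ Y := fun r hr e he =>
    Finset.mem_union_right _ (Finset.mem_biUnion.2 ⟨r, List.mem_toFinset.2 hr, he⟩)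
  have hsum : ∀ r ∈ L, ∑ y : Y, (r : sc S.X₂.val d →₀ rsec O_D d) y • (y : sc S.X₂.val d) = 0 := fun r hr => by
    refine Eq.trans ?_ (LinearMap.mem_ker.1 r.2)
    simp only [combD, Finsupp.linearCombination_apply, id]
    refine (Y.sum_coe_sort fun e => (r : sc S.X₂.val d →₀ rsec O_D d) e • e).trans ?_
    exact (Finsupp.sum_of_support_subset _ (hY r hr) (fun e c => c • e) fun _ _ => zero_smul _ _).symm
  let eY := Y.equivFin
  obtain ⟨T₁, hT₁, h₁⟩ := hH.simultaneous (fun i => apm S.g.val d (eY.symm i).1)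
    (L.map fun (r : LinearMap.ker (combD S.X₂ d)) i => (r : sc S.X₂.val d →₀ rsec O_D d) (eY.symm i)) (fun r' hr' => by
      obtain ⟨r, hr, rfl⟩ := List.mem_map.1 hr'
      rw [Fintype.sum_equiv eY.symm _ (fun y : Y => (r : sc S.X₂.val d →₀ rsec O_D d) y • apm S.g.val d y.1) fun _ => rfl]
      simp only [← map_smul, ← map_sum, hsum r hr, map_zero])
  refine exists_refine (J := K) hT₁ fun d₁ w₁ hw₁ => ?_
  obtain ⟨l, t, a, ha, ha'⟩ := h₁ w₁ hw₁
  obtain ⟨T₂, hT₂, h₂⟩ := exists_lift_finset S.g (Finset.univ : Finset (Fin l)) t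
  refine exists_refine (J := K) hT₂ fun d₂ w₂ hw₂ => ?_
  obtain ⟨u, hu⟩ := h₂ w₂ hw₂
  have hz : ∀ y : Y, ∃ z, apm S.f.val d₂ z = rsm S.X₂.val (w₂ ≫ w₁) y.1 - ∑ i, rsR w₂ (a (eY y) i) • u i := fun y => by
    refine exists_preimage hS _ ?_
    rw [map_sub, map_sum, apm_rsm, ← rsm_rsm]
    have e := ha (eY y)
    rw [Equiv.symm_apply_apply] at e
    simp only [e, map_sum, rsm_smul, map_smul, hu _ (Finset.mem_univ _), sub_self]
  choose z hz using hz
  let xs := E.attach.toList.map fun (x : {x // x ∈ E}) i =>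
    rsR w₂ (a (eY ⟨apm S.f.val d x.1, Finset.mem_union_left _ (Finset.mem_image_of_mem _ x.2)⟩) i)
  obtain ⟨T₃, hT₃, h₃⟩ := hH.simultaneous (fun i => rsm S.X₃.val w₂ (t i)) xs (fun r' hr' => by
    obtain ⟨x, -, rfl⟩ := List.mem_map.1 hr'
    have e := congrArg (rsm S.X₃.val w₂) (ha (eY ⟨apm S.f.val d x.1, Finset.mem_union_left _ (Finset.mem_image_of_mem _ x.2)⟩))
    simp only [Equiv.symm_apply_apply, map_sum, rsm_smul, ← apm_rsm] at e
    refine e.symm.trans ?_
    exact congrArg (fun φ => apm (SheafOfModules.Hom.val φ) d₂ (rsm S.X₁.val w₂ (rsm S.X₁.val w₁ x.1))) S.zero)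
  refine exists_refine (J := K) hT₃ fun d₃ w₃ hw₃ => ?_
  obtain ⟨l', t', b, hb, hb'⟩ := h₃ w₃ hw₃
  obtain ⟨T₄, hT₄, h₄⟩ := exists_lift_finset S.g (Finset.univ : Finset (Fin l')) t'
  refine ⟨T₄, hT₄, fun d₄ w₄ hw₄ => ?_⟩
  obtain ⟨u', hu'⟩ := h₄ w₄ hw₄
  have hz' : ∀ i, ∃ z', apm S.f.val d₄ z' = rsm S.X₂.val (w₄ ≫ w₃) (u i) - ∑ q, rsR w₄ (b i q) • u' q := fun i => by
    refine exists_preimage hS _ ?_
    rw [map_sub, map_sum, apm_rsm, hu _ (Finset.mem_univ _), ← rsm_rsm]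
    simp only [hb, map_sum, rsm_smul, map_smul, hu' _ (Finset.mem_univ _), sub_self]
  choose z' hz' using hz'
  let W := w₄ ≫ w₃ ≫ w₂ ≫ w₁
  let A : Y → Fin l → rsec O_D d₄ := fun y i => rsR (w₄ ≫ w₃ ≫ w₂) (a (eY y) i)
  let Zy : Y → sc S.X₁.val d₄ := fun y => rsm S.X₁.val (w₄ ≫ w₃) (z y) + ∑ i, A y i • z' i
  let Z : sc S.X₂.val d → sc S.X₁.val d₄ := fun y => if hy : y ∈ Y then Zy ⟨y, hy⟩ else 0
  have hZ : ∀ y : Y, apm S.f.val d₄ (Zy y) =
      rsm S.X₂.val W y.1 - ∑ q, (∑ i, A y i * rsR w₄ (b i q)) • u' q := fun y => by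
    simp only [Zy, map_add, apm_rsm, hz, map_sub, map_sum, map_smul, rsm_smul, hz', smul_sub, Finset.sum_sub_distrib,
      rsm_rsm, rsR_rsR, Finset.smul_sum, Finset.sum_smul, smul_smul, W, A, Category.assoc]
    rw [Finset.sum_comm (s := (Finset.univ : Finset (Fin l'))) (t := (Finset.univ : Finset (Fin l)))]
    abel
  refine ⟨Z, fun x hx => ?_, fun r hr => ?_⟩
  · refine injective_of_mono S.f d₄ ?_
    have hy : apm S.f.val d x ∈ Y := Finset.mem_union_left _ (Finset.mem_image_of_mem _ hx)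
    simp only [Z, dif_pos hy, hZ]
    have h0 : ∀ q, ∑ i, A ⟨_, hy⟩ i * rsR w₄ (b i q) = 0 := fun q => by
      have e := congrArg (rsR w₄) (hb' _ (List.mem_map.2 ⟨⟨x, hx⟩, by simp, rfl⟩) q)
      simp only [map_sum, map_mul, map_zero, rsR_rsR] at e
      refine Eq.trans (Finset.sum_congr rfl fun i _ => ?_) e
      simp only [A, Category.assoc, mul_comm]
    simp only [h0, zero_smul, Finset.sum_const_zero, sub_zero, apm_rsm, W, Category.assoc]
  · refine injective_of_mono S.f d₄ ?_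
    rw [Finsupp.sum_of_support_subset _ (hY r hr) _ (fun _ _ => by rw [map_zero, zero_smul]), map_zero, ← Y.sum_coe_sort]
    simp only [Z, dif_pos, Finset.coe_mem, Subtype.coe_eta, map_sum, map_smul, hZ, smul_sub, Finset.smul_sum,
      Finset.sum_sub_distrib]
    simp only [smul_smul, W, Category.assoc]
    have hW : ∑ y : Y, rsR (w₄ ≫ w₃ ≫ w₂ ≫ w₁) ((r : sc S.X₂.val d →₀ rsec O_D d) y) • rsm S.X₂.val (w₄ ≫ w₃ ≫ w₂ ≫ w₁) y.1 = 0 := by
      simp only [← rsm_smul]
      rw [← map_sum, hsum r hr, map_zero]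
    rw [hW, zero_sub, neg_eq_zero, Finset.sum_comm]
    refine Finset.sum_eq_zero fun q _ => ?_
    rw [← Finset.sum_smul]
    have e : ∑ y : Y, rsR W ((r : sc S.X₂.val d →₀ rsec O_D d) y) * ∑ i, A y i * rsR w₄ (b i q) =
        ∑ i, rsR w₄ (b i q) * rsR (w₄ ≫ w₃ ≫ w₂) (∑ e, a e i * rsR w₁ ((r : sc S.X₂.val d →₀ rsec O_D d) (eY.symm e))) := by
      simp only [Finset.mul_sum, map_sum, map_mul, rsR_rsR, A, W, Category.assoc]
      rw [Finset.sum_comm]
      refine Finset.sum_congr rfl fun i _ => Fintype.sum_equiv eY _ _ fun y => ?_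
      rw [Equiv.symm_apply_apply]
      ring
    rw [e, Finset.sum_eq_zero fun i _ => ?_, zero_smul]
    rw [ha' _ (List.mem_map_of_mem hr) i, map_zero, mul_zero]

/-- The inverse image of a short exact sequence with flat quotient is short exact. -/
theorem shortExact_map_pull (f : ModSite.RMor O_C O_D) {S : ShortComplex (ModSite.Mod O_D)} (hS : S.ShortExact)
    (hH : ModSite.IsFlat S.X₃) : (S.map f.pull).ShortExact := by
  classical
  have hl : LocFiltered J K f.fn := locFiltered (J := J) (K := K) f.fn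
  have : f.pull.IsLeftAdjoint := f.adj.isLeftAdjoint
  have hc : PreservesFiniteColimits f.pull := PreservesColimitsOfSize.preservesFiniteColimits.{u, u} _
  have := Balanced.additive_of_rightExact f.pull
  obtain ⟨hex, hepi⟩ := (Functor.preservesFiniteColimits_iff_forall_exact_map_and_epi _).1 hc S hS
  have := hS.mono_f
  have : Mono (S.map f.pull).f := mono_pull_map_of S.f fun c d β v hv => by
    obtain ⟨n, s, gr, hsum⟩ := Submodule.mem_span_set'.1 hv
    choose r hr hr' using fun i => (gr i).2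
    obtain ⟨T, hT, hT'⟩ := exists_retraction hS (relTriv_of_isFlat hH) v.support
      (List.ofFn fun i => (⟨r i, hr i⟩ : LinearMap.ker (combD S.X₂ d)))
    obtain ⟨R, hR, hR'⟩ := hl.cover d T hT c β
    refine ⟨R, hR, fun c' h hh => ?_⟩
    obtain ⟨d', w, γ, hw, e⟩ := hR' h hh
    obtain ⟨Z, hZ, hZ'⟩ := hT' w hw
    have h1 : rsm (Qp f S.X₁) h (vecTo f S.X₁ β v) =
        (v.mapDomain (apm S.f.val d)).sum fun y b => rsR h b • ge f S.X₁ γ (Z y) := by
      rw [Finsupp.sum_mapDomain_index (fun _ => by rw [map_zero, zero_smul]) (fun _ _ _ => by rw [map_add, add_smul])]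
      simp only [vecTo, Finsupp.linearCombination_apply, Finsupp.sum, map_sum, rsm_smul, rsm_ge]
      exact Finset.sum_congr rfl fun x hx => by rw [← hZ x hx, ge_rsm, e]
    rw [h1, ← hsum, ← Finsupp.sum_finsetSum_index (fun _ => by rw [map_zero, zero_smul])
      (fun _ _ _ => by rw [map_add, add_smul])]
    refine Finset.sum_eq_zero fun i _ => ?_
    rw [Finsupp.sum_smul_index (fun _ => by rw [map_zero, zero_smul]), ← hr' i,
      Finsupp.sum_mapRange_index (fun _ => by rw [mul_zero, map_zero, zero_smul])]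
    simp only [Finsupp.sum, map_mul, mul_smul, ← Finset.smul_sum, rsR_sha, ← e, ← sha_rsR, ← ge_smul, ← ge_finsetSum]
    rw [show ∑ y ∈ (r i).support, rsR w (r i y) • Z y = 0 from hZ' ⟨r i, hr i⟩ (List.mem_ofFn.2 ⟨i, rfl⟩), ge_zero, smul_zero]
  exact { exact := hex, mono_f := this, epi_g := hepi }

end Groth.SitesTopoi.ModH
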