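import Groth.Agent.SitesTopoi.Mod.Flat
import Mathlib.LinearAlgebra.TensorProduct.RightExactness
import Mathlib.LinearAlgebra.Finsupp.LinearCombination

/-!
The equational criterion of flatness on a ringed site.
-/

universe u

open CategoryTheory CategoryTheory.Limits Opposite MonoidalCategory

namespace Groth.SitesTopoi.ModH

variable {C : Type u} [SmallCategory C] {J : GrothendieckTopology C} {O : Sheaf J CommRingCat.{u}}

/-- Relations among sections of `F` are locally trivial. -/
def RelTriv (F : ModSite.Mod O) : Prop :=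
  ∀ (U : C) (n : ℕ) (f : Fin n → rsec O U) (s : Fin n → sc F.val U), ∑ j, f j • s j = 0 →
    ∃ S ∈ J U, ∀ ⦃V : C⦄ (g : V ⟶ U), S g →
      ∃ (l : ℕ) (t : Fin l → sc F.val V) (a : Fin n → Fin l → rsec O V),
        (∀ j, rsm F.val g (s j) = ∑ k, a j k • t k) ∧ ∀ k, ∑ j, a j k * rsR g (f j) = 0

variable {F : ModSite.Mod O}

lemma rel_push {V : C} {E : Type*} [Fintype E] {l : ℕ} (a : E → Fin l → rsec O V) (t : Fin l → sc F.val V)
    (r : E → rsec O V) : ∑ e, r e • ∑ k, a e k • t k = ∑ k, (∑ e, a e k * r e) • t k := by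
  simp only [Finset.smul_sum, Finset.sum_smul, smul_smul]
  rw [Finset.sum_comm]
  simp only [mul_comm (r _)]

/-- Finitely many relations can be trivialised simultaneously. -/
lemma RelTriv.simultaneous (h : RelTriv F) {U : C} {n : ℕ} (v : Fin n → sc F.val U) :
    ∀ L : List (Fin n → rsec O U), (∀ r ∈ L, ∑ e, r e • v e = 0) → ∃ S ∈ J U, ∀ ⦃V : C⦄ (g : V ⟶ U), S g →
      ∃ (l : ℕ) (t : Fin l → sc F.val V) (a : Fin n → Fin l → rsec O V),
        (∀ e, rsm F.val g (v e) = ∑ k, a e k • t k) ∧ ∀ r ∈ L, ∀ k, ∑ e, a e k * rsR g (r e) = 0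
  | [], _ => ⟨⊤, J.top_mem U, fun V g _ => ⟨n, fun k => rsm F.val g (v k), fun e k => if e = k then 1 else 0,
      fun e => by simp, fun r hr => (List.not_mem_nil hr).elim⟩⟩
  | r :: L, hL => by
    obtain ⟨S, hS, hS'⟩ := RelTriv.simultaneous h v L fun r' hr' => hL r' (List.mem_cons_of_mem r hr')
    choose l t a hv ha using hS'
    have hr : ∀ ⦃V : C⦄ (g : V ⟶ U) (hg : S g), ∑ k, (∑ e, a g hg e k * rsR g (r e)) • t g hg k = 0 := fun V g hg => by
      have e₀ := congrArg (rsm F.val g) (hL r List.mem_cons_self)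
      rw [map_sum, map_zero] at e₀
      simp only [rsm_smul, hv g hg] at e₀
      rwa [rel_push] at e₀
    choose T hT hT' using fun {V : C} (g : V ⟶ U) (hg : S g) => h V (l g hg) _ (t g hg) (hr g hg)
    refine ⟨Sieve.bind S fun V g hg => T g hg, J.bind_covering hS fun V g hg => hT g hg, ?_⟩
    rintro W _ ⟨V, k, g, hg, hk, rfl⟩
    obtain ⟨l', t', b, hb, hb'⟩ := hT' g hg k hk
    refine ⟨l', t', fun e i => ∑ m, rsR k (a g hg e m) * b m i, fun e => ?_, fun r' hr' i => ?_⟩
    · rw [← rsm_rsm, hv g hg e, map_sum]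
      simp only [rsm_smul, hb, Finset.smul_sum, Finset.sum_smul, smul_smul]
      exact Finset.sum_comm
    · have key : ∑ e, (∑ m, rsR k (a g hg e m) * b m i) * rsR (k ≫ g) (r' e) =
          ∑ m, b m i * rsR k (∑ e, a g hg e m * rsR g (r' e)) := by
        simp only [map_sum, map_mul, rsR_rsR, Finset.sum_mul, Finset.mul_sum]
        rw [Finset.sum_comm]
        exact Finset.sum_congr rfl fun m _ => Finset.sum_congr rfl fun e _ => by ring
      rw [key]
      rcases List.mem_cons.1 hr' with rfl | hr''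
      · exact hb' i
      · simp [ha g hg r' hr'']

section Converse

variable {U V : C} (H : PM O) (g : V ⟶ U) (a : sc F.val U → rsec O V)

/-- The map on formal combinations given by coefficients on generators. -/
noncomputable def coefHom : TensorProduct (rsec O U) (sc H U) (sc F.val U →₀ rsec O U) →+ sc H V :=
  TensorProduct.liftAddHom
    (AddMonoidHom.mk' (fun z => AddMonoidHom.mk'
        (fun r => (r.sum fun e c => a e * rsR g c) • rsm H g z) fun r r' => by
          rw [Finsupp.sum_add_index' (fun _ => by simp) (fun _ _ _ => by rw [map_add, mul_add]), add_smul])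
      fun z z' => by ext r; simp [smul_add])
    fun c z r => by
      simp only [AddMonoidHom.mk'_apply]
      rw [rsm_smul, smul_smul, Finsupp.sum_smul_index (fun _ => by simp), Finsupp.sum, Finsupp.sum, Finset.sum_mul]
      exact congrArg (· • rsm H g z) (Finset.sum_congr rfl fun e _ => by rw [map_mul]; ring)

lemma coefHom_tmul (z : sc H U) (r : sc F.val U →₀ rsec O U) :
    coefHom H g a (z ⊗ₜ r) = (r.sum fun e c => a e * rsR g c) • rsm H g z := rfl

end Converse

/-- A vanishing tensor is locally trivial. -/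
lemma RelTriv.of_tensor_eq_zero (h : RelTriv F) {H : PM O} {U : C} {n : ℕ} (z : Fin n → sc H U)
    (s : Fin n → sc F.val U) (e₀ : ∑ j, TensorProduct.tmul (rsec O U) (z j) (s j) = 0) :
    ∃ S ∈ J U, ∀ ⦃V : C⦄ (g : V ⟶ U), S g →
      ∃ (l : ℕ) (t : Fin l → sc F.val V) (a : Fin n → Fin l → rsec O V),
        (∀ j, rsm F.val g (s j) = ∑ k, a j k • t k) ∧ ∀ k, ∑ j, a j k • rsm H g (z j) = 0 := by
  classical
  let π : (sc F.val U →₀ rsec O U) →ₗ[rsec O U] sc F.val U := Finsupp.linearCombination _ id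
  have hπ : Function.Surjective π := fun x => ⟨Finsupp.single x 1, by simp [π]⟩
  let x : TensorProduct (rsec O U) (sc H U) (sc F.val U →₀ rsec O U) := ∑ j, z j ⊗ₜ Finsupp.single (s j) 1
  have hx : LinearMap.lTensor (sc H U) π x = 0 := by
    simp only [x, map_sum, LinearMap.lTensor_tmul, π, Finsupp.linearCombination_single, one_smul, id]
    exact e₀
  have hex : Function.Exact (LinearMap.ker π).subtype π := LinearMap.exact_subtype_ker_map π
  obtain ⟨y, hy⟩ := (lTensor_exact (R := rsec O U) (M := LinearMap.ker π) (N := sc F.val U →₀ rsec O U) (P := sc F.val U) (sc H U) hex hπ x).1 hx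
  obtain ⟨L, hL⟩ : ∃ L : List (LinearMap.ker π), ∀ (V : C) (g : V ⟶ U) (a : sc F.val U → rsec O V),
      (∀ r ∈ L, (r : sc F.val U →₀ rsec O U).sum (fun e c => a e * rsR g c) = 0) →
        coefHom H g a (LinearMap.lTensor (sc H U) (LinearMap.ker π).subtype y) = 0 := by
    clear hy
    induction y using TensorProduct.induction_on with
    | zero => exact ⟨[], fun V g a _ => by rw [map_zero, map_zero]⟩
    | tmul w r => exact ⟨[r], fun V g a ha => by
        rw [LinearMap.lTensor_tmul, coefHom_tmul, Submodule.subtype_apply, ha r (List.mem_singleton_self r), zero_smul]⟩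
    | add y₁ y₂ h₁ h₂ =>
      obtain ⟨L₁, hL₁⟩ := h₁
      obtain ⟨L₂, hL₂⟩ := h₂
      exact ⟨L₁ ++ L₂, fun V g a ha => by
        rw [map_add, map_add, hL₁ V g a fun r hr => ha r (List.mem_append_left _ hr),
          hL₂ V g a fun r hr => ha r (List.mem_append_right _ hr), add_zero]⟩
  let E : Finset (sc F.val U) :=
    Finset.univ.image s ∪ L.toFinset.biUnion fun r => (r : sc F.val U →₀ rsec O U).support
  have hE : ∀ r ∈ L, (r : sc F.val U →₀ rsec O U).support ⊆ E := fun r hr e he =>
    Finset.mem_union_right _ (Finset.mem_biUnion.2 ⟨r, List.mem_toFinset.2 hr, he⟩)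
  let eE := E.equivFin
  obtain ⟨S, hS, h'⟩ := h.simultaneous (fun i => (eE.symm i : sc F.val U))
    (L.map fun (r : LinearMap.ker π) i => (r : sc F.val U →₀ rsec O U) (eE.symm i)) (fun r' hr' => by
      obtain ⟨r, hr, rfl⟩ := List.mem_map.1 hr'
      refine Eq.trans ?_ (LinearMap.mem_ker.1 r.2)
      rw [Fintype.sum_equiv eE.symm _ (fun e : E => (r : sc F.val U →₀ rsec O U) e • (e : sc F.val U)) fun _ => rfl]
      simp only [π, Finsupp.linearCombination_apply, id]
      refine (E.sum_coe_sort fun e => (r : sc F.val U →₀ rsec O U) e • e).trans ?_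
      exact (Finsupp.sum_of_support_subset _ (hE r hr) (fun e c => c • e) fun _ _ => zero_smul _ _).symm)
  refine ⟨S, hS, fun V g hg => ?_⟩
  obtain ⟨l, t, b, hb, hb'⟩ := h' g hg
  have hs : ∀ j, s j ∈ E := fun j => Finset.mem_union_left _ (Finset.mem_image_of_mem _ (Finset.mem_univ j))
  refine ⟨l, t, fun j k => b (eE ⟨s j, hs j⟩) k, fun j => ?_, fun k => ?_⟩
  · simpa using hb (eE ⟨s j, hs j⟩)
  · let a : sc F.val U → rsec O V := fun e => if he : e ∈ E then b (eE ⟨e, he⟩) k else 0
    have e₁ := hL V g a fun r hr => by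
      rw [Finsupp.sum_of_support_subset _ (hE r hr) _ (fun _ _ => by rw [map_zero, mul_zero])]
      rw [← E.sum_coe_sort, ← Fintype.sum_equiv eE.symm (fun i => b i k * rsR g ((r : sc F.val U →₀ rsec O U) (eE.symm i))) _
        fun i => by simp [a]]
      exact hb' _ (List.mem_map_of_mem hr) k
    rw [hy] at e₁
    simpa [x, coefHom_tmul, a, hs] using e₁

lemma exists_tmul_sum {G : PM O} {U : C} (x : sc (G ⊗ F.val : PM O) U) :
    ∃ (n : ℕ) (g : Fin n → sc G U) (s : Fin n → sc F.val U), x = ∑ j, tm (g j) (s j) := by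
  induction x using tens_induction with
  | zero => exact ⟨0, Fin.elim0, Fin.elim0, by simp⟩
  | tmul m n => exact ⟨1, fun _ => m, fun _ => n, by simp⟩
  | add a b ha hb =>
    obtain ⟨n₁, g₁, s₁, rfl⟩ := ha
    obtain ⟨n₂, g₂, s₂, rfl⟩ := hb
    exact ⟨n₁ + n₂, Fin.append g₁ g₂, Fin.append s₁ s₂, by rw [Fin.sum_univ_add]; simp⟩

lemma tm_sum_right {M N : PM O} {U : C} {ι : Type*} (s : Finset ι) (m : sc M U) (f : ι → sc N U) :
    tm m (∑ i ∈ s, f i) = ∑ i ∈ s, tm m (f i) :=
  TensorProduct.tmul_sum (R := rsec O U) m s f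

lemma tm_sum_left {M N : PM O} {U : C} {ι : Type*} (s : Finset ι) (f : ι → sc M U) (n : sc N U) :
    tm (∑ i ∈ s, f i) n = ∑ i ∈ s, tm (f i) n :=
  TensorProduct.sum_tmul (R := rsec O U) s f n

lemma RelTriv.isFlat (h : RelTriv F) : ModSite.IsFlat F := by
  refine isFlat_of_mono _ fun G H φ _ => ?_
  refine mono_aP_map_of_locInj (f := MonoidalCategory.whiskerRight (C := PM O) φ.val F.val) fun U x hx => ?_
  obtain ⟨n, g, s, rfl⟩ := exists_tmul_sum x
  rw [map_sum] at hx
  simp only [apm_whiskerRight] at hx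
  obtain ⟨S, hS, h'⟩ := h.of_tensor_eq_zero (fun j => apm φ.val U (g j)) s hx
  refine ⟨S, hS, fun V k hk => ?_⟩
  obtain ⟨l, t, a, ha, ha'⟩ := h' k hk
  rw [map_sum]
  simp only [rsm_tm, ha, tm_sum_right, tm_smul_right, ← tm_smul_left]
  rw [Finset.sum_comm]
  refine Finset.sum_eq_zero fun i _ => ?_
  rw [← tm_sum_left, injective_of_mono φ V (a₁ := ∑ j, a j i • rsm G.val k (g j)) (a₂ := 0) ?_, tm_zero_left]
  rw [map_sum, map_zero]
  simpa only [map_smul, apm_rsm] using ha' i

lemma locInj_whiskerRight_of_isFlat (hF : ModSite.IsFlat F) {M N : PM O} {f : M ⟶ N} (hf : LocInj f) :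
    LocInj (MonoidalCategory.whiskerRight (C := PM O) f F.val) := by
  have := mono_aP_map_of_locInj hf
  have hm := mono_tensorFlip_map hF ((aP O).map f)
  have := isIso_aP_map_whiskerRight (etaP M) F.val
  have := isIso_aP_map_whiskerRight (etaP N) F.val
  refine (mono_aP_map_iff _).1 ((mono_aP_map_transfer (etaP M ▷ F.val) (etaP N ▷ F.val)
    (f' := MonoidalCategory.whiskerRight (C := PM O) ((aP O).map f).val F.val) ?_).2 hm)
  refine (comp_whiskerRight (C := PM O) _ _ _).symm.trans (Eq.trans ?_ (comp_whiskerRight (C := PM O) _ _ _))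
  exact congrArg (fun ψ => MonoidalCategory.whiskerRight (C := PM O) ψ F.val) ((adjP O).unit.naturality f)

section Forward

/-- Free presheaves of modules. -/
noncomputable abbrev FT (O : Sheaf J CommRingCat.{u}) (T : Cᵒᵖ ⥤ Type u) : PM O := (PresheafOfModules.free _).obj T

/-- Coordinates of sections of free presheaves of modules. -/
noncomputable def toF (T : Cᵒᵖ ⥤ Type u) (V : C) : sc (FT O T) V ≃ₗ[rsec O V] (T.obj (op V) →₀ rsec O V) :=
  LinearEquiv.refl (rsec O V) (T.obj (op V) →₀ rsec O V)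

/-- The basis sections of a free presheaf of modules. -/
noncomputable def fm {T : Cᵒᵖ ⥤ Type u} {V : C} (x : T.obj (op V)) : sc (FT O T) V := ModuleCat.freeMk x

lemma toF_fm {T : Cᵒᵖ ⥤ Type u} {V : C} (x : T.obj (op V)) :
    toF T V (fm (O := O) x) = Finsupp.single x 1 := rfl

lemma rsm_fm {T : Cᵒᵖ ⥤ Type u} {V W : C} (h : W ⟶ V) (x : T.obj (op V)) :
    rsm (FT O T) h (fm x) = fm (T.map h.op x) :=
  ModuleCat.freeDesc_apply _ x

lemma eq_sum_fm {T : Cᵒᵖ ⥤ Type u} {V : C} (c : sc (FT O T) V) :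
    c = ∑ x ∈ (toF T V c).support, toF T V c x • fm x := by
  refine (toF T V).injective ?_
  rw [map_sum]
  simp only [map_smul, toF_fm, Finsupp.smul_single, smul_eq_mul, mul_one]
  exact (Finsupp.sum_single _).symm

variable (U : C) (n : ℕ)

/-- `Fin n` copies of the presheaf represented by `U`. -/
def copies : Cᵒᵖ ⥤ Type u where
  obj X := Fin n × (X.unop ⟶ U)
  map h := ↾fun p => (p.1, h.unop ≫ p.2)
  map_id _ := by ext ⟨_, _⟩ <;> simp
  map_comp _ _ := by ext ⟨_, _⟩ <;> simp

/-- The map of free presheaves given by `n` functions. -/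
noncomputable def combMap (f : Fin n → rsec O U) : FT O (copies U n) ⟶ FT O (yoneda.obj U) :=
  PresheafOfModules.freeObjDesc
    { app := fun X => ↾fun p => rsR p.2 (f p.1) • fm (T := yoneda.obj U) (V := X.unop) p.2
      naturality := fun X Y h => by
        ext p
        change rsR (h.unop ≫ p.2) (f p.1) • fm (T := yoneda.obj U) (V := Y.unop) (h.unop ≫ p.2) =
          rsm (FT O (yoneda.obj U)) h.unop (rsR p.2 (f p.1) • fm (T := yoneda.obj U) (V := X.unop) p.2)
        rw [rsm_smul, rsm_fm, rsR_rsR]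
        rfl }

lemma combMap_fm (f : Fin n → rsec O U) {V : C} (p : Fin n × (V ⟶ U)) :
    apm (combMap U n f) V (fm (T := copies U n) p) = rsR p.2 (f p.1) • fm (T := yoneda.obj U) p.2 :=
  ModuleCat.freeDesc_apply _ p

end Forward

lemma relTriv_of_isFlat (hF : ModSite.IsFlat F) : RelTriv F := by
  intro U n f s hrel
  classical
  let T := copies U n
  let α := combMap U n f
  let q := Abelian.factorThruImage α
  let x : sc (FT O T ⊗ F.val : PM O) U := ∑ j, tm (fm (T := T) ((j, 𝟙 U) : Fin n × (U ⟶ U))) (s j)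
  have hi : LocInj (Abelian.image.ι α) := fun V m hm => ⟨⊤, J.top_mem V, fun W h _ => by
    rw [(injective_iff_map_eq_zero (apm (Abelian.image.ι α) V)).1
      (PresheafOfModules.injective_of_mono (Abelian.image.ι α) (op V)) m hm, map_zero]⟩
  have hαx : apm (α ▷ F.val) U x = 0 := by
    simp only [x, T, map_sum, apm_whiskerRight, α, combMap_fm, tm_smul_left, ← tm_smul_right, rsR_id, ← tm_sum_right,
      hrel, tm_zero_right]
  obtain ⟨S, hS, h'⟩ := locInj_whiskerRight_of_isFlat hF hi U (apm (q ▷ F.val) U x) (by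
    refine (congrArg (fun ψ => apm ψ U x) ((comp_whiskerRight (C := PM O) q (Abelian.image.ι α) F.val).symm.trans ?_)).trans hαx
    rw [Abelian.image.fac])
  refine ⟨S, hS, fun V g hg => ?_⟩
  have hqs : Function.Surjective (apm q V) := PresheafOfModules.surjective_of_epi q (op V)
  have hx : (apm q V).rTensor (sc F.val V) (rsm _ g x) = 0 :=
    (apm_rsm (q ▷ F.val) g x).trans (h' g hg)
  have hex : Function.Exact (LinearMap.ker (apm q V)).subtype (apm q V) := LinearMap.exact_subtype_ker_map _
  obtain ⟨y, hy⟩ := (rTensor_exact (R := rsec O V) (M := LinearMap.ker (apm q V)) (N := sc (FT O T) V)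
    (P := sc (Abelian.image α) V) (sc F.val V) hex hqs _).1 hx
  obtain ⟨l, k, t, rfl⟩ : ∃ (l : ℕ) (k : Fin l → LinearMap.ker (apm q V)) (t : Fin l → sc F.val V),
      y = ∑ i, k i ⊗ₜ t i := by
    clear hy
    induction y using TensorProduct.induction_on with
    | zero => exact ⟨0, Fin.elim0, Fin.elim0, by simp⟩
    | tmul m n => exact ⟨1, fun _ => m, fun _ => n, by simp⟩
    | add a b ha hb =>
      obtain ⟨n₁, g₁, s₁, rfl⟩ := ha
      obtain ⟨n₂, g₂, s₂, rfl⟩ := hb
      exact ⟨n₁ + n₂, Fin.append g₁ g₂, Fin.append s₁ s₂, by rw [Fin.sum_univ_add]; simp⟩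
  let co : Fin n × (V ⟶ U) → sc (FT O T) V →ₗ[rsec O V] rsec O V := fun p =>
    (Finsupp.lapply (M := rsec O V) (R := rsec O V) p).comp (toF T V).toLinearMap
  have hco : ∀ p p', co p (fm (T := T) p') = if p' = p then 1 else 0 := fun p p' => Finsupp.single_apply
  refine ⟨l, t, fun j i => co (j, g) (k i).1, fun j => ?_, fun i => ?_⟩
  · let c : sc (FT O T ⊗ F.val : PM O) V →ₗ[rsec O V] sc F.val V :=
      TensorProduct.lift ((LinearMap.lsmul (rsec O V) (sc F.val V)).comp (co (j, g)))
    have e := congrArg c hy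
    simp only [map_sum, LinearMap.rTensor_tmul, Submodule.subtype_apply] at e
    refine Eq.trans ?_ (e.symm.trans (map_sum c _ _))
    simp only [x, map_sum, rsm_tm, rsm_fm]
    refine Eq.trans ?_ (Finset.sum_congr rfl fun i _ =>
      (show c (tm (fm (T := T) ((i, g ≫ 𝟙 U) : Fin n × (V ⟶ U))) (rsm F.val g (s i))) =
        co (j, g) (fm (T := T) ((i, g ≫ 𝟙 U) : Fin n × (V ⟶ U))) • rsm F.val g (s i) from rfl).symm)
    simp only [hco, Category.comp_id, ite_smul, one_smul, zero_smul]
    rw [Finset.sum_eq_single j]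
    · exact (if_pos rfl).symm
    · intro i _ h
      exact if_neg fun h' => h (congrArg Prod.fst h')
    · exact fun h => (h (Finset.mem_univ _)).elim
  · have e : apm α V (k i).1 = 0 := by
      have e₀ := congrArg (fun ψ => apm ψ V (k i).1) (Abelian.image.fac α)
      simp only [apm_comp] at e₀
      rw [← e₀, LinearMap.mem_ker.1 (k i).2, map_zero]
    rw [eq_sum_fm (k i).1, map_sum] at e
    simp only [map_smul, α, combMap_fm, smul_smul] at e
    have e' := congrArg (fun v => toF (yoneda.obj U) V v g) e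
    simp only [map_sum, map_smul, toF_fm, map_zero, Finsupp.finsetSum_apply, Finsupp.smul_apply, smul_eq_mul,
      Finsupp.zero_apply, Finsupp.single_apply, mul_ite, mul_one, mul_zero] at e'
    refine Eq.trans ?_ e'
    calc ∑ j, co (j, g) (k i).1 * rsR g (f j)
        = ∑ j, ∑ p ∈ (toF T V (k i).1).support,
            if p = ((j, g) : Fin n × (V ⟶ U)) then co p (k i).1 * rsR p.2 (f p.1) else 0 := by
          refine Finset.sum_congr rfl fun j _ => ?_
          rw [Finset.sum_ite_eq']
          split_ifs with hj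
          · rfl
          · rw [show co (j, g) (k i).1 = 0 from Finsupp.notMem_support_iff.1 hj, zero_mul]
      _ = _ := by
          rw [Finset.sum_comm]
          refine Finset.sum_congr rfl fun p _ => ?_
          obtain ⟨j', g'⟩ := p
          by_cases hg' : g' = g
          · subst hg'
            rw [Finset.sum_eq_single j' ?_ (fun h => (h (Finset.mem_univ _)).elim)]
            · exact (if_pos rfl).trans (if_pos rfl).symm
            · intro j _ h
              exact if_neg fun h' => h (congrArg Prod.fst h').symm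
          · exact (Finset.sum_eq_zero fun j _ => if_neg fun h => hg' (congrArg Prod.snd h)).trans (if_neg hg').symm

lemma isFlat_iff_relTriv : ModSite.IsFlat F ↔ RelTriv F := ⟨relTriv_of_isFlat, RelTriv.isFlat⟩

end Groth.SitesTopoi.ModH
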