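import Groth.Agent.SitesTopoi.Mod.InvRing
import Groth.Agent.SitesTopoi.Mod.Relations
import Mathlib.RingTheory.Flat.EquationalCriterion
import Mathlib.RingTheory.RingHom.Flat
import Mathlib.Topology.Sheaves.Stalks

/-!
A morphism of ringed spaces which is flat on stalks has flat structure sheaf over the inverse image ring.
-/

universe u

open CategoryTheory CategoryTheory.Limits Opposite TopologicalSpace

set_option backward.defeqAttrib.useBackward true
set_option backward.isDefEq.respectTransparency false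

namespace Groth.SitesTopoi.SpaceFlat

open Groth.SitesTopoi.ModH

section Germs

variable {X : TopCat.{u}} (F : X.Presheaf CommRingCat.{u}) (x : X)

lemma exists_lifts {n : ℕ} (m : Fin n → F.stalk x) (U : Opens X) (hU : x ∈ U) :
    ∃ (V : Opens X) (hV : x ∈ V) (_ : V ≤ U) (s : Fin n → F.obj (op V)), ∀ i, F.germ V x hV (s i) = m i := by
  induction n generalizing U with
  | zero => exact ⟨U, hU, le_rfl, Fin.elim0, fun i => i.elim0⟩
  | succ n ih =>
    obtain ⟨W, hW, s₀, hs₀⟩ := F.exists_germ_eq (m 0)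
    obtain ⟨V, hV, hle, s, hs⟩ := ih (fun i => m i.succ) (U ⊓ W) ⟨hU, hW⟩
    refine ⟨V, hV, hle.trans inf_le_left, Fin.cons (F.map (homOfLE (hle.trans inf_le_right)).op s₀) s, fun i => ?_⟩
    induction i using Fin.cases with
    | zero => exact (TopCat.Presheaf.germ_res_apply F (homOfLE (hle.trans inf_le_right)) x hV s₀).trans hs₀
    | succ i => simpa using hs i

lemma exists_eqs {n : ℕ} (U : Opens X) (hU : x ∈ U) (s t : Fin n → F.obj (op U))
    (h : ∀ i, F.germ U x hU (s i) = F.germ U x hU (t i)) :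
    ∃ (V : Opens X) (_ : x ∈ V) (g : V ⟶ U), ∀ i, F.map g.op (s i) = F.map g.op (t i) := by
  induction n with
  | zero => exact ⟨U, hU, 𝟙 U, fun i => i.elim0⟩
  | succ n ih =>
    obtain ⟨V, hV, g, hg⟩ := ih (fun i => s i.succ) (fun i => t i.succ) fun i => h i.succ
    obtain ⟨W, hW, iU, iU', e⟩ := F.germ_eq x hU hU (s 0) (t 0) (h 0)
    refine ⟨V ⊓ W, ⟨hV, hW⟩, homOfLE inf_le_left ≫ g, fun i => ?_⟩
    induction i using Fin.cases with
    | zero =>
      have e' := congrArg (F.map (homOfLE (inf_le_right : V ⊓ W ≤ W)).op) e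
      rw [← ConcreteCategory.comp_apply, ← ConcreteCategory.comp_apply, ← F.map_comp, ← F.map_comp] at e'
      exact e'
    | succ i =>
      have e' := congrArg (F.map (homOfLE (inf_le_left : V ⊓ W ≤ V)).op) (hg i)
      rw [← ConcreteCategory.comp_apply, ← ConcreteCategory.comp_apply, ← F.map_comp] at e'
      exact e'

end Germs

variable {X Y : TopCat.{u}} (f : X ⟶ Y) {O_X : TopCat.Sheaf CommRingCat.{u} X}
  {O_Y : TopCat.Sheaf CommRingCat.{u} Y}
  (c : O_Y ⟶ ((TopologicalSpace.Opens.map f).sheafPushforwardContinuous CommRingCat.{u}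
    (Opens.grothendieckTopology Y) (Opens.grothendieckTopology X)).obj O_X)

/-- The morphism of ringed sites. -/
noncomputable abbrev rmor : ModSite.RMor O_X O_Y := ModSite.RMor.ofFlat (TopologicalSpace.Opens.map f) c

/-- The map of stalks. -/
noncomputable abbrev stalkMapAt (x : X) : O_Y.presheaf.stalk (f x) ⟶ O_X.presheaf.stalk x :=
  (TopCat.Presheaf.stalkFunctor CommRingCat.{u} (f x)).map
      (show O_Y.presheaf ⟶ (TopCat.Presheaf.pushforward CommRingCat.{u} f).obj O_X.presheaf from c.hom) ≫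
    TopCat.Presheaf.stalkPushforward CommRingCat.{u} f O_X.presheaf x

lemma stalkMapAt_germ {x : X} {W : Opens Y} (hW : f x ∈ W) {V : Opens X} (hV : x ∈ V)
    (β : V ⟶ (Opens.map f).obj W) (r : O_Y.presheaf.obj (op W)) :
    (stalkMapAt f c x).hom (O_Y.presheaf.germ W (f x) hW r) = O_X.presheaf.germ V x hV (sha (rmor f c) β r) := by
  have e1 := TopCat.Presheaf.stalkFunctor_map_germ_apply W (f x) hW
    (show O_Y.presheaf ⟶ (TopCat.Presheaf.pushforward CommRingCat.{u} f).obj O_X.presheaf from c.hom) r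
  have e2 := congrArg (fun φ => φ.hom (c.hom.app (op W) r))
    (TopCat.Presheaf.stalkPushforward_germ CommRingCat.{u} f O_X.presheaf W x hW)
  refine ((congrArg (TopCat.Presheaf.stalkPushforward CommRingCat.{u} f O_X.presheaf x).hom e1).trans e2).trans ?_
  exact (TopCat.Presheaf.germ_res_apply O_X.presheaf β x hV (c.hom.app (op W) r)).symm

theorem isFlat_baseMod (hflat : ∀ x : X, (stalkMapAt f c x).hom.Flat) : ModSite.IsFlat (rmor f c).baseMod := by
  have hl : LocFiltered (Opens.grothendieckTopology X) (Opens.grothendieckTopology Y) (rmor f c).fn :=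
    locFiltered (rmor f c).fn
  refine RelTriv.isFlat fun U n a s hrel => ?_
  let Good : ∀ ⦃V : Opens X⦄, (V ⟶ U) → Prop := fun V g =>
    ∃ (l : ℕ) (t : Fin l → sc (rmor f c).baseMod.val V) (b : Fin n → Fin l → rsec (rmor f c).invRing V),
      (∀ j, rsm (rmor f c).baseMod.val g (s j) = ∑ k, b j k • t k) ∧ ∀ k, ∑ j, b j k * rsR g (a j) = 0
  let S : Sieve U :=
    { arrows := fun V g => Good g
      downward_closed := by
        rintro V W g ⟨l, t, b, hb, hb'⟩ k
        refine ⟨l, fun i => rsm _ k (t i), fun j i => rsR k (b j i), fun j => ?_, fun i => ?_⟩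
        · rw [← rsm_rsm, hb, map_sum]
          simp only [rsm_smul]
        · have e := congrArg (rsR k) (hb' i)
          simp only [map_sum, map_mul, rsR_rsR, map_zero] at e
          exact e }
  refine ⟨S, fun x hx => ?_, fun V g hg => hg⟩
  obtain ⟨S₁, hS₁, h₁⟩ := exists_lift_chart (f := rmor f c) hl (c := U) (d₀ := (⊤ : Opens Y))
    (homOfLE le_top) Finset.univ a
  obtain ⟨V, g, hg, hxV⟩ := hS₁ x hx
  obtain ⟨d, w, β, z, -, hz⟩ := h₁ g hg
  let φ := (stalkMapAt f c x).hom
  let alg := φ.toAlgebra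
  have hfx : f x ∈ d := β.le hxV
  have : Module.Flat (O_Y.presheaf.stalk (f x)) (O_X.presheaf.stalk x) := hflat x
  have hrel' : ∑ j, sha (rmor f c) β (z j) * rsR (O := O_X) g (s j) = 0 := by
    have e := congrArg (rsm (rmor f c).baseMod.val g) hrel
    simp only [map_sum, rsm_smul, map_zero] at e
    refine Eq.trans (Finset.sum_congr rfl fun j _ => ?_) e
    rw [← hz j (Finset.mem_univ j), ← ish_iua]
    rfl
  have h₀ : ∑ j, O_Y.presheaf.germ d (f x) hfx (z j) • O_X.presheaf.germ V x hxV (rsR (O := O_X) g (s j)) = 0 := by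
    refine Eq.trans (Finset.sum_congr rfl fun j _ => ?_)
      (((map_sum (O_X.presheaf.germ V x hxV).hom _ Finset.univ).symm.trans (congrArg _ hrel')).trans (map_zero _))
    rw [Algebra.smul_def, RingHom.algebraMap_toAlgebra, stalkMapAt_germ f c hfx hxV β]
    exact (map_mul (O_X.presheaf.germ V x hxV).hom _ _).symm
  obtain ⟨l, A, t, hA, hA'⟩ := Module.Flat.iff_forall_isTrivialRelation.1 this h₀
  obtain ⟨W₀, hW₀, hW₀d, A', hA''⟩ := exists_lifts O_Y.presheaf (f x)
    (fun i : Fin (n * l) => A (finProdFinEquiv.symm i).1 (finProdFinEquiv.symm i).2) d hfx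
  let A₀ : Fin n → Fin l → O_Y.presheaf.obj (op W₀) := fun j k => A' (finProdFinEquiv (j, k))
  have hA₀ : ∀ j k, O_Y.presheaf.germ W₀ (f x) hW₀ (A₀ j k) = A j k := fun j k => by
    simp only [A₀, hA'', Equiv.symm_apply_apply]
  obtain ⟨W, hW, i₀, hWeq⟩ := exists_eqs O_Y.presheaf (f x) W₀ hW₀
    (fun k => ∑ j, rsR (O := O_Y) (homOfLE hW₀d) (z j) * A₀ j k) (fun _ => 0) fun k => by
      rw [map_sum, map_zero]
      refine Eq.trans (Finset.sum_congr rfl fun j _ => ?_) (hA' k)
      rw [map_mul, hA₀]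
      exact congrArg (· * A j k) (TopCat.Presheaf.germ_res_apply O_Y.presheaf (homOfLE hW₀d) (f x) hW₀ (z j))
  obtain ⟨V₁, hV₁, hV₁le, t₀, ht₀⟩ := exists_lifts O_X.presheaf x t (V ⊓ (Opens.map f).obj W) ⟨hxV, hW⟩
  let γ : V₁ ⟶ (Opens.map f).obj W := homOfLE (hV₁le.trans inf_le_right)
  let B : Fin n → Fin l → rsec O_Y W := fun j k => rsR i₀ (A₀ j k)
  let gV : V₁ ⟶ V := homOfLE (hV₁le.trans inf_le_left)
  obtain ⟨V₂, hV₂, g₂, hV₂eq⟩ := exists_eqs O_X.presheaf x V₁ hV₁ (fun j => rsR (O := O_X) (gV ≫ g) (s j))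
    (fun j => ∑ k, sha (rmor f c) γ (B j k) * t₀ k) fun j => by
      rw [map_sum]
      refine ((TopCat.Presheaf.germ_res_apply O_X.presheaf (gV ≫ g) x hV₁ (s j)).trans
        (TopCat.Presheaf.germ_res_apply O_X.presheaf g x hxV (s j)).symm).trans ((hA j).trans ?_)
      refine Finset.sum_congr rfl fun k _ => ?_
      rw [map_mul, ht₀, Algebra.smul_def, RingHom.algebraMap_toAlgebra, ← stalkMapAt_germ f c hW hV₁ γ]
      exact congrArg (fun q => φ q * t k)
        (((TopCat.Presheaf.germ_res_apply O_Y.presheaf i₀ (f x) hW (A₀ j k)).trans (hA₀ j k)).symm)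
  refine ⟨V₂, g₂ ≫ gV ≫ g, ⟨l, fun k => rsR (O := O_X) g₂ (t₀ k), fun j k => iua (rmor f c) (g₂ ≫ γ) (B j k),
    fun j => ?_, fun k => ?_⟩, hV₂⟩
  · refine ((rsR_rsR (O := O_X) (gV ≫ g) g₂ (s j)).symm.trans (hV₂eq j)).trans ?_
    refine (map_sum (rsR (O := O_X) g₂) _ _).trans (Finset.sum_congr rfl fun k _ => ?_)
    rw [map_mul, rsR_sha, ← ish_iua]
    rfl
  · have e : ∀ j, rsR (g₂ ≫ gV ≫ g) (a j) = iua (rmor f c) (g₂ ≫ γ) (rsR i₀ (rsR (O := O_Y) (homOfLE hW₀d) (z j))) := fun j => by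
      rw [← rsR_rsR, ← rsR_rsR, ← hz j (Finset.mem_univ j), rsR_iua, rsR_iua, iua_rsR, iua_rsR]
      rfl
    simp only [e, ← map_mul, ← map_sum, B]
    refine Eq.trans (congrArg (iua (rmor f c) (g₂ ≫ γ)) ?_) (map_zero _)
    refine Eq.trans (congrArg (rsR i₀) (Finset.sum_congr rfl fun j _ => mul_comm _ _)) ?_
    exact (hWeq k).trans (map_zero _)

end Groth.SitesTopoi.SpaceFlat
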