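import Groth.Agent.SitesTopoi.Mod.QcSum
import Mathlib.CategoryTheory.Limits.Types.Filtered
import Mathlib.Algebra.Category.ModuleCat.FilteredColimits
import Mathlib.Algebra.Category.ModuleCat.Presheaf.Colimits

/-!
Sections of filtered colimits of sheaves of modules on a ringed site.
-/

universe u

open CategoryTheory CategoryTheory.Limits Opposite

set_option backward.defeqAttrib.useBackward true
set_option backward.isDefEq.respectTransparency false

namespace Groth.SitesTopoi.FiltColim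

open Groth.SitesTopoi.ModH

variable {C : Type u} [SmallCategory C] {J : GrothendieckTopology C} {O : Sheaf J CommRingCat.{u}}
  {Λ : Type u} [SmallCategory Λ] [IsFiltered Λ] {D : Λ ⥤ ModSite.Mod O} (c : Cocone D) (hc : IsColimit c)

/-- The colimit of the underlying presheaves. -/
noncomputable abbrev preColim (D : Λ ⥤ ModSite.Mod O) : PM O := colimit (D ⋙ forgetP O)

/-- The comparison from the colimit of presheaves. -/
noncomputable def toPt : preColim D ⟶ c.pt.val := colimit.desc _ ((forgetP O).mapCocone c)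

lemma ι_toPt (l : Λ) : colimit.ι (D ⋙ forgetP O) l ≫ toPt c = (c.ι.app l).val := colimit.ι_desc _ _

lemma exists_rep (U : C) (z : sc (preColim D) U) :
    ∃ (l : Λ) (t : sc (D.obj l).val U), apm (colimit.ι (D ⋙ forgetP O) l) U t = z := by
  obtain ⟨l, t, ht⟩ := Concrete.isColimit_exists_rep ((D ⋙ forgetP O) ⋙ PresheafOfModules.evaluation _ (op U))
    (isColimitOfPreserves (PresheafOfModules.evaluation _ (op U)) (colimit.isColimit (D ⋙ forgetP O))) z
  exact ⟨l, t, ht⟩

lemma exists_stage_zero (U : C) {l : Λ} (t : sc (D.obj l).val U) (h : apm (colimit.ι (D ⋙ forgetP O) l) U t = 0) :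
    ∃ (l' : Λ) (α : l ⟶ l'), apm (D.map α).val U t = 0 := by
  obtain ⟨k, a, b, e⟩ := (Concrete.isColimit_rep_eq_iff_exists ((D ⋙ forgetP O) ⋙ PresheafOfModules.evaluation _ (op U))
    (isColimitOfPreserves (PresheafOfModules.evaluation _ (op U)) (colimit.isColimit (D ⋙ forgetP O))) t (0 : sc (D.obj l).val U)).1
    (h.trans (map_zero (apm (colimit.ι (D ⋙ forgetP O) l) U)).symm)
  exact ⟨k, a, e.trans (map_zero (apm (D.map b).val U))⟩

include hc

lemma isIso_adjunct_toPt : IsIso (((adjP O).homEquiv _ _).symm (toPt c)) := by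
  have : (aP O).IsLeftAdjoint := (adjP O).isLeftAdjoint
  have h₁ := isColimitOfPreserves (aP O) (colimit.isColimit (D ⋙ forgetP O))
  let e : (D ⋙ forgetP O) ⋙ aP O ≅ D :=
    Functor.associator _ _ _ ≪≫ Functor.isoWhiskerLeft D (asIso (adjP O).counit) ≪≫ D.rightUnitor
  have he : ((adjP O).homEquiv _ _).symm (toPt c) = IsColimit.map h₁ c e.hom := by
    refine h₁.hom_ext fun l => ?_
    rw [IsColimit.ι_map]
    refine ((adjP O).homEquiv_naturality_left_symm _ _).symm.trans ((congrArg _ (ι_toPt c l)).trans ?_)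
    refine ((adjP O).homEquiv_counit _ _ _).trans (((adjP O).counit.naturality (c.ι.app l)).trans ?_)
    simp [e]
  rw [he]
  exact (IsColimit.coconePointsIsoOfNatIso h₁ hc e).isIso_hom

lemma locInj_toPt : LocInj (toPt c) := fun U z hz => by
  have := isIso_adjunct_toPt c hc
  have he : etaP (preColim D) ≫ (((adjP O).homEquiv _ _).symm (toPt c)).val = toPt c :=
    ((adjP O).homEquiv_unit _ _ _).symm.trans (Equiv.apply_symm_apply _ _)
  refine locInj_etaP _ U z ?_
  refine injective_of_mono (((adjP O).homEquiv _ _).symm (toPt c)) U ?_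
  exact ((congrArg (fun φ => apm φ U z) he).trans hz).trans (map_zero _).symm

lemma locSurj_toPt : LocSurj (toPt c) := fun U n => by
  have := isIso_adjunct_toPt c hc
  have he : etaP (preColim D) ≫ (((adjP O).homEquiv _ _).symm (toPt c)).val = toPt c :=
    ((adjP O).homEquiv_unit _ _ _).symm.trans (Equiv.apply_symm_apply _ _)
  obtain ⟨S, hS, hS'⟩ := locSurj_of_epi (((adjP O).homEquiv _ _).symm (toPt c)) U n
  refine exists_refine hS fun V g hg => ?_
  obtain ⟨m, hm⟩ := hS' g hg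
  obtain ⟨T, hT, hT'⟩ := locSurj_etaP _ V m
  refine ⟨T, hT, fun V' k hk => ?_⟩
  obtain ⟨z, hz⟩ := hT' k hk
  exact ⟨z, by rw [← he, apm_comp, hz, apm_rsm, hm, rsm_rsm]⟩

/-- A section of a filtered colimit comes locally from a stage. -/
theorem exists_local_stage (U : C) (s : sc c.pt.val U) :
    ∃ S ∈ J U, ∀ ⦃V : C⦄ (g : V ⟶ U), S g → ∃ (l : Λ) (t : sc (D.obj l).val V),
      apm (c.ι.app l).val V t = rsm c.pt.val g s := by
  obtain ⟨S, hS, hS'⟩ := locSurj_toPt c hc U s
  refine ⟨S, hS, fun V g hg => ?_⟩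
  obtain ⟨z, hz⟩ := hS' g hg
  obtain ⟨l, t, rfl⟩ := exists_rep V z
  exact ⟨l, t, (congrArg (fun φ => apm φ V t) (ι_toPt c l)).symm.trans hz⟩

/-- A section of a stage which dies in a filtered colimit dies locally at a later stage. -/
theorem exists_local_zero (U : C) {l : Λ} (t : sc (D.obj l).val U) (h : apm (c.ι.app l).val U t = 0) :
    ∃ S ∈ J U, ∀ ⦃V : C⦄ (g : V ⟶ U), S g → ∃ (l' : Λ) (α : l ⟶ l'),
      apm (D.map α).val V (rsm (D.obj l).val g t) = 0 := by
  obtain ⟨S, hS, hS'⟩ := locInj_toPt c hc U (apm (colimit.ι (D ⋙ forgetP O) l) U t)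
    ((congrArg (fun φ => apm φ U t) (ι_toPt c l)).trans h)
  exact ⟨S, hS, fun V g hg => exists_stage_zero V _ ((apm_rsm (colimit.ι (D ⋙ forgetP O) l) g t).trans (hS' g hg))⟩

/-- Finitely many sections of a filtered colimit come locally from a common stage. -/
theorem exists_local_stage_fin (U : C) : ∀ {n : ℕ} (s : Fin n → sc c.pt.val U),
    ∃ S ∈ J U, ∀ ⦃V : C⦄ (g : V ⟶ U), S g → ∃ (l : Λ) (t : Fin n → sc (D.obj l).val V),
      ∀ i, apm (c.ι.app l).val V (t i) = rsm c.pt.val g (s i)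
  | 0, _ => ⟨⊤, J.top_mem U, fun _ _ _ => ⟨(IsFiltered.nonempty : Nonempty Λ).some, Fin.elim0, fun i => i.elim0⟩⟩
  | n + 1, s => by
    obtain ⟨S, hS, hS'⟩ := exists_local_stage_fin U fun i => s i.succ
    obtain ⟨R, hR, hR'⟩ := exists_local_stage c hc U (s 0)
    refine ⟨S ⊓ R, J.intersection_covering hS hR, fun V g hg => ?_⟩
    obtain ⟨l₁, t₁, ht₁⟩ := hS' g hg.1
    obtain ⟨l₂, t₂, ht₂⟩ := hR' g hg.2
    refine ⟨IsFiltered.max l₁ l₂, Fin.cons (apm (D.map (IsFiltered.rightToMax l₁ l₂)).val V t₂)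
      (fun i => apm (D.map (IsFiltered.leftToMax l₁ l₂)).val V (t₁ i)), fun i => ?_⟩
    have hw : ∀ {a b : Λ} (α : a ⟶ b) (x : sc (D.obj a).val V),
        apm (c.ι.app b).val V (apm (D.map α).val V x) = apm (c.ι.app a).val V x :=
      fun α x => congrArg (fun φ => apm (SheafOfModules.Hom.val φ) V x) (c.w α)
    induction i using Fin.cases with
    | zero => exact (hw (IsFiltered.rightToMax l₁ l₂) t₂).trans ht₂
    | succ i => exact (hw (IsFiltered.leftToMax l₁ l₂) (t₁ i)).trans (ht₁ i)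

/-- Finitely many sections of a stage which die in a filtered colimit die locally at a common later stage. -/
theorem exists_local_zero_fin (U : C) {l : Λ} : ∀ {n : ℕ} (t : Fin n → sc (D.obj l).val U),
    (∀ i, apm (c.ι.app l).val U (t i) = 0) →
    ∃ S ∈ J U, ∀ ⦃V : C⦄ (g : V ⟶ U), S g → ∃ (l' : Λ) (α : l ⟶ l'),
      ∀ i, apm (D.map α).val V (rsm (D.obj l).val g (t i)) = 0
  | 0, _, _ => ⟨⊤, J.top_mem U, fun _ _ _ => ⟨l, 𝟙 l, fun i => i.elim0⟩⟩
  | n + 1, t, h => by
    obtain ⟨S, hS, hS'⟩ := exists_local_zero_fin U (fun i => t i.succ) fun i => h _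
    obtain ⟨R, hR, hR'⟩ := exists_local_zero c hc U (t 0) (h 0)
    refine ⟨S ⊓ R, J.intersection_covering hS hR, fun V g hg => ?_⟩
    obtain ⟨l₁, α₁, h₁⟩ := hS' g hg.1
    obtain ⟨l₂, α₂, h₂⟩ := hR' g hg.2
    obtain ⟨k, a, b, e⟩ : ∃ (k : Λ) (a : l₁ ⟶ k) (b : l₂ ⟶ k), α₁ ≫ a = α₂ ≫ b :=
      ⟨_, IsFiltered.leftToMax l₁ l₂ ≫ IsFiltered.coeqHom (α₁ ≫ IsFiltered.leftToMax l₁ l₂) (α₂ ≫ IsFiltered.rightToMax l₁ l₂),
        IsFiltered.rightToMax l₁ l₂ ≫ IsFiltered.coeqHom _ _,
        by rw [← Category.assoc, IsFiltered.coeq_condition, Category.assoc]⟩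
    have hm : ∀ {p q : Λ} (β : l ⟶ p) (γ : p ⟶ q) (x : sc (D.obj l).val V), apm (D.map β).val V x = 0 →
        apm (D.map (β ≫ γ)).val V x = 0 := fun β γ x hx =>
      (congrArg (fun φ => apm (SheafOfModules.Hom.val φ) V x) (D.map_comp β γ)).trans
        ((congrArg (apm (D.map γ).val V) hx).trans (map_zero _))
    refine ⟨k, α₁ ≫ a, fun i => ?_⟩
    induction i using Fin.cases with
    | zero => rw [e]; exact hm α₂ b _ h₂
    | succ i => exact hm α₁ a _ (h₁ i)

end Groth.SitesTopoi.FiltColim
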