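import Mathlib.CategoryTheory.Abelian.Refinements
import Mathlib.Algebra.Homology.ShortComplex.ExactFunctor
import Mathlib.CategoryTheory.Limits.Preserves.Finite

/-!
Flat objects for a right exact bifunctor on an abelian category.
-/

open CategoryTheory CategoryTheory.Limits

namespace Groth.SitesTopoi.Balanced

/-- A right exact functor between abelian categories is additive. -/
lemma additive_of_rightExact {A A' : Type*} [Category A] [Abelian A] [Category A'] [Abelian A'] (F : A ⥤ A')
    [PreservesFiniteColimits F] : F.Additive := by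
  have := preservesBinaryBiproducts_of_preservesBinaryCoproducts F
  exact Functor.additive_of_preservesBinaryBiproducts F

variable {A : Type*} [Category A] [Abelian A] (B : A ⥤ A ⥤ A)
  [∀ X, PreservesFiniteColimits (B.obj X)] [∀ X, PreservesFiniteColimits (B.flip.obj X)]

omit [∀ X, PreservesFiniteColimits (B.obj X)] in
lemma exact_and_epi (G : A) {S : ShortComplex A} (hS : S.ShortExact) :
    ∃ (w : (B.map S.f).app G ≫ (B.map S.g).app G = 0),
      (ShortComplex.mk _ _ w).Exact ∧ Epi ((B.map S.g).app G) := by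
  have : (B.flip.obj G).Additive := additive_of_rightExact _
  obtain ⟨h₁, h₂⟩ := (Functor.preservesFiniteColimits_iff_forall_exact_map_and_epi (B.flip.obj G)).1 inferInstance S hS
  exact ⟨(S.map (B.flip.obj G)).zero, h₁, h₂⟩

omit [∀ X, PreservesFiniteColimits (B.flip.obj X)] in
lemma exact_and_epi' (G : A) {S : ShortComplex A} (hS : S.ShortExact) :
    ∃ (w : (B.obj G).map S.f ≫ (B.obj G).map S.g = 0),
      (ShortComplex.mk _ _ w).Exact ∧ Epi ((B.obj G).map S.g) := by
  have : (B.obj G).Additive := additive_of_rightExact _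
  obtain ⟨h₁, h₂⟩ := (Functor.preservesFiniteColimits_iff_forall_exact_map_and_epi (B.obj G)).1 inferInstance S hS
  exact ⟨(S.map (B.obj G)).zero, h₁, h₂⟩

/-- A short exact sequence with flat quotient stays exact on the left after tensoring. -/
lemma mono_map_app_of_flat {S : ShortComplex A} (hS : S.ShortExact) [PreservesFiniteLimits (B.obj S.X₃)]
    {P G : A} (p : P ⟶ G) [Epi p] [PreservesFiniteLimits (B.flip.obj P)] : Mono ((B.map S.f).app G) := by
  let T : ShortComplex A := ShortComplex.mk (kernel.ι p) p (kernel.condition p)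
  have hT : T.ShortExact := { exact := ShortComplex.exact_of_f_is_kernel _ (kernelIsKernel p) }
  obtain ⟨w₁, e₁, _⟩ := exact_and_epi' B S.X₁ hT
  obtain ⟨w₂, e₂, _⟩ := exact_and_epi' B S.X₂ hT
  obtain ⟨w₃, e₃, _⟩ := exact_and_epi B (kernel p) hS
  obtain ⟨w₄, e₄, _⟩ := exact_and_epi B P hS
  have := hS.mono_f
  have : Mono ((B.map S.f).app P) := inferInstanceAs (Mono ((B.flip.obj P).map S.f))
  have : Mono ((B.obj S.X₃).map (kernel.ι p)) := inferInstance
  have hepi : Epi ((B.obj S.X₁).map p) := ‹Epi ((B.obj S.X₁).map T.g)›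
  refine Preadditive.mono_of_cancel_zero _ fun {R} x hx => ?_
  obtain ⟨R₁, π₁, _, y, hy⟩ := (epi_iff_surjective_up_to_refinements ((B.obj S.X₁).map p)).1 hepi x
  obtain ⟨R₂, π₂, _, z, hz⟩ := e₂.exact_up_to_refinements (y ≫ (B.map S.f).app P) (by
    dsimp
    rw [Category.assoc, ← (B.map S.f).naturality, ← Category.assoc, ← hy, Category.assoc, hx, comp_zero])
  dsimp at hz
  have hz' : z ≫ (B.map S.g).app (kernel p) = 0 := by
    rw [← cancel_mono ((B.obj S.X₃).map (kernel.ι p)), zero_comp, Category.assoc, ← (B.map S.g).naturality,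
      ← Category.assoc, ← hz, Category.assoc, Category.assoc, w₄, comp_zero, comp_zero]
  obtain ⟨R₃, π₃, _, v, hv⟩ := e₃.exact_up_to_refinements z hz'
  dsimp at hv
  have hy' : π₃ ≫ π₂ ≫ y = v ≫ (B.obj S.X₁).map (kernel.ι p) := by
    rw [← cancel_mono ((B.map S.f).app P), Category.assoc, Category.assoc, hz, ← Category.assoc, hv,
      Category.assoc, Category.assoc, (B.map S.f).naturality]
  have h0 : π₃ ≫ π₂ ≫ π₁ ≫ x = 0 := by
    rw [hy, ← Category.assoc π₂, ← Category.assoc π₃, hy', Category.assoc, w₁, comp_zero]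
  exact (cancel_epi π₁).1 ((cancel_epi π₂).1 ((cancel_epi π₃).1 (h0.trans (by simp))))

end Groth.SitesTopoi.Balanced
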