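import Groth.Agent.SitesTopoi.Mod.InvRing
import Groth.Agent.SitesTopoi.Mod.Balanced

/-!
When the inverse image of sheaves of modules preserves a monomorphism.
-/

universe u

open CategoryTheory CategoryTheory.Limits Opposite

namespace Groth.SitesTopoi.ModH

variable {C D : Type u} [SmallCategory C] [SmallCategory D] {J : GrothendieckTopology C}
  {K : GrothendieckTopology D} {O_C : Sheaf J CommRingCat.{u}} {O_D : Sheaf K CommRingCat.{u}}
  (f : ModSite.RMor O_C O_D)

lemma thetaD_naturality {M' M : ModSite.Mod O_D} (φ : M' ⟶ M) (d : D) (x : sc M'.val d) :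
    apm (f.pull.map φ).val (f.fn.obj d) (thetaD f M' d x) = thetaD f M d (apm φ.val d x) :=
  (congrArg (fun ψ => apm (SheafOfModules.Hom.val ψ) d x) (f.adj.unit.naturality φ)).symm

lemma toPull_vecTo (M : ModSite.Mod O_D) {c : C} {d : D} (β : c ⟶ f.fn.obj d) (v : Vec (O_C := O_C) M d c) :
    apm (toPull f M).val c (apm (etaP (Qp f M)) c (vecTo f M β v)) =
      v.sum fun x a => a • rsm (f.pull.obj M).val β (thetaD f M d x) := by
  simp only [vecTo, Finsupp.linearCombination_apply, Finsupp.sum, map_sum, map_smul]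
  exact Finset.sum_congr rfl fun x _ => congrArg _ (etaP_toPull_ge f M β x)

lemma pullMap_vecTo {M' M : ModSite.Mod O_D} (φ : M' ⟶ M) {c : C} {d : D} (β : c ⟶ f.fn.obj d)
    (v : Vec (O_C := O_C) M' d c) :
    apm (f.pull.map φ).val c (apm (toPull f M').val c (apm (etaP (Qp f M')) c (vecTo f M' β v))) =
      apm (toPull f M).val c (apm (etaP (Qp f M)) c (vecTo f M β (v.mapDomain (apm φ.val d)))) := by
  rw [toPull_vecTo, toPull_vecTo]
  refine Eq.trans ?_ (Finsupp.sum_mapDomain_index (h := fun x a => a • rsm (M := (f.pull.obj M).val) β (thetaD f M d x))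
    (fun _ => zero_smul _ _) (fun _ _ _ => add_smul _ _ _)).symm
  simp only [Finsupp.sum, map_sum, map_smul]
  exact Finset.sum_congr rfl fun x _ => congrArg _ ((apm_rsm _ _ _).trans (congrArg _ (thetaD_naturality f φ d x)))

lemma vpush_mapDomain {M' M : ModSite.Mod O_D} (φ : M' ⟶ M) {c c' : C} {d d' : D} (w : d' ⟶ d) (h : c' ⟶ c)
    (v : Vec (O_C := O_C) M' d c) :
    vpush M w h (v.mapDomain (apm φ.val d)) = (vpush M' w h v).mapDomain (apm φ.val d') := by
  induction v using Finsupp.induction_linear with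
  | zero => simp
  | add a b ha hb => simp only [Finsupp.mapDomain_add, map_add, ha, hb]
  | single x a => simp only [Finsupp.mapDomain_single, vpush_single, apm_rsm]

variable {f}

/-- If vectors going to relations vanish, then the inverse image of a map is a monomorphism. -/
theorem mono_pull_map_of {M' M : ModSite.Mod O_D} (φ : M' ⟶ M)
    (H : ∀ (c : C) (d : D) (β : c ⟶ f.fn.obj d) (v : Vec (O_C := O_C) M' d c), v.mapDomain (apm φ.val d) ∈ rel₀ f M β →
      ∃ S ∈ J c, ∀ ⦃c' : C⦄ (h : c' ⟶ c), S h → rsm (Qp f M') h (vecTo f M' β v) = 0) :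
    Mono (f.pull.map φ) := by
  have hl : LocFiltered J K f.fn := locFiltered (J := J) (K := K) f.fn
  refine mono_of_injective _ fun c => (injective_iff_map_eq_zero _).2 fun z hz => ?_
  obtain ⟨S, hS, h'⟩ := locSurj_etaP (Qp f M') c (apm (fromPull f M').val c z)
  obtain ⟨R, hR, hR'⟩ := exists_refine (J := J)
    (P := fun c' g => rsm (f.pull.obj M').val g z = 0) hS fun c₁ g hg => by
    obtain ⟨q, hq⟩ := h' g hg
    obtain ⟨T, hT, hT'⟩ := exists_repr (f := f) (M := M') hl fun _ : Fin 1 => q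
    refine exists_refine hT fun c₂ k hk => ?_
    obtain ⟨d, β, v, hv⟩ := hT' k hk
    have hzk : rsm (f.pull.obj M').val (k ≫ g) z = apm (toPull f M').val c₂ (apm (etaP (Qp f M')) c₂ (vecTo f M' β (v 0))) := by
      rw [← hv 0, apm_rsm (etaP (Qp f M')), hq]
      refine (congrArg (fun ψ => apm (SheafOfModules.Hom.val ψ) c₂ (rsm (f.pull.obj M').val (k ≫ g) z))
        (pullIso f M').hom_inv_id).symm.trans (congrArg (apm (toPull f M').val c₂) ?_)
      exact (apm_rsm (fromPull f M').val (k ≫ g) z).trans (rsm_rsm _ g k _).symm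
    have h0 : apm (etaP (Qp f M)) c₂ (vecTo f M β ((v 0).mapDomain (apm φ.val d))) = 0 := by
      refine injective_of_mono (pullIso f M).inv c₂ ?_
      refine (pullMap_vecTo f φ β (v 0)).symm.trans ?_
      rw [← hzk, apm_rsm, hz, map_zero]
      exact (map_zero _).symm
    obtain ⟨U, hU, hU'⟩ := locInj_etaP (Qp f M) c₂ _ h0
    refine exists_refine hU fun c₃ l hl' => ?_
    have h1 : vecTo f M (l ≫ β) (vpush M (𝟙 d) l ((v 0).mapDomain (apm φ.val d))) = 0 := by
      rw [vecTo_vpush f M (𝟙 d) l β (l ≫ β) (by simp), hU' l hl']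
    obtain ⟨V, hV, hV'⟩ := exists_rel₀ hl (l ≫ β) _ h1
    refine exists_refine hV fun c₄ m hm => ?_
    obtain ⟨d₁, w, β₁, hw, hmem⟩ := hV' m hm
    rw [vpush_vpush, vpush_mapDomain, Category.comp_id] at hmem
    obtain ⟨W, hW, hW'⟩ := H c₄ d₁ β₁ _ hmem
    refine ⟨W, hW, fun c₅ n hn => ?_⟩
    have e := hW' n hn
    rw [vecTo_vpush f M' w (m ≫ l) β β₁ (by rw [hw, Category.assoc]), rsm_rsm] at e
    have : rsm (f.pull.obj M').val (n ≫ m ≫ l) (rsm (f.pull.obj M').val (k ≫ g) z) = 0 := by
      rw [hzk, ← apm_rsm, ← apm_rsm, e, map_zero, map_zero]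
    rw [rsm_rsm] at this
    simpa only [Category.assoc] using this
  refine sec_extM _ hR fun c' g hg => ?_
  rw [hR' g hg, map_zero]

lemma smul_baseMod {c : C} (a : rsec f.invRing c) (x : rsec O_C c) :
    (a • (show sc f.baseMod.val c from x) : sc f.baseMod.val c) = (ish f c a * x : rsec O_C c) := rfl

/-- Flat base change: the inverse image preserves monomorphisms. -/
theorem mono_pull_map_of_flat (hf : ModSite.IsFlat f.baseMod) {M' M : ModSite.Mod O_D} (φ : M' ⟶ M) [Mono φ] :
    Mono (f.pull.map φ) := by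
  classical
  have hl : LocFiltered J K f.fn := locFiltered (J := J) (K := K) f.fn
  refine mono_pull_map_of φ fun c d β v hv => ?_
  obtain ⟨n, s, gr, hsum⟩ := Submodule.mem_span_set'.1 hv
  choose r hr hr' using fun i => (gr i).2
  let ψ : sc M'.val d → sc M.val d := apm φ.val d
  let Y : Finset (sc M.val d) := Finset.univ.biUnion (fun i => (r i).support) ∪ v.support.image ψ
  let I := Fin n ⊕ {x // x ∈ v.support}
  let S₀ : I → rsec O_C c := Sum.elim s fun x => v x.1
  let G : sc M.val d → I → rsec O_D d := fun y => Sum.elim (fun i => r i y) fun x => if ψ x.1 = y then -1 else 0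
  let e := Fintype.equivFin I
  have hrel : ∀ y, ∑ i, sha f β (G y i) * S₀ i = 0 := fun y => by
    have h1 := congrArg (fun u : Vec (O_C := O_C) M d c => u y) hsum
    have h2 : (v.mapDomain ψ) y = ∑ x : {x // x ∈ v.support}, if ψ x.1 = y then v x.1 else 0 := by
      simp only [Finsupp.mapDomain, Finsupp.sum, Finsupp.finsetSum_apply, Finsupp.single_apply]
      exact (Finset.sum_coe_sort v.support fun x => if ψ x = y then v x else 0).symm
    simp only [Finsupp.finsetSum_apply, Finsupp.smul_apply, smul_eq_mul, ← hr', Finsupp.mapRange_apply] at h1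
    rw [show (v.mapDomain (apm φ.val d)) y = _ from h2] at h1
    simp only [G, S₀, I, Fintype.sum_sum_type, Sum.elim_inl, Sum.elim_inr, apply_ite (sha f β), map_neg, map_one, map_zero,
      ite_mul, neg_mul, one_mul, zero_mul, mul_comm _ (s _), h1, ← Finset.sum_add_distrib]
    exact Finset.sum_eq_zero fun x _ => by split_ifs <;> ring
  obtain ⟨T, hT, hT'⟩ := (relTriv_of_isFlat hf).simultaneous (fun j => (show sc f.baseMod.val c from S₀ (e.symm j)))
    (Y.toList.map fun y j => iua f β (G y (e.symm j))) (fun r' hr' => by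
      obtain ⟨y, -, rfl⟩ := List.mem_map.1 hr'
      refine Eq.trans ?_ (hrel y)
      refine Fintype.sum_equiv (κ := I) e.symm _ (fun i => sha f β (G y i) * S₀ i) fun j => ?_
      exact (smul_baseMod _ _).trans (by rw [ish_iua]))
  refine exists_refine hT fun c₁ g hg => ?_
  obtain ⟨l, t, a, ha, ha'⟩ := hT' g hg
  obtain ⟨T₁, hT₁, hT₁'⟩ := exists_lift_chart hl (g ≫ β) (Finset.univ : Finset (I × Fin l)) fun p => a (e p.1) p.2
  refine exists_refine hT₁ fun c₂ k hk => ?_
  obtain ⟨d₁, w₁, β₁, A, hw₁, hA⟩ := hT₁' k hk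
  have hz : ∀ p ∈ Y ×ˢ (Finset.univ : Finset (Fin l)),
      iua f β₁ (∑ i, A (i, p.2) * rsR w₁ (G p.1 i)) = 0 := fun p hp => by
    have h1 := congrArg (rsR k) (ha' _ (List.mem_map_of_mem (Finset.mem_toList.2 (Finset.mem_product.1 hp).1)) p.2)
    rw [map_zero] at h1
    refine Eq.trans ?_ h1
    rw [map_sum, map_sum]
    refine Fintype.sum_equiv e _ _ fun i => ?_
    rw [map_mul, map_mul, hA _ (Finset.mem_univ _), iua_rsR, hw₁, rsR_rsR, rsR_iua, Equiv.symm_apply_apply, Category.assoc]
  obtain ⟨T₂, hT₂, hT₂'⟩ := exists_kill_chart hl β₁ _ _ hz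
  refine ⟨T₂, hT₂, fun c₃ m hm => ?_⟩
  obtain ⟨d₂, w₂, β₂, hw₂, hkill⟩ := hT₂' m hm
  let B : I → Fin l → rsec O_D d₂ := fun i q => rsR w₂ (A (i, q))
  let W := w₂ ≫ w₁
  have hW : β₂ ≫ f.fn.map W = (m ≫ k ≫ g) ≫ β := by
    rw [Functor.map_comp, reassoc_of% hw₂, hw₁]; simp
  have hm0 : ∀ q, ∑ x : {x // x ∈ v.support}, B (Sum.inr x) q • rsm M'.val W x.1 = 0 := fun q => by
    refine injective_of_mono φ d₂ ?_
    rw [map_zero]
    have h0 : ∑ y ∈ Y, (∑ i, B i q * rsR W (G y i)) • rsm M.val W y = 0 := Finset.sum_eq_zero fun y hy => by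
      have := hkill (y, q) (Finset.mem_product.2 ⟨hy, Finset.mem_univ q⟩)
      simp only [map_sum, map_mul, rsR_rsR] at this
      rw [show ∑ i, B i q * rsR W (G y i) = 0 from this, zero_smul]
    simp only [Finset.sum_smul, mul_smul, ← rsm_smul] at h0
    rw [Finset.sum_comm] at h0
    simp only [← Finset.smul_sum, ← map_sum, I, Fintype.sum_sum_type, G, Sum.elim_inl, Sum.elim_inr, ite_smul, neg_smul,
      one_smul, zero_smul] at h0
    have hcomb : ∀ i, ∑ y ∈ Y, r i y • y = 0 := fun i => by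
      refine Eq.trans ?_ (LinearMap.mem_ker.1 (hr i))
      simp only [combD, Finsupp.linearCombination_apply, id]
      exact (Finsupp.sum_of_support_subset _ (fun y hy => Finset.mem_union_left _
        (Finset.mem_biUnion.2 ⟨i, Finset.mem_univ i, hy⟩)) (fun e c => c • e) fun _ _ => zero_smul _ _).symm
    simp only [hcomb, map_zero, smul_zero, Finset.sum_const_zero, zero_add, Finset.sum_ite_eq] at h0
    rw [← neg_eq_zero, map_sum, ← Finset.sum_neg_distrib]
    refine Eq.trans (Finset.sum_congr rfl fun x _ => ?_) h0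
    rw [if_pos (Finset.mem_union_right _ (Finset.mem_image_of_mem ψ x.2)), map_smul, apm_rsm, map_neg, smul_neg]
  have hv : ∀ x : {x // x ∈ v.support},
      rsR (m ≫ k ≫ g) (v x.1) = ∑ q, rsR (m ≫ k) (show rsec O_C c₁ from t q) * sha f β₂ (B (Sum.inr x) q) := fun x => by
    have h1 := congrArg (rsR (O := O_C) (m ≫ k)) (show rsR (O := O_C) g (S₀ (e.symm (e (Sum.inr x)))) =
      ∑ q, ish f c₁ (a (e (Sum.inr x)) q) * (show rsec O_C c₁ from t q) from ha (e (Sum.inr x)))
    simp only [Equiv.symm_apply_apply, S₀, Sum.elim_inr, rsR_rsR, Category.assoc, map_sum, map_mul] at h1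
    rw [h1]
    refine Finset.sum_congr rfl fun q _ => ?_
    rw [mul_comm, ← ish_rsR, ← rsR_rsR (O := f.invRing), ← hA (Sum.inr x, q) (Finset.mem_univ _), rsR_iua, ish_iua,
      ← hw₂, ← sha_rsR]
  simp only [vecTo, Finsupp.linearCombination_apply, Finsupp.sum, map_sum, rsm_smul, rsm_ge, ← hW, ← ge_rsm, Category.assoc]
  rw [← Finset.sum_coe_sort v.support fun x => rsR (m ≫ k ≫ g) (v x) • ge f M' β₂ (rsm M'.val W x)]
  simp only [hv, Finset.sum_smul, mul_smul, ← ge_smul]
  rw [Finset.sum_comm]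
  refine Finset.sum_eq_zero fun q _ => ?_
  rw [← Finset.smul_sum, ← ge_finsetSum, hm0, ge_zero, smul_zero]

/-- Flat base change: the inverse image is exact. -/
theorem preservesFiniteLimits_pull_of_flat (hf : ModSite.IsFlat f.baseMod) : PreservesFiniteLimits f.pull := by
  have : f.pull.IsLeftAdjoint := f.adj.isLeftAdjoint
  have hc : PreservesFiniteColimits f.pull := PreservesColimitsOfSize.preservesFiniteColimits.{u, u} _
  have := Balanced.additive_of_rightExact f.pull
  refine (Functor.preservesFiniteLimits_iff_forall_exact_map_and_mono _).2 fun S hS =>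
    ⟨((Functor.preservesFiniteColimits_iff_forall_exact_map_and_epi _).1 hc S hS).1, ?_⟩
  have := hS.mono_f
  exact mono_pull_map_of_flat hf S.f

end Groth.SitesTopoi.ModH
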