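import Groth.Agent.Misc4.FreeOn
import Groth.Agent.SitesTopoi.Mod.TensorExact

/-!
Sections of the internal hom of sheaves of modules, compatibly with evaluation.
-/

universe u

open CategoryTheory CategoryTheory.Limits Opposite MonoidalCategory

set_option backward.defeqAttrib.useBackward true
set_option backward.isDefEq.respectTransparency false

namespace Groth.SitesTopoi.HomSec

open Groth.SitesTopoi.ModH Groth.Misc4.FreeOn

variable {C : Type u} [SmallCategory C] {J : GrothendieckTopology C} {O : Sheaf J CommRingCat.{u}}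
  (M : ModSite.Mod O) [ModSite.HasSheafHom M] (N : ModSite.Mod O) (U : C)

/-- Sections of the internal hom are morphisms of restrictions. -/
noncomputable def secEquiv : sc ((ModSite.sheafHom M).obj N).val U ≃
    ((ModSite.restr O U).obj M ⟶ (ModSite.restr O U).obj N) :=
  (homEquivYon U ((ModSite.sheafHom M).obj N)).symm.trans <|
    ((ModSite.sheafHomAdj M).homEquiv ((aP O).obj (freeYon O U)) N).symm.trans <|
      (((aPTensorFlipIso M).app (freeYon O U)).homCongr (Iso.refl N)).trans <|
        ((adjP O).homEquiv _ _).trans (overEquiv U M N)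

variable {M N U}

/-- Evaluation of a section of the internal hom. -/
noncomputable def evalAt (s : sc ((ModSite.sheafHom M).obj N).val U) {V : C} (g : V ⟶ U) (f : sc M.val V) : sc N.val V :=
  apm ((ModSite.sheafHomAdj M).counit.app N).val V
    (apm (etaP (((ModSite.sheafHom M).obj N).val ⊗ M.val : PM O)) V (tm (rsm ((ModSite.sheafHom M).obj N).val g s) f))

lemma apm_homEquivYon {Q : ModSite.Mod O} (φ : (aP O).obj (freeYon O U) ⟶ Q) {V : C} (g : V ⟶ U) :
    apm φ.val V (apm (etaP (freeYon O U)) V (gen g)) = rsm Q.val g (homEquivYon U Q φ) := by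
  have h1 : homEquivYon U Q φ = apm φ.val U (apm (etaP (freeYon O U)) U (gen (𝟙 U))) := by
    show yonedaEquiv ((PresheafOfModules.freeAdjunction _).homEquiv _ _ ((adjP O).homEquiv _ _ φ)) = _
    rw [(adjP O).homEquiv_unit]
    rfl
  rw [h1, ← apm_rsm, ← apm_rsm, rsm_gen, Category.comp_id]

lemma comp'_secEquiv (s : sc ((ModSite.sheafHom M).obj N).val U) {V : C} (g : V ⟶ U) (f : sc M.val V) :
    comp' (secEquiv M N U s) g f = evalAt s g f := by
  obtain ⟨φ, rfl⟩ := (homEquivYon U ((ModSite.sheafHom M).obj N)).surjective s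
  rw [secEquiv, Equiv.trans_apply, Equiv.symm_apply_apply, Equiv.trans_apply, Equiv.trans_apply, Equiv.trans_apply]
  have ha : ∀ {P : PM O} (x : (aP O).obj P ⟶ N) (p : sc P V),
      apm ((adjP O).homEquiv P N x) V p = apm x.val V (apm (etaP P) V p) := fun x p =>
    (congrArg (fun m => apm m V p) ((adjP O).homEquiv_unit _ _ x)).trans rfl
  refine (ha ((((aPTensorFlipIso M).app (freeYon O U)).homCongr (Iso.refl N))
    (((ModSite.sheafHomAdj M).homEquiv ((aP O).obj (freeYon O U)) N).symm φ)) (tm (gen g) f)).trans ?_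
  refine (congrArg (fun x => apm (SheafOfModules.Hom.val x) V (apm (etaP (freeYon O U ⊗ M.val : PM O)) V (tm (gen g) f)))
    (show (((aPTensorFlipIso M).app (freeYon O U)).homCongr (Iso.refl N))
        (((ModSite.sheafHomAdj M).homEquiv ((aP O).obj (freeYon O U)) N).symm φ) =
      (aPTensorFlipIso M).inv.app (freeYon O U) ≫ ((ModSite.tensorBi O).flip.obj M).map φ ≫ (ModSite.sheafHomAdj M).counit.app N from
        (congrArg (fun x => _ ≫ x ≫ _) ((ModSite.sheafHomAdj M).homEquiv_counit _ _ φ)).trans
          (congrArg (_ ≫ ·) (Category.comp_id _)))).trans ?_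
  refine congrArg (apm ((ModSite.sheafHomAdj M).counit.app N).val V) ?_
  have e1 : apm ((aPTensorFlipIso M).inv.app (freeYon O U)).val V (apm (etaP (freeYon O U ⊗ M.val : PM O)) V (tm (gen g) f)) =
      apm (etaP (((aP O).obj (freeYon O U)).val ⊗ M.val : PM O)) V (tm (apm (etaP (freeYon O U)) V (gen g)) f) :=
    etaP_naturality (etaP (freeYon O U) ▷ M.val : (freeYon O U ⊗ M.val : PM O) ⟶ _) V (tm (gen g) f)
  refine (congrArg (apm (((ModSite.tensorBi O).flip.obj M).map φ).val V) e1).trans ?_
  refine (etaP_naturality (MonoidalCategory.whiskerRight (C := PM O) φ.val M.val) V _).trans ?_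
  exact congrArg (fun z => apm (etaP (((ModSite.sheafHom M).obj N).val ⊗ M.val : PM O)) V (tm z f)) (apm_homEquivYon φ g)

lemma evalAt_rsm (s : sc ((ModSite.sheafHom M).obj N).val U) {U' : C} (a : U' ⟶ U) {V : C} (g : V ⟶ U') (f : sc M.val V) :
    evalAt (rsm ((ModSite.sheafHom M).obj N).val a s) g f = evalAt s (g ≫ a) f := by
  rw [evalAt, evalAt, rsm_rsm]

lemma evalAt_map {N' : ModSite.Mod O} (p : N ⟶ N') (s : sc ((ModSite.sheafHom M).obj N).val U) {V : C} (g : V ⟶ U)
    (f : sc M.val V) :
    evalAt (apm ((ModSite.sheafHom M).map p).val U s) g f = apm p.val V (evalAt s g f) := by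
  have h := congrArg (fun φ => apm (SheafOfModules.Hom.val φ) V
    (apm (etaP (((ModSite.sheafHom M).obj N).val ⊗ M.val : PM O)) V (tm (rsm ((ModSite.sheafHom M).obj N).val g s) f)))
    ((ModSite.sheafHomAdj M).counit.naturality p)
  refine Eq.trans ?_ h
  refine congrArg (apm ((ModSite.sheafHomAdj M).counit.app N').val V) ?_
  refine Eq.trans ?_ (etaP_naturality (MonoidalCategory.whiskerRight (C := PM O) ((ModSite.sheafHom M).map p).val M.val) V _).symm
  exact congrArg (fun z => apm (etaP (((ModSite.sheafHom M).obj N').val ⊗ M.val : PM O)) V (tm z f))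
    (apm_rsm ((ModSite.sheafHom M).map p).val g s).symm

lemma evalAt_zero {V : C} (g : V ⟶ U) (f : sc M.val V) : evalAt (0 : sc ((ModSite.sheafHom M).obj N).val U) g f = 0 := by
  rw [evalAt, map_zero, tm_zero_left, map_zero, map_zero]

lemma ext_evalAt {s t : sc ((ModSite.sheafHom M).obj N).val U}
    (h : ∀ {V : C} (g : V ⟶ U) (f : sc M.val V), evalAt s g f = evalAt t g f) : s = t := by
  refine (secEquiv M N U).injective (mod_hom_ext fun V f => ?_)
  have := (comp'_secEquiv s V.hom f).trans ((h V.hom f).trans (comp'_secEquiv t V.hom f).symm)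
  exact this

lemma exists_section (ψ : (ModSite.restr O U).obj M ⟶ (ModSite.restr O U).obj N) :
    ∃ s : sc ((ModSite.sheafHom M).obj N).val U, ∀ {V : C} (g : V ⟶ U) (f : sc M.val V), evalAt s g f = comp' ψ g f :=
  ⟨(secEquiv M N U).symm ψ, fun g f => by rw [← comp'_secEquiv, Equiv.apply_symm_apply]⟩

end Groth.SitesTopoi.HomSec
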