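import Groth.Agent.SitesTopoi.Mod.LocPres
import Groth.Agent.SitesTopoi.Mod.HomSec
import Groth.Agent.SitesTopoi.Mod.FiltColim

/-!
The internal hom out of a finitely presented module commutes with filtered colimits.
-/

universe u

open CategoryTheory CategoryTheory.Limits Opposite

set_option backward.defeqAttrib.useBackward true
set_option backward.isDefEq.respectTransparency false
set_option synthInstance.maxHeartbeats 400000

namespace Groth.SitesTopoi.HomColim

open Groth.SitesTopoi.ModH Groth.SitesTopoi.HomSec Groth.SitesTopoi.FiltColim Groth.Misc4.FreeOn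

variable {C : Type u} [SmallCategory C] {J : GrothendieckTopology C} {O : Sheaf J CommRingCat.{u}}
  {F : ModSite.Mod O} [F.IsFinitePresentation] [ModSite.HasSheafHom F]
  {Λ : Type u} [SmallCategory Λ] [IsFiltered Λ] {D : Λ ⥤ ModSite.Mod O} {c : Cocone D} (hc : IsColimit c)

omit [F.IsFinitePresentation] in
lemma eq_of_evalAt_gen {N : ModSite.Mod O} {W : C} (P : LocPres F W) {V : C} (a : V ⟶ W)
    (s t : sc ((ModSite.sheafHom F).obj N).val V)
    (h : ∀ i, evalAt s (𝟙 V) (rsm F.val a (P.e i)) = evalAt t (𝟙 V) (rsm F.val a (P.e i))) : s = t := by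
  refine (secEquiv F N V).injective (P.hom_ext a fun i => ?_)
  rw [comp'_secEquiv, comp'_secEquiv]
  exact h i

include hc

lemma exists_local_zero_hom (U : C) {l : Λ} (t : sc ((ModSite.sheafHom F).obj (D.obj l)).val U)
    (ht : apm ((ModSite.sheafHom F).map (c.ι.app l)).val U t = 0) :
    ∃ S ∈ J U, ∀ ⦃V : C⦄ (g : V ⟶ U), S g → ∃ (l' : Λ) (α : l ⟶ l'),
      apm ((ModSite.sheafHom F).map (D.map α)).val V (rsm ((ModSite.sheafHom F).obj (D.obj l)).val g t) = 0 := by
  obtain ⟨R, hR, hR'⟩ := exists_cover_locPres F U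
  refine exists_refine hR fun W g hg => ?_
  obtain ⟨P⟩ := hR' g hg
  have h0 : ∀ i, apm (c.ι.app l).val W (evalAt t g (P.e i)) = 0 := fun i => by
    rw [← evalAt_map, ht, evalAt_zero]
  obtain ⟨S, hS, hS'⟩ := exists_local_zero_fin c hc W (fun i => evalAt t g (P.e i)) h0
  refine ⟨S, hS, fun V k hk => ?_⟩
  obtain ⟨l', α, hα⟩ := hS' k hk
  refine ⟨l', α, eq_of_evalAt_gen P k _ _ fun i => ?_⟩
  rw [evalAt_zero, evalAt_map, evalAt_rsm, Category.id_comp, ← hα i]
  refine congrArg (apm (D.map α).val V) ?_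
  rw [← comp'_secEquiv, ← comp'_secEquiv, rsm_comp']

lemma exists_local_stage_hom (U : C) (s : sc ((ModSite.sheafHom F).obj c.pt).val U) :
    ∃ S ∈ J U, ∀ ⦃V : C⦄ (g : V ⟶ U), S g → ∃ (l : Λ) (t : sc ((ModSite.sheafHom F).obj (D.obj l)).val V),
      apm ((ModSite.sheafHom F).map (c.ι.app l)).val V t = rsm ((ModSite.sheafHom F).obj c.pt).val g s := by
  obtain ⟨R, hR, hR'⟩ := exists_cover_locPres F U
  refine exists_refine hR fun W g hg => ?_
  obtain ⟨P⟩ := hR' g hg
  obtain ⟨S, hS, hS'⟩ := exists_local_stage_fin c hc W (fun i => evalAt s g (P.e i))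
  refine exists_refine hS fun W₁ k hk => ?_
  obtain ⟨l, x, hx⟩ := hS' k hk
  have h0 : ∀ j, apm (c.ι.app l).val W₁ (∑ i, rsR k (P.c j i) • x i) = 0 := fun j => by
    have h1 := congrArg (fun f => rsm c.pt.val k (comp' (secEquiv F c.pt U s) g f)) (P.rel j)
    simp only [map_sum, map_smul, map_zero, rsm_smul, comp'_secEquiv, ← hx] at h1
    rw [map_sum]
    simp only [map_smul]
    exact h1
  obtain ⟨T, hT, hT'⟩ := exists_local_zero_fin c hc W₁ _ h0
  refine ⟨T, hT, fun V m hm => ?_⟩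
  obtain ⟨l', α, hα⟩ := hT' m hm
  let y : Fin P.n → sc (D.obj l').val V := fun i => apm (D.map α).val V (rsm (D.obj l).val m (x i))
  obtain ⟨ψ, hψ⟩ := P.exists_hom (m ≫ k) y (fun j => by
    refine Eq.trans ?_ (hα j)
    simp only [map_sum, rsm_smul, map_smul, rsR_rsR, y])
  obtain ⟨t, ht⟩ := exists_section ψ
  refine ⟨l', t, eq_of_evalAt_gen P (m ≫ k) _ _ fun i => ?_⟩
  refine (evalAt_map (c.ι.app l') t _ _).trans ((congrArg (apm (c.ι.app l').val V) ((ht _ _).trans (hψ i))).trans ?_)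
  have h2 : apm (c.ι.app l').val V (y i) = apm (c.ι.app l).val V (rsm (D.obj l).val m (x i)) :=
    congrArg (fun φ => apm (SheafOfModules.Hom.val φ) V (rsm (D.obj l).val m (x i))) (c.w α)
  have E : rsm c.pt.val m (rsm c.pt.val k (evalAt s g (P.e i))) =
      evalAt (rsm ((ModSite.sheafHom F).obj c.pt).val ((m ≫ k) ≫ g) s) (𝟙 V) (rsm F.val (m ≫ k) (P.e i)) := by
    rw [evalAt_rsm, Category.id_comp, rsm_rsm, ← comp'_secEquiv, ← comp'_secEquiv, rsm_comp']
  exact h2.trans ((apm_rsm _ m (x i)).trans ((congrArg (rsm c.pt.val m) (hx i)).trans E))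

theorem preserves : Nonempty (IsColimit ((ModSite.sheafHom F).mapCocone c)) := by
  let H := ModSite.sheafHom F
  let d := colimit.cocone (D ⋙ H)
  have hd : IsColimit d := colimit.isColimit _
  let p : d.pt ⟶ H.obj c.pt := hd.desc (H.mapCocone c)
  have hp : ∀ (l : Λ) (V : C) (t : sc (H.obj (D.obj l)).val V),
      apm p.val V (apm (d.ι.app l).val V t) = apm (H.map (c.ι.app l)).val V t := fun l V t =>
    congrArg (fun φ => apm (SheafOfModules.Hom.val φ) V t) (hd.fac (H.mapCocone c) l)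
  have hinj : ∀ V, Function.Injective (apm p.val V) := fun U => (injective_iff_map_eq_zero _).2 fun z hz => by
    obtain ⟨S, hS, hS'⟩ := exists_local_stage d hd U z
    refine sec_extM _ hS fun V g hg => ?_
    obtain ⟨l, t, ht⟩ := hS' g hg
    have h0 : apm (H.map (c.ι.app l)).val V t = 0 := by rw [← hp, ht, apm_rsm, hz, map_zero]
    obtain ⟨R, hR, hR'⟩ := exists_local_zero_hom hc V t h0
    rw [map_zero, ← ht]
    refine sec_extM _ hR fun V' k hk => ?_
    obtain ⟨l', α, hα⟩ := hR' k hk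
    have h3 : ∀ x, apm (d.ι.app l').val V' (apm (H.map (D.map α)).val V' x) = apm (d.ι.app l).val V' x := fun x =>
      congrArg (fun φ => apm (SheafOfModules.Hom.val φ) V' x) (d.w α)
    refine ((apm_rsm _ k t).symm.trans ((h3 _).symm.trans ((congrArg (apm (d.ι.app l').val V') hα).trans (map_zero _)))).trans (map_zero _).symm
  have : IsIso p := Groth.Misc4.FreeOn.isIso_of_bijective (G := Set.univ)
    (fun X => ⟨PUnit, fun _ => X, fun _ => 𝟙 X, J.superset_covering (fun V g _ => (Sieve.mem_ofArrows_iff _ _ g).2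
      ⟨PUnit.unit, g, (Category.comp_id g).symm⟩) (J.top_mem X), fun _ => Set.mem_univ X⟩)
    p fun U _ => ⟨hinj U, fun s => by
      obtain ⟨S, hS, hS'⟩ := exists_local_stage_hom hc U s
      choose l t ht using hS'
      obtain ⟨z, hz⟩ := glueM d.pt hS (fun V g hg => apm (d.ι.app (l g hg)).val V (t g hg)) (fun V V' g hg k => by
        refine hinj V' ?_
        rw [apm_rsm, hp, hp, ht, ht, rsm_rsm])
      exact ⟨z, sec_extM _ hS fun V g hg => by rw [← apm_rsm, hz g hg, hp, ht]⟩⟩
  exact ⟨IsColimit.ofPointIso (r := d) hd (t := H.mapCocone c)⟩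

end Groth.SitesTopoi.HomColim
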