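import Groth.Agent.SitesTopoi.Mod.TensorExact
import Groth.Agent.SitesTopoi.Mod.Balanced
import Mathlib.Algebra.Category.ModuleCat.Presheaf.Free
import Mathlib.RingTheory.Flat.Basic

/-!
Flat sheaves of modules on a ringed site.
-/

universe u

open CategoryTheory CategoryTheory.Limits Opposite MonoidalCategory

namespace Groth.SitesTopoi.ModH

variable {C : Type u} [SmallCategory C] {J : GrothendieckTopology C} {O : Sheaf J CommRingCat.{u}}

/-- Symmetry of the tensor product, natural in the second variable. -/
noncomputable def tensorSwapIso (F : ModSite.Mod O) :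
    (ModSite.tensorBi O).obj F ≅ (ModSite.tensorBi O).flip.obj F :=
  Functor.isoWhiskerLeft (forgetP O) (Functor.isoWhiskerRight (BraidedCategory.tensorLeftIsoTensorRight (C := PM O) F.val) (aP O)) ≪≫
    (tensorFlipIso F).symm

instance tensor_preservesColimits (F : ModSite.Mod O) :
    PreservesColimitsOfSize.{u, u} ((ModSite.tensorBi O).obj F) :=
  preservesColimits_of_natIso (tensorSwapIso F).symm

instance tensor_preservesFiniteColimits (F : ModSite.Mod O) :
    PreservesFiniteColimits ((ModSite.tensorBi O).obj F) :=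
  PreservesColimitsOfSize.preservesFiniteColimits.{u, u} _

lemma isFlat_tensorObj {F : ModSite.Mod O} (hF : ModSite.IsFlat F) :
    PreservesFiniteLimits ((ModSite.tensorBi O).obj F) :=
  have := hF.1
  preservesFiniteLimits_of_natIso (tensorSwapIso F).symm

lemma mono_tensor_map_of_flip {F G H : ModSite.Mod O} (φ : G ⟶ H) [Mono (((ModSite.tensorBi O).map φ).app F)] :
    Mono (((ModSite.tensorBi O).obj F).map φ) := by
  have : Mono (((ModSite.tensorBi O).flip.obj F).map φ) := ‹_›
  rw [show ((ModSite.tensorBi O).obj F).map φ =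
    (tensorSwapIso F).hom.app G ≫ ((ModSite.tensorBi O).flip.obj F).map φ ≫ (tensorSwapIso F).inv.app H by
      rw [← NatTrans.naturality_assoc, Iso.hom_inv_id_app, Category.comp_id]]
  infer_instance

lemma mono_tensorFlip_map {F : ModSite.Mod O} (hF : ModSite.IsFlat F) {G H : ModSite.Mod O} (φ : G ⟶ H) [Mono φ] :
    Mono (((ModSite.tensorBi O).map φ).app F) :=
  have := hF.1
  inferInstanceAs (Mono (((ModSite.tensorBi O).flip.obj F).map φ))

lemma mono_tensor_map {F : ModSite.Mod O} (hF : ModSite.IsFlat F) {G H : ModSite.Mod O} (φ : G ⟶ H) [Mono φ] :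
    Mono (((ModSite.tensorBi O).obj F).map φ) :=
  have := isFlat_tensorObj hF
  inferInstance

/-- A sheaf of modules is flat as soon as tensoring with it preserves monomorphisms. -/
lemma isFlat_of_mono (F : ModSite.Mod O)
    (h : ∀ ⦃G H : ModSite.Mod O⦄ (φ : G ⟶ H), Mono φ → Mono (((ModSite.tensorBi O).map φ).app F)) :
    ModSite.IsFlat F := by
  have : ((ModSite.tensorBi O).flip.obj F).Additive := Balanced.additive_of_rightExact _
  exact ⟨(Functor.preservesFiniteLimits_iff_forall_exact_map_and_mono _).2 fun S hS =>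
    ⟨((Functor.preservesFiniteColimits_iff_forall_exact_map_and_epi _).1 inferInstance S hS).1, h S.f hS.mono_f⟩,
    inferInstance⟩

/-- Local injectivity only depends on the sheafification. -/
lemma mono_aP_map_transfer {M N M' N' : PM O} {f : M ⟶ N} {f' : M' ⟶ N'} (p : M ⟶ M') (q : N ⟶ N')
    [IsIso ((aP O).map p)] [IsIso ((aP O).map q)] (w : f ≫ q = p ≫ f') :
    Mono ((aP O).map f) ↔ Mono ((aP O).map f') := by
  have e : (aP O).map f ≫ (aP O).map q = (aP O).map p ≫ (aP O).map f' := by
    rw [← Functor.map_comp, w, Functor.map_comp]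
  constructor <;> intro _
  · have : Mono ((aP O).map p ≫ (aP O).map f') := by rw [← e]; infer_instance
    rw [← IsIso.inv_hom_id_assoc ((aP O).map p) ((aP O).map f')]
    infer_instance
  · have : Mono ((aP O).map f ≫ (aP O).map q) := by rw [e]; infer_instance
    exact mono_of_mono _ ((aP O).map q)

/-- A presheaf of modules with flat modules of sections. -/
def FlatPre (P : PM O) : Prop := ∀ U : C, Module.Flat (rsec O U) (sc P U)

lemma injective_whiskerRight_of_flatPre {P : PM O} (hP : FlatPre P) {M N : PM O} (f : M ⟶ N) (U : C)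
    (hf : Function.Injective (apm f U)) : Function.Injective (apm (f ▷ P) U) :=
  have := hP U
  Module.Flat.rTensor_preserves_injective_linearMap (M := sc P U) (apm f U) hf

/-- The sheafification of a flat presheaf of modules is flat. -/
lemma isFlat_aP_of_flatPre {P : PM O} (hP : FlatPre P) : ModSite.IsFlat ((aP O).obj P) := by
  refine isFlat_of_mono _ fun G H φ _ => ?_
  have h : Mono ((aP O).map (MonoidalCategory.whiskerRight (C := PM O) φ.val P)) :=
    mono_aP_map_of_locInj fun U m hm => ⟨⊤, J.top_mem U, fun V g _ => by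
      rw [(injective_iff_map_eq_zero _).1 (injective_whiskerRight_of_flatPre hP φ.val U (injective_of_mono φ U)) m hm,
        map_zero]⟩
  have := isIso_aP_map_whiskerLeft G.val (etaP P)
  have := isIso_aP_map_whiskerLeft H.val (etaP P)
  exact (mono_aP_map_transfer (MonoidalCategory.whiskerLeft (C := PM O) G.val (etaP P))
    (MonoidalCategory.whiskerLeft (C := PM O) H.val (etaP P))
    (MonoidalCategory.whisker_exchange (C := PM O) φ.val (etaP P)).symm).1 h

/-- Every sheaf of modules is a quotient of a flat one. -/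
lemma exists_epi_flat (F : ModSite.Mod O) :
    ∃ (G : ModSite.Mod O) (π : G ⟶ F), ModSite.IsFlat G ∧ Epi π := by
  let T : Cᵒᵖ ⥤ Type u := F.val.presheaf ⋙ forget _
  let ε : (PresheafOfModules.free _).obj T ⟶ F.val := PresheafOfModules.freeObjDesc (𝟙 T)
  refine ⟨(aP O).obj ((PresheafOfModules.free _).obj T), (aP O).map ε ≫ (adjP O).counit.app F,
    isFlat_aP_of_flatPre fun U => ?_, ?_⟩
  · change Module.Flat (rsec O U) ((T.obj (op U)) →₀ rsec O U)
    infer_instance
  · have this' : Epi ε := PresheafOfModules.epi_of_surjective fun X x => ⟨ModuleCat.freeMk x, by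
      simp only [ε, PresheafOfModules.freeObjDesc_app]
      exact (ModuleCat.freeDesc_apply _ x).trans rfl⟩
    have : (aP O).IsLeftAdjoint := (adjP O).isLeftAdjoint
    exact @epi_comp _ _ _ _ _ _ (@Functor.map_epi _ _ _ _ (aP O) _ _ _ ε this') _ (@IsIso.epi_of_iso _ _ _ _ _ (NatIso.isIso_app_of_isIso _ F))

/-- A short exact sequence with flat quotient stays short exact after tensoring. -/
lemma mono_tensor_of_flat {S : ShortComplex (ModSite.Mod O)} (hS : S.ShortExact) (hF : ModSite.IsFlat S.X₃)
    (G : ModSite.Mod O) : Mono (((ModSite.tensorBi O).map S.f).app G) := by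
  obtain ⟨P, p, hP, _⟩ := exists_epi_flat G
  have := hP.1
  have := isFlat_tensorObj hF
  exact Balanced.mono_map_app_of_flat (ModSite.tensorBi O) hS p

lemma isFlat_mid {S : ShortComplex (ModSite.Mod O)} (hS : S.ShortExact)
    (h₁ : ModSite.IsFlat S.X₁) (h₃ : ModSite.IsFlat S.X₃) : ModSite.IsFlat S.X₂ := by
  refine isFlat_of_mono _ fun G H φ _ => ?_
  obtain ⟨wG, eG, _⟩ := Balanced.exact_and_epi' (ModSite.tensorBi O) G hS
  have := mono_tensorFlip_map h₁ φ
  have := mono_tensorFlip_map h₃ φ
  have : Mono (((ModSite.tensorBi O).obj H).map S.f) := by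
    have := mono_tensor_of_flat hS h₃ H
    exact mono_tensor_map_of_flip S.f
  refine Preadditive.mono_of_cancel_zero _ fun {R} x hx => ?_
  obtain ⟨R', π, _, w, hw⟩ := eG.exact_up_to_refinements x (by
    rw [← cancel_mono (((ModSite.tensorBi O).map φ).app S.X₃), zero_comp, Category.assoc,
      ((ModSite.tensorBi O).map φ).naturality, ← Category.assoc, hx, zero_comp])
  dsimp at hw
  have : w = 0 := by
    rw [← cancel_mono (((ModSite.tensorBi O).map φ).app S.X₁), ← cancel_mono (((ModSite.tensorBi O).obj H).map S.f),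
      zero_comp, zero_comp, Category.assoc, ← ((ModSite.tensorBi O).map φ).naturality, ← Category.assoc, ← hw,
      Category.assoc, hx, comp_zero]
  exact (cancel_epi π).1 (by rw [hw, this, zero_comp, comp_zero])

lemma isFlat_left {S : ShortComplex (ModSite.Mod O)} (hS : S.ShortExact)
    (h₂ : ModSite.IsFlat S.X₂) (h₃ : ModSite.IsFlat S.X₃) : ModSite.IsFlat S.X₁ := by
  refine isFlat_of_mono _ fun G H φ _ => ?_
  have := mono_tensorFlip_map h₂ φ
  have : Mono (((ModSite.tensorBi O).obj G).map S.f) := by
    have := mono_tensor_of_flat hS h₃ G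
    exact mono_tensor_map_of_flip S.f
  have : Mono (((ModSite.tensorBi O).map φ).app S.X₁ ≫ ((ModSite.tensorBi O).obj H).map S.f) := by
    rw [← ((ModSite.tensorBi O).map φ).naturality]
    infer_instance
  exact mono_of_mono _ (((ModSite.tensorBi O).obj H).map S.f)

end Groth.SitesTopoi.ModH
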