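import Groth.Agent.SitesTopoi.Mod.ExtZero
import Groth.Agent.SitesTopoi.Mod.Flat

/-!
Extension by zero is exact, faithful and preserves flatness.
-/

universe u

open CategoryTheory CategoryTheory.Limits Opposite

namespace Groth.SitesTopoi.ModH

variable {C : Type u} [SmallCategory C] {J : GrothendieckTopology C} {O : Sheaf J CommRingCat.{u}} {U : C}

instance extZero_preservesFiniteColimits : PreservesFiniteColimits (ModSite.extZero O U) :=
  have := (ModSite.extZeroAdj O U).leftAdjoint_preservesColimits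
  PreservesColimitsOfSize.preservesFiniteColimits.{u, u} _

instance extZero_additive : (ModSite.extZero O U).Additive := Balanced.additive_of_rightExact _

instance extZero_preservesFiniteLimits : PreservesFiniteLimits (ModSite.extZero O U) := by
  refine (Functor.preservesFiniteLimits_iff_forall_exact_map_and_mono _).2 fun S hS => ⟨?_, ?_⟩
  · exact ((Functor.preservesFiniteColimits_iff_forall_exact_map_and_epi _).1 inferInstance S hS).1
  · have := hS.mono_f
    exact mono_extZero_map S.f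

instance extZero_faithful : (ModSite.extZero O U).Faithful where
  map_injective {G G'} f g e := by
    rw [← sub_eq_zero]
    have e₀ : (ModSite.extZero O U).map (f - g) = 0 := by rw [Functor.map_sub, e, sub_self]
    let d := f - g
    have e₁ : (aP O).map ((Pex U).map d.val) = 0 := by
      have h := (extZeroIso U).hom.naturality d
      rw [e₀, comp_zero] at h
      exact (cancel_mono ((extZeroIso U).hom.app G')).1 (h.trans zero_comp.symm)
    refine mod_hom_ext fun W x => ?_
    change apm d.val W x = 0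
    have e₂ : apm (etaP (pexObj G'.val)) W.left (pu (W := Over.mk W.hom) (apm d.val W x) (𝟙 W.left)) = 0 := by
      have h := etaP_naturality ((Pex U).map d.val) W.left (pu (W := Over.mk W.hom) x (𝟙 W.left))
      rw [e₁] at h
      exact ((congrArg (apm (etaP (pexObj G'.val)) W.left) (apm_Pex_map d.val (W := Over.mk W.hom) x (𝟙 W.left))).symm.trans h.symm).trans rfl
    obtain ⟨S, hS, h'⟩ := locInj_etaP (pexObj G'.val) W.left _ e₂
    refine sec_extM G' (S := (Sieve.overEquiv W).symm S)
      ((GrothendieckTopology.mem_over_iff J _).2 (by simpa using hS)) fun W' g hg => ?_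
    rw [map_zero]
    have h0 := h' g.left ((Sieve.overEquiv_symm_iff S g).1 hg)
    rw [rsm_pu] at h0
    have e₃ : pu (W := Over.mk W'.hom) (rsm G'.val g (apm d.val W x)) (𝟙 W'.left) = 0 := by
      refine Eq.trans ?_ h0
      refine (pu_rsm (W' := Over.mk W'.hom) g (apm d.val W x) (𝟙 W'.left)).trans ?_
      exact congrArg (fun k => pu (apm d.val W x) k) ((Category.id_comp _).trans (Category.comp_id _).symm)
    exact (pexCoeff_pu_self G'.val W'.hom _).symm.trans ((congrArg (pexCoeff G'.val W'.hom) e₃).trans (map_zero _))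

lemma exact_of_exact_map_extZero {S : ShortComplex (ModSite.Mod (O.over U))} (h : (S.map (ModSite.extZero O U)).Exact) :
    S.Exact :=
  (ShortComplex.exact_map_iff_of_faithful S _).1 h

/-- The sheafified presheaf extension by zero of a flat module has locally trivial relations. -/
lemma relTriv_aP_pex {M : ModSite.Mod (O.over U)} (hM : RelTriv M) : RelTriv ((aP O).obj (pexObj M.val)) := by
  classical
  intro V n F s hrel
  choose T hT hT' using fun j => locSurj_etaP (pexObj M.val) V (s j)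
  obtain ⟨S, hS, hS₀⟩ : ∃ S ∈ J V, ∀ ⦃V' : C⦄ (g : V' ⟶ V), S g → ∀ j, T j g := by
    suffices ∀ s : Finset (Fin n), ∃ S ∈ J V, ∀ ⦃V' : C⦄ (g : V' ⟶ V), S g → ∀ j ∈ s, T j g by
      obtain ⟨S, hS, h⟩ := this Finset.univ
      exact ⟨S, hS, fun V' g hg j => h g hg j (Finset.mem_univ j)⟩
    intro s
    induction s using Finset.induction_on with
    | empty => exact ⟨⊤, J.top_mem V, fun V' g _ j hj => absurd hj (Finset.notMem_empty j)⟩
    | insert j₀ s _ ih =>
      obtain ⟨S, hS, h⟩ := ih
      exact ⟨T j₀ ⊓ S, J.intersection_covering (hT j₀) hS, fun V' g hg j hj =>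
        (Finset.mem_insert.1 hj).elim (fun e => e ▸ hg.1) (h g hg.2 j)⟩
  choose q hq using fun {V'} (g : V' ⟶ V) (hg : S g) j => hT' j g (hS₀ g hg j)
  have h0 : ∀ {V'} (g : V' ⟶ V) (hg : S g), ∃ R ∈ J V', ∀ ⦃V'' : C⦄ (k : V'' ⟶ V'), R k →
      ∑ j, rsR k (rsR g (F j)) • rsm (pexObj M.val) k (q g hg j) = 0 := fun {V'} g hg => by
    have h1 : apm (etaP (pexObj M.val)) V' (∑ j, rsR g (F j) • q g hg j) = 0 := by
      have := congrArg (rsm ((aP O).obj (pexObj M.val)).val g) hrel
      simp only [map_sum, rsm_smul, map_zero, ← hq g hg] at this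
      simpa only [map_sum, map_smul] using this
    obtain ⟨R, hR, hR'⟩ := locInj_etaP (pexObj M.val) V' _ h1
    exact ⟨R, hR, fun V'' k hk => by simpa only [map_sum, rsm_smul] using hR' k hk⟩
  choose R hR hR' using @h0
  suffices key : ∀ ⦃V₁ : C⦄ (F₁ : Fin n → rsec O V₁) (y : Fin n → sc (pexObj M.val) V₁), ∑ j, F₁ j • y j = 0 →
      ∀ A : Finset (V₁ ⟶ U), ∃ T₁ ∈ J V₁, ∀ ⦃V₂ : C⦄ (k : V₂ ⟶ V₁), T₁ k →
        ∃ (l : ℕ) (t : Fin l → sc (pexObj M.val) V₂) (a : Fin n → Fin l → rsec O V₂),
          (∀ j, ∑ i, a j i • t i = ∑ b ∈ A, pu (W := Over.mk b) (pexCoeff M.val b (y j)) k) ∧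
            ∀ i, ∑ j, a j i * rsR k (F₁ j) = 0 by
    refine ⟨Sieve.bind S fun V' g hg => Sieve.bind (R g hg) fun V₁ k₀ hk₀ =>
      (key (fun j => rsR k₀ (rsR g (F j))) (fun j => rsm (pexObj M.val) k₀ (q g hg j)) (hR' g hg k₀ hk₀)
        (Finset.univ.biUnion fun j => DFinsupp.support (β := fun φ : V₁ ⟶ U => Cmp M.val φ)
          (show PexSec M.val V₁ from rsm (pexObj M.val) k₀ (q g hg j)))).choose,
      J.bind_covering hS fun V' g hg => J.bind_covering (hR g hg) fun V₁ k₀ hk₀ =>
        (key _ _ (hR' g hg k₀ hk₀) _).choose_spec.1, ?_⟩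
    rintro V₂ _ ⟨V', _, g, hg, ⟨V₁, k, k₀, hk₀, hk, rfl⟩, rfl⟩
    obtain ⟨l, t, a, ha, ha'⟩ := (key _ _ (hR' g hg k₀ hk₀) _).choose_spec.2 k hk
    refine ⟨l, fun i => apm (etaP (pexObj M.val)) V₂ (t i), a, fun j => ?_, fun i => ?_⟩
    · rw [← rsm_rsm, ← hq g hg, ← apm_rsm, ← rsm_rsm]
      simp only [← map_smul, ← map_sum]
      refine congrArg (apm (etaP (pexObj M.val)) V₂) ?_
      rw [ha j]
      generalize hz : rsm (pexObj M.val) k₀ (q g hg j) = z
      refine Eq.trans ?_ (Finset.sum_congr rfl fun b _ => (rsm_pu (W := Over.mk b) (pexCoeff M.val b z) k (𝟙 V₁)).trans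
        (congrArg (fun e => pu (W := Over.mk b) (pexCoeff M.val b z) e) (Category.comp_id k)))
      rw [← map_sum]
      refine congrArg (rsm (pexObj M.val) k) (pex_ext M.val fun b => ?_)
      rw [map_sum]
      by_cases hb : b ∈ Finset.univ.biUnion fun j => DFinsupp.support (β := fun φ : V₁ ⟶ U => Cmp M.val φ)
          (show PexSec M.val V₁ from rsm (pexObj M.val) k₀ (q g hg j))
      · rw [Finset.sum_eq_single b (fun c _ hc => pexCoeff_pu_ne M.val _ hc) (fun h => absurd hb h), pexCoeff_pu_self]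
      · rw [Finset.sum_eq_zero fun c hc => pexCoeff_pu_ne M.val _ fun h : c = b => hb (h ▸ hc)]
        subst hz
        exact DFinsupp.notMem_support_iff.1 fun h => hb (Finset.mem_biUnion.2 ⟨j, Finset.mem_univ j, h⟩)
    · simpa only [rsR_rsR, Category.assoc] using ha' i
  intro V₁ F₁ y hy A
  induction A using Finset.induction_on with
  | empty => exact ⟨⊤, J.top_mem V₁, fun V₂ k _ => ⟨0, Fin.elim0, fun _ => Fin.elim0, fun j => by simp, fun i => i.elim0⟩⟩
  | insert b A hb ih =>
    obtain ⟨T₁, hT₁, h₁⟩ := ih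
    have hb' : ∑ j, (show rsec (O.over U) (Over.mk b) from F₁ j) • pexCoeff M.val b (y j) = 0 := by
      have := congrArg (pexCoeff M.val b) hy
      simp only [map_sum, pexCoeff_smul, map_zero] at this
      exact this
    obtain ⟨T₂, hT₂, h₂⟩ := hM (Over.mk b) n (fun j => F₁ j) (fun j => pexCoeff M.val b (y j)) hb'
    refine ⟨T₁ ⊓ Sieve.overEquiv (Over.mk b) T₂,
      J.intersection_covering hT₁ ((GrothendieckTopology.mem_over_iff J _).1 hT₂), fun V₂ k hk => ?_⟩
    obtain ⟨l₁, t₁, a₁, e₁, e₁'⟩ := h₁ k hk.1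
    obtain ⟨l₂, t₂, a₂, e₂, e₂'⟩ := h₂ (Over.homMk k : Over.mk (k ≫ b) ⟶ Over.mk b) ((Sieve.overEquiv_iff T₂ k).1 hk.2)
    refine ⟨l₂ + l₁, Fin.append (fun i => pu (W := Over.mk (k ≫ b)) (t₂ i) (𝟙 V₂)) t₁,
      fun j => Fin.append (fun i => a₂ j i) (a₁ j), fun j => ?_, fun i => ?_⟩
    · rw [Finset.sum_insert hb, Fin.sum_univ_add]
      simp only [Fin.append_left, Fin.append_right]
      refine congrArg₂ (· + ·) ?_ (e₁ j)
      have e₃ : pu (W := Over.mk b) (pexCoeff M.val b (y j)) k =
          pu (W := Over.mk (k ≫ b)) (rsm M.val (Over.homMk k : Over.mk (k ≫ b) ⟶ Over.mk b) (pexCoeff M.val b (y j))) (𝟙 V₂) := by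
        rw [pu_rsm]
        exact congrArg (fun e => pu (W := Over.mk b) (pexCoeff M.val b (y j)) e) (Category.id_comp k).symm
      rw [e₃, e₂ j]
      let p : sc M.val (Over.mk (k ≫ b)) →+ sc (pexObj M.val) V₂ :=
        AddMonoidHom.mk' (fun x => pu (W := Over.mk (k ≫ b)) x (𝟙 V₂)) fun x x' => pu_add x x' _
      refine Eq.trans ?_ (map_sum p _ _).symm
      refine Finset.sum_congr rfl fun i _ => ?_
      exact ((pu_smul (W := Over.mk (k ≫ b)) (a₂ j i) (t₂ i) (𝟙 V₂)).trans
        (congrArg (· • pu (W := Over.mk (k ≫ b)) (t₂ i) (𝟙 V₂)) (rsR_id (a₂ j i)))).symm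
    · induction i using Fin.addCases with
      | left i => simp only [Fin.append_left]; exact e₂' i
      | right i => simp only [Fin.append_right]; exact e₁' i

lemma isFlat_of_iso {F F' : ModSite.Mod O} (e : F ≅ F') (h : ModSite.IsFlat F) : ModSite.IsFlat F' := by
  refine isFlat_of_mono _ fun G H φ _ => ?_
  have := mono_tensorFlip_map h φ
  rw [show ((ModSite.tensorBi O).map φ).app F' =
    ((ModSite.tensorBi O).obj G).map e.inv ≫ ((ModSite.tensorBi O).map φ).app F ≫
      ((ModSite.tensorBi O).obj H).map e.hom by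
    rw [← NatTrans.naturality, ← Functor.map_comp_assoc, Iso.inv_hom_id, CategoryTheory.Functor.map_id, Category.id_comp]]
  infer_instance

lemma isFlat_extZero {M : ModSite.Mod (O.over U)} (hM : ModSite.IsFlat M) :
    ModSite.IsFlat ((ModSite.extZero O U).obj M) :=
  isFlat_of_iso ((extZeroIso U).app M) (relTriv_aP_pex (relTriv_of_isFlat hM)).isFlat

lemma isFlat_unit (O : Sheaf J CommRingCat.{u}) : ModSite.IsFlat (ModSite.unit O) :=
  RelTriv.isFlat fun V n F s hrel => ⟨⊤, J.top_mem V, fun V' g _ =>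
    ⟨1, fun _ => (1 : rsec O V'), fun j _ => rsm (ModSite.unit O).val g (s j), fun j => by
      rw [Fin.sum_univ_one]
      exact (mul_one (show rsec O V' from rsm (ModSite.unit O).val g (s j))).symm, fun _ => by
      have e := congrArg (rsm (ModSite.unit O).val g) hrel
      simp only [map_sum, rsm_smul, map_zero] at e
      exact (Finset.sum_congr rfl fun j _ => mul_comm _ _).trans e⟩⟩

lemma isFlat_freeOn (O : Sheaf J CommRingCat.{u}) (U : C) : ModSite.IsFlat (ModSite.freeOn O U) :=
  isFlat_extZero (isFlat_unit (O.over U))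

end Groth.SitesTopoi.ModH
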