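import Groth.Agent.SitesTopoi.Mod.Split
import Groth.Agent.SitesTopoi.Mod.ExtZeroFlat
import Groth.Agent.Misc4.FreeOn
import Groth.Agent.SitesTopoi.Topos.Eps
import Groth.Prelude.Def_CohCx

/-!
Sections of direct sums over quasi-compact objects.
-/

universe u

open CategoryTheory CategoryTheory.Limits Opposite

set_option backward.defeqAttrib.useBackward true
set_option backward.isDefEq.respectTransparency false

namespace Groth.SitesTopoi.QcSum

open Groth.SitesTopoi.ModH

variable {C : Type u} [SmallCategory C] {J : GrothendieckTopology C}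

/-- A quasi-compact object has finite subcovers. -/
lemma exists_finite_subcover {W : C} (hW : CohCx.IsQcObject ((presheafToSheaf J (Type u)).obj (yoneda.obj W)))
    {S : Sieve W} (hS : S ∈ J W) :
    ∃ (t : Finset (Σ V : C, {g : V ⟶ W // S g})), Sieve.ofArrows (fun i : t => i.1.1) (fun i : t => i.1.2.1) ∈ J W := by
  classical
  have hcov : Topos.Covers (fun p : (Σ V : C, {g : V ⟶ W // S g}) => Topos.epsMap (J := J) p.2.1) :=
    Topos.covers_epsMap (J.superset_covering (fun V k hk => (Sieve.mem_ofArrows_iff _ _ k).2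
      ⟨⟨V, k, hk⟩, 𝟙 V, (Category.id_comp k).symm⟩) hS)
  obtain ⟨t, ht⟩ := hW _ _ (fun p : (Σ V : C, {g : V ⟶ W // S g}) => Topos.epsMap (J := J) p.2.1) (fun U s => ⟨_, hcov U s, fun V g hg => hg⟩)
  refine ⟨t, Topos.ofArrows_mem_of_covers_epsMap fun U s => ?_⟩
  obtain ⟨R, hR, hR'⟩ := ht U s
  exact J.superset_covering (fun V g hg => hR' V g hg) hR

variable {O : Sheaf J CommRingCat.{u}} {I : Type u} (F : I → ModSite.Mod O)

/-- The comparison from the direct sum of presheaves. -/
noncomputable def sumTo : (∐ fun i => (show PM O from (F i).val)) ⟶ (∐ F).val := Sigma.desc fun i => (Sigma.ι F i).val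

lemma locSurj_sumTo : LocSurj (sumTo F) := by
  let u := ((adjP O).homEquiv _ _).symm (sumTo F)
  have he : etaP (∐ fun i => (show PM O from (F i).val)) ≫ u.val = sumTo F :=
    ((adjP O).homEquiv_unit _ _ _).symm.trans (Equiv.apply_symm_apply _ _)
  have hι : ∀ i, inv ((adjP O).counit.app (F i)) ≫ (aP O).map (Sigma.ι (fun i => (show PM O from (F i).val)) i) ≫ u = Sigma.ι F i := fun i => by
    rw [IsIso.inv_comp_eq]
    refine ((adjP O).homEquiv_naturality_left_symm _ _).symm.trans ?_
    refine Eq.trans (congrArg _ (Sigma.ι_desc _ _)) ?_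
    exact ((adjP O).homEquiv_counit _ _ _).trans ((adjP O).counit.naturality (Sigma.ι F i))
  have : Epi u := ⟨fun a b e => Sigma.hom_ext _ _ fun i => by rw [← hι i]; simp [e]⟩
  intro U n
  obtain ⟨S, hS, hS'⟩ := locSurj_of_epi u U n
  refine exists_refine hS fun V g hg => ?_
  obtain ⟨m, hm⟩ := hS' g hg
  obtain ⟨T, hT, hT'⟩ := locSurj_etaP _ V m
  refine ⟨T, hT, fun V' k hk => ?_⟩
  obtain ⟨z, hz⟩ := hT' k hk
  exact ⟨z, by rw [← he, apm_comp, hz, apm_rsm, hm, rsm_rsm]⟩

lemma exists_finset_sum_pm (P : I → PM O) (U : C) (z : sc (∐ P) U) :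
    ∃ (S : Finset I) (t : ∀ i, sc (P i) U), z = ∑ i ∈ S, apm (Sigma.ι P i) U (t i) := by
  classical
  let N : Submodule (rsec O U) (sc (∐ P) U) := ⨆ i, LinearMap.range (apm (Sigma.ι P i) U)
  have h : ModuleCat.ofHom N.mkQ = (0 : (∐ P).obj (op U) ⟶ ModuleCat.of (rsec O U) (sc (∐ P) U ⧸ N)) :=
    (isColimitOfPreserves (PresheafOfModules.evaluation _ (op U)) (coproductIsCoproduct P)).hom_ext fun ⟨i⟩ => by
      ext x
      exact (Submodule.Quotient.mk_eq_zero N).2 (Submodule.mem_iSup_of_mem i ⟨x, rfl⟩)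
  have hz : z ∈ N := (Submodule.Quotient.mk_eq_zero N).1 (congrArg (fun φ => (ModuleCat.Hom.hom φ) z) h)
  obtain ⟨f, hf, hsum⟩ := (Submodule.mem_iSup_iff_exists_finsupp _ _).1 hz
  choose t ht using fun i => hf i
  exact ⟨f.support, t, hsum.symm.trans (Finset.sum_congr rfl fun i _ => (ht i).symm)⟩

open Classical in
/-- The projection of a direct sum to one of its terms. -/
noncomputable def proj (i : I) : ∐ F ⟶ F i :=
  Sigma.desc fun j => if h : j = i then eqToHom (congrArg F h) else 0

open Classical in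
lemma apm_proj_ι (i j : I) (U : C) (x : sc (F j).val U) :
    apm (proj F i).val U (apm (Sigma.ι F j).val U x) = if h : j = i then h ▸ x else 0 := by
  classical
  refine (congrArg (fun φ => apm (SheafOfModules.Hom.val φ) U x)
    (Sigma.ι_desc (fun j => if h : j = i then eqToHom (congrArg F h) else (0 : F j ⟶ F i)) j)).trans ?_
  split_ifs with h
  · subst h; rfl
  · rfl

lemma apm_proj_sum [DecidableEq I] (i : I) (S : Finset I) (U : C) (t : ∀ j, sc (F j).val U) :
    apm (proj F i).val U (∑ j ∈ S, apm (Sigma.ι F j).val U (t j)) = if i ∈ S then t i else 0 := by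
  refine (map_sum _ _ _).trans ?_
  simp only [apm_proj_ι]
  split_ifs with h
  · exact (Finset.sum_eq_single i (fun j _ hj => dif_neg hj) (fun h' => absurd h h')).trans (dif_pos rfl)
  · exact Finset.sum_eq_zero fun j hj => dif_neg (fun e : j = i => h (e ▸ hj))

/-- Over a quasi-compact object every section of a direct sum is a finite sum. -/
theorem exists_finset_sum {W : C} (hW : CohCx.IsQcObject ((presheafToSheaf J (Type u)).obj (yoneda.obj W)))
    (s : sc (∐ F).val W) :
    ∃ (S : Finset I) (t : ∀ i, sc (F i).val W), s = ∑ i ∈ S, apm (Sigma.ι F i).val W (t i) := by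
  classical
  obtain ⟨R, hR, hR'⟩ := locSurj_sumTo F W s
  obtain ⟨T, hT⟩ := exists_finite_subcover hW hR
  choose z hz using fun p : (Σ V : C, {g : V ⟶ W // R g}) => hR' p.2.1 p.2.2
  choose Sf t ht using fun p => exists_finset_sum_pm _ _ (z p)
  let S := T.biUnion Sf
  refine ⟨S, fun i => apm (proj F i).val W s, sec_extM _ hT ?_⟩
  rintro V g ⟨_, k, _, ⟨p⟩, rfl⟩
  rw [← rsm_rsm, ← rsm_rsm]
  refine congrArg (rsm _ k) ?_
  have e : rsm (∐ F).val p.1.2.1 s = ∑ i ∈ Sf p.1, apm (Sigma.ι F i).val p.1.1 (t p.1 i) := by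
    rw [← hz p.1, ht p.1, map_sum]
    exact Finset.sum_congr rfl fun i _ => congrArg (fun φ => apm φ p.1.1 (t p.1 i))
      (Sigma.ι_desc (fun i => (Sigma.ι F i).val) i)
  refine e.trans (Eq.symm ((map_sum _ _ _).trans ?_))
  refine (Finset.sum_congr rfl fun i _ => ((apm_rsm (Sigma.ι F i).val p.1.2.1 _).symm.trans
    (congrArg (apm (Sigma.ι F i).val p.1.1) (((apm_rsm (proj F i).val p.1.2.1 s).symm.trans
      (congrArg (apm (proj F i).val p.1.1) e)).trans (apm_proj_sum F i (Sf p.1) p.1.1 (t p.1)))))).trans ?_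
  rw [← Finset.sum_subset (Finset.subset_biUnion_of_mem Sf p.2)
    (fun i _ hi => by rw [if_neg hi, map_zero])]
  exact Finset.sum_congr rfl fun i hi => by rw [if_pos hi]

theorem eq_zero_of_sum_eq_zero (W : C) (S : Finset I) (t : ∀ i, sc (F i).val W)
    (h : ∑ i ∈ S, apm (Sigma.ι F i).val W (t i) = 0) : ∀ i ∈ S, t i = 0 := fun i hi => by
  classical
  have := congrArg (apm (proj F i).val W) h
  rwa [apm_proj_sum, if_pos hi, map_zero] at this

/-- An additive functor to abelian groups preserves a direct sum if all elements are finite sums from the terms. -/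
lemma preservesCoproduct {A : Type*} [Category A] [Preadditive A] (G : A ⥤ AddCommGrpCat.{u}) [G.Additive] {ι : Type u}
    (X : ι → A) [HasCoproduct X]
    (hX : ∀ z : G.obj (∐ X), ∃ (S : Finset ι) (t : ∀ i, G.obj (X i)), z = ∑ i ∈ S, G.map (Sigma.ι X i) (t i)) :
    PreservesColimit (Discrete.functor X) G := by
  classical
  have : IsIso (sigmaComparison G X) := by
    rw [ConcreteCategory.isIso_iff_bijective]
    refine ⟨(injective_iff_map_eq_zero _).2 fun z hz => ?_, fun z => ?_⟩
    · obtain ⟨S, t, rfl⟩ : ∃ (S : Finset ι) (t : ∀ i, G.obj (X i)), z = ∑ i ∈ S, Sigma.ι (fun i => G.obj (X i)) i (t i) := by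
        let N : AddSubgroup (↑(∐ fun i => G.obj (X i)) : Type u) := ⨆ i, (Sigma.ι (fun i => G.obj (X i)) i).hom.range
        have h : AddCommGrpCat.ofHom (QuotientAddGroup.mk' N) = (0 : (∐ fun i => G.obj (X i)) ⟶ AddCommGrpCat.of _) :=
          Sigma.hom_ext _ _ fun i => by
            ext x
            exact (QuotientAddGroup.eq_zero_iff _).2 (AddSubgroup.mem_iSup_of_mem i ⟨x, rfl⟩)
        have hN : z ∈ N := (QuotientAddGroup.eq_zero_iff z).1 (congrArg (fun φ => (AddCommGrpCat.Hom.hom φ) z) h)
        clear hz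
        induction hN using AddSubgroup.iSup_induction' with
        | hp i x hx =>
          obtain ⟨y, rfl⟩ := hx
          exact ⟨{i}, Function.update 0 i y, by simp⟩
        | h1 => exact ⟨∅, 0, by simp⟩
        | hadd a b _ _ ha hb =>
          obtain ⟨S, t, rfl⟩ := ha
          obtain ⟨S', t', rfl⟩ := hb
          refine ⟨S ∪ S', fun i => (if i ∈ S then t i else 0) + (if i ∈ S' then t' i else 0), ?_⟩
          simp only [map_add, Finset.sum_add_distrib]
          rw [← Finset.sum_subset (Finset.subset_union_left : S ⊆ S ∪ S') (fun i _ hi => by rw [if_neg hi, map_zero]),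
            ← Finset.sum_subset (Finset.subset_union_right : S' ⊆ S ∪ S') (fun i _ hi => by rw [if_neg hi, map_zero])]
          exact congrArg₂ (· + ·) (Finset.sum_congr rfl fun i hi => by rw [if_pos hi]) (Finset.sum_congr rfl fun i hi => by rw [if_pos hi])
      refine Finset.sum_eq_zero fun i hi => ?_
      have hc : ∀ j x, sigmaComparison G X (Sigma.ι (fun i => G.obj (X i)) j x) = G.map (Sigma.ι X j) x :=
        fun j x => ConcreteCategory.congr_hom (ι_comp_sigmaComparison G X j) x
      rw [map_sum] at hz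
      simp only [hc] at hz
      let π : ∐ X ⟶ X i := Sigma.desc fun j => if h : j = i then eqToHom (congrArg X h) else 0
      have h0 : ∀ j x, G.map π (G.map (Sigma.ι X j) x) = if h : j = i then h ▸ x else 0 := fun j x => by
        refine (ConcreteCategory.congr_hom (G.map_comp (Sigma.ι X j) π) x).symm.trans ?_
        simp only [π, Sigma.ι_desc]
        split_ifs with h
        · subst h; simp
        · simp
      have := congrArg (G.map π) hz
      rw [map_sum, map_zero] at this
      simp only [h0] at this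
      rw [Finset.sum_eq_single i (fun j _ hj => dif_neg hj) (fun h' => absurd hi h'), dif_pos rfl] at this
      rw [show t i = 0 from this, map_zero]
    · obtain ⟨S, t, rfl⟩ := hX z
      exact ⟨∑ i ∈ S, Sigma.ι (fun i => G.obj (X i)) i (t i), by
        rw [map_sum]
        exact Finset.sum_congr rfl fun j _ => ConcreteCategory.congr_hom (ι_comp_sigmaComparison G X j) _⟩
  exact PreservesCoproduct.of_iso_comparison G X

lemma preservesColimitsOfShape_discrete {A : Type*} [Category A] (G : A ⥤ AddCommGrpCat.{u}) (ι : Type u)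
    (h : ∀ X : ι → A, PreservesColimit (Discrete.functor X) G) : PreservesColimitsOfShape (Discrete ι) G :=
  ⟨fun {K} => have := h (K.obj ∘ Discrete.mk); preservesColimit_of_iso_diagram G Discrete.natIsoFunctor.symm⟩

end Groth.SitesTopoi.QcSum

namespace Groth.SitesTopoi.QcSum

open TopologicalSpace

/-- A compact open of a space is quasi-compact in the topos. -/
lemma isQcObject_of_isCompact {X : TopCat.{u}} {U : Opens X} (hU : IsCompact (U : Set X)) :
    CohCx.IsQcObject ((presheafToSheaf (Opens.grothendieckTopology X) (Type u)).obj (yoneda.obj U)) := by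
  classical
  intro I L f hf
  obtain ⟨S, hS, hS'⟩ := hf U (Topos.epsSec (𝟙 U))
  let ι := Σ V : Opens X, {g : V ⟶ U // S g}
  obtain ⟨T, hT⟩ := hU.elim_finite_subcover (fun k : ι => (k.1 : Set X)) (fun k => k.1.isOpen) (fun x hx => by
    obtain ⟨V, g, hg, hxV⟩ := hS x hx
    exact Set.mem_iUnion.2 ⟨⟨V, g, hg⟩, hxV⟩)
  choose i z hz using fun k : ι => hS' k.1 k.2.1 k.2.2
  refine ⟨T.image i, fun V s => ⟨Topos.coverSieve (fun j : T.image i => f j.1) s, ?_, fun W g hg => hg⟩⟩
  refine Topos.covers_eps_of_mem (π := fun j : T.image i => f j.1) (fun x hx => ?_) V s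
  obtain ⟨k, hk, hxk⟩ := Set.mem_iUnion₂.1 (hT hx)
  exact ⟨k.1, k.2.1, ⟨⟨i k, Finset.mem_image_of_mem i hk⟩, z k, hz k⟩, hxk⟩

end Groth.SitesTopoi.QcSum
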