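import Groth.Agent.CohFin.Acyclic
import Mathlib.Algebra.Homology.Refinements
import Mathlib.CategoryTheory.Abelian.RightDerived
import Mathlib.CategoryTheory.Abelian.Injective.Resolution

/-!
Right derived functors of an exact functor followed by a functor for which it sends injectives to acyclic objects.
-/

universe v v' v'' u u' u''

open CategoryTheory CategoryTheory.Limits

namespace Groth.SitesTopoi.AcyclicComp

open Groth.CohFin Groth.CohBase

variable {E : Type u} [Category.{v} E] [Abelian E] [EnoughInjectives E]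
  {D : Type u'} [Category.{v'} D] [Abelian D] (B : E ⥤ D) [B.Additive] [PreservesFiniteLimits B]

lemma rightAcyclic_of_isZero {X : E} (h : IsZero X) : RightAcyclic B X :=
  have : Injective X := h.injective
  rightAcyclic_of_injective B X

lemma rightAcyclic_third {S : ShortComplex E} (hS : S.ShortExact) (h₁ : RightAcyclic B S.X₁)
    (h₂ : RightAcyclic B S.X₂) : RightAcyclic B S.X₃ := fun j => by
  obtain ⟨e⟩ := nonempty_rightDerived_shift B j S hS h₂
  exact (h₁ (j + 1)).of_iso e.symm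

lemma epi_map_of_acyclic {S : ShortComplex E} (hS : S.ShortExact) (h₁ : RightAcyclic B S.X₁)
    (h₂ : RightAcyclic B S.X₂) : Epi (B.map S.g) := by
  obtain ⟨e⟩ := nonempty_rightDerived_one_iso (F := B) hS h₂
  exact Preadditive.epi_of_isZero_cokernel _ ((h₁ 0).of_iso e.symm)

variable (M : ℕ → E) (d : ∀ n, M n ⟶ M (n + 1)) (w : ∀ n, d n ≫ d (n + 1) = 0)
  (hM : ∀ n, RightAcyclic B (M n)) [Mono (d 0)] (hex : ∀ n, (ShortComplex.mk _ _ (w n)).Exact)

include w in
/-- The kernels as a short complex. -/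
noncomputable abbrev cycSeq (n : ℕ) : ShortComplex E :=
  ShortComplex.mk (kernel.ι (d n)) (kernel.lift (d (n + 1)) (d n) (w n))
    (by rw [← cancel_mono (kernel.ι (d (n + 1))), Category.assoc, kernel.lift_ι, zero_comp, kernel.condition])

omit [EnoughInjectives E] [Mono (d 0)] in
include hex in
lemma cycSeq_shortExact (n : ℕ) : (cycSeq M d w n).ShortExact := by
  have : Epi (kernel.lift (d (n + 1)) (d n) (w n)) := (hex n).epi_kernelLift
  refine ShortComplex.ShortExact.mk' ?_ (inferInstanceAs (Mono (kernel.ι (d n)))) this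
  rw [ShortComplex.exact_iff_exact_up_to_refinements]
  intro T z hz
  have hz' : z ≫ d n = 0 := by
    have := congrArg (· ≫ kernel.ι (d (n + 1))) hz
    simpa using this
  exact ⟨T, 𝟙 T, inferInstance, kernel.lift _ z hz', by simp⟩

include hM hex in
lemma rightAcyclic_cycles : ∀ n, RightAcyclic B (kernel (d n))
  | 0 => rightAcyclic_of_isZero B (isZero_kernel_of_mono _)
  | n + 1 => rightAcyclic_third B (cycSeq_shortExact M d w hex n) (rightAcyclic_cycles n) (hM n)

include hM hex in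
/-- The image of an exact complex of acyclic objects is exact. -/
lemma exists_preimage_map (n : ℕ) {T : D} (z : T ⟶ B.obj (M (n + 1))) (hz : z ≫ B.map (d (n + 1)) = 0) :
    ∃ (T' : D) (π : T' ⟶ T) (_ : Epi π) (a : T' ⟶ B.obj (M n)), π ≫ z = a ≫ B.map (d n) := by
  have : Epi (B.map (cycSeq M d w n).g) :=
    epi_map_of_acyclic B (cycSeq_shortExact M d w hex n) (rightAcyclic_cycles B M d w hM hex n) (hM n)
  let hk := KernelFork.mapIsLimit _ (kernelIsKernel (d (n + 1))) B
  obtain ⟨u, hu⟩ : ∃ u : T ⟶ B.obj (kernel (d (n + 1))), u ≫ B.map (kernel.ι (d (n + 1))) = z :=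
    ⟨hk.lift (KernelFork.ofι z hz), hk.fac _ WalkingParallelPair.zero⟩
  obtain ⟨T', π, hπ, a, ha⟩ := surjective_up_to_refinements_of_epi (B.map (cycSeq M d w n).g) u
  refine ⟨T', π, hπ, a, ?_⟩
  rw [← hu, ← Category.assoc, ha, Category.assoc, ← B.map_comp, kernel.lift_ι]

section Fiber

variable (K J : CochainComplex E ℕ) (ψ : K ⟶ J)

/-- The terms of the fibre. -/
noncomputable abbrev fibX : ℕ → E
  | 0 => K.X 0
  | n + 1 => K.X (n + 1) ⊞ J.X n

/-- The differentials of the fibre. -/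
noncomputable def fibd : ∀ n, fibX K J n ⟶ fibX K J (n + 1)
  | 0 => biprod.lift (-K.d 0 1) (ψ.f 0)
  | n + 1 => biprod.desc (biprod.lift (-K.d (n + 1) (n + 2)) (ψ.f (n + 1))) (biprod.lift 0 (J.d n (n + 1)))

omit [EnoughInjectives E] in
lemma fibd_fibd : ∀ n, fibd K J ψ n ≫ fibd K J ψ (n + 1) = 0
  | 0 => by
    refine biprod.hom_ext _ _ ?_ ?_ <;> simp [fibd, fibX, biprod.lift_desc]
  | n + 1 => by
    refine biprod.hom_ext' _ _ ?_ ?_ <;> refine biprod.hom_ext _ _ ?_ ?_ <;> simp [fibd, fibX, biprod.lift_desc]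

lemma rightAcyclic_fibX (hK : ∀ n, RightAcyclic B (K.X n)) (hJ : ∀ n, RightAcyclic B (J.X n)) :
    ∀ n, RightAcyclic B (fibX K J n)
  | 0 => hK 0
  | n + 1 => rightAcyclic_biprod B (hK (n + 1)) (hJ n)

variable {Y Y' : E} (ε : Y ⟶ K.X 0) (εJ : Y' ⟶ J.X 0) (g : Y ⟶ Y') [IsIso g] [Mono εJ]
  (hε : ε ≫ K.d 0 1 = 0) (hεJ : εJ ≫ J.d 0 1 = 0) (hg : ε ≫ ψ.f 0 = g ≫ εJ)
  (hK₀ : (ShortComplex.mk ε (K.d 0 1) hε).Exact) (hJ₀ : (ShortComplex.mk εJ (J.d 0 1) hεJ).Exact)
  (hK₁ : ∀ n, (ShortComplex.mk (K.d n (n + 1)) (K.d (n + 1) (n + 2)) (K.d_comp_d _ _ _)).Exact)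
  (hJ₁ : ∀ n, (ShortComplex.mk (J.d n (n + 1)) (J.d (n + 1) (n + 2)) (J.d_comp_d _ _ _)).Exact)

omit [EnoughInjectives E] in
include hg hK₀ in
lemma mono_fibd : Mono (fibd K J ψ 0) := by
  rw [Preadditive.mono_iff_cancel_zero]
  intro T z hz
  have h1 : z ≫ K.d 0 1 = 0 := by simpa [fibd, fibX] using congrArg (· ≫ biprod.fst) hz
  have h2 : z ≫ ψ.f 0 = 0 := by simpa [fibd, fibX] using congrArg (· ≫ biprod.snd) hz
  obtain ⟨T', π, hπ, y, hy⟩ := hK₀.exact_up_to_refinements z h1
  dsimp at hy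
  have h3 : (y ≫ g) ≫ εJ = 0 := by
    rw [Category.assoc, ← hg, ← Category.assoc, ← hy, Category.assoc, h2, comp_zero]
  have : y = 0 := (cancel_mono g).1 (((cancel_mono εJ).1 (by rw [h3, zero_comp])).trans zero_comp.symm)
  rw [← cancel_epi π, hy, this, zero_comp, comp_zero]

omit [EnoughInjectives E] [Mono εJ] in
include hε hg hJ₀ hK₁ hJ₁ in
lemma exact_fibd : ∀ n, (ShortComplex.mk _ _ (fibd_fibd K J ψ n)).Exact := by
  intro n
  rw [ShortComplex.exact_iff_exact_up_to_refinements]
  intro T z hz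
  dsimp at hz ⊢
  cases n with
  | zero =>
    obtain ⟨k, j, rfl⟩ : ∃ (k : T ⟶ K.X 1) (j : T ⟶ J.X 0), z = biprod.lift k j :=
      ⟨z ≫ biprod.fst, z ≫ biprod.snd, biprod.hom_ext _ _ (by simp) (by simp)⟩
    have h1 : k ≫ K.d 1 2 = 0 := by simpa [fibd, fibX] using congrArg (· ≫ biprod.fst) hz
    have h2 : k ≫ ψ.f 1 + j ≫ J.d 0 1 = 0 := by simpa [fibd, fibX] using congrArg (· ≫ biprod.snd) hz
    obtain ⟨T₁, π₁, hπ₁, k₀, hk₀⟩ := (hK₁ 0).exact_up_to_refinements k h1
    dsimp at hk₀
    obtain ⟨T₂, π₂, hπ₂, y, hy⟩ := hJ₀.exact_up_to_refinements (k₀ ≫ ψ.f 0 + π₁ ≫ j) (by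
      rw [Preadditive.add_comp, Category.assoc, ψ.comm, ← Category.assoc, ← hk₀, Category.assoc, Category.assoc,
        ← Preadditive.comp_add, h2, comp_zero])
    dsimp at hy
    refine ⟨T₂, π₂ ≫ π₁, inferInstance, -(π₂ ≫ k₀) + (y ≫ inv g) ≫ ε, ?_⟩
    refine biprod.hom_ext _ _ ?_ ?_
    · simp [fibd, fibX, hε, hk₀]
    · simp only [fibd, fibX, Category.assoc, biprod.lift_snd, Preadditive.add_comp, Preadditive.neg_comp, hg,
        IsIso.inv_hom_id_assoc, ← hy, Preadditive.comp_add]
      abel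
  | succ m =>
    obtain ⟨k, j, rfl⟩ : ∃ (k : T ⟶ K.X (m + 2)) (j : T ⟶ J.X (m + 1)), z = biprod.lift k j :=
      ⟨z ≫ biprod.fst, z ≫ biprod.snd, biprod.hom_ext _ _ (by simp) (by simp)⟩
    have h1 : k ≫ K.d (m + 2) (m + 3) = 0 := by simpa [fibd, fibX] using congrArg (· ≫ biprod.fst) hz
    have h2 : k ≫ ψ.f (m + 2) + j ≫ J.d (m + 1) (m + 2) = 0 := by
      simpa [fibd, fibX] using congrArg (· ≫ biprod.snd) hz
    obtain ⟨T₁, π₁, hπ₁, k', hk'⟩ := (hK₁ (m + 1)).exact_up_to_refinements k h1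
    dsimp at hk'
    obtain ⟨T₂, π₂, hπ₂, j', hj'⟩ := (hJ₁ m).exact_up_to_refinements (k' ≫ ψ.f (m + 1) + π₁ ≫ j) (by
      dsimp
      rw [Preadditive.add_comp, Category.assoc, ψ.comm, ← Category.assoc, ← hk', Category.assoc, Category.assoc,
        ← Preadditive.comp_add, h2, comp_zero])
    dsimp at hj'
    refine ⟨T₂, π₂ ≫ π₁, inferInstance, biprod.lift (-(π₂ ≫ k')) j', ?_⟩
    refine biprod.hom_ext _ _ ?_ ?_
    · simp [fibd, fibX, biprod.lift_desc, hk']
    · simp only [fibd, fibX, Category.assoc, biprod.lift_desc, biprod.lift_snd, Preadditive.add_comp, Preadditive.neg_comp,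
        ← hj', Preadditive.comp_add]
      abel

variable (hK : ∀ n, RightAcyclic B (K.X n)) (hJ : ∀ n, RightAcyclic B (J.X n))

include hg hK₀ hJ₀ hK₁ hJ₁ hK hJ in
/-- The image of a map of resolutions by acyclic objects is a quasi-isomorphism. -/
theorem isIso_homologyMap (n : ℕ) :
    IsIso (HomologicalComplex.homologyMap ((B.mapHomologicalComplex (ComplexShape.up ℕ)).map ψ) n) := by
  have := mono_fibd K J ψ ε εJ g hε hg hK₀
  have key := fun m {T : D} => exists_preimage_map B (fibX K J) (fibd K J ψ) (fibd_fibd K J ψ)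
    (rightAcyclic_fibX B K J hK hJ) (exact_fibd K J ψ ε εJ g hε hεJ hg hJ₀ hK₁ hJ₁) m (T := T)
  have solve : ∀ (m : ℕ) {T : D} (k : T ⟶ B.obj (K.X (m + 1))) (j : T ⟶ B.obj (J.X m)),
      k ≫ B.map (K.d (m + 1) (m + 2)) = 0 → k ≫ B.map (ψ.f (m + 1)) + j ≫ B.map (J.d m (m + 1)) = 0 →
      ∃ (T' : D) (π : T' ⟶ T) (_ : Epi π) (a : T' ⟶ B.obj (fibX K J m)),
        π ≫ k = a ≫ B.map (fibd K J ψ m ≫ biprod.fst) ∧ π ≫ j = a ≫ B.map (fibd K J ψ m ≫ biprod.snd) := by
    intro m T k j h1 h2
    obtain ⟨T', π, hπ, a, ha⟩ := key m (k ≫ B.map biprod.inl + j ≫ B.map biprod.inr) (by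
      change (k ≫ B.map biprod.inl + j ≫ B.map biprod.inr) ≫ B.map (biprod.desc _ _) = 0
      rw [Preadditive.add_comp, Category.assoc, Category.assoc, ← B.map_comp, ← B.map_comp, biprod.inl_desc,
        biprod.inr_desc, biprod.lift_eq, biprod.lift_eq]
      simp only [Functor.map_add, Functor.map_comp, Functor.map_neg, Preadditive.comp_add,
        Preadditive.neg_comp, Preadditive.comp_neg, zero_comp, zero_add]
      rw [reassoc_of% h1, zero_comp, neg_zero, zero_add, ← Category.assoc k, ← Category.assoc j,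
        ← Preadditive.add_comp, h2, zero_comp])
    refine ⟨T', π, hπ, a, ?_, ?_⟩
    · rw [B.map_comp, ← Category.assoc, ← ha]
      simp [← Functor.map_comp, fibX]
    · rw [B.map_comp, ← Category.assoc, ← ha]
      simp [← Functor.map_comp, fibX]
  have : Mono (HomologicalComplex.homologyMap ((B.mapHomologicalComplex (ComplexShape.up ℕ)).map ψ) n) := by
    cases n with
    | zero =>
      rw [HomologicalComplex.mono_homologyMap_iff_up_to_refinements _ 0 0 1 (by simp) (by simp)]
      intro T x₀ hx y hy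
      obtain ⟨x, rfl⟩ : ∃ x : T ⟶ B.obj (K.X 0), x = x₀ := ⟨x₀, rfl⟩
      have hx' : x ≫ B.map (K.d 0 1) = 0 := hx
      have hxψ : x ≫ B.map (ψ.f 0) = 0 :=
        hy.trans ((congrArg (y ≫ ·) (HomologicalComplex.shape _ 0 0 (by simp))).trans comp_zero)
      have hx1 : x ≫ B.map (fibd K J ψ 0) = 0 := by
        change x ≫ B.map (biprod.lift _ _) = 0
        rw [biprod.lift_eq, B.map_add, B.map_comp, B.map_comp, B.map_neg, Preadditive.comp_add, Preadditive.neg_comp,
          Preadditive.comp_neg, reassoc_of% hx', reassoc_of% hxψ, zero_comp, zero_comp, neg_zero, zero_add]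
      have : Mono (B.map (fibd K J ψ 0)) := inferInstance
      have hx0 : x = 0 := (cancel_mono (B.map (fibd K J ψ 0))).1 (hx1.trans zero_comp.symm)
      refine ⟨T, 𝟙 T, inferInstance, 0, ?_⟩
      exact ((congrArg (𝟙 T ≫ ·) hx0).trans comp_zero).trans zero_comp.symm
    | succ m =>
      rw [HomologicalComplex.mono_homologyMap_iff_up_to_refinements _ m (m + 1) (m + 2) (by simp) (by simp)]
      intro T x₀ hx y₀ hy
      obtain ⟨x, rfl⟩ : ∃ x : T ⟶ B.obj (K.X (m + 1)), x = x₀ := ⟨x₀, rfl⟩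
      obtain ⟨y, rfl⟩ : ∃ y : T ⟶ B.obj (J.X m), y = y₀ := ⟨y₀, rfl⟩
      change x ≫ B.map (ψ.f (m + 1)) = y ≫ B.map (J.d m (m + 1)) at hy
      obtain ⟨T', π, hπ, a, ha, -⟩ := solve m x (-y) hx (by rw [hy, Preadditive.neg_comp, add_neg_cancel])
      cases m with
      | zero =>
        refine ⟨T', π, hπ, -a, ?_⟩
        change π ≫ x = (-a) ≫ B.map (K.d 0 1)
        simpa [fibd] using ha
      | succ l =>
        refine ⟨T', π, hπ, -(a ≫ B.map biprod.fst), ha.trans ?_⟩
        have e : fibd K J ψ (l + 1) ≫ biprod.fst = biprod.fst ≫ (-K.d (l + 1) (l + 2)) := by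
          refine biprod.hom_ext' _ _ ?_ ?_ <;> simp [fibd]
        change a ≫ B.map (fibd K J ψ (l + 1) ≫ biprod.fst) = (-(a ≫ B.map biprod.fst)) ≫ B.map (K.d (l + 1) (l + 2))
        rw [e, B.map_comp, B.map_neg, Preadditive.comp_neg, Preadditive.comp_neg, Preadditive.neg_comp, Category.assoc]
  have : Epi (HomologicalComplex.homologyMap ((B.mapHomologicalComplex (ComplexShape.up ℕ)).map ψ) n) := by
    rw [HomologicalComplex.epi_homologyMap_iff_up_to_refinements _ ((ComplexShape.up ℕ).prev n) n (n + 1) rfl (by simp)]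
    intro T y₀ hy
    obtain ⟨y, rfl⟩ : ∃ y : T ⟶ B.obj (J.X n), y = y₀ := ⟨y₀, rfl⟩
    change y ≫ B.map (J.d n (n + 1)) = 0 at hy
    obtain ⟨T', π, hπ, a, ha, ha'⟩ := solve n 0 y zero_comp (by rw [hy, zero_comp, add_zero])
    cases n with
    | zero =>
      refine ⟨T', π, hπ, a, ?_, 0, ?_⟩
      · change a ≫ B.map (K.d 0 1) = 0
        simpa [fibd] using ha.symm
      · refine Eq.trans ?_ ((congrArg (a ≫ B.map (ψ.f 0) + ·) zero_comp).trans (add_zero _)).symm
        change π ≫ y = a ≫ B.map (ψ.f 0)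
        simpa [fibd] using ha'
    | succ m =>
      refine ⟨T', π, hπ, a ≫ B.map biprod.fst, ?_, ?_⟩
      · have e : fibd K J ψ (m + 1) ≫ biprod.fst = biprod.fst ≫ (-K.d (m + 1) (m + 2)) := by
          refine biprod.hom_ext' _ _ ?_ ?_ <;> simp [fibd]
        rw [e, comp_zero, B.map_comp, B.map_neg, Preadditive.comp_neg, Preadditive.comp_neg] at ha
        change (a ≫ B.map biprod.fst) ≫ B.map (K.d (m + 1) (m + 2)) = 0
        rw [Category.assoc]
        exact neg_eq_zero.1 ha.symm
      · have hp : (ComplexShape.up ℕ).prev (m + 1) = m := CochainComplex.prev_nat_succ m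
        rw [hp]
        refine ⟨a ≫ B.map biprod.snd, ha'.trans ?_⟩
        have e : fibd K J ψ (m + 1) ≫ biprod.snd = biprod.fst ≫ ψ.f (m + 1) + biprod.snd ≫ J.d m (m + 1) := by
          refine biprod.hom_ext' _ _ ?_ ?_ <;> simp [fibd]
        change a ≫ B.map (fibd K J ψ (m + 1) ≫ biprod.snd) =
          (a ≫ B.map biprod.fst) ≫ B.map (ψ.f (m + 1)) + (a ≫ B.map biprod.snd) ≫ B.map (J.d m (m + 1))
        rw [e, B.map_add, B.map_comp, B.map_comp, Preadditive.comp_add, Category.assoc, Category.assoc]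
  exact isIso_of_mono_of_epi _

end Fiber

section Desc

variable {K : CochainComplex E ℕ} {Y Y' : E} (ε : Y ⟶ K.X 0) (hε : ε ≫ K.d 0 1 = 0)
  (hK₀ : (ShortComplex.mk ε (K.d 0 1) hε).Exact)
  (hK₁ : ∀ n, (ShortComplex.mk (K.d n (n + 1)) (K.d (n + 1) (n + 2)) (K.d_comp_d _ _ _)).Exact)

omit [EnoughInjectives E] in
include hK₀ hK₁ in
/-- A morphism extends from a resolution to an injective resolution. -/
lemma exists_desc [Mono ε] (R : InjectiveResolution Y') (g : Y ⟶ Y') :
    ∃ ψ : K ⟶ R.cocomplex, ε ≫ ψ.f 0 = g ≫ resι R := by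
  let f₀ : K.X 0 ⟶ R.cocomplex.X 0 := Injective.factorThru (g ≫ resι R) ε
  have hf₀ : ε ≫ f₀ = g ≫ resι R := Injective.comp_factorThru _ _
  let f₁ : K.X 1 ⟶ R.cocomplex.X 1 := hK₀.descToInjective (f₀ ≫ R.cocomplex.d 0 1) (by
    dsimp; rw [← Category.assoc, hf₀, Category.assoc, resι_d, comp_zero])
  refine ⟨CochainComplex.mkHom _ _ f₀ f₁ (hK₀.comp_descToInjective _ _).symm (fun n q =>
    ⟨(hK₁ n).descToInjective (q.2.1 ≫ R.cocomplex.d (n + 1) (n + 2))
        (by dsimp; rw [← Category.assoc, ← q.2.2, Category.assoc, HomologicalComplex.d_comp_d, comp_zero]),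
      ((hK₁ n).comp_descToInjective _ _).symm⟩), ?_⟩
  simpa using hf₀

omit [EnoughInjectives E] in
include hK₀ hK₁ in
/-- Extensions to an injective resolution are unique up to homotopy. -/
lemma nonempty_homotopy (R : InjectiveResolution Y') (f g : K ⟶ R.cocomplex) (h : ε ≫ f.f 0 = ε ≫ g.f 0) :
    Nonempty (Homotopy f g) := by
  have hz : ε ≫ (f - g).f 0 = 0 := by simp [h]
  refine ⟨Homotopy.equivSubZero.invFun ?_⟩
  let h₀ : K.X 1 ⟶ R.cocomplex.X 0 := hK₀.descToInjective ((f - g).f 0) hz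
  have e₀ : K.d 0 1 ≫ h₀ = (f - g).f 0 := hK₀.comp_descToInjective _ _
  let h₁ : K.X 2 ⟶ R.cocomplex.X 1 := (hK₁ 0).descToInjective ((f - g).f 1 - h₀ ≫ R.cocomplex.d 0 1) (by
    dsimp only
    rw [Preadditive.comp_sub, ← Category.assoc, e₀, HomologicalComplex.Hom.comm, sub_self])
  have e₁ : K.d 1 2 ≫ h₁ = (f - g).f 1 - h₀ ≫ R.cocomplex.d 0 1 := (hK₁ 0).comp_descToInjective _ _
  refine Homotopy.mkCoinductive _ h₀ e₀.symm h₁ (by rw [e₁]; abel) (fun n q =>
    ⟨(hK₁ (n + 1)).descToInjective ((f - g).f (n + 2) - q.2.1 ≫ R.cocomplex.d _ _) ?_, ?_⟩)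
  · dsimp only
    rw [Preadditive.comp_sub, ← HomologicalComplex.Hom.comm, sub_eq_zero]
    refine (congrArg (· ≫ R.cocomplex.d (n + 1) (n + 1 + 1)) q.2.2).trans ?_
    rw [Preadditive.add_comp, Category.assoc, Category.assoc, HomologicalComplex.d_comp_d, comp_zero, zero_add]
  · rw [(hK₁ (n + 1)).comp_descToInjective]
    abel

end Desc

section Comp

variable {C : Type u''} [Category.{v''} C] [Abelian C] [HasInjectiveResolutions C]
  (A : C ⥤ E) [A.Additive] [PreservesFiniteLimits A] [PreservesFiniteColimits A]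
  (hA : ∀ I : C, Injective I → RightAcyclic B (A.obj I))

variable (X : C)

/-- The image of the augmentation. -/
noncomputable def εA : A.obj X ⟶ ((A.mapHomologicalComplex (ComplexShape.up ℕ)).obj (injectiveResolution X).cocomplex).X 0 :=
  A.map (resι (injectiveResolution X))

omit [EnoughInjectives E] [PreservesFiniteColimits A] in
lemma εA_w : εA A X ≫
    ((A.mapHomologicalComplex (ComplexShape.up ℕ)).obj (injectiveResolution X).cocomplex).d 0 1 = 0 :=
  map_resι_d A _

omit [EnoughInjectives E] [PreservesFiniteColimits A] in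
lemma mono_εA : Mono (εA A X) :=
  have : Mono (resι (injectiveResolution X)) := inferInstanceAs (Mono ((injectiveResolution X).ι.f 0))
  inferInstanceAs (Mono (A.map (resι (injectiveResolution X))))

omit [EnoughInjectives E] in
lemma exact_εA : (ShortComplex.mk _ _ (εA_w A X)).Exact := (resι_exact (injectiveResolution X)).map A

omit [EnoughInjectives E] in
lemma exact_map_d (n : ℕ) :
    (ShortComplex.mk _ _ (((A.mapHomologicalComplex (ComplexShape.up ℕ)).obj (injectiveResolution X).cocomplex).d_comp_d n (n + 1) (n + 2))).Exact :=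
  ((injectiveResolution X).exact_succ n).map A

/-- The comparison of resolutions. -/
noncomputable def cmpMap : (A.mapHomologicalComplex (ComplexShape.up ℕ)).obj (injectiveResolution X).cocomplex ⟶
    (injectiveResolution (A.obj X)).cocomplex :=
  haveI := mono_εA A X
  (exists_desc _ (εA_w A X) (exact_εA A X) (exact_map_d A X) (injectiveResolution (A.obj X)) (𝟙 _)).choose

lemma cmpMap_ε : εA A X ≫ (cmpMap A X).f 0 = resι (injectiveResolution (A.obj X)) :=
  haveI := mono_εA A X
  (exists_desc _ (εA_w A X) (exact_εA A X) (exact_map_d A X) (injectiveResolution (A.obj X)) (𝟙 _)).choose_spec.trans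
    (Category.id_comp _)

include hA in
lemma isIso_cmp (n : ℕ) :
    IsIso (HomologicalComplex.homologyMap ((B.mapHomologicalComplex (ComplexShape.up ℕ)).map (cmpMap A X)) n) := by
  have : Mono (resι (injectiveResolution (A.obj X))) :=
    inferInstanceAs (Mono ((injectiveResolution (A.obj X)).ι.f 0))
  exact isIso_homologyMap B _ _ (cmpMap A X) (εA A X)
    (resι (injectiveResolution (A.obj X))) (𝟙 _) (εA_w A X) (resι_d _)
    ((cmpMap_ε A X).trans (Category.id_comp _).symm) (exact_εA A X) (resι_exact _) (exact_map_d A X)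
    (fun m => (injectiveResolution (A.obj X)).exact_succ m) (fun m => hA _ ((injectiveResolution X).injective m))
    (fun m => rightAcyclic_of_injective B _) n

/-- The comparison of complexes. -/
noncomputable def cxIso (K : CochainComplex C ℕ) :
    ((A ⋙ B).mapHomologicalComplex (ComplexShape.up ℕ)).obj K ≅
      (B.mapHomologicalComplex _).obj ((A.mapHomologicalComplex _).obj K) :=
  HomologicalComplex.Hom.isoOfComponents (fun i => Iso.refl _)
    (fun i j _ => (Category.id_comp _).trans (Category.comp_id _).symm)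

include hA in
/-- `(A ⋙ B)ⁱ ≅ A ⋙ Bⁱ` when `A` sends injectives to acyclic objects. -/
theorem nonempty_rightDerived_comp (i : ℕ) : Nonempty ((A ⋙ B).rightDerived i ≅ A ⋙ B.rightDerived i) := by
  have := fun X => isIso_cmp B A hA X i
  refine ⟨NatIso.ofComponents (fun X => (injectiveResolution X).isoRightDerivedObj (A ⋙ B) i ≪≫
      (HomologicalComplex.homologyFunctor D _ i).mapIso (cxIso B A (injectiveResolution X).cocomplex) ≪≫
      @asIso _ _ _ _ (HomologicalComplex.homologyMap ((B.mapHomologicalComplex _).map (cmpMap A X)) i) (this X) ≪≫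
      ((injectiveResolution (A.obj X)).isoRightDerivedObj B i).symm) fun {X Y} f => ?_⟩
  let g := InjectiveResolution.desc f (injectiveResolution Y) (injectiveResolution X)
  let g' := InjectiveResolution.desc (A.map f) (injectiveResolution (A.obj Y)) (injectiveResolution (A.obj X))
  have hg : resι (injectiveResolution X) ≫ g.f 0 = f ≫ resι (injectiveResolution Y) :=
    InjectiveResolution.desc_commutes_zero f _ _
  have hg' : resι (injectiveResolution (A.obj X)) ≫ g'.f 0 = A.map f ≫ resι (injectiveResolution (A.obj Y)) :=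
    InjectiveResolution.desc_commutes_zero (A.map f) _ _
  obtain ⟨h⟩ := nonempty_homotopy (εA A X) (εA_w A X) (exact_εA A X) (exact_map_d A X)
    (injectiveResolution (A.obj Y)) ((A.mapHomologicalComplex _).map g ≫ cmpMap A Y) (cmpMap A X ≫ g') (by
      rw [HomologicalComplex.comp_f, HomologicalComplex.comp_f, ← Category.assoc, ← Category.assoc, cmpMap_ε, hg']
      refine Eq.trans ?_ ((Category.assoc _ _ _).trans (congrArg (A.map f ≫ ·) (cmpMap_ε A Y)))
      exact congrArg (· ≫ (cmpMap A Y).f 0) ((A.map_comp _ _).symm.trans ((congrArg A.map hg).trans (A.map_comp _ _))))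
  have key := (B.mapHomotopy h).homologyMap_eq i
  rw [Functor.map_comp, Functor.map_comp, HomologicalComplex.homologyMap_comp, HomologicalComplex.homologyMap_comp] at key
  have h1 := InjectiveResolution.isoRightDerivedObj_hom_naturality f (injectiveResolution X) (injectiveResolution Y) g hg (A ⋙ B) i
  have h2 := InjectiveResolution.isoRightDerivedObj_inv_naturality (A.map f) (injectiveResolution (A.obj X))
    (injectiveResolution (A.obj Y)) g' hg' B i
  have h3 : ((A ⋙ B).mapHomologicalComplex (ComplexShape.up ℕ)).map g ≫ (cxIso B A (injectiveResolution Y).cocomplex).hom =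
      (cxIso B A (injectiveResolution X).cocomplex).hom ≫
        (B.mapHomologicalComplex _).map ((A.mapHomologicalComplex _).map g) :=
    HomologicalComplex.hom_ext _ _ fun n => (Category.comp_id _).trans (Category.id_comp _).symm
  simp only [Iso.trans_hom, Functor.mapIso_hom, Iso.symm_hom, Category.assoc]
  rw [reassoc_of% h1]
  refine congrArg (((injectiveResolution X).isoRightDerivedObj (A ⋙ B) i).hom ≫ ·) ?_
  simp only [Functor.comp_map, HomologicalComplex.homologyFunctor_map] at h1 h2 ⊢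
  have e1 := (HomologicalComplex.homologyMap_comp (((A ⋙ B).mapHomologicalComplex (ComplexShape.up ℕ)).map g)
    (cxIso B A (injectiveResolution Y).cocomplex).hom i).symm.trans
      ((congrArg (fun φ => HomologicalComplex.homologyMap φ i) h3).trans (HomologicalComplex.homologyMap_comp _ _ i))
  refine (Category.assoc _ _ _).symm.trans ((congrArg (· ≫ _) e1).trans ((Category.assoc _ _ _).trans (congrArg (_ ≫ ·) ?_)))
  exact (Category.assoc _ _ _).symm.trans ((congrArg (· ≫ _) key).trans ((Category.assoc _ _ _).trans (congrArg (_ ≫ ·) h2.symm)))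

end Comp

end Groth.SitesTopoi.AcyclicComp
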