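import Groth.Agent.SitesTopoi.Mod.ExtZero
import Groth.Agent.SitesTopoi.Mod.Relations

/-!
The projection formula for extensions by zero.
-/

universe u

open CategoryTheory CategoryTheory.Limits Opposite MonoidalCategory
open scoped DirectSum

namespace Groth.SitesTopoi.ModH

variable {C : Type u} [SmallCategory C] {J : GrothendieckTopology C} {O : Sheaf J CommRingCat.{u}} {U : C}
  (P : PM (O.over U)) (N : PM O)

lemma pu_zero {G : PM (O.over U)} {W : Over U} {V : C} (k : V ⟶ W.left) : pu (0 : sc G W) k = 0 :=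
  map_zero (AddMonoidHom.mk' (fun x : sc G W => pu x k) fun a b => pu_add a b k)

/-- The pairing defining the projection map. -/
noncomputable def projBil : Bil P ((resP U).obj N) ((resP U).obj (pexObj P ⊗ N)) where
  fn W := LinearMap.mk₂ (rsec (O.over U) W)
    (fun x n => toRes (pexObj P ⊗ N : PM O) W (tm (pu x (𝟙 W.left)) (ofRes N W n)))
    (fun a b n => by rw [pu_add, tm_add_left, map_add])
    (fun r a n => by
      rw [show pu (r • a) (𝟙 W.left) = rsR (𝟙 W.left) r • pu a (𝟙 W.left) from pu_smul r a _, rsR_id, tm_smul_left]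
      rfl)
    (fun a b c => by rw [map_add, tm_add_right, map_add])
    (fun r a n => (congrArg (toRes (pexObj P ⊗ N : PM O) W)
      (tm_smul_right (O := O) (show rsec O W.left from r) (pu a (𝟙 W.left)) (ofRes N W n))).trans rfl)
  nat {W W'} g x n := by
    refine (rsm_resP (pexObj P ⊗ N : PM O) g _).trans (congrArg (toRes (pexObj P ⊗ N : PM O) W') ?_)
    exact (rsm_tm (M := pexObj P) (N := N) g.left _ _).trans (congrArg₂ tm ((rsm_pu x _ _).trans
      ((congrArg (fun k => pu x k) ((Category.comp_id _).trans (Category.id_comp _).symm)).trans (pu_rsm g x _).symm)) rfl)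

/-- The projection map on presheaves. -/
noncomputable def projHom : pexObj (P ⊗ (resP U).obj N : PM (O.over U)) ⟶ (pexObj P ⊗ N : PM O) :=
  pexHom _ _ (projBil P N).hom

lemma apm_projHom {W : Over U} {V : C} (x : sc P W) (n : sc N W.left) (k : V ⟶ W.left) :
    apm (projHom P N) V (pu (tm x (toRes N W n)) k) = tm (pu x k) (rsm N k n) := by
  rw [projHom, apm_pexHom, Bil.hom_tm]
  refine (rsm_tm (M := pexObj P) (N := N) k (pu x (𝟙 W.left)) n).trans ?_
  rw [rsm_pu, Category.comp_id]

/-- The inverse pairing on a component. -/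
noncomputable def projInvFn (V : C) :
    sc (pexObj P) V →ₗ[rsec O V] sc N V →ₗ[rsec O V] sc (pexObj (P ⊗ (resP U).obj N : PM (O.over U))) V :=
  letI := Classical.decEq (V ⟶ U)
  DirectSum.toModule (rsec O V) (V ⟶ U) _ fun a =>
    LinearMap.mk₂ (rsec O V) (fun (x : Cmp P a) n => pu (W := Over.mk a) (tm x (toRes N (Over.mk a) n)) (𝟙 V))
      (fun x y n => by rw [tm_add_left, pu_add])
      (fun r x n => (congrArg (fun z => pu (W := Over.mk a) z (𝟙 V)) (tm_smul_left (O := O.over U)
        (show rsec (O.over U) (Over.mk a) from r) (x : sc P (Over.mk a)) (toRes N (Over.mk a) n))).trans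
        ((pu_smul (W := Over.mk a) r _ (𝟙 V)).trans (congrArg (· • _) (rsR_id r))))
      (fun x y z => by rw [map_add, tm_add_right, pu_add])
      (fun r x n => (congrArg (fun z => pu (W := Over.mk a) z (𝟙 V)) ((congrArg (tm (x : sc P (Over.mk a)))
        (toRes_smul N (Over.mk a) r n)).trans (tm_smul_right (O := O.over U)
        (show rsec (O.over U) (Over.mk a) from r) (x : sc P (Over.mk a)) (toRes N (Over.mk a) n)))).trans
        ((pu_smul (W := Over.mk a) r _ (𝟙 V)).trans (congrArg (· • _) (rsR_id r))))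

lemma projInvFn_pu {W : Over U} {V : C} (x : sc P W) (k : V ⟶ W.left) (n : sc N V) :
    projInvFn P N V (pu x k) n =
      pu (W := Over.mk (k ≫ W.hom)) (tm (rsm P (Over.homMk k : Over.mk (k ≫ W.hom) ⟶ W) x) (toRes N (Over.mk (k ≫ W.hom)) n)) (𝟙 V) := by
  classical
  exact LinearMap.congr_fun (DirectSum.toModule_lof (rsec O V) (M := fun φ : V ⟶ U => Cmp P φ) (k ≫ W.hom) _) n

lemma projInvFn_pu_rsm {W : Over U} {V : C} (x : sc P W) (k : V ⟶ W.left) (n : sc N W.left) :
    projInvFn P N V (pu x k) (rsm N k n) = pu (tm x (toRes N W n)) k := by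
  rw [projInvFn_pu]
  let g : Over.mk (k ≫ W.hom) ⟶ W := Over.homMk k
  refine Eq.trans ?_ ((pu_rsm g (tm x (toRes N W n)) (𝟙 V)).trans (congrArg (pu _) (Category.id_comp k)))
  rw [rsm_tm]
  exact congrArg (fun z => pu (tm (rsm P g x) z) (𝟙 V)) (rsm_resP N g n).symm

/-- The inverse pairing. -/
noncomputable def projInvBil : Bil (pexObj P) N (pexObj (P ⊗ (resP U).obj N : PM (O.over U))) where
  fn := projInvFn P N
  nat {V V'} h y n := by
    induction y using pexSec_induction with
    | zero =>
      change rsm _ h (projInvFn P N V (0 : sc (pexObj P) V) n) = projInvFn P N V' (rsm (pexObj P) h (0 : sc (pexObj P) V)) _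
      simp
    | gen a x =>
      change rsm _ h (projInvFn P N V (pu (W := Over.mk a) x (𝟙 V)) n) =
        projInvFn P N V' (rsm (pexObj P) h (pu (W := Over.mk a) x (𝟙 V))) (rsm N h n)
      rw [rsm_pu, Category.comp_id]
      have e : projInvFn P N V (pu (W := Over.mk a) x (𝟙 V)) n = pu (W := Over.mk a) (tm x (toRes N (Over.mk a) n)) (𝟙 V) :=
        (congrArg (projInvFn P N V (pu (W := Over.mk a) x (𝟙 V))) (rsm_id N n).symm).trans
          (projInvFn_pu_rsm P N (W := Over.mk a) x (𝟙 V) n)
      rw [e, rsm_pu, Category.comp_id]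
      exact (projInvFn_pu_rsm P N (W := Over.mk a) x h n).symm
    | add y z hy hz =>
      refine ((congrArg (rsm _ h) ((congrArg (fun φ => φ n) (map_add (projInvFn P N V) y z)))).trans (map_add _ _ _)).trans ?_
      refine (congrArg₂ (· + ·) hy hz).trans ?_
      exact ((congrArg (fun φ => φ (rsm N h n)) ((congrArg (projInvFn P N V') (map_add (rsm (pexObj P) h) y z)).trans
        (map_add _ _ _)))).symm

/-- The projection formula on presheaves. -/
noncomputable def projIso : pexObj (P ⊗ (resP U).obj N : PM (O.over U)) ≅ (pexObj P ⊗ N : PM O) where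
  hom := projHom P N
  inv := (projInvBil P N).hom
  hom_inv_id := pexObj_hom_ext fun W z => by
    induction z using tens_induction with
    | zero => rw [pu_zero, map_zero, map_zero]
    | tmul x n =>
      rw [apm_comp, apm_id, show n = toRes N W (ofRes N W n) from rfl, apm_projHom, Bil.hom_tm]
      exact projInvFn_pu_rsm P N x (𝟙 W.left) (ofRes N W n)
    | add a b ha hb => rw [pu_add, map_add, map_add, ha, hb]
  inv_hom_id := tens_hom_ext fun V y n => by
    induction y using pexSec_induction with
    | zero => exact (congrArg _ (tm_zero_left n)).trans ((map_zero _).trans ((map_zero (apm (𝟙 (pexObj P ⊗ N : PM O)) V)).symm.trans (congrArg _ (tm_zero_left n).symm)))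
    | gen a x =>
      change apm (_ ≫ _) V (tm (pu (W := Over.mk a) x (𝟙 V)) n) = apm (𝟙 (pexObj P ⊗ N : PM O)) V (tm (pu (W := Over.mk a) x (𝟙 V)) n)
      rw [apm_comp, apm_id, Bil.hom_tm]
      have e : projInvFn P N V (pu (W := Over.mk a) x (𝟙 V)) n = pu (W := Over.mk a) (tm x (toRes N (Over.mk a) n)) (𝟙 V) :=
        (congrArg (projInvFn P N V (pu (W := Over.mk a) x (𝟙 V))) (rsm_id N n).symm).trans
          (projInvFn_pu_rsm P N (W := Over.mk a) x (𝟙 V) n)
      refine (congrArg (apm (projHom P N) V) e).trans ((apm_projHom P N x n (𝟙 V)).trans ?_)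
      exact congrArg (tm _) (rsm_id N n)
    | add a b ha hb =>
      let L : sc (pexObj P ⊗ N : PM O) V →ₗ[rsec O V] sc (pexObj P ⊗ N : PM O) V :=
        apm ((projInvBil P N).hom ≫ projHom P N) V
      exact (congrArg L (tm_add_left (M := pexObj P) (N := N) a b n)).trans ((map_add L _ _).trans
        ((congrArg₂ (· + ·) ha hb).trans (tm_add_left (M := pexObj P) (N := N) a b n).symm))

/-- The projection formula. -/
noncomputable def projectionIso (P : ModSite.Mod (O.over U)) (N : ModSite.Mod O) :
    (ModSite.extZero O U).obj (((ModSite.tensorBi (O.over U)).obj P).obj ((ModSite.restr O U).obj N)) ≅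
      ((ModSite.tensorBi O).obj ((ModSite.extZero O U).obj P)).obj N :=
  ((aPExtZeroIso U).app (P.val ⊗ (resP U).obj N.val : PM (O.over U))).symm ≪≫
    (aP O).mapIso (projIso P.val N.val) ≪≫
    @asIso _ _ _ _ ((aP O).map (MonoidalCategory.whiskerRight (C := PM O) (etaP (pexObj P.val)) N.val))
      (isIso_aP_map_whiskerRight _ _) ≪≫
    ((ModSite.tensorBi O).mapIso ((extZeroIso U).app P)).app N

end Groth.SitesTopoi.ModH
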