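import Groth.Agent.SitesTopoi.Mod.PullTensor

/-!
Naturality of the comparison between the inverse image and the tensor product.
-/

universe u

open CategoryTheory CategoryTheory.Limits Opposite MonoidalCategory

set_option backward.defeqAttrib.useBackward true
set_option backward.isDefEq.respectTransparency false

namespace Groth.SitesTopoi.PullTensor

open Groth.SitesTopoi.ModH

variable {C D : Type u} [SmallCategory C] [SmallCategory D] {J : GrothendieckTopology C}
  {K : GrothendieckTopology D} {O_C : Sheaf J CommRingCat.{u}} {O_D : Sheaf K CommRingCat.{u}}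
  (f : ModSite.RMor O_C O_D)

lemma adjP_homEquiv_tau {M N : ModSite.Mod O_D} {Q : ModSite.Mod O_D} (u : tMN M N ⟶ Q) (d : D) (x : sc M.val d)
    (y : sc N.val d) :
    apm ((adjP O_D).homEquiv (M.val ⊗ N.val : PM O_D) Q u) d (tm x y) = apm u.val d (tau M N x y) :=
  (congrArg (fun m => apm m d (tm x y)) ((adjP O_D).homEquiv_unit _ _ u)).trans rfl

lemma pull_map_theta {L L' : ModSite.Mod O_D} (φ : L ⟶ L') (d : D) (z : sc L.val d) :
    apm (f.pull.map φ).val (f.fn.obj d) (thetaD f L d z) = thetaD f L' d (apm φ.val d z) :=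
  (congrArg (fun m => apm (SheafOfModules.Hom.val m) d z) (f.adj.unit.naturality φ)).symm

lemma toTensor_naturality {M M' N N' : ModSite.Mod O_D} (φ : M ⟶ M') (ψ : N ⟶ N') :
    f.pull.map (((ModSite.tensorBi O_D).map φ).app N ≫ ((ModSite.tensorBi O_D).obj M').map ψ) ≫ toTensor f M' N' =
      toTensor f M N ≫ ((ModSite.tensorBi O_C).map (f.pull.map φ)).app (f.pull.obj N) ≫
        ((ModSite.tensorBi O_C).obj (f.pull.obj M')).map (f.pull.map ψ) := by
  refine (f.adj.homEquiv _ _).injective <| ((adjP O_D).homEquiv _ _).injective <| tens_hom_ext fun d x y => ?_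
  refine (adjP_homEquiv_tau _ d x y).trans (Eq.trans ?_ (adjP_homEquiv_tau _ d x y).symm)
  refine (sharp_unit_app f _ _ d _).trans (Eq.trans ?_ (sharp_unit_app f _ _ d _).symm)
  change apm (toTensor f M' N').val _ (apm (f.pull.map _).val _ (thetaD f (tMN M N) d (tau M N x y))) =
    apm (((ModSite.tensorBi O_C).obj (f.pull.obj M')).map (f.pull.map ψ)).val _
      (apm (((ModSite.tensorBi O_C).map (f.pull.map φ)).app (f.pull.obj N)).val _
        (apm (toTensor f M N).val _ (thetaD f (tMN M N) d (tau M N x y))))
  rw [pull_map_theta, toTensor_theta]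
  have h1 : apm (((ModSite.tensorBi O_D).map φ).app N ≫ ((ModSite.tensorBi O_D).obj M').map ψ).val d (tau M N x y) =
      tau M' N' (apm φ.val d x) (apm ψ.val d y) :=
    (congrArg (apm (((ModSite.tensorBi O_D).obj M').map ψ).val d)
      (etaP_naturality (MonoidalCategory.whiskerRight (C := PM O_D) φ.val N.val) d (tm x y))).trans
        (etaP_naturality (MonoidalCategory.whiskerLeft (C := PM O_D) M'.val ψ.val) d (tm (apm φ.val d x) y))
  refine (congrArg (fun z => apm (toTensor f M' N').val _ (thetaD f (tMN M' N') d z)) h1).trans ?_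
  refine (toTensor_theta f M' N' _ _).trans ?_
  refine Eq.trans ?_ (congrArg (apm (((ModSite.tensorBi O_C).obj (f.pull.obj M')).map (f.pull.map ψ)).val _)
    (etaP_naturality (MonoidalCategory.whiskerRight (C := PM O_C) (f.pull.map φ).val (f.pull.obj N).val) (f.fn.obj d)
      (tm (thetaD f M d x) (thetaD f N d y))).symm)
  refine Eq.trans ?_ (etaP_naturality (MonoidalCategory.whiskerLeft (C := PM O_C) (f.pull.obj M').val (f.pull.map ψ).val)
    (f.fn.obj d) (tm (apm (f.pull.map φ).val _ (thetaD f M d x)) (thetaD f N d y))).symm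
  exact (congrArg₂ (fun a b => apm (etaP ((f.pull.obj M').val ⊗ (f.pull.obj N').val : PM O_C)) (f.fn.obj d) (tm a b))
    (pull_map_theta f φ d x) (pull_map_theta f ψ d y)).symm

/-- The comparison as a natural isomorphism in the first variable. -/
noncomputable def pullTensorNatIso (N : ModSite.Mod O_D) :
    (ModSite.tensorBi O_D).flip.obj N ⋙ f.pull ≅ f.pull ⋙ (ModSite.tensorBi O_C).flip.obj (f.pull.obj N) :=
  NatIso.ofComponents (fun M => (pullTensorIso f M N).symm) fun {M M'} φ => by
    have h := toTensor_naturality f φ (𝟙 N)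
    simp only [CategoryTheory.Functor.map_id, Category.comp_id] at h
    exact h

/-- The comparison as a natural isomorphism in the second variable. -/
noncomputable def pullTensorNatIso₂ (M : ModSite.Mod O_D) :
    (ModSite.tensorBi O_D).obj M ⋙ f.pull ≅ f.pull ⋙ (ModSite.tensorBi O_C).obj (f.pull.obj M) :=
  NatIso.ofComponents (fun N => (pullTensorIso f M N).symm) fun {N N'} ψ => by
    have h := toTensor_naturality f (𝟙 M) ψ
    simp only [CategoryTheory.Functor.map_id, NatTrans.id_app, Category.id_comp] at h
    exact h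

/-- The adjunction isomorphism for internal homs. -/
noncomputable def pushSheafHomIso (N : ModSite.Mod O_D) [ModSite.HasSheafHom (f.pull.obj N)] [ModSite.HasSheafHom N] :
    ModSite.sheafHom (f.pull.obj N) ⋙ f.push ≅ f.push ⋙ ModSite.sheafHom N :=
  (f.adj.comp (ModSite.sheafHomAdj (f.pull.obj N))).rightAdjointUniq
    (((ModSite.sheafHomAdj N).comp f.adj).ofNatIsoLeft (pullTensorNatIso f N))

end Groth.SitesTopoi.PullTensor
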