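import Groth.Agent.SitesTopoi.Mod.PullGen
import Mathlib.Algebra.Category.ModuleCat.Sheaf.PullbackFree

/-!
The inverse image of the structure sheaf is the structure sheaf.
-/

universe u

open CategoryTheory CategoryTheory.Limits Opposite

namespace Groth.SitesTopoi.PullUnit

open Groth.SitesTopoi.ModH

variable {C D : Type u} [SmallCategory C] [SmallCategory D] {J : GrothendieckTopology C}
  {K : GrothendieckTopology D} {O_C : Sheaf J CommRingCat.{u}} {O_D : Sheaf K CommRingCat.{u}}
  (f : ModSite.RMor O_C O_D)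

lemma bijective_pushforwardSections (M : ModSite.Mod O_C) :
    Function.Bijective (SheafOfModules.pushforwardSections f.sharpR (M := M)) := by
  have hl : LocFiltered J K f.fn := locFiltered (J := J) (K := K) f.fn
  refine ⟨fun s t e => PresheafOfModules.sections_ext _ _ fun X => ?_, fun s => ?_⟩
  · obtain ⟨S, hS, h⟩ := hl.nonempty X.unop
    refine sec_extM M hS fun c g hg => ?_
    obtain ⟨d, ⟨α⟩⟩ := h g hg
    have hd : s.val (op (f.fn.obj d)) = t.val (op (f.fn.obj d)) := congrArg (fun z => z.val (op d)) e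
    exact ((s.property g.op).trans (s.property α.op).symm).trans
      ((congrArg (rsm M.val α) hd).trans ((t.property α.op).trans (t.property g.op).symm))
  · let σ : ∀ d : D, sc M.val (f.fn.obj d) := fun d => s.val (op d)
    have hσ : ∀ {d d' : D} (u : d' ⟶ d), rsm M.val (f.fn.map u) (σ d) = σ d' := fun u => s.property u.op
    have agree : ∀ {c : C} {d d' : D} (α : c ⟶ f.fn.obj d) (β : c ⟶ f.fn.obj d'),
        rsm M.val α (σ d) = rsm M.val β (σ d') := fun {c d d'} α β => by
      obtain ⟨S, hS, h⟩ := hl.pair c d d' α β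
      refine sec_extM M hS fun c' g hg => ?_
      obtain ⟨e, a, b, γ, ha, hb⟩ := h g hg
      rw [rsm_rsm, rsm_rsm, ← ha, ← hb, ← rsm_rsm, ← rsm_rsm, hσ, hσ]
    have key : ∀ c : C, ∃ z : sc M.val c, ∀ ⦃c' : C⦄ (g : c' ⟶ c) ⦃d : D⦄ (α : c' ⟶ f.fn.obj d),
        rsm M.val g z = rsm M.val α (σ d) := fun c => by
      obtain ⟨S, hS, h⟩ := hl.nonempty c
      choose d α using fun {c'} (g : c' ⟶ c) (hg : S g) => h g hg
      obtain ⟨z, hz⟩ := glueM M hS (fun c' g hg => rsm M.val (α g hg).some (σ (d g hg))) (fun c' c'' g hg k => by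
        rw [rsm_rsm]; exact agree _ _)
      refine ⟨z, fun c' g d' β => sec_extM M (J.pullback_stable g hS) fun c'' k hk => ?_⟩
      rw [rsm_rsm, rsm_rsm, hz _ hk]
      exact agree _ _
    choose τ hτ using key
    have huniq : ∀ {c c' : C} (g : c' ⟶ c), rsm M.val g (τ c) = τ c' := fun {c c'} g => by
      obtain ⟨S, hS, h⟩ := hl.nonempty c'
      refine sec_extM M hS fun c'' k hk => ?_
      obtain ⟨d, ⟨α⟩⟩ := h k hk
      rw [rsm_rsm, hτ c (k ≫ g) α, hτ c' k α]
    refine ⟨PresheafOfModules.sectionsMk (fun X => τ X.unop) (fun X Y g => huniq g.unop),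
      PresheafOfModules.sections_ext _ _ fun X => ?_⟩
    have h := hτ (f.fn.obj X.unop) (𝟙 _) (𝟙 (f.fn.obj X.unop))
    rw [rsm_id, rsm_id] at h
    exact h

theorem isIso_pullbackObjUnitToUnit : IsIso (SheafOfModules.pullbackObjUnitToUnit f.sharpR) := by
  rw [isIso_iff_coyoneda_map_bijective]
  intro M
  rw [← ((SheafOfModules.pullbackPushforwardAdjunction.{u} f.sharpR).homEquiv _ _).bijective.of_comp_iff',
    ← (SheafOfModules.unitHomEquiv _).bijective.of_comp_iff']
  convert! (bijective_pushforwardSections f M).comp (SheafOfModules.unitHomEquiv _).bijective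
  ext φ : 1
  dsimp
  rw [SheafOfModules.pushforwardSections_unitHomEquiv, EmbeddingLike.apply_eq_iff_eq,
    Adjunction.homEquiv_naturality_right,
    SheafOfModules.pullbackPushforwardAdjunction_homEquiv_pullbackObjUnitToUnit]

/-- The inverse image of the structure sheaf. -/
noncomputable def pullUnitIso : f.pull.obj (ModSite.unit O_D) ≅ ModSite.unit O_C :=
  @asIso _ _ _ _ (SheafOfModules.pullbackObjUnitToUnit f.sharpR) (isIso_pullbackObjUnitToUnit f)

end Groth.SitesTopoi.PullUnit
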