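import Groth.Agent.SitesTopoi.Mod.TensorAssoc
import Groth.Agent.SitesTopoi.Mod.PullTensorNat
import Groth.Agent.SitesTopoi.Mod.PullUnit

/-!
Unit and symmetry of the tensor product; invertible sheaves of modules on ringed sites.
-/

universe u

open CategoryTheory CategoryTheory.Limits MonoidalCategory

set_option backward.defeqAttrib.useBackward true
set_option backward.isDefEq.respectTransparency false

namespace Groth.SitesTopoi.Invertible

open Groth.SitesTopoi.ModH

variable {C : Type u} [SmallCategory C] {J : GrothendieckTopology C} {O : Sheaf J CommRingCat.{u}}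

/-- Symmetry of the tensor product. -/
noncomputable def symIso (M N : ModSite.Mod O) :
    ((ModSite.tensorBi O).obj M).obj N ≅ ((ModSite.tensorBi O).obj N).obj M :=
  (aP O).mapIso (β_ (show PM O from M.val) (show PM O from N.val))

/-- Symmetry, naturally. -/
noncomputable def symNatIso (M : ModSite.Mod O) :
    (ModSite.tensorBi O).obj M ≅ (ModSite.tensorBi O).flip.obj M :=
  NatIso.ofComponents (fun N => symIso M N) fun {N N'} φ => by
    change (aP O).map (MonoidalCategory.whiskerLeft (C := PM O) M.val φ.val) ≫ (aP O).map (β_ (show PM O from M.val) N'.val).hom =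
      (aP O).map (β_ (show PM O from M.val) N.val).hom ≫ (aP O).map (MonoidalCategory.whiskerRight (C := PM O) φ.val M.val)
    rw [← Functor.map_comp, ← Functor.map_comp]
    exact congrArg _ (BraidedCategory.braiding_naturality_right (C := PM O) _ _)

variable (O) in
/-- The structure sheaf is a unit for the tensor product. -/
noncomputable def unitTensorIso : (ModSite.tensorBi O).obj (ModSite.unit O) ≅ 𝟭 _ :=
  NatIso.ofComponents (fun M => (aP O).mapIso (leftUnitor (C := PM O) M.val) ≪≫ (asIso (adjP O).counit).app M)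
    fun {M N} φ => by
      change (aP O).map (MonoidalCategory.whiskerLeft (C := PM O) (𝟙_ (PM O)) φ.val) ≫ (aP O).map (λ_ _).hom ≫ (adjP O).counit.app N =
        ((aP O).map (λ_ _).hom ≫ (adjP O).counit.app M) ≫ φ
      rw [← Functor.map_comp_assoc, MonoidalCategory.leftUnitor_naturality, Functor.map_comp_assoc, Category.assoc]
      exact congrArg ((aP O).map _ ≫ ·) ((adjP O).counit.naturality φ)

/-- Tensoring twice. -/
noncomputable def tensorTensorIso (L N : ModSite.Mod O) :
    (ModSite.tensorBi O).obj (((ModSite.tensorBi O).obj L).obj N) ≅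
      (ModSite.tensorBi O).obj N ⋙ (ModSite.tensorBi O).obj L :=
  NatIso.ofComponents (fun M => TensorAssoc.assocApp L N M) fun φ => TensorAssoc.assocApp₃ L N φ

lemma isEquivalence_of_inverse {L L' : ModSite.Mod O} (e : ((ModSite.tensorBi O).obj L).obj L' ≅ ModSite.unit O) :
    ((ModSite.tensorBi O).obj L).IsEquivalence := by
  let e₁ : (ModSite.tensorBi O).obj L' ⋙ (ModSite.tensorBi O).obj L ≅ 𝟭 _ :=
    (tensorTensorIso L L').symm ≪≫ (ModSite.tensorBi O).mapIso e ≪≫ unitTensorIso O
  let e₂ : (ModSite.tensorBi O).obj L ⋙ (ModSite.tensorBi O).obj L' ≅ 𝟭 _ :=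
    (tensorTensorIso L' L).symm ≪≫ (ModSite.tensorBi O).mapIso (symIso L' L ≪≫ e) ≪≫ unitTensorIso O
  exact (CategoryTheory.Equivalence.mk ((ModSite.tensorBi O).obj L) ((ModSite.tensorBi O).obj L') e₂.symm e₁).isEquivalence_functor

lemma exists_inverse {L : ModSite.Mod O} (hL : ((ModSite.tensorBi O).obj L).IsEquivalence) :
    ∃ L', Nonempty (((ModSite.tensorBi O).obj L).obj L' ≅ ModSite.unit O) :=
  ⟨_, ⟨((ModSite.tensorBi O).obj L).objObjPreimageIso (ModSite.unit O)⟩⟩

variable {D : Type u} [SmallCategory D] {K : GrothendieckTopology D} {O_D : Sheaf K CommRingCat.{u}}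

lemma isEquivalence_pull (f : ModSite.RMor O O_D) {L : ModSite.Mod O_D}
    (hL : ((ModSite.tensorBi O_D).obj L).IsEquivalence) :
    ((ModSite.tensorBi O).obj (f.pull.obj L)).IsEquivalence := by
  obtain ⟨L', ⟨e⟩⟩ := exists_inverse hL
  exact isEquivalence_of_inverse (L' := f.pull.obj L')
    (PullTensor.pullTensorIso f L L' ≪≫ f.pull.mapIso e ≪≫ PullUnit.pullUnitIso f)

end Groth.SitesTopoi.Invertible

namespace Groth.SitesTopoi.Invertible

open Groth.SitesTopoi.ModH

variable {C : Type u} [SmallCategory C] {J : GrothendieckTopology C} {O : Sheaf J CommRingCat.{u}}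

lemma isEquivalence_flip {L : ModSite.Mod O} (hL : ((ModSite.tensorBi O).obj L).IsEquivalence) :
    ((ModSite.tensorBi O).flip.obj L).IsEquivalence :=
  Functor.isEquivalence_of_iso (symNatIso L)

lemma isEquivalence_tensor {L N : ModSite.Mod O} (hL : ((ModSite.tensorBi O).obj L).IsEquivalence)
    (hN : ((ModSite.tensorBi O).obj N).IsEquivalence) :
    ((ModSite.tensorBi O).obj (((ModSite.tensorBi O).obj L).obj N)).IsEquivalence :=
  Functor.isEquivalence_of_iso (tensorTensorIso L N).symm

lemma isIso_counit {L : ModSite.Mod O} (hL : ((ModSite.tensorBi O).obj L).IsEquivalence) [ModSite.HasSheafHom L]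
    (M : ModSite.Mod O) : IsIso ((ModSite.sheafHomAdj L).counit.app M) := by
  have := isEquivalence_flip hL
  have := (ModSite.sheafHomAdj L).isEquivalence_right_of_isEquivalence_left
  infer_instance

lemma isEquivalence_dual {L : ModSite.Mod O} (hL : ((ModSite.tensorBi O).obj L).IsEquivalence) [ModSite.HasSheafHom L] :
    ((ModSite.tensorBi O).obj ((ModSite.sheafHom L).obj (ModSite.unit O))).IsEquivalence := by
  have := isIso_counit hL (ModSite.unit O)
  exact isEquivalence_of_inverse (L' := L) (asIso ((ModSite.sheafHomAdj L).counit.app (ModSite.unit O)))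

end Groth.SitesTopoi.Invertible
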