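import Mathlib.Algebra.Homology.HomologicalComplexAbelian
import Mathlib.Algebra.Homology.ShortComplex.HomologicalComplex
import Mathlib.Algebra.Homology.ShortComplex.ExactFunctor
import Mathlib.CategoryTheory.Abelian.Refinements

/-!
Right exact functors and acyclic complexes, via the modules of cycles.
-/

open CategoryTheory CategoryTheory.Limits HomologicalComplex

namespace Groth.SitesTopoi.CycleExact

variable {A : Type*} [Category A] [Abelian A] {B : Type*} [Category B] [Abelian B]
  {ι : Type*} {c : ComplexShape ι} (K : HomologicalComplex A c)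

/-- The sequence of cycles at two consecutive places. -/
noncomputable abbrev cycSC (j k : ι) (hk : c.next j = k) : ShortComplex A :=
  ShortComplex.mk (K.iCycles j) (K.toCycles j k) (by
    subst hk
    rw [← cancel_mono (K.iCycles _), Category.assoc, toCycles_i, zero_comp, iCycles_d])

lemma epi_toCycles {i j : ι} (hij : c.prev j = i) (h : K.ExactAt j) : Epi (K.toCycles i j) := by
  subst hij
  exact ((K.sc j).exact_iff_epi_toCycles).1 h

lemma shortExact_cycSC (j k : ι) (hk : c.next j = k) (hj : c.prev k = j) (hex : K.ExactAt k) :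
    (cycSC K j k hk).ShortExact := by
  have h1 : Epi (K.toCycles j k) := epi_toCycles K hj hex
  refine { exact := ShortComplex.exact_of_f_is_kernel _ (KernelFork.IsLimit.ofι _ _
      (fun x hx => K.liftCycles x k hk ?_) (fun x hx => K.liftCycles_i x k hk _)
      fun x hx m hm => ?_), epi_g := h1 }
  · rw [← K.toCycles_i j k, reassoc_of% hx, zero_comp]
  · rw [← cancel_mono (K.iCycles j), hm, liftCycles_i]

variable (G : A ⥤ B) [G.Additive] [PreservesFiniteColimits G]

lemma exact_map_tail {i j : ι} (hij : c.prev j = i) (hj : K.ExactAt j) (k : ι) (hk : c.next j = k) (hjk : c.prev k = j)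
    (hex : K.ExactAt k) :
    ∃ w : G.map (K.d i j) ≫ G.map (K.toCycles j k) = 0,
      (ShortComplex.mk _ _ w).Exact ∧ Epi (G.map (K.toCycles j k)) := by
  have h1 : Epi (K.toCycles j k) := epi_toCycles K hjk hex
  have w : K.d i j ≫ K.toCycles j k = 0 := by
    rw [← cancel_mono (K.iCycles k), Category.assoc, toCycles_i, zero_comp, d_comp_d]
  have hS : (ShortComplex.mk (K.d i j) (K.toCycles j k) w).Exact := by
    rw [ShortComplex.exact_iff_exact_up_to_refinements]
    intro A' x hx
    dsimp at hx
    have := epi_toCycles K hij hj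
    obtain ⟨A'', π, _, y, hy⟩ := (epi_iff_surjective_up_to_refinements (K.toCycles i j)).1 this
      (K.liftCycles x k hk (by rw [← K.toCycles_i j k, reassoc_of% hx, zero_comp]))
    refine ⟨A'', π, inferInstance, y, ?_⟩
    have e := hy =≫ K.iCycles j
    simpa using e
  have hh := G.preservesFiniteColimits_tfae.out 3 1
  have h : ((ShortComplex.mk (K.d i j) (K.toCycles j k) w).map G).Exact ∧ Epi (G.map (K.toCycles j k)) :=
    hh.1 ‹PreservesFiniteColimits G› _ ⟨hS, h1⟩
  exact ⟨((ShortComplex.mk (K.d i j) (K.toCycles j k) w).map G).zero, h.1, h.2⟩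

/-- A right exact functor keeps an acyclic complex exact where it keeps the inclusion of cycles monic. -/
lemma exactAt_map {i j k : ι} (hij : c.prev j = i) (hk : c.next j = k) (hjk : c.prev k = j)
    (hj : K.ExactAt j) (hex : K.ExactAt k) [Mono (G.map (K.iCycles k))] :
    ((G.mapHomologicalComplex c).obj K).ExactAt j := by
  obtain ⟨w, hw, _⟩ := exact_map_tail K G hij hj k hk hjk hex
  rw [HomologicalComplex.exactAt_iff' _ i j k hij hk, ShortComplex.exact_iff_exact_up_to_refinements]
  intro A' (x : A' ⟶ G.obj (K.X j)) hx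
  change x ≫ G.map (K.d j k) = 0 at hx
  rw [← K.toCycles_i j k, G.map_comp, ← Category.assoc, ← zero_comp (f := G.map (K.iCycles k)), cancel_mono] at hx
  obtain ⟨A'', π, _, y, hy⟩ := hw.exact_up_to_refinements x hx
  exact ⟨A'', π, inferInstance, y, hy⟩

/-- If the image of an acyclic complex is exact, the image of an inclusion of cycles is a monomorphism. -/
lemma mono_map_iCycles {i j k : ι} (hij : c.prev j = i) (hk : c.next j = k) (hjk : c.prev k = j)
    (hj : K.ExactAt j) (hex : K.ExactAt k)
    (hG : ((G.mapHomologicalComplex c).obj K).ExactAt j) :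
    Mono (G.map (K.iCycles k)) := by
  obtain ⟨w, hw, _⟩ := exact_map_tail K G hij hj k hk hjk hex
  refine Preadditive.mono_of_cancel_zero _ fun {A'} x hx => ?_
  obtain ⟨A₁, π₁, _, y, hy⟩ := (epi_iff_surjective_up_to_refinements (G.map (K.toCycles j k))).1 inferInstance x
  rw [HomologicalComplex.exactAt_iff' _ i j k hij hk] at hG
  obtain ⟨A₂, π₂, _, (z : A₂ ⟶ G.obj (K.X i)), hz⟩ := hG.exact_up_to_refinements y (by
    change y ≫ G.map (K.d j k) = 0
    rw [← K.toCycles_i j k, G.map_comp, ← Category.assoc, ← hy, Category.assoc, hx, comp_zero])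
  change π₂ ≫ y = z ≫ G.map (K.d i j) at hz
  rw [← cancel_epi π₁, comp_zero, hy, ← cancel_epi π₂, comp_zero, ← Category.assoc, hz, Category.assoc, w, comp_zero]

end Groth.SitesTopoi.CycleExact
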