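import Groth.Agent.SitesTopoi.Mod.Flat

/-!
Colimits and tensor products of flat sheaves of modules.
-/

universe u

open CategoryTheory CategoryTheory.Limits Opposite MonoidalCategory

namespace Groth.SitesTopoi.ModH

variable {C : Type u} [SmallCategory C] {J : GrothendieckTopology C} {O : Sheaf J CommRingCat.{u}}

lemma isFlat_of_isColimit {K : Type u} [Category.{u} K] [HasExactColimitsOfShape K (ModSite.Mod O)]
    (D : K ⥤ ModSite.Mod O) (hD : ∀ k, ModSite.IsFlat (D.obj k)) (c : Cocone D) (hc : IsColimit c) :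
    ModSite.IsFlat c.pt := by
  refine isFlat_of_mono _ fun G H φ _ => ?_
  let t := Functor.whiskerLeft D ((ModSite.tensorBi O).map φ)
  have : ∀ k, Mono (t.app k) := fun k => mono_tensorFlip_map (hD k) φ
  have : Mono t := NatTrans.mono_of_mono_app t
  exact colim.map_mono' t
    (isColimitOfPreserves ((ModSite.tensorBi O).obj G) hc) (isColimitOfPreserves ((ModSite.tensorBi O).obj H) hc) _
    fun k => ((ModSite.tensorBi O).map φ).naturality _

lemma isFlat_tensorBi {G F : ModSite.Mod O} (hG : ModSite.IsFlat G) (hF : ModSite.IsFlat F) :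
    ModSite.IsFlat (((ModSite.tensorBi O).obj G).obj F) := by
  refine isFlat_of_mono _ fun X Y φ _ => ?_
  have := mono_tensorFlip_map hG φ
  have h : Mono ((aP O).map (MonoidalCategory.whiskerRight (C := PM O)
      (((ModSite.tensorBi O).map φ).app G).val F.val)) :=
    mono_tensorFlip_map hF (((ModSite.tensorBi O).map φ).app G)
  let k : (X.val ⊗ G.val : PM O) ⟶ (Y.val ⊗ G.val : PM O) := MonoidalCategory.whiskerRight (C := PM O) φ.val G.val
  have := isIso_aP_map_whiskerRight (etaP (X.val ⊗ G.val : PM O)) F.val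
  have := isIso_aP_map_whiskerRight (etaP (Y.val ⊗ G.val : PM O)) F.val
  have h' : Mono ((aP O).map (k ▷ F.val)) := by
    refine (mono_aP_map_transfer (etaP (X.val ⊗ G.val : PM O) ▷ F.val) (etaP (Y.val ⊗ G.val : PM O) ▷ F.val) ?_).2 h
    refine (comp_whiskerRight (C := PM O) _ _ _).symm.trans (Eq.trans ?_ (comp_whiskerRight (C := PM O) _ _ _))
    exact congrArg (fun ψ => MonoidalCategory.whiskerRight (C := PM O) ψ F.val) ((adjP O).unit.naturality k)
  have h'' : Mono ((aP O).map (MonoidalCategory.whiskerRight (C := PM O) φ.val (G.val ⊗ F.val : PM O))) :=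
    (mono_aP_map_transfer (MonoidalCategoryStruct.associator (C := PM O) X.val G.val F.val).hom (MonoidalCategoryStruct.associator (C := PM O) Y.val G.val F.val).hom
      (MonoidalCategory.associator_naturality_left (C := PM O) φ.val G.val F.val)).1 h'
  have := isIso_aP_map_whiskerLeft X.val (etaP (G.val ⊗ F.val : PM O))
  have := isIso_aP_map_whiskerLeft Y.val (etaP (G.val ⊗ F.val : PM O))
  exact (mono_aP_map_transfer (MonoidalCategory.whiskerLeft (C := PM O) X.val (etaP (G.val ⊗ F.val : PM O)))
    (MonoidalCategory.whiskerLeft (C := PM O) Y.val (etaP (G.val ⊗ F.val : PM O)))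
    (MonoidalCategory.whisker_exchange (C := PM O) φ.val (etaP (G.val ⊗ F.val : PM O))).symm).1 h''

end Groth.SitesTopoi.ModH
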