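import Groth.Agent.Misc4.FreeCover
import Groth.Agent.DerivedCoh.KFlat.Pointwise
import Groth.Agent.DerivedCoh.KFlat.Factor
import Groth.Agent.DerivedCoh.KInj.Small
import Groth.Agent.SitesTopoi.Mod.CycleExact
import Groth.Agent.SitesTopoi.Mod.FlatColimit
import Groth.Agent.SitesTopoi.Mod.ExtZeroFlat
import Groth.Prelude.Def_KFlatSite

/-!
K-flat complexes on a ringed site.
-/

universe u

open CategoryTheory CategoryTheory.Limits HomologicalComplex

set_option backward.defeqAttrib.useBackward true
set_option backward.isDefEq.respectTransparency false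
set_option synthInstance.maxHeartbeats 400000

namespace Groth.SitesTopoi.KFlatSite

open Groth.SitesTopoi.ModH Groth.DerivedCoh

variable {C : Type u} [SmallCategory C] {J : GrothendieckTopology C} (O : Sheaf J CommRingCat.{u})

local notation "up" => ComplexShape.up ℤ

instance hasColimitsOfShape_type0 (K : Type) [SmallCategory K] : HasColimitsOfShape K (ModSite.Mod O) :=
  HasColimitsOfSize.has_colimits_of_shape K

instance hasExactColimitsOfShape_nat : HasExactColimitsOfShape ℕ (ModSite.Mod O) :=
  Groth.DerivedCoh.KInjSmall.hasExactColimitsOfShape_nat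

/-- The tensor product bifunctor. -/
noncomputable abbrev T : ModSite.Mod O ⥤ ModSite.Mod O ⥤ ModSite.Mod O := ModSite.tensorBi O

instance preservesColimitsOfShape_T (K : Type) [SmallCategory K] (F : ModSite.Mod O) :
    PreservesColimitsOfShape K ((T O).obj F) :=
  have : PreservesColimitsOfSize.{0, 0} ((T O).obj F) := preservesColimitsOfSize_shrink.{0, u, 0, u} _
  inferInstance

instance preservesColimitsOfShape_T_flip (K : Type) [SmallCategory K] (F : ModSite.Mod O) :
    PreservesColimitsOfShape K ((T O).flip.obj F) :=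
  have : PreservesColimitsOfSize.{0, 0} ((T O).flip.obj F) := preservesColimitsOfSize_shrink.{0, u, 0, u} _
  inferInstance

instance additive_T_flip (F : ModSite.Mod O) : ((T O).flip.obj F).Additive :=
  Groth.DerivedCoh.KFlat.flipObjAdditive (ModSite.tensorBi O) F

variable {O}

lemma flat_of_isFlat {N : ModSite.Mod O} (h : ModSite.IsFlat N) : KFlat.Flat (T O) N := fun S hS => by
  have := h.1
  have := h.2
  exact hS.map_of_exact ((T O).flip.obj N)

lemma flat_flip_of_isFlat {N : ModSite.Mod O} (h : ModSite.IsFlat N) : KFlat.Flat (T O).flip N := fun S hS => by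
  have := isFlat_tensorObj h
  exact hS.map_of_exact ((T O).obj N)

lemma isKFlat_iff (E : CochainComplex (ModSite.Mod O) ℤ) : ModSite.IsKFlat E ↔ KFlat.IsKFlat (T O) E := by
  constructor
  · exact fun h L hL i => (HomologicalComplex.exactAt_iff_isZero_homology _ _).2
      (h L (fun j => (hL j).isZero_homology) i)
  · exact fun h L hL i => (h L (fun j => (HomologicalComplex.exactAt_iff_isZero_homology _ _).2 (hL j)) i).isZero_homology

lemma isFlat_of_isColimit' {K : Type*} [Category K] [HasColimitsOfShape K (ModSite.Mod O)] [HasExactColimitsOfShape K (ModSite.Mod O)]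
    [∀ G : ModSite.Mod O, PreservesColimitsOfShape K ((T O).obj G)]
    (D : K ⥤ ModSite.Mod O) (hD : ∀ k, ModSite.IsFlat (D.obj k)) (c : Cocone D) (hc : IsColimit c) :
    ModSite.IsFlat c.pt := by
  refine isFlat_of_mono _ fun G H φ _ => ?_
  let t := Functor.whiskerLeft D ((ModSite.tensorBi O).map φ)
  have : ∀ k, Mono (t.app k) := fun k => mono_tensorFlip_map (hD k) φ
  have : Mono t := NatTrans.mono_of_mono_app t
  exact colim.map_mono' t
    (isColimitOfPreserves ((ModSite.tensorBi O).obj G) hc) (isColimitOfPreserves ((ModSite.tensorBi O).obj H) hc) _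
    fun k => ((ModSite.tensorBi O).map φ).naturality _

lemma isFlat_sigma {ι : Type u} (N : ι → ModSite.Mod O) (h : ∀ i, ModSite.IsFlat (N i)) : ModSite.IsFlat (∐ N) :=
  isFlat_of_isColimit (Discrete.functor N) (fun k => h k.as) _ (colimit.isColimit _)

lemma isFlat_sigma₀ (ι : Type) (N : ι → ModSite.Mod O) (h : ∀ i, ModSite.IsFlat (N i)) : ModSite.IsFlat (∐ N) :=
  isFlat_of_isColimit' (Discrete.functor N) (fun k => h k.as) _ (colimit.isColimit _)

lemma isFlat_of_isZero {M : ModSite.Mod O} (h : IsZero M) : ModSite.IsFlat M :=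
  isFlat_of_mono _ fun G _ _ _ => (((T O).obj G).map_isZero h).mono _

lemma isFlat_biprod {M N : ModSite.Mod O} (hM : ModSite.IsFlat M) (hN : ModSite.IsFlat N) : ModSite.IsFlat (M ⊞ N) :=
  isFlat_mid (S := ShortComplex.mk biprod.inl biprod.snd biprod.inl_snd)
    (ShortComplex.Splitting.mk (S := ShortComplex.mk biprod.inl biprod.snd biprod.inl_snd) biprod.fst biprod.inr
      biprod.inl_fst biprod.inr_snd biprod.total).shortExact hM hN

variable (O) in
/-- The functorial resolution by sums of free modules. -/
noncomputable def resolution : CochainComplex (ModSite.Mod O) ℤ ⥤ CochainComplex (ModSite.Mod O) ℤ :=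
  (Groth.Misc4.FreeCover.cover O).resol

variable (O) in
/-- Its augmentation. -/
noncomputable def resolutionAug : resolution O ⟶ 𝟭 _ := (Groth.Misc4.FreeCover.cover O).resolAug

lemma resolution_quasiIso (K : CochainComplex (ModSite.Mod O) ℤ) : QuasiIso ((resolutionAug O).app K) :=
  ((Groth.Misc4.FreeCover.cover O).resolAug_spec K).1

lemma resolution_epi (K : CochainComplex (ModSite.Mod O) ℤ) : Epi ((resolutionAug O).app K) :=
  ((Groth.Misc4.FreeCover.cover O).resolAug_spec K).2

lemma resolution_epi_f (K : CochainComplex (ModSite.Mod O) ℤ) (n : ℤ) : Epi (((resolutionAug O).app K).f n) :=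
  have := resolution_epi K
  inferInstanceAs (Epi ((HomologicalComplex.eval _ _ n).map ((resolutionAug O).app K)))

lemma isFlat_coverObj (M : ModSite.Mod O) : ModSite.IsFlat ((Groth.Misc4.FreeCover.cover O).P.obj M) :=
  isFlat_sigma _ fun _ => isFlat_freeOn O _

lemma resolution_isFlat (K : CochainComplex (ModSite.Mod O) ℤ) (n : ℤ) :
    ModSite.IsFlat (((resolution O).obj K).X n) :=
  (Groth.Misc4.FreeCover.cover O).resol_X_prop ModSite.IsFlat isFlat_coverObj (fun _ => isFlat_of_isZero)
    (fun e h => isFlat_of_iso e h) isFlat_sigma₀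
    (fun G h => isFlat_of_isColimit' G h _ (colimit.isColimit G)) K n

/-- The resolution is K-flat for every bifunctor making flat modules flat. -/
lemma resolution_isKFlat' {A : Type (u + 1)} [Category.{u} A] [Abelian A]
    {D : Type (u + 1)} [Category.{u} D] [Abelian D] [∀ K : Type, HasColimitsOfShape (Discrete K) D]
    [∀ K : Type, HasExactColimitsOfShape (Discrete K) D] [HasColimitsOfShape ℕ D] [HasExactColimitsOfShape ℕ D]
    (F : A ⥤ ModSite.Mod O ⥤ D) [F.Additive] [∀ X, (F.obj X).Additive] [∀ Y, PreservesColimitsOfShape ℕ (F.obj Y)]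
    (hF : ∀ N, ModSite.IsFlat N → KFlat.Flat F N) (K : CochainComplex (ModSite.Mod O) ℤ) :
    KFlat.IsKFlat F ((resolution O).obj K) :=
  (Groth.Misc4.FreeCover.cover O).isKFlat_resol F ModSite.IsFlat hF isFlat_coverObj (fun _ => isFlat_of_isZero)
    (fun e h => isFlat_of_iso e h) isFlat_sigma₀ K

lemma resolution_isKFlat (K : CochainComplex (ModSite.Mod O) ℤ) : KFlat.IsKFlat (T O) ((resolution O).obj K) :=
  resolution_isKFlat' (T O) (fun _ => flat_of_isFlat) K

lemma resolution_isKFlat_flip (K : CochainComplex (ModSite.Mod O) ℤ) :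
    KFlat.IsKFlat (T O).flip ((resolution O).obj K) :=
  resolution_isKFlat' (T O).flip (fun _ => flat_flip_of_isFlat) K

/-- Tensoring a complex with an acyclic K-flat complex gives an acyclic complex. -/
lemma acyclic_tot_of_acyclic_kFlat (K : CochainComplex (ModSite.Mod O) ℤ) (hK : KFlat.IsKFlat (T O) K)
    (hac : K.Acyclic) (L : CochainComplex (ModSite.Mod O) ℤ) : (KFlat.tot (T O) L K).Acyclic := by
  have := resolution_quasiIso L
  have h := hK.quasiIso_totL ((resolutionAug O).app L)
  intro i
  have h2 : (KFlat.tot (T O) ((resolution O).obj L) K).ExactAt i :=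
    (KFlat.isKFlat_flip_iff (T O) _).1 (resolution_isKFlat_flip L) K hac i
  have h3 : QuasiIsoAt ((KFlat.totL (T O) K).map ((resolutionAug O).app L)) i := h.quasiIsoAt i
  exact (quasiIsoAt_iff_exactAt ((KFlat.totL (T O) K).map ((resolutionAug O).app L)) i h2).1 h3

/-- An acyclic K-flat complex stays acyclic after tensoring with a module. -/
lemma acyclic_tensor (K : CochainComplex (ModSite.Mod O) ℤ) (hK : KFlat.IsKFlat (T O) K) (hac : K.Acyclic)
    (M : ModSite.Mod O) : ((((T O).obj M).mapHomologicalComplex up).obj K).Acyclic := fun i =>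
  (acyclic_tot_of_acyclic_kFlat K hK hac ((single _ up 0).obj M) i).of_iso (KFlat.totSingleIso (T O) M K)

/-- The cycles of an acyclic K-flat complex of flat modules are flat. -/
lemma isFlat_cycles (K : CochainComplex (ModSite.Mod O) ℤ) (hK : KFlat.IsKFlat (T O) K) (hac : K.Acyclic)
    (hfl : ∀ i, ModSite.IsFlat (K.X i)) (n : ℤ) : ModSite.IsFlat (K.cycles n) := by
  refine isFlat_of_mono _ fun G H φ _ => ?_
  have : Mono (((T O).obj G).map (K.iCycles n)) :=
    CycleExact.mono_map_iCycles K ((T O).obj G) (i := n - 2) (j := n - 1) (k := n)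
      (by rw [CochainComplex.prev]; omega) (by rw [CochainComplex.next]; omega) (by rw [CochainComplex.prev])
      (hac _) (hac _) (acyclic_tensor K hK hac G _)
  have := mono_tensorFlip_map (hfl n) φ
  have : Mono (((T O).map φ).app (K.cycles n) ≫ ((T O).obj H).map (K.iCycles n)) := by
    rw [← ((T O).map φ).naturality]
    infer_instance
  exact mono_of_mono _ (((T O).obj H).map (K.iCycles n))

/-- Tensoring a short exact sequence with flat quotient with a module gives a short exact sequence. -/
lemma shortExact_tensor {S : ShortComplex (ModSite.Mod O)} (hS : S.ShortExact) (h3 : ModSite.IsFlat S.X₃)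
    (Y : ModSite.Mod O) : (S.map ((T O).obj Y)).ShortExact := by
  obtain ⟨w, he, hp⟩ := Balanced.exact_and_epi' (T O) Y hS
  have := mono_tensor_of_flat hS h3 Y
  exact { exact := he, mono_f := mono_tensor_map_of_flip S.f, epi_g := hp }

end Groth.SitesTopoi.KFlatSite
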