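import Groth.Agent.SitesTopoi.Topos.InverseImage
import Groth.Prelude.Def_ModSite

/-!
A functor between sites with exact inverse image is locally cofiltered.
-/

universe u

open CategoryTheory CategoryTheory.Limits Opposite

namespace Groth.SitesTopoi.ModH

open Groth.SitesTopoi.Topos

variable {C D : Type u} [SmallCategory C] [SmallCategory D]

/-- Comma categories of `G` are locally cofiltered and `G` respects coverings locally. -/
structure LocFiltered (J : GrothendieckTopology C) (K : GrothendieckTopology D) (G : D ⥤ C) : Prop where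
  nonempty : ∀ c : C, ∃ S ∈ J c, ∀ ⦃c' : C⦄ (h : c' ⟶ c), S h → ∃ d : D, Nonempty (c' ⟶ G.obj d)
  pair : ∀ (c : C) (d₁ d₂ : D) (α₁ : c ⟶ G.obj d₁) (α₂ : c ⟶ G.obj d₂),
    ∃ S ∈ J c, ∀ ⦃c' : C⦄ (h : c' ⟶ c), S h → ∃ (d : D) (u₁ : d ⟶ d₁) (u₂ : d ⟶ d₂) (β : c' ⟶ G.obj d),
      β ≫ G.map u₁ = h ≫ α₁ ∧ β ≫ G.map u₂ = h ≫ α₂
  equalize : ∀ (c : C) (d₁ d₂ : D) (u v : d₁ ⟶ d₂) (α : c ⟶ G.obj d₁), α ≫ G.map u = α ≫ G.map v →
    ∃ S ∈ J c, ∀ ⦃c' : C⦄ (h : c' ⟶ c), S h → ∃ (d : D) (w : d ⟶ d₁) (β : c' ⟶ G.obj d),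
      w ≫ u = w ≫ v ∧ β ≫ G.map w = h ≫ α
  cover : ∀ (d : D), ∀ T ∈ K d, ∀ (c : C) (α : c ⟶ G.obj d),
    ∃ S ∈ J c, ∀ ⦃c' : C⦄ (h : c' ⟶ c), S h → ∃ (d' : D) (g : d' ⟶ d) (β : c' ⟶ G.obj d'),
      T g ∧ β ≫ G.map g = h ≫ α

variable {J : GrothendieckTopology C} {K : GrothendieckTopology D} (G : D ⥤ C) [G.IsContinuous K J]

/-- The inverse image of sheaves of sets. -/
noncomputable abbrev pullT : Tp K ⥤ Tp J := G.sheafPullback (Type u) K J

/-- The adjunction of inverse and direct image. -/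
noncomputable abbrev pullTAdj : pullT (J := J) (K := K) G ⊣ G.sheafPushforwardContinuous (Type u) K J :=
  G.sheafAdjunctionContinuous (Type u) K J

/-- The tautological section of the inverse image of a representable sheaf. -/
noncomputable def tautSec (d : D) : ((pullT (J := J) (K := K) G).obj (epsObj d)).obj.obj (op (G.obj d)) :=
  ap ((pullTAdj G).unit.app (epsObj (J := K) d)) (epsSec (𝟙 d))

lemma ap_tautSec {d : D} {X : Tp J} (φ : (pullT (K := K) G).obj (epsObj d) ⟶ X) :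
    ap φ (tautSec G d) = ap ((pullTAdj G).homEquiv _ _ φ) (epsSec (𝟙 d)) := rfl

lemma ap_map_tautSec {d : D} {X : Tp K} (φ : epsObj d ⟶ X) :
    ap ((pullT (J := J) G).map φ) (tautSec G d) = ap ((pullTAdj G).unit.app X) (ap φ (epsSec (𝟙 d))) :=
  (congrArg (fun m => ap m (epsSec (𝟙 d))) ((pullTAdj (J := J) G).unit.naturality φ)).symm

/-- The comparison from the inverse image of a representable. -/
noncomputable def pullEpsTo (d : D) : (pullT (J := J) (K := K) G).obj (epsObj d) ⟶ epsObj (G.obj d) :=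
  ((pullTAdj G).homEquiv _ _).symm
    (epsLift (X := (G.sheafPushforwardContinuous (Type u) K J).obj (epsObj (G.obj d))) (U := d)
      (epsSec (J := J) (𝟙 (G.obj d))))

/-- The comparison to the inverse image of a representable. -/
noncomputable def pullEpsFrom (d : D) : epsObj (G.obj d) ⟶ (pullT (J := J) (K := K) G).obj (epsObj d) :=
  epsLift (tautSec G d)

lemma ap_pullEpsFrom_id (d : D) :
    ap (pullEpsFrom (J := J) (K := K) G d) (epsSec (𝟙 (G.obj d))) = tautSec G d := by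
  rw [pullEpsFrom, ap_epsLift, rs_id]

lemma ap_pullEpsTo_taut (d : D) : ap (pullEpsTo (J := J) (K := K) G d) (tautSec G d) = epsSec (𝟙 (G.obj d)) := by
  rw [ap_tautSec, pullEpsTo, Equiv.apply_symm_apply, ap_epsLift]
  exact rs_id ((G.sheafPushforwardContinuous (Type u) K J).obj (epsObj (G.obj d))) _

lemma pullEpsFrom_to (d : D) : pullEpsFrom (J := J) (K := K) G d ≫ pullEpsTo G d = 𝟙 _ :=
  eps_hom_ext (by rw [ap_comp, ap_pullEpsFrom_id, ap_pullEpsTo_taut]; rfl)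

lemma pullEpsTo_from (d : D) : pullEpsTo (J := J) (K := K) G d ≫ pullEpsFrom G d = 𝟙 _ :=
  ((pullTAdj G).homEquiv _ _).injective <| eps_hom_ext (by
    rw [← ap_tautSec, ← ap_tautSec, ap_comp, ap_pullEpsTo_taut, ap_pullEpsFrom_id]; rfl)

lemma pullEpsFrom_natural {d d' : D} (u : d ⟶ d') :
    pullEpsFrom (J := J) (K := K) G d ≫ (pullT G).map (epsMap u) = epsMap (G.map u) ≫ pullEpsFrom G d' := by
  refine eps_hom_ext ?_
  rw [ap_comp, ap_comp, ap_pullEpsFrom_id, ap_map_tautSec, ap_epsMap, ap_epsMap, Category.id_comp, Category.id_comp,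
    pullEpsFrom, ap_epsLift]
  have e : epsSec (J := K) u = rs (epsObj d') u (epsSec (𝟙 d')) := by rw [rs_epsSec, Category.comp_id]
  rw [e]
  exact ap_rs ((pullTAdj (J := J) G).unit.app (epsObj (J := K) d')) u (epsSec (𝟙 d'))

lemma pullEps_sec {d : D} {c : C} (s : ((pullT (J := J) (K := K) G).obj (epsObj d)).obj.obj (op c)) :
    ∃ S ∈ J c, ∀ ⦃c' : C⦄ (h : c' ⟶ c), S h → ∃ β : c' ⟶ G.obj d,
      rs _ h s = ap (pullEpsFrom G d) (epsSec β) := by
  obtain ⟨S, hS, h'⟩ := exists_local_epsSec (ap (pullEpsTo G d) s)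
  refine ⟨S, hS, fun c' h hh => ?_⟩
  obtain ⟨β, hβ⟩ := h' h hh
  refine ⟨β, ?_⟩
  rw [← hβ, ← ap_rs, ← ap_comp, pullEpsTo_from]
  rfl

lemma ap_map_from {d d' : D} (u : d ⟶ d') {c : C} (β : c ⟶ G.obj d) :
    ap ((pullT (J := J) (K := K) G).map (epsMap u)) (ap (pullEpsFrom G d) (epsSec β)) =
      ap (pullEpsFrom G d') (epsSec (β ≫ G.map u)) := by
  rw [← ap_comp, pullEpsFrom_natural, ap_comp, ap_epsMap]

lemma eq_of_from {d : D} {c : C} {β β' : c ⟶ G.obj d}
    (e : ap (pullEpsFrom (J := J) (K := K) G d) (epsSec β) = ap (pullEpsFrom G d) (epsSec β')) :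
    ∃ S ∈ J c, ∀ ⦃c' : C⦄ (h : c' ⟶ c), S h → h ≫ β = h ≫ β' := by
  have e' := congrArg (fun t => ap (pullEpsTo (J := J) (K := K) G d) t) e
  simp only [← ap_comp, pullEpsFrom_to] at e'
  exact epsSec_eq (J := J) e'

variable [PreservesFiniteLimits (pullT (J := J) (K := K) G)]

/-- Refine a sieve by sieves on its members. -/
lemma exists_refine {c : C} {P : ∀ ⦃c' : C⦄, (c' ⟶ c) → Prop} {S : Sieve c} (hS : S ∈ J c)
    (h : ∀ ⦃c' : C⦄ (g : c' ⟶ c), S g → ∃ T ∈ J c', ∀ ⦃c'' : C⦄ (k : c'' ⟶ c'), T k → P (k ≫ g)) :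
    ∃ R ∈ J c, ∀ ⦃c' : C⦄ (g : c' ⟶ c), R g → P g := by
  choose T hT hT' using h
  refine ⟨Sieve.bind S fun c' g hg => T g hg, J.bind_covering hS fun c' g hg => hT g hg, ?_⟩
  rintro c'' _ ⟨c', k, g, hg, hk, rfl⟩
  exact hT' g hg k hk

theorem locFiltered : LocFiltered J K G where
  nonempty c := by
    have hcov : Covers (J := K) (fun d : D => terminal.from (epsObj (J := K) d)) := fun d s =>
      K.superset_covering (fun V g _ => ⟨V, epsSec (𝟙 V), Subsingleton.elim (h :=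
        ⟨fun a b => (epsEquiv V (⊤_ Tp K)).symm.injective (terminal.hom_ext _ _)⟩) _ _⟩) (K.top_mem d)
    have hc := covers_map (pullTAdj (J := J) G) hcov
    have hT : IsTerminal ((pullT (J := J) (K := K) G).obj (⊤_ Tp K)) := terminalIsTerminal.isTerminalObj _ _
    refine exists_refine (hc c (ap (hT.from (epsObj c)) (epsSec (𝟙 c)))) ?_
    rintro c' g ⟨d, t, -⟩
    obtain ⟨S, hS, h'⟩ := pullEps_sec G t
    exact ⟨S, hS, fun c'' k hk => ⟨d, ⟨(h' k hk).choose⟩⟩⟩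
  pair c d₁ d₂ α₁ α₂ := by
    let X := epsObj (J := K) d₁ ⨯ epsObj (J := K) d₂
    have hprod := IsPullback.of_is_product' (fst := (prod.fst : X ⟶ _)) (snd := prod.snd)
      (prodIsProd (epsObj (J := K) d₁) (epsObj d₂)) (terminalIsTerminal (C := Tp K))
    let ι := Σ d : D, (d ⟶ d₁) × (d ⟶ d₂)
    let π : ∀ i : ι, epsObj (J := K) i.1 ⟶ X := fun i => prod.lift (epsMap i.2.1) (epsMap i.2.2)
    have hcov : Covers π := fun V s => by
      obtain ⟨S₁, hS₁, h₁⟩ := exists_local_epsSec (ap (prod.fst : X ⟶ _) s)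
      obtain ⟨S₂, hS₂, h₂⟩ := exists_local_epsSec (ap (prod.snd : X ⟶ _) s)
      refine K.superset_covering ?_ (K.intersection_covering hS₁ hS₂)
      rintro W g ⟨hg₁, hg₂⟩
      obtain ⟨a₁, ha₁⟩ := h₁ g hg₁
      obtain ⟨a₂, ha₂⟩ := h₂ g hg₂
      refine ⟨⟨W, a₁, a₂⟩, epsSec (𝟙 W), pb_sec_ext hprod ?_ ?_⟩
      · rw [← ap_comp, prod.lift_fst, ap_epsMap, Category.id_comp, ap_rs, ha₁]
      · rw [← ap_comp, prod.lift_snd, ap_epsMap, Category.id_comp, ap_rs, ha₂]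
    have hc := covers_map (pullTAdj (J := J) G) hcov
    have hp := hprod.map (pullT (J := J) (K := K) G)
    have hT : IsTerminal ((pullT (J := J) (K := K) G).obj (⊤_ Tp K)) := terminalIsTerminal.isTerminalObj _ _
    obtain ⟨s, hs₁, hs₂⟩ := pb_sec_lift hp (ap (pullEpsFrom G d₁) (epsSec α₁)) (ap (pullEpsFrom G d₂) (epsSec α₂))
      ((epsEquiv c _).symm.injective (hT.hom_ext _ _))
    refine exists_refine (hc c s) ?_
    rintro c' g ⟨⟨d, u₁, u₂⟩, t, ht⟩
    obtain ⟨S, hS, h'⟩ := pullEps_sec G t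
    refine exists_refine hS fun c'' k hk => ?_
    obtain ⟨β, hβ⟩ := h' k hk
    have e₁ : ap (pullEpsFrom (J := J) (K := K) G d₁) (epsSec ((k ≫ g) ≫ α₁)) = ap (pullEpsFrom G d₁) (epsSec (β ≫ G.map u₁)) := by
      rw [← rs_epsSec, ap_rs, ← hs₁, ← rs_rs, ← ap_rs]
      rw [← ht, ← ap_comp, ← Functor.map_comp]
      change rs _ k (ap ((pullT (J := J) (K := K) G).map (prod.lift (epsMap u₁) (epsMap u₂) ≫ prod.fst)) t) = _
      rw [prod.lift_fst, ← ap_rs, hβ, ap_map_from]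
    have e₂ : ap (pullEpsFrom (J := J) (K := K) G d₂) (epsSec ((k ≫ g) ≫ α₂)) = ap (pullEpsFrom G d₂) (epsSec (β ≫ G.map u₂)) := by
      rw [← rs_epsSec, ap_rs, ← hs₂, ← rs_rs, ← ap_rs]
      rw [← ht, ← ap_comp, ← Functor.map_comp]
      change rs _ k (ap ((pullT (J := J) (K := K) G).map (prod.lift (epsMap u₁) (epsMap u₂) ≫ prod.snd)) t) = _
      rw [prod.lift_snd, ← ap_rs, hβ, ap_map_from]
    obtain ⟨T₁, hT₁, h₁⟩ := eq_of_from G e₁
    obtain ⟨T₂, hT₂, h₂⟩ := eq_of_from G e₂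
    refine ⟨T₁ ⊓ T₂, J.intersection_covering hT₁ hT₂, fun c₃ l hl => ⟨d, u₁, u₂, l ≫ β, ?_, ?_⟩⟩
    · rw [Category.assoc, ← h₁ l hl.1]; simp
    · rw [Category.assoc, ← h₂ l hl.2]; simp
  equalize c d₁ d₂ u v α hα := by
    let E := equalizer (epsMap (J := K) u) (epsMap v)
    let ι := Σ d : D, { w : d ⟶ d₁ // w ≫ u = w ≫ v }
    let π : ∀ i : ι, epsObj (J := K) i.1 ⟶ E := fun i => equalizer.lift (epsMap i.2.1) (by
      rw [← Functor.map_comp, ← Functor.map_comp, ← Functor.map_comp, ← Functor.map_comp, i.2.2])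
    have hcov : Covers π := fun V s => by
      obtain ⟨S, hS, h'⟩ := exists_local_epsSec (ap (equalizer.ι (epsMap (J := K) u) (epsMap v)) s)
      have hcond : ∀ ⦃W : D⦄ (g : W ⟶ V), S g → ∃ T ∈ K W, ∀ ⦃W' : D⦄ (k : W' ⟶ W), T k →
          ∃ (i : ι) (t : (epsObj (J := K) i.1).obj.obj (op W')), ap (π i) t = rs E (k ≫ g) s := by
        intro W g hg
        obtain ⟨w, hw⟩ := h' g hg
        have e : epsSec (J := K) (w ≫ u) = epsSec (w ≫ v) := by
          rw [← ap_epsMap, ← ap_epsMap, ← hw, ← ap_rs, ← ap_comp, ← ap_comp, equalizer.condition]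
        obtain ⟨T, hT, hT'⟩ := epsSec_eq e
        refine ⟨T, hT, fun W' k hk => ⟨⟨W', k ≫ w, by simpa using hT' k hk⟩, epsSec (𝟙 W'), ?_⟩⟩
        refine (epsEquiv W' E).symm.injective ((cancel_mono (equalizer.ι (epsMap (J := K) u) (epsMap v))).1
          (eps_hom_ext ?_))
        rw [ap_comp, ap_comp]
        change ap _ (ap (epsLift _) (epsSec (𝟙 W'))) = ap _ (ap (epsLift _) (epsSec (𝟙 W')))
        rw [ap_epsLift, ap_epsLift, rs_id, rs_id, ← ap_comp, equalizer.lift_ι, ap_epsMap, Category.id_comp,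
          ap_rs, ← rs_rs, hw, rs_epsSec]
      obtain ⟨R, hR, hR'⟩ := exists_refine (J := K)
        (P := fun W g => ∃ (i : ι) (t : (epsObj (J := K) i.1).obj.obj (op W)), ap (π i) t = rs E g s) hS hcond
      exact K.superset_covering (fun W g hg => hR' g hg) hR
    have hc := covers_map (pullTAdj (J := J) G) hcov
    have hfork := isLimitForkMapOfIsLimit (pullT (J := J) (K := K) G) (equalizer.condition _ _)
      (equalizerIsEqualizer (epsMap (J := K) u) (epsMap v))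
    obtain ⟨l, hl⟩ : ∃ l : epsObj c ⟶ (pullT (J := J) (K := K) G).obj E,
        l ≫ (pullT G).map (equalizer.ι (epsMap (J := K) u) (epsMap v)) = epsMap α ≫ pullEpsFrom G d₁ := ⟨_, (Fork.IsLimit.lift' hfork (epsMap α ≫ pullEpsFrom (J := J) (K := K) G d₁) (by
      rw [Category.assoc, Category.assoc, pullEpsFrom_natural, pullEpsFrom_natural]
      refine eps_hom_ext ?_
      rw [ap_comp, ap_comp, ap_comp, ap_comp, ap_epsMap, ap_epsMap, ap_epsMap, Category.id_comp, hα])).2⟩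
    refine exists_refine (hc c (ap l (epsSec (𝟙 c)))) ?_
    rintro c' g ⟨⟨d, w, hwu⟩, t, ht⟩
    obtain ⟨S, hS, h'⟩ := pullEps_sec G t
    refine exists_refine hS fun c'' k hk => ?_
    obtain ⟨β, hβ⟩ := h' k hk
    have e : ap (pullEpsFrom (J := J) (K := K) G d₁) (epsSec ((k ≫ g) ≫ α)) = ap (pullEpsFrom G d₁) (epsSec (β ≫ G.map w)) := by
      rw [← rs_epsSec, ← Category.id_comp α, ← ap_epsMap, ← ap_rs, ← ap_comp, ← hl, ap_comp, ap_rs, ← rs_rs, ← ht,
        ← ap_rs, hβ, ← ap_comp]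
      refine Eq.trans ?_ (ap_map_from G w β)
      refine congrArg (fun φ => ap φ (ap (pullEpsFrom (J := J) (K := K) G d) (epsSec β))) ?_
      exact ((pullT (J := J) G).map_comp _ _).symm.trans (congrArg _ (equalizer.lift_ι _ _))
    obtain ⟨T, hT, hT'⟩ := eq_of_from G e
    refine ⟨T, hT, fun c₃ m hm => ⟨d, w, m ≫ β, hwu, ?_⟩⟩
    rw [Category.assoc, ← hT' m hm]; simp
  cover d T hT c α := by
    let ι := Σ d' : D, { g : d' ⟶ d // T g }
    have hcov : Covers (fun i : ι => epsMap (J := K) i.2.1) := fun V s => by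
      obtain ⟨S, hS, h'⟩ := exists_local_epsSec s
      obtain ⟨R, hR, hR'⟩ := exists_refine (J := K)
        (P := fun W g => ∃ (i : ι) (t : (epsObj (J := K) i.1).obj.obj (op W)), ap (epsMap i.2.1) t = rs _ g s) hS
        fun W g hg => by
          obtain ⟨a, ha⟩ := h' g hg
          refine ⟨T.pullback a, K.pullback_stable a hT, fun W' k hk => ⟨⟨W', k ≫ a, hk⟩, epsSec (𝟙 W'), ?_⟩⟩
          rw [ap_epsMap, Category.id_comp, ← rs_rs, ha, rs_epsSec]
      exact K.superset_covering (fun W g hg => hR' g hg) hR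
    have hc := covers_map (pullTAdj (J := J) G) hcov
    refine exists_refine (hc c (ap (pullEpsFrom G d) (epsSec α))) ?_
    rintro c' g ⟨⟨d', g', hg'⟩, t, ht⟩
    obtain ⟨S, hS, h'⟩ := pullEps_sec G t
    refine exists_refine hS fun c'' k hk => ?_
    obtain ⟨β, hβ⟩ := h' k hk
    have e : ap (pullEpsFrom (J := J) (K := K) G d) (epsSec ((k ≫ g) ≫ α)) = ap (pullEpsFrom G d) (epsSec (β ≫ G.map g')) := by
      rw [← rs_epsSec, ap_rs, ← rs_rs, ← ht, ← ap_rs, hβ, ap_map_from]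
    obtain ⟨T', hT', h''⟩ := eq_of_from G e
    refine ⟨T', hT', fun c₃ m hm => ⟨d', g', m ≫ β, hg', ?_⟩⟩
    rw [Category.assoc, ← h'' m hm]; simp

end Groth.SitesTopoi.ModH
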