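import Groth.Agent.SitesTopoi.Mod.Basic

/-!
Tensoring preserves local isomorphisms of presheaves of modules.
-/

universe u

open CategoryTheory CategoryTheory.Limits Opposite MonoidalCategory

namespace Groth.SitesTopoi.ModH

variable {C : Type u} [SmallCategory C] {J : GrothendieckTopology C} {O : Sheaf J CommRingCat.{u}}

/-- A pure tensor of sections. -/
noncomputable def tm {M N : PM O} {U : C} (m : sc M U) (n : sc N U) : sc (M ⊗ N) U :=
  TensorProduct.tmul (rsec O U) m n

lemma rsm_tm {M N : PM O} {U V : C} (g : V ⟶ U) (m : sc M U) (n : sc N U) :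
    rsm (M ⊗ N) g (tm m n) = tm (rsm M g m) (rsm N g n) :=
  PresheafOfModules.Monoidal.tensorObj_map_tmul (M₁ := M) (M₂ := N) g.op m n

lemma apm_whiskerRight {M M' : PM O} (f : M ⟶ M') (N : PM O) {U : C} (m : sc M U) (n : sc N U) :
    apm (f ▷ N) U (tm m n) = tm (apm f U m) n := rfl

lemma apm_whiskerLeft {N N' : PM O} (M : PM O) (f : N ⟶ N') {U : C} (m : sc M U) (n : sc N U) :
    apm (M ◁ f) U (tm m n) = tm m (apm f U n) := rfl

@[simp] lemma tm_zero_left {M N : PM O} {U : C} (n : sc N U) : tm (0 : sc M U) n = 0 :=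
  TensorProduct.zero_tmul (R := rsec O U) (sc M U) n

@[simp] lemma tm_zero_right {M N : PM O} {U : C} (m : sc M U) : tm m (0 : sc N U) = 0 :=
  TensorProduct.tmul_zero (R := rsec O U) (sc N U) m

lemma tm_add_left {M N : PM O} {U : C} (a b : sc M U) (n : sc N U) : tm (a + b) n = tm a n + tm b n :=
  TensorProduct.add_tmul (R := rsec O U) a b n

lemma tm_add_right {M N : PM O} {U : C} (m : sc M U) (a b : sc N U) : tm m (a + b) = tm m a + tm m b :=
  TensorProduct.tmul_add (R := rsec O U) m a b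

lemma tm_smul_left {M N : PM O} {U : C} (r : rsec O U) (m : sc M U) (n : sc N U) : tm (r • m) n = r • tm m n :=
  (TensorProduct.smul_tmul' r m n).symm

lemma tm_smul_right {M N : PM O} {U : C} (r : rsec O U) (m : sc M U) (n : sc N U) : tm m (r • n) = r • tm m n :=
  TensorProduct.tmul_smul r m n

lemma tens_induction {M N : PM O} {U : C} {P : sc (M ⊗ N) U → Prop} (zero : P 0)
    (tmul : ∀ (m : sc M U) (n : sc N U), P (tm m n)) (add : ∀ a b, P a → P b → P (a + b)) (t : sc (M ⊗ N) U) : P t :=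
  TensorProduct.induction_on (R := rsec O U) (M := sc M U) (N := sc N U) t zero tmul add

lemma tens_hom_ext {M N Q : PM O} {h₁ h₂ : M ⊗ N ⟶ Q}
    (h : ∀ (U : C) (m : sc M U) (n : sc N U), apm h₁ U (tm m n) = apm h₂ U (tm m n)) : h₁ = h₂ := by
  refine pm_hom_ext fun U t => ?_
  induction t using tens_induction with
  | zero => rw [map_zero, map_zero]
  | tmul m n => exact h U m n
  | add a b ha hb => rw [map_add, map_add, ha, hb]

/-- A natural bilinear family of maps on sections. -/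
structure Bil (M N Q : PM O) where
  /-- The bilinear maps. -/
  fn (U : C) : sc M U →ₗ[rsec O U] sc N U →ₗ[rsec O U] sc Q U
  nat {U V : C} (g : V ⟶ U) (m : sc M U) (n : sc N U) : rsm Q g (fn U m n) = fn V (rsm M g m) (rsm N g n)

/-- The morphism out of the tensor product given by a bilinear family. -/
noncomputable def Bil.hom {M N Q : PM O} (b : Bil M N Q) : M ⊗ N ⟶ Q where
  app X := ModuleCat.ofHom (X := sc (M ⊗ N) X.unop) (Y := sc Q X.unop) (TensorProduct.lift (b.fn X.unop))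
  naturality {X Y} g := ModuleCat.MonoidalCategory.tensor_ext fun m n => by
    change TensorProduct.lift (b.fn Y.unop) (rsm (M ⊗ N) g.unop (tm m n)) =
      rsm Q g.unop (TensorProduct.lift (b.fn X.unop) (tm m n))
    rw [rsm_tm]
    exact (b.nat g.unop m n).symm

@[simp] lemma Bil.hom_tm {M N Q : PM O} (b : Bil M N Q) {U : C} (m : sc M U) (n : sc N U) :
    apm b.hom U (tm m n) = b.fn U m n := rfl

lemma locSurj_whiskerRight {M M' : PM O} {f : M ⟶ M'} (hf : LocSurj f) (N : PM O) : LocSurj (f ▷ N) := by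
  intro U t
  induction t using tens_induction with
  | zero => exact ⟨⊤, J.top_mem U, fun V g _ => ⟨0, by rw [map_zero, map_zero]⟩⟩
  | tmul m n =>
    obtain ⟨S, hS, h⟩ := hf U m
    refine ⟨S, hS, fun V g hg => ?_⟩
    obtain ⟨a, ha⟩ := h g hg
    exact ⟨tm a (rsm N g n), by rw [apm_whiskerRight, ha, rsm_tm]⟩
  | add a b ha hb =>
    obtain ⟨S, hS, h⟩ := ha
    obtain ⟨T, hT, h'⟩ := hb
    refine ⟨S ⊓ T, J.intersection_covering hS hT, fun V g hg => ?_⟩
    obtain ⟨x, hx⟩ := h g hg.1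
    obtain ⟨y, hy⟩ := h' g hg.2
    exact ⟨x + y, by rw [map_add, map_add, hx, hy]⟩

section Extend

variable {M M' N : PM O} {Q : ModSite.Mod O} {f : M ⟶ M'} (b : M ⊗ N ⟶ Q.val)

/-- The value of the extension of `b` on a pair of sections. -/
def IsExt (f : M ⟶ M') {U : C} (m' : sc M' U) (n : sc N U) (s : sc Q.val U) : Prop :=
  ∀ ⦃V : C⦄ (g : V ⟶ U) (m : sc M V), apm f V m = rsm M' g m' → rsm Q.val g s = apm b V (tm m (rsm N g n))

lemma apply_eq_of_apm_eq (hf : LocInj f) {U : C} {a a' : sc M U} (h : apm f U a = apm f U a') (n : sc N U) :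
    apm b U (tm a n) = apm b U (tm a' n) := by
  obtain ⟨S, hS, h'⟩ := hf U (a - a') (by rw [map_sub, h, sub_self])
  refine sec_extM Q hS fun V g hg => ?_
  rw [← apm_rsm, ← apm_rsm, rsm_tm, rsm_tm]
  have : rsm M g a = rsm M g a' := sub_eq_zero.1 ((map_sub (rsm M g) a a').symm.trans (h' g hg))
  rw [this]

variable (hi : LocInj f) (hs : LocSurj f)
include hi hs

lemma existsUnique_isExt {U : C} (m' : sc M' U) (n : sc N U) : ∃! s, IsExt b f m' n s := by
  obtain ⟨S, hS, h⟩ := hs U m'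
  choose m hm using h
  obtain ⟨s, hs'⟩ := glueM Q hS (fun V g hg => apm b V (tm (m g hg) (rsm N g n))) (fun V W g hg k => by
    rw [← apm_rsm, rsm_tm, rsm_rsm]
    exact apply_eq_of_apm_eq b hi (by rw [apm_rsm, hm, hm, rsm_rsm]) _)
  refine ⟨s, fun V g a ha => sec_extM Q (J.pullback_stable g hS) fun W k hk => ?_, fun t ht => ?_⟩
  · rw [rsm_rsm, hs' _ hk, ← apm_rsm, rsm_tm, rsm_rsm]
    exact apply_eq_of_apm_eq b hi (by rw [apm_rsm, hm, ha, rsm_rsm]) _
  · exact sec_extM Q hS fun V g hg => (ht g _ (hm g hg)).trans (hs' g hg).symm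

/-- The extension on sections. -/
noncomputable def extFn {U : C} (m' : sc M' U) (n : sc N U) : sc Q.val U := (existsUnique_isExt b hi hs m' n).choose

lemma extFn_spec {U : C} (m' : sc M' U) (n : sc N U) : IsExt b f m' n (extFn b hi hs m' n) :=
  (existsUnique_isExt b hi hs m' n).choose_spec.1

lemma extFn_eq {U : C} {m' : sc M' U} {n : sc N U} {s : sc Q.val U} {S : Sieve U} (hS : S ∈ J U)
    (h : ∀ ⦃V : C⦄ (g : V ⟶ U), S g → ∃ m, apm f V m = rsm M' g m' ∧ rsm Q.val g s = apm b V (tm m (rsm N g n))) :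
    extFn b hi hs m' n = s :=
  sec_extM Q hS fun V g hg => by
    obtain ⟨m, hm, hm'⟩ := h g hg
    rw [hm', extFn_spec b hi hs m' n g m hm]

lemma rsm_extFn {U V : C} (g : V ⟶ U) (m' : sc M' U) (n : sc N U) :
    rsm Q.val g (extFn b hi hs m' n) = extFn b hi hs (rsm M' g m') (rsm N g n) := by
  obtain ⟨S, hS, h⟩ := hs U m'
  refine (extFn_eq b hi hs (J.pullback_stable g hS) fun W k hk => ?_).symm
  obtain ⟨m, hm⟩ := h _ hk
  refine ⟨m, by rw [hm, rsm_rsm], ?_⟩
  rw [rsm_rsm, rsm_rsm, extFn_spec b hi hs m' n _ m hm]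

/-- The bilinear extension. -/
noncomputable def extBil : Bil M' N Q.val where
  fn U := LinearMap.mk₂ (rsec O U) (extFn b hi hs)
    (fun a₁ a₂ n => by
      obtain ⟨S, hS, h⟩ := hs U a₁
      obtain ⟨T, hT, h'⟩ := hs U a₂
      refine extFn_eq b hi hs (J.intersection_covering hS hT) fun V g hg => ?_
      obtain ⟨x, hx⟩ := h g hg.1
      obtain ⟨y, hy⟩ := h' g hg.2
      exact ⟨x + y, by rw [map_add, map_add, hx, hy], by
        rw [map_add, extFn_spec b hi hs a₁ n g x hx, extFn_spec b hi hs a₂ n g y hy, tm_add_left, map_add]⟩)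
    (fun r a n => by
      obtain ⟨S, hS, h⟩ := hs U a
      refine extFn_eq b hi hs hS fun V g hg => ?_
      obtain ⟨x, hx⟩ := h g hg
      exact ⟨rsR g r • x, by rw [map_smul, rsm_smul, hx], by
        rw [rsm_smul, extFn_spec b hi hs a n g x hx, tm_smul_left, map_smul]⟩)
    (fun a n₁ n₂ => by
      obtain ⟨S, hS, h⟩ := hs U a
      refine extFn_eq b hi hs hS fun V g hg => ?_
      obtain ⟨x, hx⟩ := h g hg
      exact ⟨x, hx, by
        rw [map_add, extFn_spec b hi hs a n₁ g x hx, extFn_spec b hi hs a n₂ g x hx, map_add (rsm N g), tm_add_right,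
          map_add]⟩)
    (fun r a n => by
      obtain ⟨S, hS, h⟩ := hs U a
      refine extFn_eq b hi hs hS fun V g hg => ?_
      obtain ⟨x, hx⟩ := h g hg
      exact ⟨x, hx, by
        rw [rsm_smul, extFn_spec b hi hs a n g x hx, rsm_smul, tm_smul_right, map_smul]⟩)
  nat g m n := rsm_extFn b hi hs g m n

lemma whiskerRight_extBil : (f ▷ N) ≫ (extBil b hi hs).hom = b := by
  refine tens_hom_ext fun U m n => ?_
  rw [apm_comp, apm_whiskerRight, Bil.hom_tm]
  exact extFn_eq b hi hs (J.top_mem U) fun V g _ => ⟨rsm M g m, apm_rsm f g m, by rw [← apm_rsm, rsm_tm]⟩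

end Extend

lemma isIso_aP_map_whiskerRight {M M' : PM O} (f : M ⟶ M') [hf : IsIso ((aP O).map f)] (N : PM O) :
    IsIso ((aP O).map (f ▷ N)) := by
  obtain ⟨hi, hs⟩ := (isIso_aP_map_iff f).1 hf
  let g := (extBil (etaP (M ⊗ N)) hi hs).hom
  have hg : (f ▷ N) ≫ g = etaP (M ⊗ N) := whiskerRight_extBil _ hi hs
  refine ⟨((adjP O).homEquiv _ _).symm g, ?_, ?_⟩
  · refine ((adjP O).homEquiv _ _).injective ?_
    rw [Adjunction.homEquiv_naturality_left, Equiv.apply_symm_apply, Adjunction.homEquiv_id]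
    exact hg
  · refine ((adjP O).homEquiv _ _).injective (tens_hom_ext fun U m' n => ?_)
    rw [Adjunction.homEquiv_naturality_right, Equiv.apply_symm_apply, Adjunction.homEquiv_id]
    obtain ⟨S, hS, h⟩ := hs U m'
    refine sec_extM _ hS fun V k hk => ?_
    obtain ⟨m, hm⟩ := h k hk
    refine (apm_rsm _ k _).symm.trans (Eq.trans ?_ (apm_rsm _ k _))
    rw [rsm_tm, ← hm, ← apm_whiskerRight]
    have h₁ := etaP_naturality (f ▷ N) V (tm m (rsm N k n))
    have h₂ := congrArg (fun φ => apm φ V (tm m (rsm N k n))) hg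
    simp only [apm_comp] at h₂ ⊢
    exact (congrArg (apm ((aP O).map (f ▷ N)).val V) h₂).trans h₁

lemma isIso_aP_map_whiskerLeft {N N' : PM O} (M : PM O) (f : N ⟶ N') [IsIso ((aP O).map f)] :
    IsIso ((aP O).map (M ◁ f)) := by
  have := isIso_aP_map_whiskerRight f M
  have e : M ◁ f = (β_ M N).hom ≫ (f ▷ M) ≫ (β_ M N').inv := by
    rw [← BraidedCategory.braiding_naturality_right_assoc, Iso.hom_inv_id, Category.comp_id]
  rw [e, Functor.map_comp, Functor.map_comp]
  infer_instance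

instance isIso_aP_map_etaP (M : PM O) : IsIso ((aP O).map (etaP M)) :=
  (isIso_aP_map_iff _).2 ⟨locInj_etaP M, locSurj_etaP M⟩

lemma isIso_aP_map_tensorHom_etaP (M N : PM O) : IsIso ((aP O).map (etaP M ⊗ₘ etaP N)) := by
  rw [MonoidalCategory.tensorHom_def, Functor.map_comp]
  have := isIso_aP_map_whiskerRight (etaP M) N
  have := isIso_aP_map_whiskerLeft ((aP O).obj M).val (etaP N)
  infer_instance

end Groth.SitesTopoi.ModH
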