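import Groth.Agent.SitesTopoi.Mod.Projection

/-!
Naturality of the projection formula for extensions by zero.
-/

universe u

open CategoryTheory CategoryTheory.Limits Opposite MonoidalCategory

set_option backward.defeqAttrib.useBackward true
set_option backward.isDefEq.respectTransparency false

namespace Groth.SitesTopoi.ModH

variable {C : Type u} [SmallCategory C] {J : GrothendieckTopology C} {O : Sheaf J CommRingCat.{u}} {U : C}

lemma projHom_naturality (P : PM (O.over U)) {N N' : PM O} (g : N ⟶ N') :
    (Pex U).map (MonoidalCategory.whiskerLeft (C := PM (O.over U)) P ((resP U).map g)) ≫ projHom P N' =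
      projHom P N ≫ MonoidalCategory.whiskerLeft (C := PM O) (pexObj P) g := by
  refine pexObj_hom_ext fun W z => ?_
  induction z using tens_induction with
  | zero => rw [pu_zero, map_zero, map_zero]
  | tmul x n =>
    rw [show n = toRes N W (ofRes N W n) from rfl, apm_comp, apm_comp]
    refine (congrArg (apm (projHom P N') W.left) (show _ = pu (tm x (toRes N' W (apm g W.left (ofRes N W n)))) (𝟙 W.left) from ?_)).trans ?_
    · exact (apm_Pex_map _ _ _).trans (congrArg (fun z => pu z (𝟙 W.left)) ((apm_whiskerLeft (O := O.over U) P ((resP U).map g) x (toRes N W (ofRes N W n))).trans (congrArg (tm x) (apm_resP g W _))))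
    · rw [apm_projHom, apm_projHom, apm_whiskerLeft]
      exact congrArg (tm _) ((rsm_id N' _).trans (congrArg _ (rsm_id N (ofRes N W n)).symm))
  | add a b ha hb => rw [pu_add, map_add, map_add, ha, hb]

variable (U)

lemma projectionIso_naturality (P : ModSite.Mod (O.over U)) {N N' : ModSite.Mod O} (g : N ⟶ N') :
    (ModSite.extZero O U).map (((ModSite.tensorBi (O.over U)).obj P).map ((ModSite.restr O U).map g)) ≫ (projectionIso P N').hom =
      (projectionIso P N).hom ≫ ((ModSite.tensorBi O).obj ((ModSite.extZero O U).obj P)).map g := by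
  let e := (aPExtZeroIso (O := O) U).inv
  let w : ∀ L : ModSite.Mod O, (aP O).obj (pexObj P.val ⊗ L.val : PM O) ⟶ (aP O).obj (((aP O).obj (pexObj P.val)).val ⊗ L.val : PM O) :=
    fun L => (aP O).map (MonoidalCategory.whiskerRight (C := PM O) (etaP (pexObj P.val)) L.val)
  let t : ∀ L : ModSite.Mod O, _ := fun L => ((ModSite.tensorBi O).map ((extZeroIso U).hom.app P)).app L
  have h1 : (ModSite.extZero O U).map (((ModSite.tensorBi (O.over U)).obj P).map ((ModSite.restr O U).map g)) ≫
      e.app (P.val ⊗ (resP U).obj N'.val : PM (O.over U)) =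
      e.app (P.val ⊗ (resP U).obj N.val : PM (O.over U)) ≫
        (aP O).map ((Pex U).map (MonoidalCategory.whiskerLeft (C := PM (O.over U)) P.val ((resP U).map g.val))) :=
    e.naturality (MonoidalCategory.whiskerLeft (C := PM (O.over U)) P.val ((resP U).map g.val))
  have h2 : (aP O).map ((Pex U).map (MonoidalCategory.whiskerLeft (C := PM (O.over U)) P.val ((resP U).map g.val))) ≫ (aP O).map (projHom P.val N'.val) =
      (aP O).map (projHom P.val N.val) ≫ (aP O).map (MonoidalCategory.whiskerLeft (C := PM O) (pexObj P.val) g.val) :=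
    ((aP O).map_comp _ _).symm.trans ((congrArg (aP O).map (projHom_naturality P.val g.val)).trans ((aP O).map_comp _ _))
  have h3 : (aP O).map (MonoidalCategory.whiskerLeft (C := PM O) (pexObj P.val) g.val) ≫ w N' =
      w N ≫ ((ModSite.tensorBi O).obj ((aP O).obj (pexObj P.val))).map g :=
    ((aP O).map_comp _ _).symm.trans ((congrArg (aP O).map (MonoidalCategory.whisker_exchange (C := PM O) _ _)).trans ((aP O).map_comp _ _))
  have h4 : ((ModSite.tensorBi O).obj ((aP O).obj (pexObj P.val))).map g ≫ t N' =
      t N ≫ ((ModSite.tensorBi O).obj ((ModSite.extZero O U).obj P)).map g :=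
    ((ModSite.tensorBi O).map ((extZeroIso U).hom.app P)).naturality g
  have hh : ∀ L : ModSite.Mod O, (projectionIso P L).hom =
      e.app (P.val ⊗ (resP U).obj L.val : PM (O.over U)) ≫ (aP O).map (projHom P.val L.val) ≫ w L ≫ t L := fun L => rfl
  rw [hh N', hh N]
  refine (Category.assoc _ _ _).symm.trans ?_
  refine (congrArg (· ≫ _) h1).trans ?_
  refine ((Category.assoc _ _ _).trans ?_).trans (Category.assoc _ _ _).symm
  refine congrArg (_ ≫ ·) ?_
  refine (Category.assoc _ _ _).symm.trans ?_
  refine (congrArg (· ≫ _) h2).trans ?_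
  refine ((Category.assoc _ _ _).trans ?_).trans (Category.assoc _ _ _).symm
  refine congrArg (_ ≫ ·) ?_
  refine (Category.assoc _ _ _).symm.trans ?_
  refine (congrArg (· ≫ _) h3).trans ?_
  refine ((Category.assoc _ _ _).trans ?_).trans (Category.assoc _ _ _).symm
  exact congrArg (_ ≫ ·) h4

lemma projHom_naturality_left {P P' : PM (O.over U)} (f : P ⟶ P') (N : PM O) :
    (Pex U).map (MonoidalCategory.whiskerRight (C := PM (O.over U)) f ((resP U).obj N)) ≫ projHom P' N =
      projHom P N ≫ MonoidalCategory.whiskerRight (C := PM O) ((Pex U).map f) N := by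
  refine pexObj_hom_ext fun W z => ?_
  induction z using tens_induction with
  | zero => rw [pu_zero, map_zero, map_zero]
  | tmul x n =>
    rw [show n = toRes N W (ofRes N W n) from rfl, apm_comp, apm_comp]
    refine (congrArg (apm (projHom P' N) W.left) (show _ = pu (tm (apm f W x) (toRes N W (ofRes N W n))) (𝟙 W.left) from
      (apm_Pex_map _ _ _).trans rfl)).trans ?_
    rw [apm_projHom, apm_projHom]
    exact (congrArg (fun a => tm a (rsm N (𝟙 W.left) (ofRes N W n))) (apm_Pex_map f x (𝟙 W.left)).symm).trans (apm_whiskerRight ((Pex U).map f) N (pu x (𝟙 W.left)) (rsm N (𝟙 W.left) (ofRes N W n))).symm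
  | add a b ha hb => rw [pu_add, map_add, map_add, ha, hb]

lemma projectionIso_naturality_left {P P' : ModSite.Mod (O.over U)} (f : P ⟶ P') (N : ModSite.Mod O) :
    (ModSite.extZero O U).map (((ModSite.tensorBi (O.over U)).map f).app ((ModSite.restr O U).obj N)) ≫ (projectionIso P' N).hom =
      (projectionIso P N).hom ≫ ((ModSite.tensorBi O).map ((ModSite.extZero O U).map f)).app N := by
  let e := (aPExtZeroIso (O := O) U).inv
  let w : ∀ L : ModSite.Mod (O.over U), (aP O).obj (pexObj L.val ⊗ N.val : PM O) ⟶ (aP O).obj (((aP O).obj (pexObj L.val)).val ⊗ N.val : PM O) :=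
    fun L => (aP O).map (MonoidalCategory.whiskerRight (C := PM O) (etaP (pexObj L.val)) N.val)
  let t : ∀ L : ModSite.Mod (O.over U), _ := fun L => ((ModSite.tensorBi O).map ((extZeroIso U).hom.app L)).app N
  have h1 : (ModSite.extZero O U).map (((ModSite.tensorBi (O.over U)).map f).app ((ModSite.restr O U).obj N)) ≫
      e.app (P'.val ⊗ (resP U).obj N.val : PM (O.over U)) =
      e.app (P.val ⊗ (resP U).obj N.val : PM (O.over U)) ≫
        (aP O).map ((Pex U).map (MonoidalCategory.whiskerRight (C := PM (O.over U)) f.val ((resP U).obj N.val))) :=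
    e.naturality (MonoidalCategory.whiskerRight (C := PM (O.over U)) f.val ((resP U).obj N.val))
  have h2 : (aP O).map ((Pex U).map (MonoidalCategory.whiskerRight (C := PM (O.over U)) f.val ((resP U).obj N.val))) ≫ (aP O).map (projHom P'.val N.val) =
      (aP O).map (projHom P.val N.val) ≫ (aP O).map (MonoidalCategory.whiskerRight (C := PM O) ((Pex U).map f.val) N.val) :=
    ((aP O).map_comp _ _).symm.trans ((congrArg (aP O).map (projHom_naturality_left U f.val N.val)).trans ((aP O).map_comp _ _))
  have h3 : (aP O).map (MonoidalCategory.whiskerRight (C := PM O) ((Pex U).map f.val) N.val) ≫ w P' =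
      w P ≫ ((ModSite.tensorBi O).map ((aP O).map ((Pex U).map f.val))).app N :=
    whiskerEtaIso_naturality N ((Pex U).map f.val)
  have h4 : ((ModSite.tensorBi O).map ((aP O).map ((Pex U).map f.val))).app N ≫ t P' =
      t P ≫ ((ModSite.tensorBi O).map ((ModSite.extZero O U).map f)).app N :=
    (NatTrans.comp_app _ _ _).symm.trans ((congrArg (fun φ => φ.app N) (((ModSite.tensorBi O).map_comp _ _).symm.trans
      ((congrArg (ModSite.tensorBi O).map ((extZeroIso U).hom.naturality f)).trans ((ModSite.tensorBi O).map_comp _ _)))).trans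
        (NatTrans.comp_app _ _ _))
  have hh : ∀ L : ModSite.Mod (O.over U), (projectionIso L N).hom =
      e.app (L.val ⊗ (resP U).obj N.val : PM (O.over U)) ≫ (aP O).map (projHom L.val N.val) ≫ w L ≫ t L := fun L => rfl
  rw [hh P', hh P]
  refine (Category.assoc _ _ _).symm.trans ?_
  refine (congrArg (· ≫ _) h1).trans ?_
  refine ((Category.assoc _ _ _).trans ?_).trans (Category.assoc _ _ _).symm
  refine congrArg (_ ≫ ·) ?_
  refine (Category.assoc _ _ _).symm.trans ?_
  refine (congrArg (· ≫ _) h2).trans ?_
  refine ((Category.assoc _ _ _).trans ?_).trans (Category.assoc _ _ _).symm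
  refine congrArg (_ ≫ ·) ?_
  refine (Category.assoc _ _ _).symm.trans ?_
  refine (congrArg (· ≫ _) h3).trans ?_
  refine ((Category.assoc _ _ _).trans ?_).trans (Category.assoc _ _ _).symm
  exact congrArg (_ ≫ ·) h4

/-- The projection formula as a natural isomorphism in the first variable. -/
noncomputable def projectionNatIso (N : ModSite.Mod O) :
    (ModSite.tensorBi (O.over U)).flip.obj ((ModSite.restr O U).obj N) ⋙ ModSite.extZero O U ≅
      ModSite.extZero O U ⋙ (ModSite.tensorBi O).flip.obj N :=
  NatIso.ofComponents (fun P => projectionIso P N) fun f => projectionIso_naturality_left U f N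

end Groth.SitesTopoi.ModH
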