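import Groth.Agent.DAlg.RestrPushOver
import Groth.Agent.LocCohZBase.DerivedComp
import Groth.Agent.SiteCohomology.CohomologyPresheafNat
import Groth.Agent.SitesTopoi.Mod.ProjectionNat
import Groth.Agent.LocCohZBase.QuotOnExact
import Groth.Agent.Misc4.FreeOn

/-!
Local Ext sheaves and local cohomology sheaves commute with localisation.
-/

universe v v' w w' u

open CategoryTheory CategoryTheory.Limits Opposite

set_option backward.defeqAttrib.useBackward true
set_option backward.isDefEq.respectTransparency false
set_option synthInstance.maxHeartbeats 400000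

namespace Groth.SitesTopoi.ModH

section General

variable {A : Type w} [Category.{v} A] [Abelian A] [HasInjectiveResolutions A]

/-- Isomorphic functors have isomorphic right derived functors. -/
noncomputable def rightDerivedIso {B : Type w'} [Category.{v'} B] [Abelian B] {F G : A ⥤ B} [F.Additive] [G.Additive]
    (e : F ≅ G) (n : ℕ) : F.rightDerived n ≅ G.rightDerived n where
  hom := NatTrans.rightDerived e.hom n
  inv := NatTrans.rightDerived e.inv n
  hom_inv_id := by rw [← NatTrans.rightDerived_comp, e.hom_inv_id, NatTrans.rightDerived_id]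
  inv_hom_id := by rw [← NatTrans.rightDerived_comp, e.inv_hom_id, NatTrans.rightDerived_id]

end General

variable {C : Type u} [SmallCategory C] {J : GrothendieckTopology C} (O : Sheaf J CommRingCat.{u})

lemma restr_preservesInjective (X : C) : (ModSite.restr O X).PreservesInjectiveObjects :=
  have : (ModSite.extZero O X).PreservesMonomorphisms := ⟨fun f hf => @mono_extZero_map _ _ _ _ _ _ _ f hf⟩
  ⟨fun {I} hI => (ModSite.extZeroAdj O X).map_injective I hI⟩

/-- Derived functors of functors which commute with restriction commute with restriction. -/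
lemma nonempty_rightDerived_restr (X : C) [HasInjectiveResolutions (ModSite.Mod O)]
    [HasInjectiveResolutions (ModSite.Mod (O.over X))] (F : ModSite.Mod O ⥤ ModSite.Mod O) [F.Additive]
    (F' : ModSite.Mod (O.over X) ⥤ ModSite.Mod (O.over X)) [F'.Additive]
    (e : F ⋙ ModSite.restr O X ≅ ModSite.restr O X ⋙ F') (n : ℕ) :
    Nonempty (F.rightDerived n ⋙ ModSite.restr O X ≅ ModSite.restr O X ⋙ F'.rightDerived n) := by
  have := restr_preservesInjective O X
  have : (ModSite.restr O X).Additive := Balanced.additive_of_rightExact _
  exact ⟨(SiteCohomology.rightDerivedCompExactIso F (ModSite.restr O X) n).symm ≪≫ rightDerivedIso e n ≪≫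
    LocCohZBase.DerivedComp.rightDerivedCompIso (ModSite.restr O X) F' n⟩

/-- The internal hom commutes with restriction. -/
noncomputable def sheafHomRestrIso (X : C) (M : ModSite.Mod O) [ModSite.HasSheafHom M]
    [ModSite.HasSheafHom ((ModSite.restr O X).obj M)] :
    ModSite.sheafHom M ⋙ ModSite.restr O X ≅ ModSite.restr O X ⋙ ModSite.sheafHom ((ModSite.restr O X).obj M) :=
  (((ModSite.extZeroAdj O X).comp (ModSite.sheafHomAdj M)).ofNatIsoLeft (projectionNatIso X M).symm).rightAdjointUniq
    ((ModSite.sheafHomAdj ((ModSite.restr O X).obj M)).comp (ModSite.extZeroAdj O X))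

variable {O}

open Groth.Misc4.FreeOn in
/-- A section dies in `j_* j^*` iff it vanishes on the objects over `U`. -/
lemma unit_apm_eq_zero_iff (U : C) [ModSite.HasPushOver O U] (F : ModSite.Mod O) {V : C} (s : sc F.val V) :
    apm ((ModSite.restrPushOverAdj O U).unit.app F).val V s = 0 ↔
      ∀ ⦃W : C⦄ (g : W ⟶ V) (_ : W ⟶ U), rsm F.val g s = 0 := by
  constructor
  · intro h W g a
    let adj := ModSite.restrPushOverAdj O U
    have h0 : apm (adj.unit.app F).val W (rsm F.val g s) = 0 :=
      (apm_rsm _ g s).trans ((congrArg _ h).trans (map_zero _))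
    have h1 := congrArg (fun φ : (ModSite.restr O U).obj F ⟶ (ModSite.restr O U).obj F =>
      apm φ.val (Over.mk a) (toRes F.val (Over.mk a) (rsm F.val g s))) (adj.left_triangle_components F)
    refine h1.symm.trans ?_
    show apm (adj.counit.app _).val (Over.mk a) (apm (adj.unit.app F).val W (rsm F.val g s)) = 0
    rw [h0]
    exact map_zero _
  · intro h
    let x : (aP O).obj (freeYon O V) ⟶ F := (homEquivYon V F).symm s
    have hx : (ModSite.restr O U).map x = 0 := by
      refine mod_hom_ext fun W y => ?_
      obtain ⟨S, hS, hS'⟩ := locSurj_etaP (freeYon O V) W.left (ofRes ((aP O).obj (freeYon O V)).val W y)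
      have key : ∀ ⦃W' : C⦄ (k : W' ⟶ W.left), S k → rsm F.val k (apm x.val W.left (ofRes ((aP O).obj (freeYon O V)).val W y)) = 0 := by
        intro W' k hk
        obtain ⟨z, hz⟩ := hS' k hk
        rw [← apm_rsm, ← hz]
        let q : freeYon O V ⟶ F.val := (adjP O).homEquiv _ _ x
        have hq : ∀ z, apm x.val W' (apm (etaP (freeYon O V)) W' z) = apm q W' z := fun z =>
          (congrArg (fun φ => apm φ W' z) ((adjP O).homEquiv_unit (freeYon O V) F x)).symm
        rw [hq]
        clear hz
        induction (z : (W' ⟶ V) →₀ rsec O W') using Finsupp.induction_linear with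
        | zero => exact map_zero _
        | add a b ha hb => exact (map_add (apm q W') a b).trans ((congrArg₂ (· + ·) ha hb).trans (add_zero _))
        | single g r =>
          have e : (Finsupp.single g r : (W' ⟶ V) →₀ rsec O W') = (r • gen g : sc (freeYon O V) W') :=
            (Finsupp.smul_single_one g r).symm
          refine (congrArg (apm q W') e).trans ((map_smul _ _ _).trans ?_)
          have hs : apm q V (gen (𝟙 V)) = s := (homEquivYon V F).apply_symm_apply s
          have : apm q W' (gen g) = rsm F.val g s := by
            rw [← hs, ← apm_rsm, rsm_gen, Category.comp_id]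
          rw [this, h g (k ≫ W.hom), smul_zero]
      exact sec_extM F hS fun W' k hk => (key k hk).trans (map_zero (rsm F.val k)).symm
    have h2 := (LocCohZBase.comp_unit_eq_zero_iff U x).2 hx
    have h3 := congrArg (homEquivYon V ((ModSite.pushOver O U).obj ((ModSite.restr O U).obj F))) h2
    rw [homEquivYon_comp] at h3
    refine ((congrArg (apm ((ModSite.restrPushOverAdj O U).unit.app F).val V)
      ((homEquivYon V F).apply_symm_apply s)).symm.trans h3).trans ?_
    exact (congrArg (homEquivYon V _) (comp_zero (f := 𝟙 ((aP O).obj (freeYon O V)))).symm).trans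
      ((homEquivYon_comp V (𝟙 _) 0).trans rfl)

lemma mem_sectOn (U : C) [ModSite.HasPushOver O U] (F : ModSite.Mod O) {V : C}
    (t : sc ((ModSite.sectOn O U).obj F).val V) {W : C} (g : W ⟶ V) (a : W ⟶ U) :
    rsm F.val g (apm ((ModSite.sectOnι O U).app F).val V t) = 0 := by
  refine (unit_apm_eq_zero_iff U F _).1 ?_ g a
  exact congrArg (fun φ : (ModSite.sectOn O U).obj F ⟶ (ModSite.pushOver O U).obj ((ModSite.restr O U).obj F) =>
    apm φ.val V t) (kernel.condition ((ModSite.restrPushOverAdj O U).unit.app F))

variable (O)

section Sect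

variable [HasBinaryProducts C] (U X : C) [ModSite.HasPushOver (O.over X) (Over.mk (Limits.prod.snd : U ⨯ X ⟶ X))]

local notation "UX" => Over.mk (Limits.prod.snd : U ⨯ X ⟶ X)

lemma restr_sectOnι_comp_unit (F : ModSite.Mod O) :
    (ModSite.restr O X).map ((ModSite.sectOnι O U).app F) ≫
      (ModSite.restrPushOverAdj (O.over X) UX).unit.app ((ModSite.restr O X).obj F) = 0 := by
  refine mod_hom_ext fun W t => ?_
  refine (unit_apm_eq_zero_iff UX ((ModSite.restr O X).obj F)
    (apm ((ModSite.restr O X).map ((ModSite.sectOnι O U).app F)).val W t)).2 fun W' g a => ?_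
  exact mem_sectOn U F (ofRes ((ModSite.sectOn O U).obj F).val W t) g.left (a.left ≫ Limits.prod.fst)

lemma sectOnι_comp_restr_unit (F : ModSite.Mod O) :
    (ModSite.sectOnι (O.over X) UX).app ((ModSite.restr O X).obj F) ≫
      (ModSite.restr O X).map ((ModSite.restrPushOverAdj O U).unit.app F) = 0 := by
  refine mod_hom_ext fun W t => ?_
  refine (unit_apm_eq_zero_iff U F (ofRes F.val W
    (apm ((ModSite.sectOnι (O.over X) UX).app ((ModSite.restr O X).obj F)).val W t))).2 fun W' g a => ?_
  exact mem_sectOn UX ((ModSite.restr O X).obj F) t (Over.homMk (U := Over.mk (g ≫ W.hom)) (V := W) g rfl)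
    (Over.homMk (Limits.prod.lift a (g ≫ W.hom)) (Limits.prod.lift_snd _ _))

/-- Sections with support commute with restriction. -/
noncomputable def sectOnRestrIso :
    ModSite.sectOn O U ⋙ ModSite.restr O X ≅ ModSite.restr O X ⋙ ModSite.sectOn (O.over X) UX :=
  NatIso.ofComponents
    (fun F =>
      have : (ModSite.restr O X).Additive := Balanced.additive_of_rightExact _
      { hom := kernel.lift _ _ (restr_sectOnι_comp_unit O U X F)
        inv := kernel.lift _ _ (sectOnι_comp_restr_unit O U X F) ≫
          (PreservesKernel.iso (ModSite.restr O X) ((ModSite.restrPushOverAdj O U).unit.app F)).inv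
        hom_inv_id := by
          rw [← Category.assoc, Iso.comp_inv_eq, Category.id_comp]
          refine (cancel_mono (kernel.ι _)).1 ?_
          refine (Category.assoc _ _ _).trans ((congrArg (_ ≫ ·) (kernel.lift_ι _ _ _)).trans ?_)
          refine (kernel.lift_ι _ _ (restr_sectOnι_comp_unit O U X F)).trans ?_
          rw [PreservesKernel.iso_hom, kernelComparison_comp_ι]
          rfl
        inv_hom_id := by
          refine (cancel_mono (kernel.ι _)).1 ?_
          rw [Category.assoc, Category.assoc, kernel.lift_ι]
          refine (congrArg (kernel.lift _ _ (sectOnι_comp_restr_unit O U X F) ≫ ·) ((congrArg (_ ≫ ·)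
            (kernelComparison_comp_ι _ (ModSite.restr O X)).symm).trans ?_)).trans ((kernel.lift_ι _ _ _).trans
              (Category.id_comp _).symm)
          rw [← PreservesKernel.iso_hom, ← Category.assoc, Iso.inv_hom_id, Category.id_comp] })
    (fun {F G} f => by
      refine (cancel_mono (kernel.ι ((ModSite.restrPushOverAdj (O.over X) UX).unit.app
        ((ModSite.restr O X).obj G)))).1 ?_
      refine (Category.assoc _ _ _).trans ((congrArg (_ ≫ ·) (kernel.lift_ι _ _ _)).trans ?_)
      refine (((ModSite.restr O X).map_comp _ _).symm.trans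
        ((congrArg (ModSite.restr O X).map ((ModSite.sectOnι O U).naturality f)).trans
          ((ModSite.restr O X).map_comp _ _))).trans ?_
      refine Eq.trans ?_ (Category.assoc _ _ _).symm
      refine Eq.trans ?_ (congrArg (_ ≫ ·) ((ModSite.sectOnι (O.over X) UX).naturality
        ((ModSite.restr O X).map f)).symm)
      refine Eq.trans ?_ (Category.assoc _ _ _)
      exact congrArg (· ≫ _) (kernel.lift_ι _ _ (restr_sectOnι_comp_unit O U X F)).symm)

end Sect

end Groth.SitesTopoi.ModH
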