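import Groth.Agent.SitesTopoi.Mod.DerivedRestr
import Groth.Agent.LocCohZBase.Connecting

/-!
Local cohomology sheaves with respect to an open of a ringed site.
-/

universe u

open CategoryTheory CategoryTheory.Limits Opposite

set_option backward.defeqAttrib.useBackward true
set_option backward.isDefEq.respectTransparency false
set_option synthInstance.maxHeartbeats 400000

namespace Groth.SitesTopoi.ModH

open Groth.Misc4.FreeOn

variable {C : Type u} [SmallCategory C] {J : GrothendieckTopology C} (O : Sheaf J CommRingCat.{u}) (U : C)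

lemma mono_counit_extZero (hU : ∀ V : C, Subsingleton (V ⟶ U)) (M : ModSite.Mod O) :
    Mono ((ModSite.extZeroAdj O U).counit.app M) := by
  let adj₁ := (pexAdj (O := O) U).comp (adjP O)
  let adj₂ := (adjP (O.over U)).comp (ModSite.extZeroAdj O U)
  have h₁ : Mono (adj₁.counit.app M) := by
    have : Mono ((aP O).map ((pexAdj U).counit.app M.val)) := mono_aP_map_of_locInj fun V y hy =>
      ⟨⊤, J.top_mem V, fun V' g _ => by
        have hy0 : y = 0 := by
          refine pex_ext _ fun a => ?_
          have e : y = pu (W := Over.mk a) (pexCoeff _ a y) (𝟙 V) := pex_ext _ fun b => by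
            obtain rfl := (hU V).elim a b
            exact (pexCoeff_pu_self _ a _).symm
          have := (congrArg (apm ((pexAdj U).counit.app M.val) V) e).symm.trans hy
          have h' : pexCoeff _ a y = 0 := by
            refine (congrArg (toRes M.val (Over.mk a)) ((Eq.trans ?_ this : ofRes M.val (Over.mk a) (pexCoeff _ a y) = 0))).trans (map_zero _)
            exact ((apm_pexHom M.val _ (𝟙 ((resP U).obj M.val)) _ _).trans (rsm_id _ _)).symm
          rw [h', map_zero]
        rw [hy0, map_zero]⟩
    rw [Adjunction.comp_counit_app]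
    exact @mono_comp _ _ _ _ _ _ this _ inferInstance
  have h₂ : Mono (adj₂.counit.app M) := by
    have e := adj₁.leftAdjointUniq_hom_app_counit adj₂ M
    rw [← IsIso.inv_hom_id_assoc ((adj₁.leftAdjointUniq adj₂).hom.app _) (adj₂.counit.app M)]
    exact @mono_comp _ _ _ _ _ _ inferInstance _ (e.symm ▸ h₁)
  rw [Adjunction.comp_counit_app] at h₂
  rw [← IsIso.inv_hom_id_assoc ((ModSite.extZero O U).map ((adjP (O.over U)).counit.app ((ModSite.restr O U).obj M)))
    ((ModSite.extZeroAdj O U).counit.app M)]
  exact @mono_comp _ _ _ _ _ _ inferInstance _ h₂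

variable [ModSite.HasPushOver O U]

/-- Sections with support, the inclusion and the unit form a complex. -/
lemma sectOnι_unit : ModSite.sectOnι O U ≫ (ModSite.restrPushOverAdj O U).unit = 0 := by
  ext1
  ext1 F
  exact kernel.condition _

/-- The unit is surjective on injectives. -/
lemma epi_unit_of_injective (hU : ∀ V : C, Subsingleton (V ⟶ U)) (I : ModSite.Mod O) [Injective I] :
    Epi ((ModSite.restrPushOverAdj O U).unit.app I) := by
  rw [Preadditive.epi_iff_cancel_zero]
  intro Z h hh
  refine mod_hom_ext fun V t => ?_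
  let adj := ModSite.restrPushOverAdj O U
  let x := (homEquiv V ((ModSite.pushOver O U).obj ((ModSite.restr O U).obj I))).symm t
  let y := ((ModSite.extZeroAdj O U).homEquiv _ _).symm ((adj.homEquiv _ _).symm x)
  have := mono_counit_extZero O U hU (ModSite.freeOn O V)
  let b := Injective.factorThru y ((ModSite.extZeroAdj O U).counit.app (ModSite.freeOn O V))
  have hb : (ModSite.restr O U).map b = (adj.homEquiv _ _).symm x := by
    have e : (ModSite.extZeroAdj O U).homEquiv _ _ ((ModSite.extZeroAdj O U).counit.app (ModSite.freeOn O V) ≫ b) =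
        (ModSite.restr O U).map b := by
      rw [Adjunction.homEquiv_naturality_right, Adjunction.homEquiv_unit, Adjunction.right_triangle_components]
      exact Category.id_comp _
    rw [← e, Injective.comp_factorThru, Equiv.apply_symm_apply]
  have hx : b ≫ adj.unit.app I = x := by
    refine (adj.unit.naturality b).trans ?_
    exact (congrArg (fun m => adj.unit.app _ ≫ (ModSite.pushOver O U).map m) hb).trans
      ((adj.homEquiv_unit _ _ _).symm.trans (Equiv.apply_symm_apply _ _))
  have h0 : x ≫ h = 0 := by
    rw [← hx]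
    exact (Category.assoc _ _ _).trans ((congrArg (b ≫ ·) hh).trans comp_zero)
  have := congrArg (homEquiv V Z) h0
  rw [homEquiv_comp] at this
  refine ((congrArg (apm h.val V) ((homEquiv V _).apply_symm_apply t)).symm.trans this).trans ?_
  exact (congrArg (homEquiv V Z) (comp_zero (f := 𝟙 (ModSite.freeOn O V))).symm).trans ((homEquiv_comp V (𝟙 _) (0 : ModSite.freeOn O V ⟶ Z)).trans rfl)

theorem hzsh_open (hU : ∀ V : C, Subsingleton (V ⟶ U)) [(ModSite.pushOver O U).Additive]
    [HasInjectiveResolutions (ModSite.Mod O)] [HasInjectiveResolutions (ModSite.Mod (O.over U))] :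
    Nonempty (ModSite.HZsh O U 1 ≅ cokernel (ModSite.restrPushOverAdj O U).unit) ∧
      ∀ q : ℕ, 1 ≤ q →
        Nonempty (ModSite.HZsh O U (q + 1) ≅ ModSite.restr O U ⋙ (ModSite.pushOver O U).rightDerived q) := by
  have := restr_preservesInjective O U
  have : (ModSite.restr O U).Additive := Balanced.additive_of_rightExact _
  have : PreservesLimitsOfSize.{0, 0} (ModSite.pushOver O U) := (ModSite.restrPushOverAdj O U).rightAdjoint_preservesLimits
  let P := ModSite.restr O U ⋙ ModSite.pushOver O U
  have : PreservesFiniteLimits (ModSite.pushOver O U) := ⟨fun _ _ _ => inferInstance⟩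
  have : PreservesFiniteLimits P := comp_preservesFiniteLimits _ _
  have hid : ∀ n (F : ModSite.Mod O), IsZero (((𝟭 (ModSite.Mod O)).rightDerived (n + 1)).obj F) := fun n F =>
    LocCohZBase.DerivedComp.isZero_rightDerived (𝟭 _) n F
  have hex : ∀ I : ModSite.Mod O, Injective I → (ShortComplex.mk ((ModSite.sectOnι O U).app I)
      ((ModSite.restrPushOverAdj O U).unit.app I)
      (congrArg (fun t : ModSite.sectOn O U ⟶ P => t.app I) (sectOnι_unit O U))).ShortExact := fun I hI =>
    ShortComplex.ShortExact.mk' (ShortComplex.exact_of_f_is_kernel _ (kernelIsKernel _))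
      (inferInstanceAs (Mono (kernel.ι _))) (@epi_unit_of_injective _ _ _ O U _ hU I hI)
  refine ⟨⟨((cokernelIsCokernel (ModSite.restrPushOverAdj O U).unit).coconePointUniqueUpToIso
    (LocCohZBase.Connecting.isColimitθ (ModSite.sectOn O U) (𝟭 _) P (ModSite.sectOnι O U)
      (ModSite.restrPushOverAdj O U).unit (sectOnι_unit O U) hex (hid 0))).symm⟩, fun i hi => ?_⟩
  obtain ⟨j, rfl⟩ := Nat.exists_eq_add_of_le' hi
  have := LocCohZBase.Connecting.isIso_Δ (ModSite.sectOn O U) (𝟭 _) P (ModSite.sectOnι O U)
    (ModSite.restrPushOverAdj O U).unit (sectOnι_unit O U) hex (j + 1) (hid j) (hid (j + 1))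
  exact ⟨(asIso (LocCohZBase.Connecting.Δ (ModSite.sectOn O U) (𝟭 _) P (ModSite.sectOnι O U)
    (ModSite.restrPushOverAdj O U).unit (sectOnι_unit O U) hex (j + 1))).symm ≪≫
      LocCohZBase.DerivedComp.rightDerivedCompIso (ModSite.restr O U) (ModSite.pushOver O U) (j + 1)⟩

end Groth.SitesTopoi.ModH
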