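import Groth.Agent.SitesTopoi.Mod.QcSum

/-!
Modules presented by finitely many free modules on a generating family of quasi-compact objects.
-/

universe u

open CategoryTheory CategoryTheory.Limits Opposite

set_option backward.defeqAttrib.useBackward true
set_option backward.isDefEq.respectTransparency false
set_option synthInstance.maxHeartbeats 400000

namespace Groth.SitesTopoi.FinFree

open Groth.SitesTopoi.ModH Groth.SitesTopoi.QcSum Groth.Misc4.FreeOn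

variable {C : Type u} [SmallCategory C] {J : GrothendieckTopology C} {O : Sheaf J CommRingCat.{u}}

section Abelian

variable {A : Type*} [Category A] [Abelian A]

/-- An epimorphism between kernels. -/
lemma epi_kernel_map {X Y Z : A} (e : X ⟶ Y) [Epi e] (p : Y ⟶ Z) :
    Epi (kernel.lift p (kernel.ι (e ≫ p) ≫ e) (by simp [kernel.condition])) := by
  rw [epi_iff_surjective_up_to_refinements]
  intro T z
  obtain ⟨T', π, hπ, w, hw⟩ := surjective_up_to_refinements_of_epi e (z ≫ kernel.ι p)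
  refine ⟨T', π, hπ, kernel.lift (e ≫ p) w (by rw [← Category.assoc, ← hw]; simp [kernel.condition]), ?_⟩
  refine (cancel_mono (kernel.ι p)).1 ?_
  simpa using hw

end Abelian

/-- Every object is covered by members of `B`. -/
def Covs (J : GrothendieckTopology C) (B : Set C) : Prop :=
  ∀ X : C, ∃ (κ : Type u) (Y : κ → C) (g : ∀ k, Y k ⟶ X), Sieve.ofArrows Y g ∈ J X ∧ ∀ k, Y k ∈ B

/-- Members of `B` are quasi-compact. -/
def Qc (J : GrothendieckTopology C) (B : Set C) : Prop :=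
  ∀ U ∈ B, CohCx.IsQcObject ((presheafToSheaf J (Type u)).obj (yoneda.obj U))

/-- Fibre products of members of `B` over members of `B` are quasi-compact. -/
def Qc₂ (J : GrothendieckTopology C) (B : Set C) [HasPullbacks C] : Prop :=
  ∀ (U U₁ U₂ : C) (f₁ : U₁ ⟶ U) (f₂ : U₂ ⟶ U), U ∈ B → U₁ ∈ B → U₂ ∈ B →
    CohCx.IsQcObject ((presheafToSheaf J (Type u)).obj (yoneda.obj (pullback f₁ f₂)))

/-- The map of free modules on an arrow. -/
noncomputable def fmap {U V : C} (g : V ⟶ U) : ModSite.freeOn O V ⟶ ModSite.freeOn O U :=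
  (homEquiv V _).symm (rsm (ModSite.freeOn O U).val g (homEquiv U _ (𝟙 _)))

lemma homEquiv_fmap {U V : C} (g : V ⟶ U) {M : ModSite.Mod O} (x : ModSite.freeOn O U ⟶ M) :
    homEquiv V M (fmap g ≫ x) = rsm M.val g (homEquiv U M x) := by
  rw [homEquiv_comp, fmap, Equiv.apply_symm_apply, rsm_app, ← homEquiv_comp, Category.id_comp]

lemma homEquiv_zero (U : C) (M : ModSite.Mod O) : homEquiv U M 0 = 0 := by
  have h : (0 : ModSite.freeOn O U ⟶ M) = (0 : ModSite.freeOn O U ⟶ M) ≫ (0 : M ⟶ M) := zero_comp.symm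
  rw [h, homEquiv_comp]
  rfl

lemma hom_ext_cover {U : C} {κ : Type*} {V : κ → C} {g : ∀ k, V k ⟶ U} (hg : Sieve.ofArrows V g ∈ J U)
    {M : ModSite.Mod O} {a b : ModSite.freeOn O U ⟶ M} (h : ∀ k, fmap (g k) ≫ a = fmap (g k) ≫ b) : a = b := by
  refine (homEquiv U M).injective (sec_extM _ hg ?_)
  rintro W w ⟨_, w', _, ⟨k⟩, rfl⟩
  rw [← rsm_rsm, ← rsm_rsm]
  refine congrArg _ ?_
  rw [← homEquiv_fmap, ← homEquiv_fmap, h k]

variable {B : Set C}

lemma exists_finite_cover (hB₁ : Covs J B) {W : C}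
    (hW : CohCx.IsQcObject ((presheafToSheaf J (Type u)).obj (yoneda.obj W))) {S : Sieve W} (hS : S ∈ J W) :
    ∃ (n : ℕ) (V : Fin n → C) (g : ∀ k, V k ⟶ W), (∀ k, V k ∈ B) ∧ (∀ k, S (g k)) ∧ Sieve.ofArrows V g ∈ J W := by
  let P : Presieve W := fun V g => V ∈ B ∧ S g
  have hP : Sieve.generate P ∈ J W := J.transitive hS _ fun V g hg => by
    obtain ⟨κ, YB, y, hy, hY⟩ := hB₁ V
    refine J.superset_covering ?_ hy
    rintro Z _ ⟨_, z, _, ⟨k⟩, rfl⟩
    exact ⟨YB k, z, y k ≫ g, ⟨hY k, S.downward_closed hg (y k)⟩, (Category.assoc _ _ _).symm⟩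
  obtain ⟨t, ht⟩ := exists_finite_subcover hW hP
  choose YB z y hy hyz using fun i : t => i.1.2.2
  refine ⟨t.card, fun k => YB (t.equivFin.symm k), fun k => y (t.equivFin.symm k), fun k => (hy _).1, fun k => (hy _).2, ?_⟩
  refine J.superset_covering ?_ ht
  rintro Z _ ⟨_, a, _, ⟨i⟩, rfl⟩
  rw [← hyz i, ← Category.assoc]
  refine Sieve.downward_closed _ ?_ _
  obtain ⟨k, rfl⟩ := t.equivFin.symm.surjective i
  exact Sieve.ofArrows_mk _ _ k

variable (B) in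
/-- A finite direct sum of free modules on members of `B`. -/
def IsFF (P : ModSite.Mod O) : Prop :=
  ∃ (n : ℕ) (U : Fin n → C), (∀ i, U i ∈ B) ∧ Nonempty (P ≅ ∐ fun i => ModSite.freeOn O (U i))

variable (B) in
/-- Generated by finitely many sections over members of `B`. -/
def IsFT (K : ModSite.Mod O) : Prop :=
  ∃ (P : ModSite.Mod O) (p : P ⟶ K), IsFF B P ∧ Epi p

variable (B) in
/-- Presented by finitely many free modules on members of `B`. -/
def IsFP (K : ModSite.Mod O) : Prop :=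
  ∃ (m' n' : ℕ) (V' : Fin m' → C) (U' : Fin n' → C)
    (ψ : (∐ fun j => ModSite.freeOn O (V' j)) ⟶ ∐ fun i => ModSite.freeOn O (U' i)),
    (∀ j, V' j ∈ B) ∧ (∀ i, U' i ∈ B) ∧ Nonempty (K ≅ cokernel ψ)

lemma isFF_sigma {ι : Type*} [Finite ι] {U : ι → C} [HasCoproduct fun i => ModSite.freeOn O (U i)] (hU : ∀ i, U i ∈ B) :
    IsFF B (∐ fun i => ModSite.freeOn O (U i)) :=
  ⟨Nat.card ι, fun k => U ((Finite.equivFin ι).symm k), fun _ => hU _,
    ⟨Sigma.whiskerEquiv (Finite.equivFin ι) (fun i => eqToIso (by simp))⟩⟩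

lemma isFF_biprod {P Q : ModSite.Mod O} (hP : IsFF B P) (hQ : IsFF B Q) : IsFF B (P ⊞ Q) := by
  obtain ⟨m, U, hU, ⟨i⟩⟩ := hP
  obtain ⟨n, V, hV, ⟨j⟩⟩ := hQ
  let W : Fin m ⊕ Fin n → C := Sum.elim U V
  obtain ⟨k, W', hW', ⟨w⟩⟩ := isFF_sigma (O := O) (ι := Fin m ⊕ Fin n) (U := W) (Sum.rec hU hV)
  refine ⟨k, W', hW', ⟨biprod.mapIso i j ≪≫ ?_ ≪≫ w⟩⟩
  let f₁ : (∐ fun a => ModSite.freeOn O (U a)) ⟶ ∐ fun s => ModSite.freeOn O (W s) :=
    Sigma.desc fun a => Sigma.ι (fun s => ModSite.freeOn O (W s)) (Sum.inl a)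
  let f₂ : (∐ fun b => ModSite.freeOn O (V b)) ⟶ ∐ fun s => ModSite.freeOn O (W s) :=
    Sigma.desc fun b => Sigma.ι (fun s => ModSite.freeOn O (W s)) (Sum.inr b)
  let g : ∀ s, ModSite.freeOn O (W s) ⟶
      (∐ fun a => ModSite.freeOn O (U a)) ⊞ ∐ fun b => ModSite.freeOn O (V b) :=
    Sum.rec (fun a => Sigma.ι (fun a => ModSite.freeOn O (U a)) a ≫ biprod.inl)
      (fun b => Sigma.ι (fun b => ModSite.freeOn O (V b)) b ≫ biprod.inr)
  refine ⟨biprod.desc f₁ f₂, Sigma.desc g, ?_, ?_⟩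
  · refine biprod.hom_ext' _ _ (Sigma.hom_ext _ _ fun a => ?_) (Sigma.hom_ext _ _ fun b => ?_)
    · simp [f₁, g]
    · simp [f₂, g]
  · refine Sigma.hom_ext _ _ fun s => ?_
    rcases s with a | b
    · simp [f₁, f₂, g]
    · simp [f₁, f₂, g]

lemma IsFF.isFT {P : ModSite.Mod O} (hP : IsFF B P) : IsFT B P := ⟨P, 𝟙 P, hP, inferInstance⟩

lemma IsFT.of_epi {K L : ModSite.Mod O} (hK : IsFT B K) (q : K ⟶ L) [Epi q] : IsFT B L := by
  obtain ⟨P, p, hP, hp⟩ := hK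
  exact ⟨P, p ≫ q, hP, epi_comp p q⟩

lemma IsFT.biprod {K L : ModSite.Mod O} (hK : IsFT B K) (hL : IsFT B L) : IsFT B (K ⊞ L) := by
  obtain ⟨P, p, hP, hp⟩ := hK
  obtain ⟨Q, q, hQ, hq⟩ := hL
  exact ⟨P ⊞ Q, biprod.map p q, isFF_biprod hP hQ, inferInstance⟩

lemma IsFP.exists_epi {K : ModSite.Mod O} (hK : IsFP B K) :
    ∃ (P : ModSite.Mod O) (p : P ⟶ K), IsFF B P ∧ Epi p ∧ IsFT B (kernel p) := by
  obtain ⟨m, n, V, U, ψ, hV, hU, ⟨i⟩⟩ := hK
  have hp : ψ ≫ cokernel.π ψ ≫ i.inv = 0 := by rw [cokernel.condition_assoc, zero_comp]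
  refine ⟨_, cokernel.π ψ ≫ i.inv, isFF_sigma hU, inferInstance, _, kernel.lift _ ψ hp, isFF_sigma hV, ?_⟩
  have h : (ShortComplex.mk ψ (cokernel.π ψ ≫ i.inv) hp).Exact :=
    ShortComplex.exact_of_g_is_cokernel _ (CokernelCofork.IsColimit.ofπ' _ _ fun {_} a ha =>
      ⟨i.hom ≫ cokernel.desc ψ a ha, by simp⟩)
  exact h.epi_kernelLift

lemma IsFP.of_epi {P K : ModSite.Mod O} (p : P ⟶ K) [Epi p] (hP : IsFF B P) (hker : IsFT B (kernel p)) :
    IsFP B K := by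
  obtain ⟨Q, q, ⟨m, V, hV, ⟨j⟩⟩, hq⟩ := hker
  obtain ⟨n, U, hU, ⟨i⟩⟩ := hP
  refine ⟨m, n, V, U, j.inv ≫ q ≫ kernel.ι p ≫ i.hom, hV, hU, ⟨?_⟩⟩
  have hp : (j.inv ≫ q ≫ kernel.ι p ≫ i.hom) ≫ i.inv ≫ p = 0 := by simp [kernel.condition]
  have h : (ShortComplex.mk _ _ hp).Exact := by
    rw [ShortComplex.exact_iff_exact_up_to_refinements]
    intro T z hz
    obtain ⟨T', π, hπ, a, ha⟩ := surjective_up_to_refinements_of_epi (j.inv ≫ q)
      (kernel.lift p (z ≫ i.inv) (by simpa using hz))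
    refine ⟨T', π, hπ, a, ?_⟩
    have := congrArg (· ≫ kernel.ι p ≫ i.hom) ha
    simpa using this
  exact (h.gIsCokernel.coconePointUniqueUpToIso (colimit.isColimit _))

section

variable (hB₁ : Covs J B) (hB₂ : Qc J B)

include hB₁ hB₂

lemma exists_lift {N M : ModSite.Mod O} (q : N ⟶ M) [Epi q] {U : C} (hU : U ∈ B) (x : ModSite.freeOn O U ⟶ M) :
    ∃ (n : ℕ) (V : Fin n → C) (g : ∀ k, V k ⟶ U) (y : ∀ k, ModSite.freeOn O (V k) ⟶ N),
      (∀ k, V k ∈ B) ∧ Sieve.ofArrows V g ∈ J U ∧ ∀ k, y k ≫ q = fmap (g k) ≫ x := by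
  obtain ⟨S, hS, hS'⟩ := locSurj_of_epi q U (homEquiv U M x)
  obtain ⟨n, V, g, hV, hg, hcov⟩ := exists_finite_cover hB₁ (hB₂ U hU) hS
  choose m hm using fun k => hS' (g k) (hg k)
  refine ⟨n, V, g, fun k => (homEquiv (V k) N).symm (m k), hV, hcov, fun k => (homEquiv (V k) M).injective ?_⟩
  rw [homEquiv_comp, Equiv.apply_symm_apply, homEquiv_fmap, hm k]

/-- Morphisms from a finite free module lift through an epimorphism after refinement. -/
lemma exists_refine_lift {P N M : ModSite.Mod O} (hP : IsFF B P) (q : N ⟶ M) [Epi q] (x : P ⟶ M) :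
    ∃ (P' : ModSite.Mod O) (e : P' ⟶ P) (y : P' ⟶ N), IsFF B P' ∧ Epi e ∧ y ≫ q = e ≫ x ∧
      ∀ [HasPullbacks C], Qc₂ J B → IsFT B (kernel e) := by
  classical
  obtain ⟨n, U, hU, ⟨i⟩⟩ := hP
  choose nn V g y hV hcov hy using fun a => exists_lift hB₁ hB₂ q (hU a) (Sigma.ι (fun a => ModSite.freeOn O (U a)) a ≫ i.inv ≫ x)
  let P' := ∐ fun s : Σ a, Fin (nn a) => ModSite.freeOn O (V s.1 s.2)
  let e₀ : P' ⟶ ∐ fun a => ModSite.freeOn O (U a) :=
    Sigma.desc fun s => fmap (g s.1 s.2) ≫ Sigma.ι (fun a => ModSite.freeOn O (U a)) s.1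
  have he₀ : Epi e₀ := ⟨fun {Z} a b h => Sigma.hom_ext _ _ fun c => hom_ext_cover (hcov c) fun k => by
    have := congrArg (Sigma.ι (fun s : Σ a, Fin (nn a) => ModSite.freeOn O (V s.1 s.2)) ⟨c, k⟩ ≫ ·) h
    simpa [e₀] using this⟩
  refine ⟨P', e₀ ≫ i.inv, Sigma.desc fun s => y s.1 s.2, isFF_sigma (fun s => hV s.1 s.2), inferInstance, ?_, ?_⟩
  · refine Sigma.hom_ext _ _ fun s => ?_
    simp [e₀, P', hy]
  intro hpb hB₃
  choose r W w hW hwS hwcov using fun p : Σ a, Fin (nn a) × Fin (nn a) =>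
    exists_finite_cover hB₁ (hB₃ _ _ _ (g p.1 p.2.1) (g p.1 p.2.2) (hU p.1) (hV p.1 p.2.1) (hV p.1 p.2.2)) (J.top_mem _)
  let Q := ∐ fun t : Σ p : (Σ a, Fin (nn a) × Fin (nn a)), Fin (r p) => ModSite.freeOn O (W t.1 t.2)
  let R : Q ⟶ P' := Sigma.desc fun t =>
    fmap (w t.1 t.2 ≫ pullback.fst _ _) ≫ Sigma.ι (fun s : Σ a, Fin (nn a) => ModSite.freeOn O (V s.1 s.2)) ⟨t.1.1, t.1.2.1⟩ -
    fmap (w t.1 t.2 ≫ pullback.snd _ _) ≫ Sigma.ι (fun s : Σ a, Fin (nn a) => ModSite.freeOn O (V s.1 s.2)) ⟨t.1.1, t.1.2.2⟩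
  have hRe : R ≫ e₀ ≫ i.inv = 0 := by
    rw [← Category.assoc]
    refine Eq.trans (congrArg (· ≫ i.inv) ?_) zero_comp
    refine Sigma.hom_ext _ _ fun t => ?_
    simp only [R, e₀, Q, P', Sigma.ι_desc_assoc, Preadditive.sub_comp, Category.assoc, Sigma.ι_desc, comp_zero]
    rw [← Category.assoc, ← Category.assoc, sub_eq_zero]
    refine congrArg (· ≫ _) ((homEquiv _ _).injective ?_)
    rw [homEquiv_fmap, homEquiv_fmap, fmap, fmap, Equiv.apply_symm_apply, Equiv.apply_symm_apply, rsm_rsm, rsm_rsm,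
      Category.assoc, Category.assoc, pullback.condition]
  refine ⟨Q, kernel.lift _ R hRe, isFF_sigma (fun t => hW t.1 t.2), ?_⟩
  have key : ∀ {Z : ModSite.Mod O} (h : P' ⟶ Z), R ≫ h = 0 → ∃ j, (e₀ ≫ i.inv) ≫ j = h := fun {Z} h hh => by
    let sec : ∀ a k, sc Z.val (V a k) := fun a k =>
      homEquiv (V a k) Z (Sigma.ι (fun s : Σ a, Fin (nn a) => ModSite.freeOn O (V s.1 s.2)) ⟨a, k⟩ ≫ h)
    have hcomp : ∀ a k l {T : C} (f₁ : T ⟶ V a k) (f₂ : T ⟶ V a l), f₁ ≫ g a k = f₂ ≫ g a l →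
        rsm Z.val f₁ (sec a k) = rsm Z.val f₂ (sec a l) := by
      intro a k l T f₁ f₂ hf
      suffices rsm Z.val (pullback.fst (g a k) (g a l)) (sec a k) = rsm Z.val (pullback.snd (g a k) (g a l)) (sec a l) by
        have := congrArg (rsm Z.val (pullback.lift f₁ f₂ hf)) this
        rwa [rsm_rsm, rsm_rsm, pullback.lift_fst, pullback.lift_snd] at this
      refine sec_extM _ (hwcov ⟨a, k, l⟩) ?_
      rintro T' _ ⟨_, w', _, ⟨m⟩, rfl⟩
      simp only [← rsm_rsm]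
      refine congrArg (rsm Z.val w') ?_
      have hz := congrArg (Sigma.ι (fun t : Σ p : (Σ a, Fin (nn a) × Fin (nn a)), Fin (r p) =>
        ModSite.freeOn O (W t.1 t.2)) ⟨⟨a, k, l⟩, m⟩ ≫ ·) hh
      simp only [R, Q, Sigma.ι_desc_assoc, Preadditive.sub_comp, Category.assoc, comp_zero, sub_eq_zero] at hz
      have := congrArg (homEquiv _ Z) hz
      rw [homEquiv_fmap, homEquiv_fmap, ← rsm_rsm, ← rsm_rsm] at this
      exact this
    have glue : ∀ a, ∃ s : sc Z.val (U a), ∀ k, rsm Z.val (g a k) s = sec a k := fun a => by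
      have hex : ∀ ⦃T : C⦄ (f : T ⟶ U a), Sieve.ofArrows (V a) (g a) f → ∃ k, ∃ f' : T ⟶ V a k, f' ≫ g a k = f := by
        rintro T _ ⟨_, f', _, ⟨k⟩, rfl⟩
        exact ⟨k, f', rfl⟩
      choose kf ff hff using hex
      obtain ⟨s, hs⟩ := glueM Z (hcov a) (fun T f hf => rsm Z.val (ff f hf) (sec a (kf f hf))) (fun T T' f hf u => by
        rw [rsm_rsm]
        exact hcomp _ _ _ _ _ (by rw [Category.assoc, hff, hff]))
      refine ⟨s, fun k => ?_⟩
      rw [hs (g a k) (Sieve.ofArrows_mk _ _ k)]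
      refine (hcomp _ _ _ _ (𝟙 _) ?_).trans (rsm_id _ _)
      rw [hff, Category.id_comp]
    choose s hs using glue
    refine ⟨i.hom ≫ Sigma.desc fun a => (homEquiv (U a) Z).symm (s a), Sigma.hom_ext _ _ fun t => ?_⟩
    simp only [e₀, P', Category.assoc, Iso.inv_hom_id_assoc, Sigma.ι_desc_assoc, Sigma.ι_desc]
    refine (homEquiv _ Z).injective ?_
    rw [homEquiv_fmap, Equiv.apply_symm_apply, hs]
  have hex : (ShortComplex.mk R (e₀ ≫ i.inv) hRe).Exact :=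
    ShortComplex.exact_of_g_is_cokernel _ (CokernelCofork.IsColimit.ofπ' _ _ fun {_} a ha =>
      ⟨(key a ha).choose, (key a ha).choose_spec⟩)
  exact hex.epi_kernelLift

lemma IsFT.extension {S : ShortComplex (ModSite.Mod O)} (hS : S.Exact) [Epi S.g] (h₁ : IsFT B S.X₁)
    (h₃ : IsFT B S.X₃) : IsFT B S.X₂ := by
  obtain ⟨P, p, hP, hp⟩ := h₁
  obtain ⟨Q, q, hQ, hq⟩ := h₃
  obtain ⟨Q', e, y, hQ', he, hy, -⟩ := exists_refine_lift hB₁ hB₂ hQ S.g q
  refine ⟨P ⊞ Q', biprod.desc (p ≫ S.f) y, isFF_biprod hP hQ', ?_⟩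
  rw [Preadditive.epi_iff_cancel_zero]
  intro Z h hh
  have h1 : p ≫ S.f ≫ h = 0 := by simpa using congrArg (biprod.inl ≫ ·) hh
  have h2 : y ≫ h = 0 := by simpa using congrArg (biprod.inr ≫ ·) hh
  obtain ⟨j, hj⟩ : ∃ j, S.g ≫ j = h :=
    ⟨hS.desc h ((cancel_epi p).1 (by rw [h1, comp_zero])), hS.g_desc _ _⟩
  have : j = 0 := (cancel_epi (e ≫ q)).1 (by rw [← hy, Category.assoc, hj, h2, comp_zero])
  rw [← hj, this, comp_zero]

lemma kernel_comp {X Y Z : ModSite.Mod O} (e : X ⟶ Y) [Epi e] (p : Y ⟶ Z) (he : IsFT B (kernel e))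
    (hp : IsFT B (kernel p)) : IsFT B (kernel (e ≫ p)) := by
  let f : kernel e ⟶ kernel (e ≫ p) := kernel.lift _ (kernel.ι e) (by simp)
  let g : kernel (e ≫ p) ⟶ kernel p := kernel.lift p (kernel.ι (e ≫ p) ≫ e) (by simp [kernel.condition])
  let S : ShortComplex (ModSite.Mod O) := ShortComplex.mk f g ((cancel_mono (kernel.ι p)).1 (by simp [f, g]))
  have hS : S.Exact := by
    rw [ShortComplex.exact_iff_exact_up_to_refinements]
    intro T z hz
    have hz' := congrArg (· ≫ kernel.ι p) hz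
    refine ⟨T, 𝟙 T, inferInstance, kernel.lift e (z ≫ kernel.ι (e ≫ p)) (by simpa [S, g] using hz'), ?_⟩
    refine (cancel_mono (kernel.ι (e ≫ p))).1 ?_
    simp [S, f]
  have : Epi S.g := epi_kernel_map e p
  exact IsFT.extension hB₁ hB₂ hS he hp

/-- The kernel of an epimorphism from a module of finite type onto a finitely presented module is of finite type. -/
lemma kernel_of_epi [HasPullbacks C] (hB₃ : Qc₂ J B) {N M : ModSite.Mod O} (hN : IsFT B N) (hM : IsFP B M)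
    (q : N ⟶ M) [Epi q] : IsFT B (kernel q) := by
  obtain ⟨P, p, hP, hp, hkp⟩ := hM.exists_epi
  obtain ⟨P', e, t, hP', he, ht, hke⟩ := exists_refine_lift hB₁ hB₂ hP q p
  have hk := kernel_comp hB₁ hB₂ e p (hke hB₃) hkp
  obtain ⟨A, x, hA, hx⟩ := hN
  obtain ⟨A', e₂, l, hA', he₂, hl, -⟩ := exists_refine_lift hB₁ hB₂ hA (e ≫ p) (x ≫ q)
  let c : kernel (e ≫ p) ⊞ A' ⟶ kernel q :=
    biprod.desc (kernel.lift q (kernel.ι (e ≫ p) ≫ t) (by simp [ht, kernel.condition]))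
      (kernel.lift q (e₂ ≫ x - l ≫ t) (by simp [ht, hl]))
  have : Epi c := by
    rw [epi_iff_surjective_up_to_refinements]
    intro T z
    obtain ⟨T', π, hπ, a, ha⟩ := surjective_up_to_refinements_of_epi (e₂ ≫ x) (z ≫ kernel.ι q)
    have h0 : (a ≫ l) ≫ e ≫ p = 0 := by
      rw [Category.assoc, hl, ← Category.assoc e₂, ← Category.assoc, ← ha]
      simp [kernel.condition]
    refine ⟨T', π, hπ, biprod.lift (kernel.lift _ (a ≫ l) h0) a, ?_⟩
    refine (cancel_mono (kernel.ι _)).1 ?_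
    simp [c, ha]
  exact (hk.biprod hA'.isFT).of_epi c

/-- The cokernel of a morphism from a module of finite type to a finitely presented module is finitely presented. -/
lemma isFP_cokernel {F G : ModSite.Mod O} (α : F ⟶ G) (hF : IsFT B F) (hG : IsFP B G) : IsFP B (cokernel α) := by
  obtain ⟨P, p, hP, hp, hkp⟩ := hG.exists_epi
  obtain ⟨A, x, hA, hx⟩ := hF
  obtain ⟨A', e, y, hA', he, hy, -⟩ := exists_refine_lift hB₁ hB₂ hA p (x ≫ α)
  refine IsFP.of_epi (p ≫ cokernel.π α) hP ?_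
  let c : kernel p ⊞ A' ⟶ kernel (p ≫ cokernel.π α) :=
    biprod.desc (kernel.lift _ (kernel.ι p) (by simp))
      (kernel.lift _ y (by rw [reassoc_of% hy]; simp))
  have : Epi c := by
    rw [epi_iff_surjective_up_to_refinements]
    intro T z
    obtain ⟨T₁, π₁, hπ₁, w, hw⟩ := (ShortComplex.mk α (cokernel.π α) (cokernel.condition α)).exact_iff_exact_up_to_refinements.1
      (ShortComplex.exact_of_g_is_cokernel _ (cokernelIsCokernel α)) (z ≫ kernel.ι _ ≫ p) (by simp [kernel.condition])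
    obtain ⟨T₂, π₂, hπ₂, a, ha⟩ := surjective_up_to_refinements_of_epi (e ≫ x) w
    have h0 : (π₂ ≫ π₁ ≫ z ≫ kernel.ι (p ≫ cokernel.π α) - a ≫ y) ≫ p = 0 := by
      dsimp at hw
      simp only [Preadditive.sub_comp, Category.assoc, hy, sub_eq_zero]
      rw [hw, reassoc_of% ha]
    refine ⟨T₂, π₂ ≫ π₁, inferInstance, biprod.lift (kernel.lift p _ h0) a, ?_⟩
    refine (cancel_mono (kernel.ι _)).1 ?_
    simp [c]
  exact (hkp.biprod hA'.isFT).of_epi c

lemma isFP_extension [HasPullbacks C] (hB₃ : Qc₂ J B) {S : ShortComplex (ModSite.Mod O)} (hS : S.ShortExact)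
    (h₁ : IsFP B S.X₁) (h₃ : IsFP B S.X₃) : IsFP B S.X₂ := by
  have := hS.epi_g
  have := hS.mono_f
  have ft : ∀ {K : ModSite.Mod O}, IsFP B K → IsFT B K := fun h => by
    obtain ⟨P, p, hP, hp, -⟩ := h.exists_epi
    exact ⟨P, p, hP, hp⟩
  obtain ⟨P, p, hP, hp⟩ := IsFT.extension hB₁ hB₂ hS.exact (ft h₁) (ft h₃)
  refine IsFP.of_epi p hP ?_
  have hK := kernel_of_epi hB₁ hB₂ hB₃ hP.isFT h₃ (p ≫ S.g)
  let u : kernel (p ≫ S.g) ⟶ S.X₁ := hS.exact.lift (kernel.ι (p ≫ S.g) ≫ p) (by simp [kernel.condition])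
  have hu : u ≫ S.f = kernel.ι (p ≫ S.g) ≫ p := hS.exact.lift_f _ _
  have : Epi u := by
    rw [epi_iff_surjective_up_to_refinements]
    intro T z
    obtain ⟨T', π, hπ, a, ha⟩ := surjective_up_to_refinements_of_epi p (z ≫ S.f)
    refine ⟨T', π, hπ, kernel.lift _ a (by rw [← Category.assoc, ← ha]; simp), ?_⟩
    refine (cancel_mono S.f).1 ?_
    simp [hu, ha]
  have hku := kernel_of_epi hB₁ hB₂ hB₃ hK h₁ u
  let v : kernel u ⟶ kernel p := kernel.lift p (kernel.ι u ≫ kernel.ι (p ≫ S.g))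
    (by rw [Category.assoc, ← hu, kernel.condition_assoc, zero_comp])
  have : Epi v := by
    have hc : (kernel.lift (p ≫ S.g) (kernel.ι p) (by simp)) ≫ u = 0 := (cancel_mono S.f).1 (by simp [hu])
    have hsec : kernel.lift u _ hc ≫ v = 𝟙 _ := (cancel_mono (kernel.ι p)).1 (by simp [v])
    exact epi_of_epi_fac hsec
  exact hku.of_epi v

variable (hker : ∀ (P Q : ModSite.Mod O) (φ : P ⟶ Q), IsFF B P → IsFF B Q → IsFT B (kernel φ))

include hker

lemma kernel_of_coherent {P M : ModSite.Mod O} (hP : IsFF B P) (hM : IsFP B M) (q : P ⟶ M) :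
    IsFT B (kernel q) := by
  obtain ⟨P₀, p, hP₀, hp, P₁, r, hP₁, hr⟩ := hM.exists_epi
  obtain ⟨P', e, y, hP', he, hy, -⟩ := exists_refine_lift hB₁ hB₂ hP p q
  let R := r ≫ kernel.ι p
  let φ : P' ⊞ P₁ ⟶ P₀ := biprod.desc y R
  have hk := hker _ _ φ (isFF_biprod hP' hP₁) hP₀
  have hc0 : (kernel.ι φ ≫ biprod.fst ≫ e) ≫ q = 0 := by
    have h : kernel.ι φ ≫ (biprod.fst ≫ y + biprod.snd ≫ R) = 0 := by
      rw [← biprod.desc_eq]
      exact kernel.condition φ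
    have := congrArg (· ≫ p) h
    simp only [Preadditive.comp_add, Preadditive.add_comp, Category.assoc, hy, R, kernel.condition, comp_zero,
      add_zero, zero_comp] at this
    simpa using this
  let c : kernel φ ⟶ kernel q := kernel.lift q _ hc0
  have : Epi c := by
    rw [epi_iff_surjective_up_to_refinements]
    intro T z
    obtain ⟨T₁, π₁, hπ₁, a, ha⟩ := surjective_up_to_refinements_of_epi e (z ≫ kernel.ι q)
    have h1 : (a ≫ y) ≫ p = 0 := by
      rw [Category.assoc, hy, ← Category.assoc, ← ha]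
      simp [kernel.condition]
    obtain ⟨T₂, π₂, hπ₂, b, hb⟩ := surjective_up_to_refinements_of_epi r (kernel.lift p (a ≫ y) h1)
    have hb' := congrArg (· ≫ kernel.ι p) hb
    simp at hb'
    refine ⟨T₂, π₂ ≫ π₁, inferInstance, kernel.lift φ (biprod.lift (π₂ ≫ a) (-b)) (by simp [φ, R, hb']), ?_⟩
    refine (cancel_mono (kernel.ι _)).1 ?_
    simp [c, ha]
  exact hk.of_epi c

lemma isFP_kernel {F G : ModSite.Mod O} (α : F ⟶ G) (hF : IsFP B F) (hG : IsFP B G) : IsFP B (kernel α) := by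
  obtain ⟨P, p, hP, hp, -⟩ := hF.exists_epi
  have h1 := kernel_of_coherent hB₁ hB₂ hker hP hG (p ≫ α)
  have := epi_kernel_map p α
  obtain ⟨Q, x, hQ, hx⟩ := h1.of_epi (kernel.lift α (kernel.ι (p ≫ α) ≫ p) _)
  refine IsFP.of_epi x hQ ?_
  exact (kernel_of_coherent hB₁ hB₂ hker hQ hF (x ≫ kernel.ι α)).of_epi (kernelCompMono x (kernel.ι α)).hom

end

end Groth.SitesTopoi.FinFree
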