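import Groth.Agent.SitesTopoi.Mod.HomColim
import Groth.Agent.SitesTopoi.Topos.Eps

/-!
Morphisms out of a finitely presented module commute with filtered colimits on quasi-compact quasi-separated sites.
-/

universe u

open CategoryTheory CategoryTheory.Limits Opposite

set_option backward.defeqAttrib.useBackward true
set_option backward.isDefEq.respectTransparency false
set_option synthInstance.maxHeartbeats 400000

namespace Groth.SitesTopoi.HomGlobal

open Groth.SitesTopoi.ModH Groth.SitesTopoi.HomSec Groth.SitesTopoi.FiltColim Groth.Misc4.FreeOn Groth.SitesTopoi.Topos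

variable {C : Type u} [SmallCategory C] {J : GrothendieckTopology C} {O : Sheaf J CommRingCat.{u}}

lemma covers_of_jointlySurjective {K : Tp J} {I : Type u} {L : I → Tp J} {f : ∀ i, L i ⟶ K}
    (h : CohCx.JointlySurjective f) : Covers f := fun U s => by
  obtain ⟨S, hS, hS'⟩ := h U s
  exact J.superset_covering (fun V g hg => hS' V g hg) hS

lemma jointlySurjective_of_covers {K : Tp J} {I : Type u} {L : I → Tp J} {f : ∀ i, L i ⟶ K}
    (h : Covers f) : CohCx.JointlySurjective f := fun U s => ⟨_, h U s, fun _ _ hg => hg⟩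

/-- A property holding locally holds on a finite covering family of a quasi-compact sheaf. -/
lemma finite_family {K : Tp J} (hK : CohCx.IsQcObject K) (P : ∀ X : C, K.obj.obj (op X) → Prop)
    (hP : ∀ X k, ∃ S ∈ J X, ∀ ⦃V : C⦄ (g : V ⟶ X), S g → P V (rs K g k)) :
    ∃ T : Finset (Σ X : C, {k : K.obj.obj (op X) // P X k}), ∀ X k, ∃ S ∈ J X, ∀ ⦃V : C⦄ (g : V ⟶ X), S g →
      ∃ p ∈ T, ∃ h : V ⟶ p.1, rs K h p.2.1 = rs K g k := by
  have hc : Covers (fun p : (Σ X : C, {k : K.obj.obj (op X) // P X k}) => epsLift (J := J) p.2.1) := fun X k => by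
    obtain ⟨S, hS, hS'⟩ := hP X k
    exact J.superset_covering (fun V g hg => ⟨⟨V, _, hS' g hg⟩, epsSec (𝟙 V), by rw [ap_epsLift, rs_id]⟩) hS
  obtain ⟨T, hT⟩ := hK _ _ _ (jointlySurjective_of_covers hc)
  refine ⟨T, fun X k => ?_⟩
  refine exists_refine (covers_of_jointlySurjective hT X k) fun V g hg => ?_
  obtain ⟨⟨p, hp⟩, t, ht⟩ := hg
  obtain ⟨R, hR, hR'⟩ := exists_local_epsSec t
  refine ⟨R, hR, fun W h hh => ?_⟩
  obtain ⟨a, ha⟩ := hR' h hh
  refine ⟨p, hp, a, ?_⟩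
  rw [← ap_epsLift p.2.1 a, ← ha, ap_rs, ht, rs_rs]

lemma top_eq {X : C} (a b : (⊤_ Tp J).obj.obj (op X)) : a = b := by
  have h := congrArg (fun φ => ap φ (epsSec (J := J) (𝟙 X))) (terminalIsTerminal.hom_ext (epsLift a) (epsLift b))
  simpa only [ap_epsLift, rs_id] using h

lemma exists_local_section {K : Tp J} [Epi (terminal.from K)] (X : C) :
    ∃ S ∈ J X, ∀ ⦃V : C⦄ (g : V ⟶ X), S g → Nonempty (K.obj.obj (op V)) :=
  ⟨_, (covers_single_iff (terminal.from K)).2 inferInstance X (ap (terminal.from (epsObj (J := J) X)) (epsSec (𝟙 X))),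
    fun _ _ ⟨_, t, _⟩ => ⟨t⟩⟩

lemma isQcObject_of_prod {K : Tp J} (h : CohCx.IsQcObject (K ⨯ K)) : CohCx.IsQcObject K := by
  intro I L f hf
  obtain ⟨T, hT⟩ := h I (fun i => L i ⨯ K) (fun i => prod.map (f i) (𝟙 K)) (jointlySurjective_of_covers fun U s => by
    refine J.superset_covering ?_ (covers_of_jointlySurjective hf U (ap prod.fst s))
    rintro V g ⟨i, t, ht⟩
    refine ⟨i, ap (prod.lift (epsLift t) (epsLift (rs K g (ap prod.snd s)))) (epsSec (𝟙 V)), ?_⟩
    have h1 : prod.lift (epsLift t) (epsLift (rs K g (ap prod.snd s))) ≫ prod.map (f i) (𝟙 K) =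
        epsLift (rs (K ⨯ K) g s) := by
      ext1
      · refine eps_hom_ext ?_
        simp only [prod.lift_map, prod.lift_fst]
        rw [ap_comp, ap_comp, ap_epsLift, ap_epsLift, rs_id, rs_id, ht, ← ap_rs]
      · refine eps_hom_ext ?_
        simp only [prod.lift_map, prod.lift_snd, Category.comp_id]
        rw [ap_comp, ap_epsLift, ap_epsLift, rs_id, rs_id, ← ap_rs]
    rw [← ap_comp, h1, ap_epsLift, rs_id])
  refine ⟨T, jointlySurjective_of_covers fun U k => ?_⟩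
  refine J.superset_covering ?_ (covers_of_jointlySurjective hT U (ap (prod.lift (epsLift k) (epsLift k)) (epsSec (𝟙 U))))
  rintro V g ⟨i, t, ht⟩
  refine ⟨i, ap prod.fst t, ?_⟩
  have h2 := congrArg (ap prod.fst) ht
  rw [← ap_comp (prod.map (f i.1) (𝟙 K)), prod.map_fst, ap_comp, ap_rs, ← ap_comp (prod.lift (epsLift k) (epsLift k)), prod.lift_fst,
    ap_epsLift, rs_id] at h2
  exact h2

section

variable (S : Set (Sheaf J (Type u)))

/-- Quasi-compact covers of the final sheaf with quasi-compact squares exist cofinally. -/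
def HasQcqsCovers : Prop :=
  (∀ F : Sheaf J (Type u), Epi (terminal.from F) → ∃ K ∈ S, Epi (terminal.from K) ∧ Nonempty (K ⟶ F)) ∧
    ∀ K ∈ S, CohCx.IsQcObject (K ⨯ K)

variable {S}

lemma finite_objects (hS : HasQcqsCovers S) (P : C → Prop)
    (hP : ∀ X : C, ∃ R ∈ J X, ∀ ⦃V : C⦄ (g : V ⟶ X), R g → P V) :
    ∃ T : Finset C, (∀ Y ∈ T, P Y) ∧ ∀ X : C, ∃ R ∈ J X, ∀ ⦃V : C⦄ (g : V ⟶ X), R g → ∃ Y ∈ T, Nonempty (V ⟶ Y) := by
  classical
  have : Epi (terminal.from (⊤_ Tp J)) := by rw [terminalIsTerminal.hom_ext (terminal.from _) (𝟙 _)]; infer_instance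
  obtain ⟨K, hK, hKe, -⟩ := hS.1 _ this
  obtain ⟨T, hT⟩ := finite_family (isQcObject_of_prod (hS.2 K hK)) (fun X _ => P X) fun X _ => hP X
  refine ⟨T.image fun p => p.1, fun Y hY => ?_, fun X => ?_⟩
  · obtain ⟨p, -, rfl⟩ := Finset.mem_image.1 hY
    exact p.2.2
  · obtain ⟨R, hR, hR'⟩ := exists_local_section (K := K) X
    refine exists_refine hR fun V g hg => ?_
    obtain ⟨k⟩ := hR' g hg
    obtain ⟨R₂, hR₂, hR₂'⟩ := hT V k
    refine ⟨R₂, hR₂, fun W h hh => ?_⟩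
    obtain ⟨p, hp, a, -⟩ := hR₂' h hh
    exact ⟨p.1, Finset.mem_image_of_mem _ hp, ⟨a⟩⟩

variable {F : ModSite.Mod O} [ModSite.HasSheafHom F]

/-- The global section of the internal hom of a morphism. -/
noncomputable def glob {N : ModSite.Mod O} (φ : F ⟶ N) (X : C) : sc ((ModSite.sheafHom F).obj N).val X :=
  (exists_section ((ModSite.restr O X).map φ)).choose

lemma evalAt_glob {N : ModSite.Mod O} (φ : F ⟶ N) (X : C) {V : C} (g : V ⟶ X) (f : sc F.val V) :
    evalAt (glob φ X) g f = apm φ.val V f :=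
  ((exists_section ((ModSite.restr O X).map φ)).choose_spec g f).trans rfl

lemma rsm_glob {N : ModSite.Mod O} (φ : F ⟶ N) {X Y : C} (a : Y ⟶ X) :
    rsm ((ModSite.sheafHom F).obj N).val a (glob φ X) = glob φ Y :=
  ext_evalAt fun g f => by rw [evalAt_rsm, evalAt_glob, evalAt_glob]

lemma exists_hom_of_family {N : ModSite.Mod O} (s : ∀ X : C, sc ((ModSite.sheafHom F).obj N).val X)
    (hs : ∀ {X Y : C} (a : Y ⟶ X), rsm ((ModSite.sheafHom F).obj N).val a (s X) = s Y) :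
    ∃ φ : F ⟶ N, ∀ (X : C) (f : sc F.val X), apm φ.val X f = evalAt (s X) (𝟙 X) f := by
  refine ⟨⟨{ app := fun X => ModuleCat.ofHom (X := sc F.val X.unop) (Y := sc N.val X.unop)
                (comp' (secEquiv F N X.unop (s X.unop)) (𝟙 X.unop))
             naturality := fun {X Y} a => by
               ext f
               change comp' (secEquiv F N Y.unop (s Y.unop)) (𝟙 Y.unop) (rsm F.val a.unop f) =
                 rsm N.val a.unop (comp' (secEquiv F N X.unop (s X.unop)) (𝟙 X.unop) f)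
               rw [rsm_comp', comp'_secEquiv, comp'_secEquiv, ← hs a.unop, evalAt_rsm]
               simp }⟩, fun X f => comp'_secEquiv (s X) (𝟙 X) f⟩

variable [F.IsFinitePresentation] {Λ : Type u} [SmallCategory Λ] [IsFiltered Λ] {D : Λ ⥤ ModSite.Mod O} {c : Cocone D}
  (hc : IsColimit c)

include hc

theorem exists_zero_stage (hS : HasQcqsCovers S) {l : Λ} (φ : F ⟶ D.obj l) (h : φ ≫ c.ι.app l = 0) :
    ∃ (l' : Λ) (α : l ⟶ l'), φ ≫ D.map α = 0 := by
  classical
  let H := ModSite.sheafHom F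
  have hH := (HomColim.preserves (F := F) hc).some
  let P : C → Prop := fun X => ∃ (l' : Λ) (α : l ⟶ l'), apm (H.map (D.map α)).val X (glob φ X) = 0
  obtain ⟨T, hT, hcov⟩ := finite_objects hS P fun X => by
    have h0 : apm (H.map (c.ι.app l)).val X (glob φ X) = 0 := ext_evalAt fun g f => by
      rw [evalAt_map, evalAt_glob, evalAt_zero]
      exact congrArg (fun ψ => apm (SheafOfModules.Hom.val ψ) _ f) h
    obtain ⟨R, hR, hR'⟩ := exists_local_zero (H.mapCocone c) hH X (glob φ X) h0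
    refine ⟨R, hR, fun V g hg => ?_⟩
    obtain ⟨l', α, hα⟩ := hR' g hg
    exact ⟨l', α, (congrArg (apm (H.map (D.map α)).val V) (rsm_glob φ g).symm).trans hα⟩
  choose lY αY hY using fun Y : T => hT Y.1 Y.2
  obtain ⟨k', β, hβ⟩ : ∃ (k' : Λ) (β : l ⟶ k'), ∀ Y : T, ∃ γ : lY Y ⟶ k', αY Y ≫ γ = β := by
    have : ∀ T' : Finset T, ∃ (k' : Λ) (β : l ⟶ k'), ∀ Y ∈ T', ∃ γ : lY Y ⟶ k', αY Y ≫ γ = β := by
      intro T'
      induction T' using Finset.induction_on with
      | empty => exact ⟨l, 𝟙 l, fun Y hY' => absurd hY' (Finset.notMem_empty Y)⟩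
      | insert Y T' _ ih =>
        obtain ⟨k', β, hβ⟩ := ih
        refine ⟨_, β ≫ IsFiltered.rightToMax (lY Y) k' ≫ IsFiltered.coeqHom (αY Y ≫ IsFiltered.leftToMax (lY Y) k')
          (β ≫ IsFiltered.rightToMax (lY Y) k'), fun Z hZ => ?_⟩
        rcases Finset.mem_insert.1 hZ with rfl | hZ
        · exact ⟨IsFiltered.leftToMax _ k' ≫ IsFiltered.coeqHom _ _, by rw [← Category.assoc, IsFiltered.coeq_condition, Category.assoc]⟩
        · obtain ⟨γ, hγ⟩ := hβ Z hZ
          exact ⟨γ ≫ IsFiltered.rightToMax (lY Y) k' ≫ IsFiltered.coeqHom _ _, by rw [← Category.assoc, hγ]⟩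
    obtain ⟨k', β, hβ⟩ := this Finset.univ
    exact ⟨k', β, fun Y => hβ Y (Finset.mem_univ Y)⟩
  refine ⟨k', β, mod_hom_ext fun X f => ?_⟩
  obtain ⟨R, hR, hR'⟩ := hcov X
  refine sec_extM _ hR fun V g hg => ?_
  obtain ⟨Y, hYT, ⟨v⟩⟩ := hR' g hg
  obtain ⟨γ, hγ⟩ := hβ ⟨Y, hYT⟩
  have h1 : apm (φ ≫ D.map β).val V (rsm F.val g f) = 0 := by
    rw [← hγ]
    refine (congrArg (fun ψ => apm (SheafOfModules.Hom.val ψ) V (rsm F.val g f))
      (congrArg (φ ≫ ·) (D.map_comp (αY ⟨Y, hYT⟩) γ))).trans ?_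
    change apm (D.map γ).val V (apm (D.map (αY ⟨Y, hYT⟩)).val V (apm φ.val V (rsm F.val g f))) = 0
    rw [← evalAt_glob φ Y v (rsm F.val g f), ← evalAt_map, hY ⟨Y, hYT⟩, evalAt_zero, map_zero]
  rw [← apm_rsm, h1]
  exact ((congrArg (rsm _ g) (show apm (0 : F ⟶ D.obj k').val X f = 0 from rfl)).trans (map_zero _)).symm

/-- The underlying sheaf of sets of a sheaf of modules. -/
noncomputable def und (N : ModSite.Mod O) : Tp J :=
  ⟨N.val.presheaf ⋙ forget AddCommGrpCat.{u},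
    Presheaf.isSheaf_comp_of_isSheaf J N.val.presheaf (forget AddCommGrpCat.{u}) N.isSheaf⟩

theorem exists_stage (hS : HasQcqsCovers S) (φ : F ⟶ c.pt) : ∃ (l : Λ) (ψ : F ⟶ D.obj l), ψ ≫ c.ι.app l = φ := by
  classical
  let H := ModSite.sheafHom F
  have hH := (HomColim.preserves (F := F) hc).some
  let P : C → Prop := fun X => ∃ (l : Λ) (t : sc (H.obj (D.obj l)).val X), apm (H.map (c.ι.app l)).val X t = glob φ X
  obtain ⟨T, hT, hcov⟩ := finite_objects hS P fun X => by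
    obtain ⟨R, hR, hR'⟩ := exists_local_stage (H.mapCocone c) hH X (glob φ X)
    refine ⟨R, hR, fun V g hg => ?_⟩
    obtain ⟨l, t, ht⟩ := hR' g hg
    exact ⟨l, t, ht.trans (rsm_glob φ g)⟩
  choose lY tY hY using fun Y : T => hT Y.1 Y.2
  obtain ⟨l, hl⟩ := IsFiltered.sup_objs_exists ((Finset.univ : Finset T).image fun Y => lY Y)
  let β : ∀ Y : T, lY Y ⟶ l := fun Y => (hl (Finset.mem_image_of_mem _ (Finset.mem_univ Y))).some
  let N := H.obj (D.obj l)
  have hw : ∀ {a b : Λ} (γ : a ⟶ b) (V : C) (x : sc (H.obj (D.obj a)).val V),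
      apm (H.map (c.ι.app b)).val V (apm (H.map (D.map γ)).val V x) = apm (H.map (c.ι.app a)).val V x := fun {a b} γ V x => by
    refine (congrArg (fun ψ => apm (SheafOfModules.Hom.val ψ) V x) (H.map_comp (D.map γ) (c.ι.app b))).symm.trans ?_
    exact congrArg (fun ψ => apm (SheafOfModules.Hom.val (H.map ψ)) V x) (c.w γ)
  let F₁ : Tp J := ∐ fun Y : T => epsObj (J := J) Y.1
  let σ₀ : F₁ ⟶ und N := Sigma.desc fun Y : T =>
    epsLift (X := und N) (U := Y.1) (apm (H.map (D.map (β Y))).val Y.1 (tY Y))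
  have hF₁ : Epi (terminal.from F₁) := (covers_single_iff _).1 fun X s => by
    obtain ⟨R, hR, hR'⟩ := hcov X
    refine J.superset_covering (fun V g hg => ?_) hR
    obtain ⟨Y, hYT, ⟨v⟩⟩ := hR' g hg
    exact ⟨PUnit.unit, ap (Sigma.ι (fun Y : T => epsObj (J := J) Y.1) ⟨Y, hYT⟩) (epsSec v), top_eq _ _⟩
  obtain ⟨K, hK, hKe, ⟨m⟩⟩ := hS.1 F₁ hF₁
  let σ : K ⟶ und N := m ≫ σ₀
  have hσ : ∀ (X : C) (k : K.obj.obj (op X)), apm (H.map (c.ι.app l)).val X (ap σ k) = glob φ X := fun X k => by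
    obtain ⟨R, hR, hR'⟩ : ∃ R ∈ J X, ∀ ⦃V : C⦄ (g : V ⟶ X), R g → apm (H.map (c.ι.app l)).val V (ap σ (rs K g k)) = glob φ V := by
      refine exists_refine (covers_of_isColimit_cofan (coproductIsCoproduct fun Y : T => epsObj (J := J) Y.1) X (ap m k)) fun V g hg => ?_
      obtain ⟨Y, t, ht⟩ := hg
      obtain ⟨R, hR, hR'⟩ := exists_local_epsSec t
      refine ⟨R, hR, fun W h hh => ?_⟩
      obtain ⟨a, ha⟩ := hR' h hh
      have e : ap σ (rs K (h ≫ g) k) = rsm N.val a (apm (H.map (D.map (β Y))).val Y.1 (tY Y)) := by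
        change ap σ₀ (ap m (rs K (h ≫ g) k)) = _
        rw [ap_rs, ← rs_rs]
        have ht' : ap (Sigma.ι (fun Y : T => epsObj (J := J) Y.1) Y) t = rs F₁ g (ap m k) := ht
        rw [← ht', ← ap_rs, ha, ← ap_comp, Sigma.ι_desc, ap_epsLift]
        rfl
      rw [e, apm_rsm, hw, hY, rsm_glob]
    refine sec_extM _ hR fun V g hg => ?_
    rw [← apm_rsm, rsm_glob]
    exact (congrArg (apm (H.map (c.ι.app l)).val V) (ap_rs σ g k).symm).trans (hR' g hg)
  let Q : ∀ X : C, (K ⨯ K).obj.obj (op X) → Prop := fun X p =>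
    ∃ (l' : Λ) (α : l ⟶ l'), apm (H.map (D.map α)).val X (ap (prod.fst ≫ σ) p : sc N.val X) =
      apm (H.map (D.map α)).val X (ap (prod.snd ≫ σ) p : sc N.val X)
  obtain ⟨T₂, hT₂⟩ := finite_family (hS.2 K hK) Q fun X p => by
    have h0 : apm (H.map (c.ι.app l)).val X (HSub.hSub (α := sc N.val X) (β := sc N.val X) (ap (prod.fst ≫ σ) p) (ap (prod.snd ≫ σ) p)) = 0 := by
      rw [map_sub]
      exact sub_eq_zero.2 ((hσ X (ap prod.fst p)).trans (hσ X (ap prod.snd p)).symm)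
    obtain ⟨R, hR, hR'⟩ := exists_local_zero (H.mapCocone c) hH X _ h0
    refine ⟨R, hR, fun V g hg => ?_⟩
    obtain ⟨l', α, hα⟩ := hR' g hg
    refine ⟨l', α, sub_eq_zero.1 (((map_sub _ _ _).symm.trans ?_).trans hα)⟩
    refine congrArg (apm (H.map (D.map α)).val V) ?_
    rw [map_sub, ap_rs, ap_rs]
    rfl
  choose l₂ α₂ h₂ using fun p : Σ X : C, {k : (K ⨯ K).obj.obj (op X) // Q X k} => p.2.2
  obtain ⟨l', α, hα⟩ : ∃ (l' : Λ) (α : l ⟶ l'), ∀ p ∈ T₂, ∃ γ : l₂ p ⟶ l', α₂ p ≫ γ = α := by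
    clear hT₂
    induction T₂ using Finset.induction_on with
    | empty => exact ⟨l, 𝟙 l, fun p hp => absurd hp (Finset.notMem_empty p)⟩
    | insert p T' _ ih =>
      obtain ⟨l', α, hα⟩ := ih
      refine ⟨_, α ≫ IsFiltered.rightToMax (l₂ p) l' ≫ IsFiltered.coeqHom (α₂ p ≫ IsFiltered.leftToMax (l₂ p) l')
        (α ≫ IsFiltered.rightToMax (l₂ p) l'), fun q hq => ?_⟩
      rcases Finset.mem_insert.1 hq with rfl | hq
      · exact ⟨IsFiltered.leftToMax _ l' ≫ IsFiltered.coeqHom _ _, by rw [← Category.assoc, IsFiltered.coeq_condition, Category.assoc]⟩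
      · obtain ⟨γ, hγ⟩ := hα q hq
        exact ⟨γ ≫ IsFiltered.rightToMax (l₂ p) l' ≫ IsFiltered.coeqHom _ _, by rw [← Category.assoc, hγ]⟩
  let τ : ∀ (X : C), K.obj.obj (op X) → sc (H.obj (D.obj l')).val X := fun X k => apm (H.map (D.map α)).val X (ap σ k)
  have hτnat : ∀ {X V : C} (g : V ⟶ X) (k : K.obj.obj (op X)), rsm (H.obj (D.obj l')).val g (τ X k) = τ V (rs K g k) := fun g k => by
    change rsm _ g (apm (H.map (D.map α)).val _ (ap σ k)) = apm (H.map (D.map α)).val _ (ap σ (rs K g k))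
    rw [← apm_rsm, ap_rs]
    rfl
  have hτ : ∀ (X : C) (k k' : K.obj.obj (op X)), τ X k = τ X k' := fun X k k' => by
    obtain ⟨R, hR, hR'⟩ := hT₂ X (ap (prod.lift (epsLift k) (epsLift k')) (epsSec (𝟙 X)))
    refine sec_extM _ hR fun V g hg => ?_
    obtain ⟨p, hp, v, hv⟩ := hR' g hg
    obtain ⟨γ, hγ⟩ := hα p hp
    have e₁ := congrArg (ap prod.fst) hv
    have e₂ := congrArg (ap prod.snd) hv
    rw [ap_rs, ap_rs, ← ap_comp (prod.lift (epsLift k) (epsLift k')), prod.lift_fst, ap_epsLift, rs_id] at e₁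
    rw [ap_rs, ap_rs, ← ap_comp (prod.lift (epsLift k) (epsLift k')), prod.lift_snd, ap_epsLift, rs_id] at e₂
    rw [hτnat, hτnat, ← e₁, ← e₂, ← hτnat, ← hτnat]
    refine congrArg (rsm _ v) ?_
    have hc' : ∀ x : sc N.val p.1, apm (H.map (D.map α)).val p.1 x =
        apm (H.map (D.map γ)).val p.1 (apm (H.map (D.map (α₂ p))).val p.1 x) := fun x => by
      rw [← hγ]
      exact congrArg (fun ψ : H.obj (D.obj l) ⟶ H.obj (D.obj l') => apm ψ.val p.1 x) ((congrArg H.map (D.map_comp _ _)).trans (H.map_comp _ _))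
    exact (hc' _).trans ((congrArg (apm (H.map (D.map γ)).val p.1) (h₂ p)).trans (hc' _).symm)
  have key : ∀ X : C, ∃ s : sc (H.obj (D.obj l')).val X, ∀ ⦃V : C⦄ (g : V ⟶ X) (k : K.obj.obj (op V)),
      rsm _ g s = τ V k := fun X => by
    obtain ⟨R, hR, hR'⟩ := exists_local_section (K := K) X
    obtain ⟨s, hs⟩ := glueM (H.obj (D.obj l')) hR (fun V g hg => τ V (hR' g hg).some) (fun V W g hg h => by
      rw [hτnat]; exact hτ W _ _)
    refine ⟨s, fun V g k => sec_extM _ (J.pullback_stable g hR) fun W h hh => ?_⟩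
    rw [rsm_rsm, hs _ hh, hτnat]
    exact hτ W _ _
  choose s hs using key
  obtain ⟨ψ, hψ⟩ := exists_hom_of_family s fun {X Y} a => by
    obtain ⟨R, hR, hR'⟩ := exists_local_section (K := K) Y
    refine sec_extM _ hR fun V g hg => ?_
    obtain ⟨k⟩ := hR' g hg
    rw [rsm_rsm, hs X (g ≫ a) k, hs Y g k]
  refine ⟨l', ψ, mod_hom_ext fun X f => ?_⟩
  change apm (c.ι.app l').val X (apm ψ.val X f) = apm φ.val X f
  rw [hψ, ← evalAt_glob φ X (𝟙 X) f, ← evalAt_map]
  congr 1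
  obtain ⟨R, hR, hR'⟩ := exists_local_section (K := K) X
  refine sec_extM _ hR fun V g hg => ?_
  obtain ⟨k⟩ := hR' g hg
  rw [← apm_rsm, hs X g k, rsm_glob]
  exact (hw α V _).trans (hσ V k)

end

theorem preservesColimit_coyoneda {S : Set (Sheaf J (Type u))} (hS : HasQcqsCovers S) (F : ModSite.Mod O)
    [F.IsFinitePresentation] {Λ : Type u} [SmallCategory Λ] [IsFiltered Λ] (D : Λ ⥤ ModSite.Mod O) :
    PreservesColimit D (coyoneda.obj (op F)) := by
  have := hasSheafHom F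
  refine ⟨fun {c} hc => ⟨Types.FilteredColimit.isColimitOf _ _ (fun φ => ?_) fun i j x y e => ?_⟩⟩
  · obtain ⟨l, ψ, hψ⟩ := exists_stage hc hS φ
    exact ⟨l, ψ, hψ.symm⟩
  · let k := IsFiltered.max i j
    have h0 : (x ≫ D.map (IsFiltered.leftToMax i j) - y ≫ D.map (IsFiltered.rightToMax i j)) ≫ c.ι.app k = 0 := by
      rw [Preadditive.sub_comp, Category.assoc, Category.assoc, c.w, c.w, sub_eq_zero]
      exact e
    obtain ⟨k', α, hα⟩ := exists_zero_stage hc hS _ h0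
    refine ⟨k', IsFiltered.leftToMax i j ≫ α, IsFiltered.rightToMax i j ≫ α, ?_⟩
    change x ≫ D.map _ = y ≫ D.map _
    rw [Preadditive.sub_comp, sub_eq_zero] at hα
    simpa only [Functor.map_comp, Category.assoc] using hα

end Groth.SitesTopoi.HomGlobal
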