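import Groth.Agent.SitesTopoi.Mod.DerivedRestr
import Groth.Agent.SitesTopoi.Mod.HomGlobal
import Groth.Agent.SitesTopoi.Mod.FinFree
import Groth.Agent.LocCohZBase.HZSite
import Groth.Agent.SiteCohomology.SubobjectRestriction
import Groth.Agent.CohBase.DerivedShift

/-!
Flasque modules are acyclic for sections with support.
-/

universe u

open CategoryTheory CategoryTheory.Limits Opposite
open CategoryTheory.Abelian (Ext)

set_option backward.defeqAttrib.useBackward true
set_option backward.isDefEq.respectTransparency false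
set_option synthInstance.maxHeartbeats 400000

namespace Groth.SitesTopoi.ModH

open Groth.SiteCohomology Groth.SitesTopoi.HomGlobal

variable {C : Type u} [SmallCategory C] {J : GrothendieckTopology C} {O : Sheaf J CommRingCat.{u}}

/-- A compatible family of sections on a sieve extends to the object if the module is flasque. -/
lemma exists_extend_sieve {M : ModSite.Mod O} (hM : CohCx.IsTotallyAcyclic (ModSite.toAb M)) {V : C} (σ : Sieve V)
    (m : ∀ ⦃W : C⦄ (g : W ⟶ V), σ g → sc M.val W)
    (hm : ∀ ⦃W W' : C⦄ (k : W' ⟶ W) (g : W ⟶ V) (hg : σ g),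
      rsm M.val k (m g hg) = m (k ≫ g) (σ.downward_closed hg k)) :
    ∃ x : sc M.val V, ∀ ⦃W : C⦄ (g : W ⟶ V) (hg : σ g), rsm M.val g x = m g hg := by
  let S : Sheaf J (Type u) := (sheafCompose J (forget AddCommGrpCat.{u})).obj (ModSite.toAb M)
  let p : σ.functor ⟶ S.obj :=
    { app := fun W => TypeCat.ofHom fun g => m g.1 g.2
      naturality := fun {W W'} f => by ext g; exact (hm f.unop g.1 g.2).symm }
  let adj := sheafificationAdjunction J (Type u)
  let ι := (presheafToSheaf J (Type u)).map σ.functorInclusion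
  have : Mono ι := inferInstanceAs (Mono ((presheafToSheaf J (Type u)).map σ.functorInclusion))
  let a : (presheafToSheaf J (Type u)).obj σ.functor ⟶ S := (adj.homEquiv _ _).symm p
  obtain ⟨b, hb⟩ := exists_extension_of_totallyAcyclic (ModSite.toAb M) hM ι
    (((freeTAdj J).homEquiv _ _).symm a)
  let b' : (presheafToSheaf J (Type u)).obj (yoneda.obj V) ⟶ S := (freeTAdj J).homEquiv _ _ b
  have hb' : ι ≫ b' = a := by
    rw [← Adjunction.homEquiv_naturality_left, hb, Equiv.apply_symm_apply]
  let q : yoneda.obj V ⟶ S.obj := adj.homEquiv _ _ b'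
  have hq : σ.functorInclusion ≫ q = p :=
    ((adj.homEquiv_naturality_left _ _).symm.trans (congrArg (adj.homEquiv _ _) hb')).trans
      (Equiv.apply_symm_apply _ _)
  refine ⟨(q.app (op V) (𝟙 V) : S.obj.obj (op V)), fun W g hg => ?_⟩
  refine Eq.trans ?_ (congrArg (fun r : σ.functor ⟶ S.obj => r.app (op W) ⟨g, hg⟩) hq)
  refine (congrArg (fun h => h (𝟙 V)) (q.naturality g.op)).symm.trans ?_
  exact congrArg (q.app (op W)) (Category.comp_id g)

variable (U : C) [ModSite.HasPushOver O U]

/-- A module quotient by a flasque module: sections with support lift. -/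
lemma surjective_sectOn {S : ShortComplex (ModSite.Mod O)} (hS : S.ShortExact)
    (h₁ : CohCx.IsTotallyAcyclic (ModSite.toAb S.X₁)) (V : C) :
    Function.Surjective (apm ((ModSite.sectOn O U).map S.g).val V) := fun s => by
  have := hS.epi_g
  have := hS.mono_f
  have hS' : (S.map (SheafOfModules.toSheaf.{u} (ModSite.ringSh O))).ShortExact := hS.map_of_exact _
  have : Subsingleton (CohSite.HU (S.map (SheafOfModules.toSheaf.{u} (ModSite.ringSh O))).X₁ 1 V) :=
    @Function.Injective.subsingleton _ _ _ (HKYonedaEquiv J V (ModSite.toAb S.X₁) 1).symm.toEquiv.injective (h₁ _ 0)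
  let s' : sc S.X₃.val V := apm ((ModSite.sectOnι O U).app S.X₃).val V s
  obtain ⟨t, ht⟩ := surjective_sections_of_subsingleton_HU hS' V s'
  change apm S.g.val V t = s' at ht
  let σ : Sieve V :=
    { arrows := fun W g => Nonempty (W ⟶ U)
      downward_closed := fun {_ _ _} ⟨a⟩ k => ⟨k ≫ a⟩ }
  have hmem : ∀ ⦃W : C⦄ (g : W ⟶ V), σ g → ∃ m, apm S.f.val W m = rsm S.X₂.val g t := fun W g ⟨a⟩ =>
    exists_preimage hS _ ((apm_rsm _ _ _).trans ((congrArg _ ht).trans (mem_sectOn U S.X₃ s g a)))
  choose m hm using hmem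
  obtain ⟨x, hx⟩ := exists_extend_sieve h₁ σ m fun W W' k g hg => injective_of_mono S.f W'
    ((apm_rsm _ _ _).trans (by rw [hm g hg, hm (k ≫ g) (σ.downward_closed hg k)]; exact rsm_rsm _ _ _ _))
  let t' : sc S.X₂.val V := HSub.hSub (α := sc S.X₂.val V) (β := sc S.X₂.val V) t (apm S.f.val V x)
  have hfx : apm S.g.val V (apm S.f.val V x) = 0 :=
    congrArg (fun φ : S.X₁ ⟶ S.X₃ => apm φ.val V x) S.zero
  have ht' : apm S.g.val V t' = s' := (map_sub _ _ _).trans (by rw [hfx, sub_zero]; exact ht)
  have h0 : apm ((ModSite.restrPushOverAdj O U).unit.app S.X₂).val V t' = 0 :=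
    (unit_apm_eq_zero_iff U S.X₂ t').2 fun W g a => by
      refine (map_sub _ _ _).trans (sub_eq_zero.2 ?_)
      exact ((hm g ⟨a⟩).symm.trans (congrArg _ (hx g ⟨a⟩).symm)).trans (apm_rsm _ _ _)
  obtain ⟨y, hy⟩ : ∃ y : sc ((ModSite.sectOn O U).obj S.X₂).val V,
      apm ((ModSite.sectOnι O U).app S.X₂).val V y = t' := by
    have hz : (Misc4.FreeOn.homEquiv V S.X₂).symm t' ≫ (ModSite.restrPushOverAdj O U).unit.app S.X₂ = 0 :=
      (Misc4.FreeOn.homEquiv V _).injective ((Misc4.FreeOn.homEquiv_comp V _ _).trans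
        (((congrArg _ (Equiv.apply_symm_apply _ _)).trans h0).trans (FinFree.homEquiv_zero V _).symm))
    exact ⟨Misc4.FreeOn.homEquiv V _ (kernel.lift _ _ hz), (Misc4.FreeOn.homEquiv_comp V _ _).symm.trans
      ((congrArg _ (kernel.lift_ι _ _ hz)).trans (Equiv.apply_symm_apply _ _))⟩
  refine ⟨y, injective_of_mono ((ModSite.sectOnι O U).app S.X₃) V ?_⟩
  refine Eq.trans ?_ ht'
  refine Eq.trans ?_ (congrArg (apm S.g.val V) hy)
  exact congrArg (fun φ : (ModSite.sectOn O U).obj S.X₂ ⟶ S.X₃ => apm φ.val V y) ((ModSite.sectOnι O U).naturality S.g)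

lemma isTotallyAcyclic_quotient {S : ShortComplex (ModSite.Mod O)} (hS : S.ShortExact)
    (h₁ : CohCx.IsTotallyAcyclic (ModSite.toAb S.X₁)) (h₂ : CohCx.IsTotallyAcyclic (ModSite.toAb S.X₂)) :
    CohCx.IsTotallyAcyclic (ModSite.toAb S.X₃) := fun K p => by
  have hS' : (S.map (SheafOfModules.toSheaf.{u} (ModSite.ringSh O))).ShortExact := hS.map_of_exact _
  refine subsingleton_of_forall_eq 0 fun x => ?_
  obtain ⟨y, hy⟩ := Ext.covariant_sequence_exact₃ _ hS' x rfl (@Subsingleton.elim _ (h₁ K (p + 1)) _ _)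
  rw [← hy, @Subsingleton.elim _ (h₂ K p) y 0, Ext.zero_comp]

/-- Flasque modules are acyclic for sections with support. -/
theorem isZero_hzsh [HasInjectiveResolutions (ModSite.Mod O)] :
    ∀ (q : ℕ) (M : ModSite.Mod O), CohCx.IsTotallyAcyclic (ModSite.toAb M) → IsZero ((ModSite.HZsh O U (q + 1)).obj M) := by
  intro q
  induction q with
  | zero =>
    intro M hM
    have : Mono (Injective.ι M) := inferInstance
    let S : ShortComplex (ModSite.Mod O) := ShortComplex.mk (Injective.ι M) (cokernel.π _) (cokernel.condition _)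
    have hS : S.ShortExact := ShortComplex.ShortExact.mk' (ShortComplex.exact_of_g_is_cokernel _ (cokernelIsCokernel _))
      inferInstance inferInstance
    have : PreservesFiniteLimits (ModSite.sectOn O U) :=
      have : PreservesLimitsOfSize.{0, 0} (ModSite.sectOn O U) :=
        (LocCohZBase.quotSectAdj U).rightAdjoint_preservesLimits
      ⟨fun _ _ _ => inferInstance⟩
    refine CohBase.isZero_rightDerived_one hS _ (Preadditive.epi_iff_cancel_zero _ |>.2 fun Z h hh => ?_)
    refine mod_hom_ext fun V s => ?_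
    obtain ⟨t, rfl⟩ := surjective_sectOn U hS hM V s
    exact congrArg (fun φ : (ModSite.sectOn O U).obj S.X₂ ⟶ Z => apm φ.val V t) hh
  | succ q ih =>
    intro M hM
    let S : ShortComplex (ModSite.Mod O) := ShortComplex.mk (Injective.ι M) (cokernel.π _) (cokernel.condition _)
    have hS : S.ShortExact := ShortComplex.ShortExact.mk' (ShortComplex.exact_of_g_is_cokernel _ (cokernelIsCokernel _))
      inferInstance inferInstance
    have : Injective S.X₂ := inferInstanceAs (Injective (Injective.under M))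
    exact (ih S.X₃ (isTotallyAcyclic_quotient hS hM (Misc7.SitePush.isTotallyAcyclic_toSheaf _ S.X₂))).of_iso
      (CohBase.rightDerivedShift hS (ModSite.sectOn O U) q)

omit [ModSite.HasPushOver O U] in
theorem subsingleton_HZ (M : ModSite.Mod O) (hM : CohCx.IsTotallyAcyclic (ModSite.toAb M)) (q : ℕ) :
    Subsingleton (ModSite.HZ U M (q + 1)) :=
  LocCohZBase.subsingleton_ext_quotZ U _ hM
    (fun a => exists_extension_of_totallyAcyclic _ hM (LocCohZBase.imUι J U) a) q

end Groth.SitesTopoi.ModH
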