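import Groth.Agent.SitesTopoi.Mod.AcyclicComp
import Groth.Agent.SitesTopoi.Mod.FlasqueSupp

/-!
Local cohomology sheaves commute with restriction of scalars.
-/

universe u

open CategoryTheory CategoryTheory.Limits Opposite

set_option backward.defeqAttrib.useBackward true
set_option backward.isDefEq.respectTransparency false
set_option synthInstance.maxHeartbeats 400000

namespace Groth.SitesTopoi.RSupp

open Groth.SitesTopoi.ModH

variable {C : Type u} [SmallCategory C] {J : GrothendieckTopology C} {O O' : Sheaf J CommRingCat.{u}} (φ : O ⟶ O')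

/-- Restriction of scalars. -/
noncomputable abbrev rsc : ModSite.Mod O' ⥤ ModSite.Mod O :=
  SheafOfModules.restrictScalars ((sheafCompose J (forget₂ CommRingCat.{u} RingCat.{u})).map φ)

/-- Restriction of scalars does not change the underlying abelian sheaf. -/
noncomputable def toSheafIso : rsc φ ⋙ SheafOfModules.toSheaf.{u} (ModSite.ringSh O) ≅
    SheafOfModules.toSheaf.{u} (ModSite.ringSh O') :=
  NatIso.ofComponents fun M => Iso.refl _

instance preservesFiniteLimits_rsc : PreservesFiniteLimits (rsc φ) := ⟨fun K _ _ => by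
  have : ReflectsLimitsOfShape K (SheafOfModules.toSheaf.{u} (ModSite.ringSh O)) :=
    reflectsLimitsOfShape_of_reflectsIsomorphisms
  have : PreservesLimitsOfShape K (rsc φ ⋙ SheafOfModules.toSheaf.{u} (ModSite.ringSh O)) :=
    preservesLimitsOfShape_of_natIso (toSheafIso φ).symm
  exact preservesLimitsOfShape_of_reflects_of_preserves (rsc φ) (SheafOfModules.toSheaf.{u} (ModSite.ringSh O))⟩

instance preservesFiniteColimits_rsc : PreservesFiniteColimits (rsc φ) := ⟨fun K _ _ => by
  have : ReflectsColimitsOfShape K (SheafOfModules.toSheaf.{u} (ModSite.ringSh O)) :=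
    reflectsColimitsOfShape_of_reflectsIsomorphisms
  have : PreservesColimitsOfShape K (rsc φ ⋙ SheafOfModules.toSheaf.{u} (ModSite.ringSh O)) :=
    preservesColimitsOfShape_of_natIso (toSheafIso φ).symm
  exact preservesColimitsOfShape_of_reflects_of_preserves (rsc φ) (SheafOfModules.toSheaf.{u} (ModSite.ringSh O))⟩

variable (U : C) [ModSite.HasPushOver O U] [ModSite.HasPushOver O' U]

lemma rsc_sectOnι_comp_unit (F : ModSite.Mod O') :
    (rsc φ).map ((ModSite.sectOnι O' U).app F) ≫ (ModSite.restrPushOverAdj O U).unit.app ((rsc φ).obj F) = 0 := by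
  refine mod_hom_ext fun V t => ?_
  refine (unit_apm_eq_zero_iff U ((rsc φ).obj F) (apm ((rsc φ).map ((ModSite.sectOnι O' U).app F)).val V t)).2 fun W g a => ?_
  exact mem_sectOn U F t g a

lemma sectOnι_comp_rsc_unit (F : ModSite.Mod O') :
    (ModSite.sectOnι O U).app ((rsc φ).obj F) ≫ (rsc φ).map ((ModSite.restrPushOverAdj O' U).unit.app F) = 0 := by
  refine mod_hom_ext fun V t => ?_
  refine (unit_apm_eq_zero_iff U F (V := V) (apm ((ModSite.sectOnι O U).app ((rsc φ).obj F)).val V t)).2 fun W g a => ?_
  exact mem_sectOn U ((rsc φ).obj F) t g a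

/-- Sections with support commute with restriction of scalars. -/
noncomputable def sectOnRscIso : ModSite.sectOn O' U ⋙ rsc φ ≅ rsc φ ⋙ ModSite.sectOn O U :=
  NatIso.ofComponents
    (fun F =>
      { hom := kernel.lift _ _ (rsc_sectOnι_comp_unit φ U F)
        inv := kernel.lift _ _ (sectOnι_comp_rsc_unit φ U F) ≫
          (PreservesKernel.iso (rsc φ) ((ModSite.restrPushOverAdj O' U).unit.app F)).inv
        hom_inv_id := by
          rw [← Category.assoc, Iso.comp_inv_eq, Category.id_comp]
          refine (cancel_mono (kernel.ι _)).1 ?_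
          refine (Category.assoc _ _ _).trans ((congrArg (_ ≫ ·) (kernel.lift_ι _ _ _)).trans ?_)
          refine (kernel.lift_ι _ _ (rsc_sectOnι_comp_unit φ U F)).trans ?_
          rw [PreservesKernel.iso_hom, kernelComparison_comp_ι]
          rfl
        inv_hom_id := by
          refine (cancel_mono (kernel.ι _)).1 ?_
          rw [Category.assoc, Category.assoc, kernel.lift_ι]
          refine (congrArg (kernel.lift _ _ (sectOnι_comp_rsc_unit φ U F) ≫ ·) ((congrArg (_ ≫ ·)
            (kernelComparison_comp_ι _ (rsc φ)).symm).trans ?_)).trans ((kernel.lift_ι _ _ _).trans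
              (Category.id_comp _).symm)
          rw [← PreservesKernel.iso_hom, ← Category.assoc, Iso.inv_hom_id, Category.id_comp] })
    (fun {F G} f => by
      refine (cancel_mono (kernel.ι ((ModSite.restrPushOverAdj O U).unit.app ((rsc φ).obj G)))).1 ?_
      refine (Category.assoc _ _ _).trans ((congrArg (_ ≫ ·) (kernel.lift_ι _ _ _)).trans ?_)
      refine (((rsc φ).map_comp _ _).symm.trans
        ((congrArg (rsc φ).map ((ModSite.sectOnι O' U).naturality f)).trans
          ((rsc φ).map_comp _ _))).trans ?_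
      refine Eq.trans ?_ (Category.assoc _ _ _).symm
      refine Eq.trans ?_ (congrArg (_ ≫ ·) ((ModSite.sectOnι O U).naturality ((rsc φ).map f)).symm)
      refine Eq.trans ?_ (Category.assoc _ _ _)
      exact congrArg (· ≫ _) (kernel.lift_ι _ _ (rsc_sectOnι_comp_unit φ U F)).symm)

theorem nonempty_hzsh_rsc [HasInjectiveResolutions (ModSite.Mod O)] [HasInjectiveResolutions (ModSite.Mod O')] (q : ℕ) :
    Nonempty (ModSite.HZsh O' U q ⋙ rsc φ ≅ rsc φ ⋙ ModSite.HZsh O U q) := by
  have : PreservesLimitsOfSize.{0, 0} (ModSite.sectOn O U) :=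
    (LocCohZBase.quotSectAdj U).rightAdjoint_preservesLimits
  have : PreservesFiniteLimits (ModSite.sectOn O U) := ⟨fun _ _ _ => inferInstance⟩
  obtain ⟨e⟩ := AcyclicComp.nonempty_rightDerived_comp (ModSite.sectOn O U) (rsc φ) (fun I hI j =>
    isZero_hzsh U j ((rsc φ).obj I) (show CohCx.IsTotallyAcyclic (ModSite.toAb I) from
      Misc7.SitePush.isTotallyAcyclic_toSheaf (ModSite.ringSh O') I)) q
  exact ⟨(SiteCohomology.rightDerivedCompExactIso (ModSite.sectOn O' U) (rsc φ) q).symm ≪≫
    rightDerivedIso (sectOnRscIso φ U) q ≪≫ e⟩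

end Groth.SitesTopoi.RSupp
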