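import Groth.Agent.LocCohZBase.GammaHom
import Groth.Agent.SitesTopoi.Mod.Invertible

/-!
The internal hom out of the quotient supported on a closed complement.
-/

universe u

open CategoryTheory CategoryTheory.Limits Opposite MonoidalCategory
open Groth.SitesTopoi.ModH

set_option backward.defeqAttrib.useBackward true
set_option backward.isDefEq.respectTransparency false

namespace Groth.SitesTopoi.QuotHom

variable {C : Type u} [SmallCategory C] {J : GrothendieckTopology C} {O : Sheaf J CommRingCat.{u}}
  (U : C) (M : ModSite.Mod O)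

theorem isZero_restr_tensorRight {Z : ModSite.Mod O} (W : ModSite.Mod O) (hZ : IsZero ((ModSite.restr O U).obj Z)) :
    IsZero ((ModSite.restr O U).obj (((ModSite.tensorBi O).obj W).obj Z)) :=
  (LocCohZBase.isZero_restr_tensor U W hZ).of_iso ((ModSite.restr O U).mapIso (Invertible.symIso W Z))

/-- Morphisms from a module extended by zero, tensored, into a module null on the open vanish. -/
theorem tensor_extZero_eq {Z : ModSite.Mod O} (W : ModSite.Mod O) (P : ModSite.Mod (O.over U))
    (hZ : IsZero ((ModSite.restr O U).obj Z))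
    (f g : ((ModSite.tensorBi O).obj W).obj ((ModSite.extZero O U).obj P) ⟶ Z) : f = g := by
  refine (cancel_epi ((projectionIso P W).hom ≫ (Invertible.symIso ((ModSite.extZero O U).obj P) W).hom)).1 ?_
  exact ((ModSite.extZeroAdj O U).homEquiv _ _).injective (hZ.eq_of_tgt _ _)

variable [ModSite.HasPushOver O U]

theorem exists_comparison (W : ModSite.Mod O) :
    ∃ h : (ModSite.quotOn O U).obj (((ModSite.tensorBi O).obj W).obj M) ≅
        ((ModSite.tensorBi O).obj W).obj ((ModSite.quotOn O U).obj M),
      (ModSite.quotOnπ O U).app _ ≫ h.hom = ((ModSite.tensorBi O).obj W).map ((ModSite.quotOnπ O U).app M) := by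
  have : ((ModSite.tensorBi O).obj W).Additive := Balanced.additive_of_rightExact _
  let T := (ModSite.tensorBi O).obj W
  have hT : IsColimit (CokernelCofork.ofπ (T.map (cokernel.π ((ModSite.extZeroAdj O U).counit.app M)))
      (by rw [← Functor.map_comp, cokernel.condition, Functor.map_zero])) :=
    CokernelCofork.mapIsColimit _ (cokernelIsCokernel ((ModSite.extZeroAdj O U).counit.app M)) T
  let a : (ModSite.quotOn O U).obj (T.obj M) ⟶ T.obj ((ModSite.quotOn O U).obj M) :=
    cokernel.desc _ (T.map ((ModSite.quotOnπ O U).app M)) (((ModSite.extZeroAdj O U).homEquiv _ _).injective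
      ((isZero_restr_tensorRight U W (ExtSupp.isNullOn_quotOn O U M)).eq_of_tgt _ _))
  let k : CokernelCofork (T.map ((ModSite.extZeroAdj O U).counit.app M)) :=
    CokernelCofork.ofπ ((ModSite.quotOnπ O U).app (T.obj M))
      (tensor_extZero_eq U W _ (ExtSupp.isNullOn_quotOn O U (T.obj M)) _ 0)
  let b : T.obj ((ModSite.quotOn O U).obj M) ⟶ (ModSite.quotOn O U).obj (T.obj M) := hT.desc k
  have ha : (ModSite.quotOnπ O U).app (T.obj M) ≫ a = T.map ((ModSite.quotOnπ O U).app M) := cokernel.π_desc _ _ _
  have hb : T.map ((ModSite.quotOnπ O U).app M) ≫ b = (ModSite.quotOnπ O U).app (T.obj M) :=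
    hT.fac k WalkingParallelPair.one
  refine ⟨⟨a, b, ?_, ?_⟩, ha⟩
  · refine coequalizer.hom_ext ?_
    refine (Category.assoc _ _ _).symm.trans ((congrArg (· ≫ b) ha).trans (hb.trans ?_))
    exact (Category.comp_id _).symm
  · refine Cofork.IsColimit.hom_ext hT ?_
    refine (Category.assoc _ _ _).symm.trans ((congrArg (· ≫ a) hb).trans (ha.trans ?_))
    exact (Category.comp_id _).symm

/-- Tensoring with the quotient. -/
noncomputable def quotTensorIso :
    (ModSite.tensorBi O).flip.obj M ⋙ ModSite.quotOn O U ≅
      (ModSite.tensorBi O).flip.obj ((ModSite.quotOn O U).obj M) :=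
  NatIso.ofComponents (fun W => (exists_comparison U M W).choose) fun {W W'} φ => by
    have h1 := (ModSite.quotOnπ O U).naturality (((ModSite.tensorBi O).map φ).app M)
    have h2 := ((ModSite.tensorBi O).map φ).naturality ((ModSite.quotOnπ O U).app M)
    refine coequalizer.hom_ext ?_
    refine ((Category.assoc _ _ _).symm.trans ((congrArg (· ≫ (exists_comparison U M W').choose.hom) h1.symm).trans
      ((Category.assoc _ _ _).trans (congrArg (_ ≫ ·) (exists_comparison U M W').choose_spec)))).trans ?_
    exact h2.symm.trans ((congrArg (· ≫ _) (exists_comparison U M W).choose_spec.symm).trans (Category.assoc _ _ _))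

variable [ModSite.HasSheafHom M] [ModSite.HasSheafHom ((ModSite.quotOn O U).obj M)]

/-- Sections with support of the internal hom are the internal hom out of the quotient. -/
noncomputable def sectHomIso :
    ModSite.sheafHom M ⋙ ModSite.sectOn O U ≅ ModSite.sheafHom ((ModSite.quotOn O U).obj M) :=
  (LocCohZBase.gammaHomIso U M).symm ≪≫
    ((((ModSite.sheafHomAdj M).comp (LocCohZBase.quotSectAdj U)).ofNatIsoLeft (quotTensorIso U M)).rightAdjointUniq
      (ModSite.sheafHomAdj ((ModSite.quotOn O U).obj M)))

end Groth.SitesTopoi.QuotHom
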