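import Groth.Agent.SitesTopoi.Mod.HomGlobal

/-!
Spaces with cofinal finite coverings with quasi-compact pairwise intersections.
-/

universe u

open CategoryTheory CategoryTheory.Limits Opposite TopologicalSpace

set_option backward.defeqAttrib.useBackward true
set_option backward.isDefEq.respectTransparency false

namespace Groth.SitesTopoi.SpaceQcqs

open Groth.SitesTopoi.Topos Groth.SitesTopoi.HomGlobal

variable {X : TopCat.{u}}

local notation "JX" => Opens.grothendieckTopology X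

/-- A finite covering by opens with quasi-compact pairwise intersections. -/
def Good (K : Tp JX) : Prop :=
  ∃ (I : Type u) (_ : Finite I) (U : I → Opens X), iSup U = ⊤ ∧ (∀ i j, IsCompact ((U i ⊓ U j : Opens X) : Set X)) ∧
    Nonempty (K ≅ ∐ fun i => epsObj (J := JX) (U i))

lemma isQcObject_of_covers {K : Tp JX} {I : Type u} [Finite I] {L : I → Tp JX} {f : ∀ i, L i ⟶ K}
    (hf : Covers f) (h : ∀ i, CohCx.IsQcObject (L i)) : CohCx.IsQcObject K := by
  classical
  cases nonempty_fintype I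
  intro A M g hg
  have hc : ∀ i, Covers (fun a => pullback.fst (f i) (g a)) := fun i => (covers_of_jointlySurjective hg).pullback_left (f i)
  choose T hT using fun i => h i A _ _ (jointlySurjective_of_covers (hc i))
  refine ⟨Finset.univ.biUnion T, jointlySurjective_of_covers fun U s => ?_⟩
  refine (Opens.grothendieckTopology X).transitive (hf U s) _ fun V k hk => ?_
  obtain ⟨i, t, ht⟩ := hk
  refine (Opens.grothendieckTopology X).superset_covering ?_ (covers_of_jointlySurjective (hT i) V t)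
  rintro W l ⟨a, r, hr⟩
  refine ⟨⟨a.1, Finset.mem_biUnion.2 ⟨i, Finset.mem_univ i, a.2⟩⟩, ap (pullback.snd (f i) (g a.1)) r, ?_⟩
  change ap (g a.1) (ap (pullback.snd (f i) (g a.1)) r) = rs K (l ≫ k) s
  rw [← ap_comp, ← pullback.condition, ap_comp, hr, ap_rs, ht, rs_rs]

lemma hasQcqsCovers (hX : ∀ (ι : Type u) (V : ι → Opens X), iSup V = ⊤ →
      ∃ (J : Type u) (_ : Finite J) (U : J → Opens X), iSup U = ⊤ ∧ (∀ j, ∃ i, U j ≤ V i) ∧
        ∀ j j', IsCompact ((U j ⊓ U j' : Opens X) : Set X)) :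
    HasQcqsCovers {K : Tp JX | Good K} := by
  classical
  refine ⟨fun F hF => ?_, ?_⟩
  · let ι := Σ V : Opens X, F.obj.obj (op V)
    have htop : iSup (fun p : ι => p.1) = ⊤ := by
      refine top_le_iff.1 fun x _ => ?_
      obtain ⟨V, g, hg, hx⟩ := (covers_single_iff (terminal.from F)).2 hF ⊤
        (ap (terminal.from (epsObj (J := JX) ⊤)) (epsSec (𝟙 ⊤))) x trivial
      obtain ⟨i0, t0, ht0⟩ := hg
      exact Opens.mem_iSup.2 ⟨⟨V, t0⟩, hx⟩
    obtain ⟨I, _, U, hU, hle, hcpt⟩ := hX ι _ htop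
    choose p hp using hle
    refine ⟨∐ fun j => epsObj (J := JX) (U j), ⟨I, inferInstance, U, hU, hcpt, ⟨Iso.refl _⟩⟩,
      (covers_single_iff _).1 fun V s x hx => ?_,
      ⟨Sigma.desc fun j => epsLift (rs F (homOfLE (hp j)) (p j).2)⟩⟩
    obtain ⟨j, hj⟩ := Opens.mem_iSup.1 (show x ∈ iSup U by rw [hU]; trivial)
    exact ⟨V ⊓ U j, homOfLE inf_le_left,
      ⟨PUnit.unit, ap (Sigma.ι (fun j => epsObj (J := JX) (U j)) j) (epsSec (homOfLE inf_le_right)), top_eq _ _⟩, ⟨hx, hj⟩⟩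
  · rintro K ⟨I, _, U, -, hcpt, ⟨e⟩⟩
    let L : I × I → Tp JX := fun p => epsObj (J := JX) (U p.1 ⊓ U p.2)
    let f : ∀ p, L p ⟶ K ⨯ K := fun p => prod.lift
      (epsMap (homOfLE inf_le_left) ≫ Sigma.ι (fun i => epsObj (J := JX) (U i)) p.1 ≫ e.inv)
      (epsMap (homOfLE inf_le_right) ≫ Sigma.ι (fun i => epsObj (J := JX) (U i)) p.2 ≫ e.inv)
    refine isQcObject_of_covers (f := f) (fun V s x hx => ?_) fun p => Groth.SitesTopoi.QcSum.isQcObject_of_isCompact (hcpt _ _)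
    have hcov := covers_of_isColimit_cofan (coproductIsCoproduct fun i => epsObj (J := JX) (U i))
    obtain ⟨V₁, g₁, ⟨i, a, ha⟩, hx₁⟩ := hcov V (ap e.hom (ap prod.fst s)) x hx
    obtain ⟨S₁, hS₁, hS₁'⟩ := exists_local_epsSec a
    obtain ⟨V₂, g₂, hg₂, hx₂⟩ := hS₁ x hx₁
    obtain ⟨a', ha'⟩ := hS₁' g₂ hg₂
    obtain ⟨V₃, g₃, ⟨j, b, hb⟩, hx₃⟩ := hcov V₂ (ap e.hom (ap prod.snd (rs (K ⨯ K) (g₂ ≫ g₁) s))) x hx₂
    obtain ⟨S₂, hS₂, hS₂'⟩ := exists_local_epsSec b
    obtain ⟨W, g₄, hg₄, hxW⟩ := hS₂ x hx₃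
    obtain ⟨b', hb'⟩ := hS₂' g₄ hg₄
    let g : W ⟶ V := g₄ ≫ g₃ ≫ g₂ ≫ g₁
    have h₁ : rs _ g (ap e.hom (ap prod.fst s)) = ap (Sigma.ι (fun i => epsObj (J := JX) (U i)) i) (epsSec (g₄ ≫ g₃ ≫ a')) := by
      rw [← rs_epsSec, ← rs_epsSec, ← ha', ap_rs, ap_rs, ap_rs]
      simp only [rs_rs]
      have : ap (Sigma.ι (fun i => epsObj (J := JX) (U i)) i) a = rs _ g₁ (ap e.hom (ap prod.fst s)) := ha
      rw [this, rs_rs]
      simp only [g, Category.assoc]
    have h₂ : rs _ g (ap e.hom (ap prod.snd s)) = ap (Sigma.ι (fun i => epsObj (J := JX) (U i)) j) (epsSec b') := by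
      rw [← hb', ap_rs]
      have : ap (Sigma.ι (fun i => epsObj (J := JX) (U i)) j) b = rs _ g₃ (ap e.hom (ap prod.snd (rs (K ⨯ K) (g₂ ≫ g₁) s))) := hb
      rw [this, ap_rs, ap_rs]
      simp only [rs_rs, g, Category.assoc]
    let q : W ⟶ U i ⊓ U j := homOfLE (le_inf (g₄ ≫ g₃ ≫ a').le b'.le)
    refine ⟨W, g, ⟨(i, j), epsSec q, ?_⟩, hxW⟩
    have he : ∀ t t' : (K ⨯ K).obj.obj (op W), ap e.hom (ap prod.fst t) = ap e.hom (ap prod.fst t') →
        ap e.hom (ap prod.snd t) = ap e.hom (ap prod.snd t') → t = t' := fun t t' e₁ e₂ => by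
      have h : epsLift t = epsLift t' := by
        ext1
        · rw [← cancel_mono e.hom]
          refine eps_hom_ext ?_
          simp only [Category.assoc, ap_comp, ap_epsLift, rs_id]
          exact e₁
        · rw [← cancel_mono e.hom]
          refine eps_hom_ext ?_
          simp only [Category.assoc, ap_comp, ap_epsLift, rs_id]
          exact e₂
      simpa only [ap_epsLift, rs_id] using congrArg (fun φ => ap φ (epsSec (J := JX) (𝟙 W))) h
    refine he _ _ ?_ ?_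
    · rw [← ap_comp (f (i, j)), prod.lift_fst, ap_rs, ap_rs, h₁, ← ap_comp _ e.hom]
      simp only [Category.assoc, Iso.inv_hom_id, Category.comp_id]
      rw [ap_comp, ap_epsMap]
      congr 2
    · rw [← ap_comp (f (i, j)), prod.lift_snd, ap_rs, ap_rs, h₂, ← ap_comp _ e.hom]
      simp only [Category.assoc, Iso.inv_hom_id, Category.comp_id]
      rw [ap_comp, ap_epsMap]
      congr 2

end Groth.SitesTopoi.SpaceQcqs
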