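import Groth.Agent.SitesTopoi.Mod.PullGen

/-!
The inverse image of a flat sheaf of modules is flat.
-/

universe u

open CategoryTheory CategoryTheory.Limits Opposite

namespace Groth.SitesTopoi.ModH

variable {C D : Type u} [SmallCategory C] [SmallCategory D] {J : GrothendieckTopology C}
  {K : GrothendieckTopology D} {O_C : Sheaf J CommRingCat.{u}} {O_D : Sheaf K CommRingCat.{u}}
  (f : ModSite.RMor O_C O_D) (M : ModSite.Mod O_D)

lemma push_smul (N : ModSite.Mod O_C) {d : D} (r : rsec O_D d) (x : sc (f.push.obj N).val d) :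
    (r • x : sc (f.push.obj N).val d) = (shf f d r • (show sc N.val (f.fn.obj d) from x) : sc N.val (f.fn.obj d)) :=
  rfl

/-- Build a morphism into a direct image from maps on sections. -/
noncomputable def homToPush (N : ModSite.Mod O_C) (φ : ∀ d, sc M.val d →+ sc N.val (f.fn.obj d))
    (hsmul : ∀ d (r : rsec O_D d) x, φ d (r • x) = shf f d r • φ d x)
    (hnat : ∀ {d d' : D} (u : d' ⟶ d) x, φ d' (rsm M.val u x) = rsm N.val (f.fn.map u) (φ d x)) :
    M ⟶ f.push.obj N where
  val :=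
    { app := fun X => ModuleCat.ofHom
        (X := M.val.obj X) (Y := (f.push.obj N).val.obj X)
        { toFun := φ X.unop, map_add' := map_add _, map_smul' := hsmul X.unop }
      naturality := fun {X Y} u => by
        ext x
        exact hnat u.unop x }

/-- The universal map to the direct image of the constructed inverse image. -/
noncomputable def etaPull : M ⟶ f.push.obj ((aP O_C).obj (Qp f M)) :=
  homToPush f M _ (fun d => (apm (etaP (Qp f M)) (f.fn.obj d)).toAddMonoidHom.comp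
      (AddMonoidHom.mk' (ge f M (𝟙 _)) (ge_add f M (𝟙 _))))
    (fun d r x => by
      change apm (etaP (Qp f M)) _ (ge f M (𝟙 _) (r • x)) = shf f d r • apm (etaP (Qp f M)) _ (ge f M (𝟙 _) x)
      rw [ge_smul, map_smul, sha, RingHom.comp_apply, rsR_id])
    (fun {d d'} u x => by
      change apm (etaP (Qp f M)) _ (ge f M (𝟙 _) (rsm M.val u x)) =
        rsm _ (f.fn.map u) (apm (etaP (Qp f M)) _ (ge f M (𝟙 _) x))
      rw [← apm_rsm, rsm_ge, ge_rsm, Category.id_comp, Category.comp_id])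

lemma sharp_unit_app {N : ModSite.Mod O_C} (u : f.pull.obj M ⟶ N) (d : D) (x : sc M.val d) :
    apm (f.adj.homEquiv _ _ u).val d x = apm u.val (f.fn.obj d) (apm (f.adj.unit.app M).val d x) := by
  rw [Adjunction.homEquiv_unit]
  rfl

/-- The canonical map on generators. -/
noncomputable def thetaD (d : D) : sc M.val d →+ sc (f.pull.obj M).val (f.fn.obj d) :=
  AddMonoidHom.mk' (fun x => apm (f.adj.unit.app M).val d x) (fun a b => map_add (apm (f.adj.unit.app M).val d) a b)

lemma thetaD_smul (d : D) (r : rsec O_D d) (x : sc M.val d) : thetaD f M d (r • x) = shf f d r • thetaD f M d x :=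
  (map_smul (apm (f.adj.unit.app M).val d) r x).trans (push_smul f _ r _)

lemma thetaD_rsm {d d' : D} (u : d' ⟶ d) (x : sc M.val d) :
    thetaD f M d' (rsm M.val u x) = rsm (f.pull.obj M).val (f.fn.map u) (thetaD f M d x) :=
  apm_rsm (f.adj.unit.app M).val u x

/-- The value of a generator in the inverse image. -/
noncomputable def genVal {c : C} (e : (Gen f M).obj (op c)) : sc (f.pull.obj M).val c :=
  rsm (f.pull.obj M).val e.2.1 (thetaD f M e.1 e.2.2)

/-- The map from formal sums to the inverse image. -/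
noncomputable def descGen : FT O_C (Gen f M) ⟶ (f.pull.obj M).val :=
  PresheafOfModules.freeObjDesc
    { app := fun c => ↾fun e => genVal f M e
      naturality := fun c c' h => by
        ext e
        exact (rsm_rsm (f.pull.obj M).val e.2.1 h.unop (thetaD f M e.1 e.2.2)).symm }

lemma descGen_fm {c : C} (e : (Gen f M).obj (op c)) : apm (descGen f M) c (fm e) = genVal f M e :=
  ModuleCat.freeDesc_apply _ e

lemma pres_descGen : pres f M ≫ descGen f M = 0 := by
  refine pm_hom_ext fun c z => ?_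
  rw [apm_comp, eq_sum_fm z, map_sum, map_sum, map_sum]
  refine Finset.sum_congr rfl fun i _ => ?_
  rw [map_smul, map_smul, map_smul, pres_fm]
  have h0 : apm (descGen f M) c (relElt f M c i) = 0 := by
    rcases i with ⟨d, α, r, hr⟩ | ⟨d, d', v, α, x⟩
    · change apm (descGen f M) c (r.sum fun x a => sha f α a • fm (gn f M α x)) = 0
      simp only [Finsupp.sum, map_sum, map_smul, descGen_fm, genVal, sha, RingHom.comp_apply, ← rsm_smul, ← thetaD_smul]
      have e : ∑ x ∈ r.support, r x • x = 0 := by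
        simpa [combD, Finsupp.linearCombination_apply, Finsupp.sum] using LinearMap.mem_ker.1 hr
      rw [← map_sum, ← map_sum, e, map_zero, map_zero]
    · change apm (descGen f M) c (fm _ - fm _) = 0
      rw [map_sub, descGen_fm, descGen_fm, genVal, genVal, thetaD_rsm, rsm_rsm, sub_self]
  rw [h0, smul_zero]
  exact (smul_zero _).symm

/-- The comparison to the inverse image. -/
noncomputable def toPull : (aP O_C).obj (Qp f M) ⟶ f.pull.obj M :=
  ((adjP O_C).homEquiv _ _).symm (cokernel.desc (pres f M) (descGen f M) (pres_descGen f M))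

/-- The comparison from the inverse image. -/
noncomputable def fromPull : f.pull.obj M ⟶ (aP O_C).obj (Qp f M) := (f.adj.homEquiv _ _).symm (etaPull f M)

lemma etaP_toPull_ge {c : C} {d : D} (α : c ⟶ f.fn.obj d) (x : sc M.val d) :
    apm (toPull f M).val c (apm (etaP (Qp f M)) c (ge f M α x)) = rsm (f.pull.obj M).val α (thetaD f M d x) := by
  have e : etaP (Qp f M) ≫ (toPull f M).val = cokernel.desc (pres f M) (descGen f M) (pres_descGen f M) :=
    ((adjP O_C).homEquiv_unit _ _ _).symm.trans (Equiv.apply_symm_apply _ _)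
  refine (congrArg (fun φ => apm φ c (ge f M α x)) e).trans ?_
  rw [ge, ← apm_comp, cokernel.π_desc, descGen_fm]
  rfl

lemma fromPull_theta (d : D) (x : sc M.val d) :
    apm (fromPull f M).val (f.fn.obj d) (thetaD f M d x) = apm (etaP (Qp f M)) (f.fn.obj d) (ge f M (𝟙 _) x) := by
  refine (sharp_unit_app f M (fromPull f M) d x).symm.trans ?_
  rw [fromPull, Equiv.apply_symm_apply]
  rfl

/-- The constructed inverse image is the inverse image. -/
noncomputable def pullIso : f.pull.obj M ≅ (aP O_C).obj (Qp f M) where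
  hom := fromPull f M
  inv := toPull f M
  hom_inv_id := (f.adj.homEquiv _ _).injective <| mod_hom_ext fun d x => by
    rw [sharp_unit_app, sharp_unit_app]
    change apm (toPull f M).val _ (apm (fromPull f M).val _ (thetaD f M d x)) = thetaD f M d x
    rw [fromPull_theta, etaP_toPull_ge, rsm_id]
  inv_hom_id := ((adjP O_C).homEquiv _ _).injective <| by
    rw [← cancel_epi (qpr f M)]
    refine pm_hom_ext fun c z => ?_
    rw [apm_comp, apm_comp, eq_sum_fm z, map_sum, map_sum, map_sum]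
    refine Finset.sum_congr rfl fun e _ => ?_
    rw [map_smul, map_smul, map_smul]
    refine congrArg _ ?_
    obtain ⟨d, α, x⟩ := e
    rw [Adjunction.homEquiv_unit, Adjunction.homEquiv_unit]
    change apm (fromPull f M).val c (apm (toPull f M).val c (apm (etaP (Qp f M)) c (ge f M α x))) =
      apm (etaP (Qp f M)) c (ge f M α x)
    rw [etaP_toPull_ge, apm_rsm, fromPull_theta, ← apm_rsm, rsm_ge, Category.comp_id]

variable {f M}

/-- A vector in the relation submodule is locally trivialised. -/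
lemma exists_triv_of_mem_rel₀ (hl : LocFiltered J K f.fn) (hM : RelTriv M) {c : C} {d : D} {β : c ⟶ f.fn.obj d}
    {v : Vec (O_C := O_C) M d c} (hv : v ∈ rel₀ f M β) (E₀ : Finset (sc M.val d)) :
    ∃ S ∈ J c, ∀ ⦃c' : C⦄ (h : c' ⟶ c), S h → ∃ (d' : D) (w : d' ⟶ d) (γ : c' ⟶ f.fn.obj d') (l : ℕ)
      (t : Fin l → sc M.val d') (a : sc M.val d → Fin l → rsec O_D d'), γ ≫ f.fn.map w = h ≫ β ∧
      (∀ x ∈ E₀, rsm M.val w x = ∑ k, a x k • t k) ∧ ∀ k, (v.sum fun x r => rsR h r * sha f γ (a x k)) = 0 := by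
  classical
  obtain ⟨L, hL⟩ : ∃ L : List (LinearMap.ker (combD M d)), ∀ ⦃c' : C⦄ (h : c' ⟶ c) ⦃d' : D⦄ (w : d' ⟶ d)
      (γ : c' ⟶ f.fn.obj d') (a : sc M.val d → rsec O_D d'), γ ≫ f.fn.map w = h ≫ β →
      (∀ r ∈ L, (r : sc M.val d →₀ rsec O_D d).sum (fun x b => a x * rsR w b) = 0) →
        (v.sum fun x r => rsR h r * sha f γ (a x)) = 0 := by
    induction hv using Submodule.span_induction with
    | zero => exact ⟨[], fun c' h d' w γ a _ _ => Finsupp.sum_zero_index⟩
    | add p q _ _ hp hq =>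
      obtain ⟨L₁, hL₁⟩ := hp
      obtain ⟨L₂, hL₂⟩ := hq
      refine ⟨L₁ ++ L₂, fun c' h d' w γ a e ha => ?_⟩
      rw [Finsupp.sum_add_index' (fun _ => by rw [map_zero, zero_mul]) (fun _ _ _ => by rw [map_add, add_mul]),
        hL₁ h w γ a e fun r hr => ha r (List.mem_append_left _ hr),
        hL₂ h w γ a e fun r hr => ha r (List.mem_append_right _ hr), add_zero]
    | smul s p _ hp =>
      obtain ⟨L₁, hL₁⟩ := hp
      refine ⟨L₁, fun c' h d' w γ a e ha => ?_⟩
      have h1 := hL₁ h w γ a e ha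
      rw [Finsupp.sum_smul_index (fun _ => by rw [map_zero, zero_mul])]
      simp only [map_mul, mul_assoc, Finsupp.sum, ← Finset.mul_sum] at h1 ⊢
      rw [h1, mul_zero]
    | mem p hp =>
      obtain ⟨r, hr, rfl⟩ := hp
      refine ⟨[⟨r, hr⟩], fun c' h d' w γ a e ha => ?_⟩
      have h1 := congrArg (sha f γ) (ha ⟨r, hr⟩ (List.mem_singleton_self _))
      rw [map_zero] at h1
      rw [Finsupp.sum_mapRange_index (fun _ => by rw [map_zero, zero_mul]), ← h1]
      simp only [Finsupp.sum, map_sum, map_mul, rsR_sha, sha_rsR, e, mul_comm]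
  let E : Finset (sc M.val d) :=
    E₀ ∪ L.toFinset.biUnion fun r => (r : sc M.val d →₀ rsec O_D d).support
  have hE : ∀ r ∈ L, (r : sc M.val d →₀ rsec O_D d).support ⊆ E := fun r hr e he =>
    Finset.mem_union_right _ (Finset.mem_biUnion.2 ⟨r, List.mem_toFinset.2 hr, he⟩)
  let eE := E.equivFin
  obtain ⟨T, hT, hT'⟩ := hM.simultaneous (fun i => (eE.symm i : sc M.val d))
    (L.map fun (r : LinearMap.ker (combD M d)) i => (r : sc M.val d →₀ rsec O_D d) (eE.symm i)) (fun r' hr' => by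
      obtain ⟨r, hr, rfl⟩ := List.mem_map.1 hr'
      refine Eq.trans ?_ (LinearMap.mem_ker.1 r.2)
      rw [Fintype.sum_equiv eE.symm _ (fun e : E => (r : sc M.val d →₀ rsec O_D d) e • (e : sc M.val d)) fun _ => rfl]
      simp only [combD, Finsupp.linearCombination_apply, id]
      refine (E.sum_coe_sort fun e => (r : sc M.val d →₀ rsec O_D d) e • e).trans ?_
      exact (Finsupp.sum_of_support_subset _ (hE r hr) (fun e c => c • e) fun _ _ => zero_smul _ _).symm)
  obtain ⟨S, hS, hS'⟩ := hl.cover d T hT c β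
  refine ⟨S, hS, fun c' h hh => ?_⟩
  obtain ⟨d', w, γ, hw, e⟩ := hS' h hh
  obtain ⟨l, t, b, hb, hb'⟩ := hT' w hw
  let a : sc M.val d → Fin l → rsec O_D d' := fun x k => if hx : x ∈ E then b (eE ⟨x, hx⟩) k else 0
  refine ⟨d', w, γ, l, t, a, e, fun x hx => ?_, fun k => hL h w γ (fun x => a x k) e fun r hr => ?_⟩
  · have hx' : x ∈ E := Finset.mem_union_left _ hx
    simp only [a, dif_pos hx']
    simpa using hb (eE ⟨x, hx'⟩)
  · rw [Finsupp.sum_of_support_subset _ (hE r hr) _ (fun _ _ => by rw [map_zero, mul_zero]),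
      ← E.sum_coe_sort, ← Fintype.sum_equiv eE.symm
        (fun i => b i k * rsR w ((r : sc M.val d →₀ rsec O_D d) (eE.symm i))) _ fun i => by simp [a]]
    exact hb' _ (List.mem_map_of_mem hr) k

lemma relTriv_aP_Qp (hl : LocFiltered J K f.fn) (hM : RelTriv M) : RelTriv ((aP O_C).obj (Qp f M)) := by
  classical
  intro c n F s hrel
  choose T hT hT' using fun j => locSurj_etaP (Qp f M) c (s j)
  obtain ⟨S, hS, hS₀⟩ : ∃ S ∈ J c, ∀ ⦃c' : C⦄ (g : c' ⟶ c), S g → ∀ j, T j g := by
    suffices ∀ s : Finset (Fin n), ∃ S ∈ J c, ∀ ⦃c' : C⦄ (g : c' ⟶ c), S g → ∀ j ∈ s, T j g by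
      obtain ⟨S, hS, h⟩ := this Finset.univ
      exact ⟨S, hS, fun c' g hg j => h g hg j (Finset.mem_univ j)⟩
    intro s
    induction s using Finset.induction_on with
    | empty => exact ⟨⊤, J.top_mem c, fun c' g _ j hj => absurd hj (Finset.notMem_empty j)⟩
    | insert j₀ s _ ih =>
      obtain ⟨S, hS, h⟩ := ih
      exact ⟨T j₀ ⊓ S, J.intersection_covering (hT j₀) hS, fun c' g hg j hj =>
        (Finset.mem_insert.1 hj).elim (fun e => e ▸ hg.1) (h g hg.2 j)⟩
  refine exists_refine hS fun c₁ g hg => ?_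
  choose q hq using fun j => hT' j g (hS₀ g hg j)
  have h0 : apm (etaP (Qp f M)) c₁ (∑ j, rsR g (F j) • q j) = 0 := by
    have := congrArg (rsm ((aP O_C).obj (Qp f M)).val g) hrel
    simp only [map_sum, rsm_smul, map_zero, ← hq] at this
    simpa only [map_sum, map_smul] using this
  obtain ⟨R, hR, hR'⟩ := locInj_etaP (Qp f M) c₁ _ h0
  refine exists_refine hR fun c₂ k hk => ?_
  obtain ⟨R₁, hR₁, hR₁'⟩ := exists_repr (f := f) hl fun j => rsm (Qp f M) k (q j)
  refine exists_refine hR₁ fun c₃ k₁ hk₁ => ?_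
  obtain ⟨d, β, v, hv⟩ := hR₁' k₁ hk₁
  let g₁ := k₁ ≫ k ≫ g
  have hvz : vecTo f M β (∑ j, rsR g₁ (F j) • v j) = 0 := by
    rw [map_sum]
    simp only [map_smul, ← hv]
    have := congrArg (rsm (Qp f M) k₁) (hR' k hk)
    simpa only [g₁, map_sum, rsm_smul, rsR_rsR, map_zero] using this
  obtain ⟨R₂, hR₂, hR₂'⟩ := exists_rel₀ hl β _ hvz
  refine exists_refine hR₂ fun c₄ k₂ hk₂ => ?_
  obtain ⟨d₁, w, β₁, hw, hm⟩ := hR₂' k₂ hk₂
  obtain ⟨R₃, hR₃, hR₃'⟩ := exists_triv_of_mem_rel₀ hl hM hm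
    (Finset.univ.biUnion fun j => (vpush M w k₂ (v j)).support)
  refine ⟨R₃, hR₃, fun c₅ k₃ hk₃ => ?_⟩
  obtain ⟨d', w', γ, l, t, a, hw', ha, ha'⟩ := hR₃' k₃ hk₃
  let V : Fin n → Vec (O_C := O_C) M d₁ c₄ := fun j => vpush M w k₂ (v j)
  refine ⟨l, fun i => apm (etaP (Qp f M)) c₅ (ge f M γ (t i)),
    fun j i => (V j).sum fun x r => rsR k₃ r * sha f γ (a x i), fun j => ?_, fun i => ?_⟩
  · have e₁ : rsm (Qp f M) (k₃ ≫ k₂ ≫ k₁ ≫ k) (q j) = ∑ i, ((V j).sum fun x r => rsR k₃ r * sha f γ (a x i)) • ge f M γ (t i) := by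
      rw [← rsm_rsm, ← rsm_rsm, ← rsm_rsm, hv, ← vecTo_vpush f M w k₂ β β₁ hw, vecTo, Finsupp.linearCombination_apply]
      simp only [Finsupp.sum, map_sum, rsm_smul, rsm_ge, Finset.sum_smul, mul_smul, ← ge_smul, V]
      rw [Finset.sum_comm]
      refine Finset.sum_congr rfl fun x hx => ?_
      rw [← Finset.smul_sum, ← ge_finsetSum, ← ha x (Finset.mem_biUnion.2 ⟨j, Finset.mem_univ j, hx⟩), ge_rsm, hw']
    have e₂ : rsm ((aP O_C).obj (Qp f M)).val ((k₃ ≫ k₂ ≫ k₁ ≫ k) ≫ g) (s j) =
        apm (etaP (Qp f M)) c₅ (rsm (Qp f M) (k₃ ≫ k₂ ≫ k₁ ≫ k) (q j)) := by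
      rw [← rsm_rsm, ← hq, apm_rsm]
    simp only [Category.assoc] at e₂ ⊢
    rw [e₂, e₁, map_sum]
    simp only [map_smul]
  · refine Eq.trans ?_ (ha' i)
    simp only [g₁, map_sum, vpush_smul, rsR_rsR, V]
    rw [← Finsupp.sum_finsetSum_index (fun _ => by rw [map_zero, zero_mul]) (fun _ _ _ => by rw [map_add, add_mul])]
    refine Finset.sum_congr rfl fun j _ => ?_
    rw [Finsupp.sum_smul_index (fun _ => by rw [map_zero, zero_mul])]
    simp only [Finsupp.sum, Finset.sum_mul, map_mul, rsR_rsR, Category.assoc]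
    exact Finset.sum_congr rfl fun x _ => by ring

variable (f)

lemma isFlat_pull (hM : ModSite.IsFlat M) : ModSite.IsFlat (f.pull.obj M) := by
  have h := (relTriv_aP_Qp (f := f) (locFiltered (J := J) (K := K) f.fn) (relTriv_of_isFlat hM)).isFlat
  refine isFlat_of_mono _ fun G H φ _ => ?_
  have := mono_tensorFlip_map h φ
  rw [show ((ModSite.tensorBi O_C).map φ).app (f.pull.obj M) =
    ((ModSite.tensorBi O_C).obj G).map (pullIso f M).hom ≫ ((ModSite.tensorBi O_C).map φ).app _ ≫
      ((ModSite.tensorBi O_C).obj H).map (pullIso f M).inv by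
    rw [← NatTrans.naturality, ← Functor.map_comp_assoc, Iso.hom_inv_id, CategoryTheory.Functor.map_id, Category.id_comp]]
  infer_instance

end Groth.SitesTopoi.ModH
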