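import Groth.Agent.SitesTopoi.Mod.TensorLocal

/-!
Restriction of presheaves of modules to a localised site.
-/

universe u

open CategoryTheory CategoryTheory.Limits Opposite MonoidalCategory

namespace Groth.SitesTopoi.ModH

variable {C : Type u} [SmallCategory C] {J : GrothendieckTopology C} {O : Sheaf J CommRingCat.{u}} {U : C}

/-- Restriction of presheaves of modules to the localised site. -/
noncomputable def resP (U : C) : PM O ⥤ PM (O.over U) :=
  PresheafOfModules.pushforward.{u} (F := Over.forget U)
    (𝟙 ((ModSite.ringSh O).over U) :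
      (ModSite.ringSh O).over U ⟶ ((Over.forget U).sheafPushforwardContinuous RingCat.{u} (J.over U) J).obj (ModSite.ringSh O)).hom

/-- View a section as a section of the restriction. -/
noncomputable def toRes (M : PM O) (W : Over U) : sc M W.left →+ sc ((resP U).obj M) W :=
  AddMonoidHom.mk' (fun m => m) fun _ _ => rfl

/-- View a section of the restriction as a section. -/
noncomputable def ofRes (M : PM O) (W : Over U) : sc ((resP U).obj M) W →+ sc M W.left :=
  AddMonoidHom.mk' (fun m => m) fun _ _ => rfl

lemma toRes_smul (M : PM O) (W : Over U) (r : rsec O W.left) (m : sc M W.left) :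
    toRes M W (r • m) = (show rsec (O.over U) W from r) • toRes M W m := rfl

lemma ofRes_toRes (M : PM O) (W : Over U) (m : sc M W.left) : ofRes M W (toRes M W m) = m := rfl

lemma rsm_resP (M : PM O) {W W' : Over U} (g : W' ⟶ W) (m : sc M W.left) :
    rsm ((resP U).obj M) g (toRes M W m) = toRes M W' (rsm M g.left m) := rfl

lemma apm_resP {M N : PM O} (φ : M ⟶ N) (W : Over U) (m : sc M W.left) :
    apm ((resP U).map φ) W (toRes M W m) = toRes N W (apm φ W.left m) := rfl

lemma locInj_resP {M N : PM O} {φ : M ⟶ N} (h : LocInj φ) : LocInj ((resP U).map φ) := by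
  intro W m hm
  obtain ⟨S, hS, h'⟩ := h W.left (ofRes M W m) hm
  exact ⟨(Sieve.overEquiv W).symm S, (GrothendieckTopology.mem_over_iff J _).2 (by simpa using hS),
    fun W' g hg => h' g.left ((Sieve.overEquiv_symm_iff S g).1 hg)⟩

lemma locSurj_resP {M N : PM O} {φ : M ⟶ N} (h : LocSurj φ) : LocSurj ((resP U).map φ) := by
  intro W n
  obtain ⟨S, hS, h'⟩ := h W.left (ofRes N W n)
  refine ⟨(Sieve.overEquiv W).symm S, (GrothendieckTopology.mem_over_iff J _).2 (by simpa using hS), fun W' g hg => ?_⟩
  obtain ⟨m, hm⟩ := h' g.left ((Sieve.overEquiv_symm_iff S g).1 hg)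
  exact ⟨toRes M W' m, hm⟩

lemma isIso_aP_map_resP {M N : PM O} (φ : M ⟶ N) [IsIso ((aP O).map φ)] :
    IsIso ((aP (O.over U)).map ((resP U).map φ)) := by
  obtain ⟨h₁, h₂⟩ := (isIso_aP_map_iff φ).1 inferInstance
  exact (isIso_aP_map_iff _).2 ⟨locInj_resP h₁, locSurj_resP h₂⟩

variable (U)

/-- Restriction of a sheaf of modules, on underlying presheaves. -/
noncomputable def restrValIso : ModSite.restr O U ⋙ forgetP (O.over U) ≅ forgetP O ⋙ resP U :=
  Iso.refl _

/-- The comparison of sheafification and restriction. -/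
noncomputable def resAPHom (M : PM O) : (aP (O.over U)).obj ((resP U).obj M) ⟶ (ModSite.restr O U).obj ((aP O).obj M) :=
  ((adjP (O.over U)).homEquiv _ _).symm ((resP U).map (etaP M))


lemma resAPHom_eq (M : PM O) : resAPHom U M = (aP (O.over U)).map ((resP U).map (etaP M)) ≫ (adjP (O.over U)).counit.app ((ModSite.restr O U).obj ((aP O).obj M)) :=
    (adjP (O.over U)).homEquiv_counit _ _ _

lemma isIso_counit_restr (M : PM O) : IsIso ((adjP (O.over U)).counit.app ((ModSite.restr O U).obj ((aP O).obj M))) := NatIso.isIso_app_of_isIso _ _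

lemma isIso_resAPHom' (M : PM O) : IsIso (resAPHom U M) := by
  rw [resAPHom_eq]
  exact IsIso.comp_isIso' (isIso_aP_map_resP (U := U) (etaP M)) (isIso_counit_restr U M)

noncomputable def resAPIso (M : PM O) : (aP (O.over U)).obj ((resP U).obj M) ≅ (ModSite.restr O U).obj ((aP O).obj M) :=
  @asIso _ _ _ _ (resAPHom U M) (isIso_resAPHom' U M)

lemma resAPIso_hom (M : PM O) : (resAPIso U M).hom = resAPHom U M := rfl


lemma resAPHom_naturality {M N : PM O} (f : M ⟶ N) :
    (aP (O.over U)).map ((resP U).map f) ≫ resAPHom U N = resAPHom U M ≫ (ModSite.restr O U).map ((aP O).map f) := by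
  refine ((adjP (O.over U)).homEquiv _ _).injective ?_
  refine ((adjP (O.over U)).homEquiv_naturality_left _ _).trans (Eq.trans ?_ ((adjP (O.over U)).homEquiv_naturality_right _ _).symm)
  rw [resAPHom, resAPHom, Equiv.apply_symm_apply, Equiv.apply_symm_apply]
  exact (((resP U).map_comp _ _).symm.trans (congrArg (resP U).map ((adjP O).unit.naturality f))).trans ((resP U).map_comp _ _)

/-- Sheafification commutes with restriction, naturally. -/
noncomputable def resAPNatIso : resP U ⋙ aP (O.over U) ≅ aP O ⋙ ModSite.restr O U :=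
  NatIso.ofComponents (fun M => resAPIso U M) fun {X Y} f => by
    rw [Functor.comp_map, Functor.comp_map, resAPIso_hom, resAPIso_hom]
    exact resAPHom_naturality U f

/-- Restriction commutes with the tensor product of presheaves. -/
noncomputable def resTensorBil (M N : PM O) :
    Bil ((resP U).obj M) ((resP U).obj N) ((resP U).obj (M ⊗ N)) where
  fn W := LinearMap.mk₂ (rsec (O.over U) W) (fun m n => toRes (M ⊗ N : PM O) W (tm (ofRes M W m) (ofRes N W n)))
    (fun a b n => by rw [map_add, tm_add_left, map_add])
    (fun r a n => (congrArg (toRes (M ⊗ N : PM O) W) (tm_smul_left (O := O) (show rsec O W.left from r) (ofRes M W a) (ofRes N W n))).trans rfl)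
    (fun a b c => by rw [map_add, tm_add_right, map_add])
    (fun r a n => (congrArg (toRes (M ⊗ N : PM O) W) (tm_smul_right (O := O) (show rsec O W.left from r) (ofRes M W a) (ofRes N W n))).trans rfl)
  nat g m n := (rsm_resP (M ⊗ N : PM O) g _).trans (congrArg (toRes (M ⊗ N : PM O) _) (rsm_tm g.left _ _))

instance isIso_resTensor (M N : PM O) : IsIso (resTensorBil U M N).hom := by
  suffices ∀ W : Over U, Function.Bijective (apm (resTensorBil U M N).hom W) by
    have : ∀ X, IsIso ((resTensorBil U M N).hom.app X) := fun X =>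
      (ConcreteCategory.isIso_iff_bijective _).2 (this X.unop)
    exact ⟨(PresheafOfModules.isoMk (fun X => @asIso _ _ _ _ _ (this X)) fun X Y g => (resTensorBil U M N).hom.naturality g).inv,
      (PresheafOfModules.isoMk (fun X => @asIso _ _ _ _ _ (this X)) fun X Y g => (resTensorBil U M N).hom.naturality g).hom_inv_id,
      (PresheafOfModules.isoMk (fun X => @asIso _ _ _ _ _ (this X)) fun X Y g => (resTensorBil U M N).hom.naturality g).inv_hom_id⟩
  intro W
  have h : ∀ x, apm (resTensorBil U M N).hom W x = toRes (M ⊗ N : PM O) W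
      (show sc (M ⊗ N : PM O) W.left from x) := fun x => by
    induction x using tens_induction with
    | zero => rw [map_zero]; rfl
    | tmul m n => rw [Bil.hom_tm]; rfl
    | add a b ha hb => rw [map_add, ha, hb]; rfl
  exact ⟨fun a b e => by rwa [h, h] at e, fun y => ⟨y, h y⟩⟩

/-- Restriction commutes with the tensor product. -/
noncomputable def restrTensorIso (M N : ModSite.Mod O) :
    (ModSite.restr O U).obj (((ModSite.tensorBi O).obj M).obj N) ≅
      ((ModSite.tensorBi (O.over U)).obj ((ModSite.restr O U).obj M)).obj ((ModSite.restr O U).obj N) :=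
  (resAPIso U (M.val ⊗ N.val : PM O)).symm ≪≫ ((aP (O.over U)).mapIso (asIso (resTensorBil U M.val N.val).hom)).symm

end Groth.SitesTopoi.ModH
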