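import Groth.Agent.SitesTopoi.Mod.PullFlat
import Groth.Agent.SitesTopoi.Mod.TensorExact

/-!
The inverse image of sheaves of modules commutes with the tensor product.
-/

universe u

open CategoryTheory CategoryTheory.Limits Opposite MonoidalCategory

set_option backward.defeqAttrib.useBackward true
set_option backward.isDefEq.respectTransparency false

namespace Groth.SitesTopoi.PullTensor

open Groth.SitesTopoi.ModH

/-- Descent of a linear map along a surjective linear map. -/
noncomputable def descSurj {R A B P : Type*} [Ring R] [AddCommGroup A] [AddCommGroup B] [AddCommGroup P] [Module R A]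
    [Module R B] [Module R P] (g : A →ₗ[R] B) (hg : Function.Surjective g) (φ : A →ₗ[R] P)
    (h : LinearMap.ker g ≤ LinearMap.ker φ) : B →ₗ[R] P :=
  ((LinearMap.ker g).liftQ φ h).comp (g.quotKerEquivOfSurjective hg).symm.toLinearMap

lemma descSurj_apply {R A B P : Type*} [Ring R] [AddCommGroup A] [AddCommGroup B] [AddCommGroup P] [Module R A]
    [Module R B] [Module R P] (g : A →ₗ[R] B) (hg : Function.Surjective g) (φ : A →ₗ[R] P)
    (h : LinearMap.ker g ≤ LinearMap.ker φ) (a : A) : descSurj g hg φ h (g a) = φ a := by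
  have e : (g.quotKerEquivOfSurjective hg).symm (g a) = Submodule.Quotient.mk a :=
    (LinearEquiv.symm_apply_eq _).2 rfl
  simp [descSurj, e]

variable {C D : Type u} [SmallCategory C] [SmallCategory D] {J : GrothendieckTopology C}
  {K : GrothendieckTopology D} {O_C : Sheaf J CommRingCat.{u}} {O_D : Sheaf K CommRingCat.{u}}
  (f : ModSite.RMor O_C O_D) (M N : ModSite.Mod O_D)

/-- The tensor product on the base. -/
noncomputable abbrev tMN : ModSite.Mod O_D := ((ModSite.tensorBi O_D).obj M).obj N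

/-- The tensor of two sections in the sheaf tensor product. -/
noncomputable def tau {d : D} (x : sc M.val d) (y : sc N.val d) : sc (tMN M N).val d :=
  apm (etaP (M.val ⊗ N.val : PM O_D)) d (tm x y)

lemma rsm_tau {d d' : D} (w : d' ⟶ d) (x : sc M.val d) (y : sc N.val d) :
    rsm (tMN M N).val w (tau M N x y) = tau M N (rsm M.val w x) (rsm N.val w y) :=
  (apm_rsm (etaP (M.val ⊗ N.val : PM O_D)) w _).symm.trans (congrArg _ (rsm_tm (M := M.val) (N := N.val) w x y))

/-- The value of the pairing over a single object. -/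
noncomputable def val2 {c : C} {d : D} (γ : c ⟶ f.fn.obj d) (x : sc M.val d) (y : sc N.val d) :
    sc (f.pull.obj (tMN M N)).val c :=
  rsm (f.pull.obj (tMN M N)).val γ (thetaD f (tMN M N) d (tau M N x y))

variable {f M N}

lemma rsm_val2 {c c' : C} (h : c' ⟶ c) {d : D} (γ : c ⟶ f.fn.obj d) (x : sc M.val d) (y : sc N.val d) :
    rsm _ h (val2 f M N γ x y) = val2 f M N (h ≫ γ) x y :=
  rsm_rsm _ _ _ _

lemma val2_rsm {c : C} {d d' : D} (γ : c ⟶ f.fn.obj d') (w : d' ⟶ d) (x : sc M.val d) (y : sc N.val d) :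
    val2 f M N γ (rsm M.val w x) (rsm N.val w y) = val2 f M N (γ ≫ f.fn.map w) x y := by
  rw [val2, val2, ← rsm_tau, thetaD_rsm, rsm_rsm]

lemma val2_add_left {c : C} {d : D} (γ : c ⟶ f.fn.obj d) (x x' : sc M.val d) (y : sc N.val d) :
    val2 f M N γ (x + x') y = val2 f M N γ x y + val2 f M N γ x' y := by
  simp only [val2, tau]
  rw [tm_add_left, map_add, map_add, map_add]

lemma val2_add_right {c : C} {d : D} (γ : c ⟶ f.fn.obj d) (x : sc M.val d) (y y' : sc N.val d) :
    val2 f M N γ x (y + y') = val2 f M N γ x y + val2 f M N γ x y' := by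
  simp only [val2, tau]
  rw [tm_add_right, map_add, map_add, map_add]

lemma val2_smul_left {c : C} {d : D} (γ : c ⟶ f.fn.obj d) (r : rsec O_D d) (x : sc M.val d) (y : sc N.val d) :
    val2 f M N γ (r • x) y = sha f γ r • val2 f M N γ x y := by
  simp only [val2, tau]
  rw [tm_smul_left, map_smul]
  exact (congrArg (rsm _ γ) (thetaD_smul f (tMN M N) d r _)).trans (rsm_smul _ _ _ _)

lemma val2_smul_right {c : C} {d : D} (γ : c ⟶ f.fn.obj d) (r : rsec O_D d) (x : sc M.val d) (y : sc N.val d) :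
    val2 f M N γ x (r • y) = sha f γ r • val2 f M N γ x y := by
  simp only [val2, tau]
  rw [tm_smul_right, map_smul]
  exact (congrArg (rsm _ γ) (thetaD_smul f (tMN M N) d r _)).trans (rsm_smul _ _ _ _)

lemma val2_agree {c : C} {d d' e₁ e₂ : D} (x : sc M.val d) (y : sc N.val d') (γ₁ : c ⟶ f.fn.obj e₁)
    (γ₂ : c ⟶ f.fn.obj e₂) (a₁ : e₁ ⟶ d) (b₁ : e₁ ⟶ d') (a₂ : e₂ ⟶ d) (b₂ : e₂ ⟶ d')
    (ha : γ₁ ≫ f.fn.map a₁ = γ₂ ≫ f.fn.map a₂) (hb : γ₁ ≫ f.fn.map b₁ = γ₂ ≫ f.fn.map b₂) :
    val2 f M N γ₁ (rsm M.val a₁ x) (rsm N.val b₁ y) = val2 f M N γ₂ (rsm M.val a₂ x) (rsm N.val b₂ y) := by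
  have hl : LocFiltered J K f.fn := locFiltered (J := J) (K := K) f.fn
  obtain ⟨S, hS, h⟩ := hl.pair c e₁ e₂ γ₁ γ₂
  refine sec_extM _ hS fun c' g hg => ?_
  obtain ⟨e, v₁, v₂, δ, hδ₁, hδ₂⟩ := h g hg
  rw [rsm_val2, rsm_val2, ← hδ₁, ← hδ₂, ← val2_rsm, ← val2_rsm, rsm_rsm, rsm_rsm, rsm_rsm, rsm_rsm]
  have ha' : δ ≫ f.fn.map (v₁ ≫ a₁) = δ ≫ f.fn.map (v₂ ≫ a₂) := by
    rw [Functor.map_comp, Functor.map_comp, reassoc_of% hδ₁, reassoc_of% hδ₂, ha]
  have hb' : δ ≫ f.fn.map (v₁ ≫ b₁) = δ ≫ f.fn.map (v₂ ≫ b₂) := by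
    rw [Functor.map_comp, Functor.map_comp, reassoc_of% hδ₁, reassoc_of% hδ₂, hb]
  obtain ⟨T, hT, h'⟩ := hl.equalize c' e d (v₁ ≫ a₁) (v₂ ≫ a₂) δ ha'
  refine sec_extM _ hT fun c'' g' hg' => ?_
  obtain ⟨e', w, δ', hw, hδ'⟩ := h' g' hg'
  rw [rsm_val2, rsm_val2, ← hδ', ← val2_rsm, ← val2_rsm]
  simp only [rsm_rsm]
  have hb'' : δ' ≫ f.fn.map (w ≫ v₁ ≫ b₁) = δ' ≫ f.fn.map (w ≫ v₂ ≫ b₂) := by
    rw [Functor.map_comp, Functor.map_comp _ w, reassoc_of% hδ', reassoc_of% hδ', hb']
  obtain ⟨R, hR, h''⟩ := hl.equalize c'' e' d' (w ≫ v₁ ≫ b₁) (w ≫ v₂ ≫ b₂) δ' hb''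
  refine sec_extM _ hR fun c₃ g'' hg'' => ?_
  obtain ⟨e'', w', δ'', hw', hδ''⟩ := h'' g'' hg''
  rw [rsm_val2, rsm_val2, ← hδ'', ← val2_rsm, ← val2_rsm]
  simp only [rsm_rsm]
  rw [hw, hw']

variable (f M N)

/-- The defining property of the pairing of two generators. -/
def IsPr {c : C} {d d' : D} (α : c ⟶ f.fn.obj d) (x : sc M.val d) (β : c ⟶ f.fn.obj d') (y : sc N.val d')
    (z : sc (f.pull.obj (tMN M N)).val c) : Prop :=
  ∀ ⦃c' : C⦄ (h : c' ⟶ c) ⦃e : D⦄ (a : e ⟶ d) (b : e ⟶ d') (γ : c' ⟶ f.fn.obj e),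
    γ ≫ f.fn.map a = h ≫ α → γ ≫ f.fn.map b = h ≫ β →
    rsm _ h z = val2 f M N γ (rsm M.val a x) (rsm N.val b y)

variable {f M N}

lemma exists_isPr {c : C} {d d' : D} (α : c ⟶ f.fn.obj d) (x : sc M.val d) (β : c ⟶ f.fn.obj d') (y : sc N.val d') :
    ∃ z, IsPr f M N α x β y z := by
  have hl : LocFiltered J K f.fn := locFiltered (J := J) (K := K) f.fn
  obtain ⟨S, hS, h⟩ := hl.pair c d d' α β
  choose e a b γ ha hb using h
  obtain ⟨z, hz⟩ := glueM (f.pull.obj (tMN M N)) hS
    (fun c' g hg => val2 f M N (γ g hg) (rsm M.val (a g hg) x) (rsm N.val (b g hg) y)) (fun c' c'' g hg k => by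
      rw [rsm_val2]
      exact val2_agree x y _ _ _ _ _ _ (by rw [Category.assoc, ha, ha, Category.assoc]) (by rw [Category.assoc, hb, hb, Category.assoc]))
  refine ⟨z, fun c' k e' a' b' γ' ha' hb' => sec_extM _ (J.pullback_stable k hS) fun c'' l hl' => ?_⟩
  rw [rsm_rsm, hz _ hl', rsm_val2]
  exact val2_agree x y _ _ _ _ _ _ (by rw [Category.assoc, ha, ha', Category.assoc]) (by rw [Category.assoc, hb, hb', Category.assoc])

variable (f M N)

/-- The pairing of two generators. -/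
noncomputable def pr {c : C} {d d' : D} (α : c ⟶ f.fn.obj d) (x : sc M.val d) (β : c ⟶ f.fn.obj d') (y : sc N.val d') :
    sc (f.pull.obj (tMN M N)).val c :=
  (exists_isPr α x β y).choose

variable {f M N}

lemma pr_spec {c : C} {d d' : D} (α : c ⟶ f.fn.obj d) (x : sc M.val d) (β : c ⟶ f.fn.obj d') (y : sc N.val d') :
    IsPr f M N α x β y (pr f M N α x β y) := (exists_isPr α x β y).choose_spec

lemma pr_eq {c : C} {d d' : D} {α : c ⟶ f.fn.obj d} {x : sc M.val d} {β : c ⟶ f.fn.obj d'} {y : sc N.val d'}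
    {z : sc (f.pull.obj (tMN M N)).val c}
    (hz : ∀ ⦃c' : C⦄ (h : c' ⟶ c) ⦃e : D⦄ (a : e ⟶ d) (b : e ⟶ d') (γ : c' ⟶ f.fn.obj e),
      γ ≫ f.fn.map a = h ≫ α → γ ≫ f.fn.map b = h ≫ β →
      rsm _ h z = val2 f M N γ (rsm M.val a x) (rsm N.val b y)) :
    pr f M N α x β y = z := by
  have hl : LocFiltered J K f.fn := locFiltered (J := J) (K := K) f.fn
  obtain ⟨S, hS, h⟩ := hl.pair c d d' α β
  refine sec_extM _ hS fun c' g hg => ?_
  obtain ⟨e, a, b, γ, ha, hb⟩ := h g hg
  exact (pr_spec α x β y g a b γ ha hb).trans (hz g a b γ ha hb).symm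

lemma rsm_pr {c c' : C} (k : c' ⟶ c) {d d' : D} (α : c ⟶ f.fn.obj d) (x : sc M.val d) (β : c ⟶ f.fn.obj d')
    (y : sc N.val d') : rsm _ k (pr f M N α x β y) = pr f M N (k ≫ α) x (k ≫ β) y :=
  (pr_eq fun c'' h e a b γ ha hb => by
    rw [rsm_rsm]
    exact pr_spec α x β y (h ≫ k) a b γ (by rw [ha, Category.assoc]) (by rw [hb, Category.assoc])).symm

lemma pr_rsm_left {c : C} {d₀ d d' : D} (α : c ⟶ f.fn.obj d₀) (u : d₀ ⟶ d) (x : sc M.val d) (β : c ⟶ f.fn.obj d')
    (y : sc N.val d') : pr f M N α (rsm M.val u x) β y = pr f M N (α ≫ f.fn.map u) x β y :=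
  pr_eq fun c' h e a b γ ha hb => by
    rw [rsm_rsm]
    exact pr_spec _ x β y h (a ≫ u) b γ (by rw [Functor.map_comp, reassoc_of% ha]) hb

lemma pr_rsm_right {c : C} {d d₀ d' : D} (α : c ⟶ f.fn.obj d) (x : sc M.val d) (β : c ⟶ f.fn.obj d₀) (v : d₀ ⟶ d')
    (y : sc N.val d') : pr f M N α x β (rsm N.val v y) = pr f M N α x (β ≫ f.fn.map v) y :=
  pr_eq fun c' h e a b γ ha hb => by
    rw [rsm_rsm]
    exact pr_spec α x _ y h a (b ≫ v) γ ha (by rw [Functor.map_comp, reassoc_of% hb])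

lemma pr_add_left {c : C} {d d' : D} (α : c ⟶ f.fn.obj d) (x x' : sc M.val d) (β : c ⟶ f.fn.obj d') (y : sc N.val d') :
    pr f M N α (x + x') β y = pr f M N α x β y + pr f M N α x' β y :=
  pr_eq fun c' h e a b γ ha hb => by
    rw [map_add, map_add, val2_add_left, pr_spec α x β y h a b γ ha hb, pr_spec α x' β y h a b γ ha hb]

lemma pr_add_right {c : C} {d d' : D} (α : c ⟶ f.fn.obj d) (x : sc M.val d) (β : c ⟶ f.fn.obj d') (y y' : sc N.val d') :
    pr f M N α x β (y + y') = pr f M N α x β y + pr f M N α x β y' :=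
  pr_eq fun c' h e a b γ ha hb => by
    rw [map_add, map_add, val2_add_right, pr_spec α x β y h a b γ ha hb, pr_spec α x β y' h a b γ ha hb]

lemma pr_smul_left {c : C} {d d' : D} (α : c ⟶ f.fn.obj d) (r : rsec O_D d) (x : sc M.val d) (β : c ⟶ f.fn.obj d')
    (y : sc N.val d') : pr f M N α (r • x) β y = sha f α r • pr f M N α x β y :=
  pr_eq fun c' h e a b γ ha hb => by
    rw [rsm_smul, rsm_smul, val2_smul_left, pr_spec α x β y h a b γ ha hb, rsR_sha, sha_rsR, ha]

lemma pr_smul_right {c : C} {d d' : D} (α : c ⟶ f.fn.obj d) (x : sc M.val d) (β : c ⟶ f.fn.obj d') (r : rsec O_D d')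
    (y : sc N.val d') : pr f M N α x β (r • y) = sha f β r • pr f M N α x β y :=
  pr_eq fun c' h e a b γ ha hb => by
    rw [rsm_smul, rsm_smul, val2_smul_right, pr_spec α x β y h a b γ ha hb, rsR_sha, sha_rsR, hb]

variable (f M N)

/-- The first slot of the pairing, on formal sums. -/
noncomputable def pre₁ {c : C} {d' : D} (β : c ⟶ f.fn.obj d') (y : sc N.val d') :
    sc (FT O_C (Gen f M)) c →ₗ[rsec O_C c] sc (f.pull.obj (tMN M N)).val c :=
  (ModuleCat.freeDesc (M := (f.pull.obj (tMN M N)).val.obj (op c))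
    (↾fun e : (Gen f M).obj (op c) => pr f M N e.2.1 e.2.2 β y)).hom

variable {f M N}

lemma pre₁_fm {c : C} {d d' : D} (α : c ⟶ f.fn.obj d) (x : sc M.val d) (β : c ⟶ f.fn.obj d') (y : sc N.val d') :
    pre₁ f M N β y (fm (gn f M α x)) = pr f M N α x β y :=
  ModuleCat.freeDesc_apply _ _

lemma pre₁_relElt {c : C} {d' : D} (β : c ⟶ f.fn.obj d') (y : sc N.val d') (i : (Rl f M).obj (op c)) :
    pre₁ f M N β y (relElt f M c i) = 0 := by
  rcases i with ⟨d, α, r, hr⟩ | ⟨d, e, v, α, x⟩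
  · change pre₁ f M N β y (r.sum fun x a => sha f α a • fm (gn f M α x)) = 0
    simp only [Finsupp.sum, map_sum, map_smul, pre₁_fm, ← pr_smul_left]
    have e : ∑ x ∈ r.support, r x • x = 0 := by
      simpa [combD, Finsupp.linearCombination_apply, Finsupp.sum] using LinearMap.mem_ker.1 hr
    let φ : sc M.val d →+ sc (f.pull.obj (tMN M N)).val c :=
      AddMonoidHom.mk' (fun z => pr f M N α z β y) fun p q => pr_add_left α p q β y
    exact (map_sum φ _ _).symm.trans ((congrArg φ e).trans (map_zero φ))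
  · change pre₁ f M N β y (fm _ - fm _) = 0
    rw [map_sub, pre₁_fm, pre₁_fm, pr_rsm_left, sub_self]

lemma ker_qpr_le {P : Type*} [AddCommGroup P] (L : ModSite.Mod O_D) {c : C} [Module (rsec O_C c) P]
    (φ : sc (FT O_C (Gen f L)) c →ₗ[rsec O_C c] P) (h : ∀ i, φ (relElt f L c i) = 0) :
    LinearMap.ker (apm (qpr f L) c) ≤ LinearMap.ker φ := by
  intro z hz
  obtain ⟨w, rfl⟩ := exists_pres_of_qpr_eq_zero f L (LinearMap.mem_ker.1 hz)
  rw [LinearMap.mem_ker, eq_sum_fm w, map_sum, map_sum]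
  refine Finset.sum_eq_zero fun i _ => ?_
  rw [map_smul, map_smul, pres_fm, h, smul_zero]

lemma ge_ext {P : Type*} [AddCommGroup P] {L : ModSite.Mod O_D} {c : C} [Module (rsec O_C c) P]
    {φ ψ : sc (Qp f L) c →ₗ[rsec O_C c] P}
    (h : ∀ (d : D) (α : c ⟶ f.fn.obj d) (x : sc L.val d), φ (ge f L α x) = ψ (ge f L α x)) : φ = ψ := by
  refine LinearMap.ext fun q => ?_
  obtain ⟨z, rfl⟩ := qpr_surjective f L c q
  rw [eq_sum_fm z, map_sum, map_sum, map_sum]
  refine Finset.sum_congr rfl fun e _ => ?_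
  rw [map_smul, map_smul, map_smul]
  exact congrArg _ (h e.1 e.2.1 e.2.2)

variable (f M N)

/-- The first slot of the pairing. -/
noncomputable def slot₁ {c : C} {d' : D} (β : c ⟶ f.fn.obj d') (y : sc N.val d') :
    sc (Qp f M) c →ₗ[rsec O_C c] sc (f.pull.obj (tMN M N)).val c :=
  descSurj (apm (qpr f M) c) (qpr_surjective f M c) (pre₁ f M N β y) (ker_qpr_le M _ (pre₁_relElt β y))

variable {f M N}

lemma slot₁_ge {c : C} {d d' : D} (α : c ⟶ f.fn.obj d) (x : sc M.val d) (β : c ⟶ f.fn.obj d') (y : sc N.val d') :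
    slot₁ f M N β y (ge f M α x) = pr f M N α x β y :=
  (descSurj_apply _ _ _ _ _).trans (pre₁_fm α x β y)

variable (f M N)

/-- The second slot, on formal sums. -/
noncomputable def pre₂ (c : C) :
    sc (FT O_C (Gen f N)) c →ₗ[rsec O_C c] (sc (Qp f M) c →ₗ[rsec O_C c] sc (f.pull.obj (tMN M N)).val c) :=
  (ModuleCat.freeDesc (M := ModuleCat.of (rsec O_C c) (sc (Qp f M) c →ₗ[rsec O_C c] sc (f.pull.obj (tMN M N)).val c))
    (↾fun e : (Gen f N).obj (op c) => slot₁ f M N e.2.1 e.2.2)).hom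

variable {f M N}

lemma pre₂_fm {c : C} {d' : D} (β : c ⟶ f.fn.obj d') (y : sc N.val d') :
    pre₂ f M N c (fm (gn f N β y)) = slot₁ f M N β y :=
  ModuleCat.freeDesc_apply _ _

lemma pre₂_relElt {c : C} (i : (Rl f N).obj (op c)) : pre₂ f M N c (relElt f N c i) = 0 := by
  refine ge_ext fun d α x => ?_
  rcases i with ⟨d', β, r, hr⟩ | ⟨d', e, v, β, y⟩
  · change pre₂ f M N c (r.sum fun y a => sha f β a • fm (gn f N β y)) (ge f M α x) = 0
    simp only [Finsupp.sum, map_sum, map_smul, pre₂_fm, LinearMap.sum_apply, LinearMap.smul_apply, slot₁_ge, ← pr_smul_right]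
    have e : ∑ x ∈ r.support, r x • x = 0 := by
      simpa [combD, Finsupp.linearCombination_apply, Finsupp.sum] using LinearMap.mem_ker.1 hr
    let φ : sc N.val d' →+ sc (f.pull.obj (tMN M N)).val c :=
      AddMonoidHom.mk' (fun z => pr f M N α x β z) fun p q => pr_add_right α x β p q
    exact (map_sum φ _ _).symm.trans ((congrArg φ e).trans (map_zero φ))
  · change pre₂ f M N c (fm _ - fm _) (ge f M α x) = 0
    rw [map_sub, pre₂_fm, pre₂_fm, LinearMap.sub_apply, slot₁_ge, slot₁_ge, pr_rsm_right, sub_self]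

variable (f M N)

/-- The pairing on sections of the presheaf inverse images. -/
noncomputable def pairFn (c : C) :
    sc (Qp f M) c →ₗ[rsec O_C c] sc (Qp f N) c →ₗ[rsec O_C c] sc (f.pull.obj (tMN M N)).val c :=
  (descSurj (apm (qpr f N) c) (qpr_surjective f N c) (pre₂ f M N c) (ker_qpr_le N _ pre₂_relElt)).flip

variable {f M N}

lemma pairFn_ge {c : C} {d d' : D} (α : c ⟶ f.fn.obj d) (x : sc M.val d) (β : c ⟶ f.fn.obj d') (y : sc N.val d') :
    pairFn f M N c (ge f M α x) (ge f N β y) = pr f M N α x β y := by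
  refine (?_ : _ = slot₁ f M N β y (ge f M α x)).trans (slot₁_ge α x β y)
  rw [pairFn, LinearMap.flip_apply, ← pre₂_fm β y]
  exact congrArg (fun φ : sc (Qp f M) c →ₗ[rsec O_C c] sc (f.pull.obj (tMN M N)).val c => φ (ge f M α x)) (descSurj_apply (apm (qpr f N) c) (qpr_surjective f N c) (pre₂ f M N c) (ker_qpr_le N _ pre₂_relElt) (fm (gn f N β y)))

lemma qp_induction {L : ModSite.Mod O_D} {c : C} {P : sc (Qp f L) c → Prop} (zero : P 0)
    (gen : ∀ (r : rsec O_C c) (d : D) (α : c ⟶ f.fn.obj d) (x : sc L.val d), P (r • ge f L α x))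
    (add : ∀ a b, P a → P b → P (a + b)) (q : sc (Qp f L) c) : P q := by
  obtain ⟨z, rfl⟩ := qpr_surjective f L c q
  rw [eq_sum_fm z, map_sum]
  refine Finset.sum_induction _ P add zero fun e _ => ?_
  rw [map_smul]
  exact gen _ e.1 e.2.1 e.2.2

variable (f M N)

/-- The pairing. -/
noncomputable def pairBil : Bil (Qp f M) (Qp f N) (f.pull.obj (tMN M N)).val where
  fn := pairFn f M N
  nat {c c'} g p q := by
    induction p using qp_induction with
    | zero => simp
    | gen r d α x =>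
      induction q using qp_induction with
      | zero => simp
      | gen s d' β y =>
        simp only [map_smul, LinearMap.smul_apply, rsm_smul, rsm_ge, pairFn_ge, rsm_pr]
      | add a b ha hb => simp only [map_add, ha, hb]
    | add a b ha hb => simp only [map_add, LinearMap.add_apply, ha, hb]

/-- The map of the presheaf inverse image to the inverse image. -/
noncomputable def qTo (L : ModSite.Mod O_D) : Qp f L ⟶ (f.pull.obj L).val := etaP (Qp f L) ≫ (toPull f L).val

lemma qTo_ge (L : ModSite.Mod O_D) {c : C} {d : D} (α : c ⟶ f.fn.obj d) (x : sc L.val d) :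
    apm (qTo f L) c (ge f L α x) = rsm (f.pull.obj L).val α (thetaD f L d x) :=
  etaP_toPull_ge f L α x

lemma isIso_aP_map_qTo (L : ModSite.Mod O_D) : IsIso ((aP O_C).map (qTo f L)) := by
  rw [qTo, Functor.map_comp]
  have : IsIso (toPull f L) := inferInstanceAs (IsIso (pullIso f L).inv)
  have : IsIso (toPull f L).val := inferInstanceAs (IsIso ((forgetP O_C).map (toPull f L)))
  infer_instance

lemma isIso_aP_map_qTo_tensor : IsIso ((aP O_C).map (qTo f M ⊗ₘ qTo f N)) := by
  rw [MonoidalCategory.tensorHom_def, Functor.map_comp]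
  have := isIso_aP_map_qTo f M
  have := isIso_aP_map_qTo f N
  have := isIso_aP_map_whiskerRight (qTo f M) (Qp f N)
  have := isIso_aP_map_whiskerLeft (f.pull.obj M).val (qTo f N)
  infer_instance

/-- The tensor product of the inverse images. -/
noncomputable abbrev tPull : ModSite.Mod O_C := ((ModSite.tensorBi O_C).obj (f.pull.obj M)).obj (f.pull.obj N)

/-- The comparison out of the tensor product of inverse images. -/
noncomputable def fromTensor : tPull f M N ⟶ f.pull.obj (tMN M N) :=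
  @inv _ _ _ _ ((aP O_C).map (qTo f M ⊗ₘ qTo f N)) (isIso_aP_map_qTo_tensor f M N) ≫
    ((adjP O_C).homEquiv _ _).symm (pairBil f M N).hom

lemma fromTensor_apply {c : C} (p : sc (Qp f M) c) (q : sc (Qp f N) c) :
    apm (fromTensor f M N).val c (apm (etaP ((f.pull.obj M).val ⊗ (f.pull.obj N).val : PM O_C)) c
      (tm (apm (qTo f M) c p) (apm (qTo f N) c q))) = pairFn f M N c p q := by
  have := isIso_aP_map_qTo_tensor f M N
  have e1 : etaP ((Qp f M) ⊗ (Qp f N) : PM O_C) ≫ (((adjP O_C).homEquiv _ _).symm (pairBil f M N).hom).val = (pairBil f M N).hom :=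
    ((adjP O_C).homEquiv_unit _ _ _).symm.trans (Equiv.apply_symm_apply _ _)
  have e2 : ((aP O_C).map (qTo f M ⊗ₘ qTo f N)) ≫ fromTensor f M N = ((adjP O_C).homEquiv _ _).symm (pairBil f M N).hom :=
    IsIso.hom_inv_id_assoc _ _
  have e3 := etaP_naturality (qTo f M ⊗ₘ qTo f N) c (tm p q)
  refine (congrArg (apm (fromTensor f M N).val c) e3.symm).trans ?_
  refine (congrArg (fun φ => apm (SheafOfModules.Hom.val φ) c (apm (etaP _) c (tm p q))) e2).trans ?_
  exact (congrArg (fun φ => apm φ c (tm p q)) e1).trans (Bil.hom_tm _ _ _)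

/-- The pairing of sections defining the comparison into the tensor product of inverse images. -/
noncomputable def unitBil : Bil M.val N.val (f.push.obj (tPull f M N)).val where
  fn d := LinearMap.mk₂ (rsec O_D d)
    (fun x y => show sc (f.push.obj (tPull f M N)).val d from
      apm (etaP ((f.pull.obj M).val ⊗ (f.pull.obj N).val : PM O_C)) (f.fn.obj d) (tm (thetaD f M d x) (thetaD f N d y)))
    (fun a b y => by
      rw [map_add, tm_add_left, map_add])
    (fun r a y => by
      rw [thetaD_smul, tm_smul_left, map_smul]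
      exact (push_smul f _ r _).symm)
    (fun x a b => by
      rw [map_add, tm_add_right, map_add])
    (fun r x a => by
      rw [thetaD_smul, tm_smul_right, map_smul]
      exact (push_smul f _ r _).symm)
  nat {d d'} w x y := by
    refine ((apm_rsm (etaP ((f.pull.obj M).val ⊗ (f.pull.obj N).val : PM O_C)) (f.fn.map w) _).symm.trans ?_ : _)
    rw [rsm_tm, ← thetaD_rsm, ← thetaD_rsm]
    rfl

/-- The comparison into the tensor product of inverse images. -/
noncomputable def toTensor : f.pull.obj (tMN M N) ⟶ tPull f M N :=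
  (f.adj.homEquiv _ _).symm (((adjP O_D).homEquiv _ _).symm (unitBil f M N).hom)

lemma toTensor_theta {d : D} (x : sc M.val d) (y : sc N.val d) :
    apm (toTensor f M N).val (f.fn.obj d) (thetaD f (tMN M N) d (tau M N x y)) =
      apm (etaP ((f.pull.obj M).val ⊗ (f.pull.obj N).val : PM O_C)) (f.fn.obj d) (tm (thetaD f M d x) (thetaD f N d y)) := by
  have e1 : etaP (M.val ⊗ N.val : PM O_D) ≫ (((adjP O_D).homEquiv _ _).symm (unitBil f M N).hom).val = (unitBil f M N).hom :=
    ((adjP O_D).homEquiv_unit _ _ _).symm.trans (Equiv.apply_symm_apply _ _)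
  refine (sharp_unit_app f (tMN M N) (toTensor f M N) d (tau M N x y)).symm.trans ?_
  rw [toTensor, Equiv.apply_symm_apply]
  exact (congrArg (fun φ => apm φ d (tm x y)) e1).trans (Bil.hom_tm _ _ _)

lemma toTensor_val2 {c : C} {d : D} (γ : c ⟶ f.fn.obj d) (x : sc M.val d) (y : sc N.val d) :
    apm (toTensor f M N).val c (val2 f M N γ x y) =
      apm (etaP ((f.pull.obj M).val ⊗ (f.pull.obj N).val : PM O_C)) c
        (tm (rsm (f.pull.obj M).val γ (thetaD f M d x)) (rsm (f.pull.obj N).val γ (thetaD f N d y))) := by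
  rw [val2, apm_rsm, toTensor_theta]
  exact (apm_rsm (etaP _) γ _).symm.trans (congrArg _ (rsm_tm γ _ _))

lemma pr_self {d : D} (x : sc M.val d) (y : sc N.val d) :
    pr f M N (𝟙 (f.fn.obj d)) x (𝟙 (f.fn.obj d)) y = thetaD f (tMN M N) d (tau M N x y) :=
  pr_eq fun c' h e a b γ ha hb => by
    rw [← rsm_id (f.pull.obj (tMN M N)).val (thetaD f (tMN M N) d (tau M N x y))]
    change rsm _ h (val2 f M N (𝟙 _) x y) = _
    rw [rsm_val2]
    simp only [Category.comp_id] at ha hb ⊢
    have := val2_agree (f := f) x y h γ (𝟙 d) (𝟙 d) a b (by simp [ha]) (by simp [hb])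
    simpa only [rsm_id] using this

/-- The inverse image commutes with tensor products. -/
noncomputable def pullTensorIso : tPull f M N ≅ f.pull.obj (tMN M N) where
  hom := fromTensor f M N
  inv := toTensor f M N
  inv_hom_id := (f.adj.homEquiv _ _).injective <| ((adjP O_D).homEquiv _ _).injective <| by
    refine tens_hom_ext fun d x y => ?_
    rw [Adjunction.homEquiv_unit, Adjunction.homEquiv_unit (adj := adjP O_D)]
    change apm (f.adj.homEquiv _ _ (toTensor f M N ≫ fromTensor f M N)).val d (tau M N x y) =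
      apm (f.adj.homEquiv _ _ (𝟙 (f.pull.obj (tMN M N)))).val d (tau M N x y)
    rw [sharp_unit_app, sharp_unit_app]
    change apm (fromTensor f M N).val _ (apm (toTensor f M N).val _ (thetaD f (tMN M N) d (tau M N x y))) =
      thetaD f (tMN M N) d (tau M N x y)
    rw [toTensor_theta]
    have h1 := qTo_ge f M (𝟙 (f.fn.obj d)) x
    have h2 := qTo_ge f N (𝟙 (f.fn.obj d)) y
    rw [rsm_id] at h1 h2
    rw [← h1, ← h2, fromTensor_apply, pairFn_ge, pr_self]
  hom_inv_id := by
    have := isIso_aP_map_qTo_tensor f M N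
    refine (cancel_epi ((aP O_C).map (qTo f M ⊗ₘ qTo f N))).1 ?_
    refine ((adjP O_C).homEquiv _ _).injective (tens_hom_ext fun c p q => ?_)
    rw [Adjunction.homEquiv_unit, Adjunction.homEquiv_unit]
    change apm (toTensor f M N).val c (apm (fromTensor f M N).val c (apm ((aP O_C).map (qTo f M ⊗ₘ qTo f N)).val c (apm (etaP _) c (tm p q)))) =
      apm ((aP O_C).map (qTo f M ⊗ₘ qTo f N)).val c (apm (etaP _) c (tm p q))
    rw [etaP_naturality]
    change apm (toTensor f M N).val c (apm (fromTensor f M N).val c (apm (etaP _) c (tm (apm (qTo f M) c p) (apm (qTo f N) c q)))) =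
      apm (etaP _) c (tm (apm (qTo f M) c p) (apm (qTo f N) c q))
    refine (congrArg (apm (toTensor f M N).val c) (fromTensor_apply f M N p q)).trans ?_
    induction p using qp_induction with
    | zero => simp
    | add a b ha hb => simp only [map_add, LinearMap.add_apply, tm_add_left, ha, hb]
    | gen r d α x =>
      induction q using qp_induction with
      | zero => simp
      | add a b ha hb => simp only [map_add, tm_add_right, ha, hb]
      | gen s d' β y =>
        simp only [map_smul, LinearMap.smul_apply, tm_smul_left, tm_smul_right, pairFn_ge]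
        congr 2
        have hl : LocFiltered J K f.fn := locFiltered (J := J) (K := K) f.fn
        obtain ⟨S, hS, h⟩ := hl.pair c d d' α β
        refine sec_extM _ hS fun c' g hg => ?_
        obtain ⟨e, a, b, γ, ha, hb⟩ := h g hg
        rw [← apm_rsm, pr_spec α x β y g a b γ ha hb, toTensor_val2]
        refine Eq.trans ?_ ((congrArg (apm (etaP ((f.pull.obj M).val ⊗ (f.pull.obj N).val : PM O_C)) c') (rsm_tm g _ _)).symm.trans
          (apm_rsm (etaP ((f.pull.obj M).val ⊗ (f.pull.obj N).val : PM O_C)) g _))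
        rw [qTo_ge, qTo_ge, rsm_rsm, rsm_rsm, ← ha, ← hb, ← rsm_rsm, ← rsm_rsm, ← thetaD_rsm, ← thetaD_rsm]

end Groth.SitesTopoi.PullTensor
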