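import Groth.Agent.AdicLinTop.FreeSections
import Groth.Agent.Misc4.FlatFactor
import Groth.Agent.SitesTopoi.Mod.LocFiltered
import Mathlib.Algebra.Category.ModuleCat.Sheaf.LocallyFree

/-!
Systems of generators and relations for a module over an object of a site, through sections: they are the
same as generating sections and presentations on the localised site.  Index sets may be infinite, and a
relation is then given by a family of coefficients which is locally finitely supported.
-/

set_option autoImplicit false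

universe u

open CategoryTheory CategoryTheory.Limits Opposite

set_option backward.defeqAttrib.useBackward true
set_option backward.isDefEq.respectTransparency false
set_option backward.isDefEq.respectTransparency.types false
set_option synthInstance.maxHeartbeats 400000

namespace Groth.SitesTopoi.GenSys

open Groth.SitesTopoi.ModH Groth.Misc4.FlatFactor Groth.SitesTopoi.GlobalFree Groth.AdicLinTop

variable {C : Type u} [SmallCategory C] {J : GrothendieckTopology C} {O : Sheaf J CommRingCat.{u}}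
  {F : ModSite.Mod O}

/-- A finite linear combination of sections. -/
noncomputable def lc {V : C} {I : Type u} (v : I → sc F.val V) : (I →₀ rsec O V) →ₗ[rsec O V] sc F.val V :=
  Finsupp.linearCombination _ v

/-- Restriction of a vector. -/
noncomputable def vr {U V : C} {I : Type u} (g : V ⟶ U) : (I →₀ rsec O U) →+ (I →₀ rsec O V) :=
  Finsupp.mapRange.addMonoidHom (rsR g).toAddMonoidHom

/-- Restriction of a family of sections. -/
noncomputable def res {Y V : C} {I : Type u} (e : I → sc F.val Y) (g : V ⟶ Y) : I → sc F.val V :=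
  fun i => rsm F.val g (e i)

lemma vr_apply {U V : C} {I : Type u} (g : V ⟶ U) (a : I →₀ rsec O U) (i : I) : vr g a i = rsR g (a i) := rfl

lemma rsm_lc {U V : C} {I : Type u} (g : V ⟶ U) (v : I → sc F.val U) (a : I →₀ rsec O U) :
    rsm F.val g (lc v a) = lc (fun i => rsm F.val g (v i)) (vr g a) := by
  induction a using Finsupp.induction_linear with
  | zero => simp
  | add a b ha hb => simp only [map_add, ha, hb]
  | single i r => simp [lc, vr, rsm_smul]

lemma lc_res {Y U V : C} {I : Type u} (e : I → sc F.val Y) (g : U ⟶ Y) (h : V ⟶ U) (a : I →₀ rsec O U) :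
    rsm F.val h (lc (res e g) a) = lc (res e (h ≫ g)) (vr h a) := by
  rw [rsm_lc]
  exact congrArg (fun v => lc v (vr h a)) (funext fun i => rsm_rsm _ _ _ _)

lemma lc_finset {V : C} {I : Type u} (v : I → sc F.val V) (s : Finset I) (a : I → rsec O V) :
    lc v (∑ k ∈ s, Finsupp.single k (a k)) = ∑ k ∈ s, a k • v k := by
  simp [lc, map_sum]

/-- The span of the restrictions of a family of relations. -/
noncomputable def relSpan {Y V : C} {I R : Type u} (c : R → I → rsec O Y) (g : V ⟶ Y) :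
    Submodule (rsec O V) (I → rsec O V) :=
  Submodule.span _ (Set.range fun k i => rsR g (c k i))

lemma relSpan_res {Y U V : C} {I R : Type u} {c : R → I → rsec O Y} {g : U ⟶ Y} (h : V ⟶ U) {a : I → rsec O U}
    (ha : a ∈ relSpan c g) : (fun i => rsR h (a i)) ∈ relSpan c (h ≫ g) := by
  induction ha using Submodule.span_induction with
  | zero =>
    simp only [Pi.zero_apply, map_zero]
    exact zero_mem _
  | add a b _ _ ha hb =>
    simp only [Pi.add_apply, map_add]
    exact add_mem ha hb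
  | smul r a _ ha =>
    simp only [Pi.smul_apply, smul_eq_mul, map_mul]
    exact Submodule.smul_mem _ (rsR h r) ha
  | mem a ha =>
    obtain ⟨k, rfl⟩ := ha
    exact Submodule.subset_span ⟨k, funext fun i => (rsR_rsR g h (c k i)).symm⟩

/-- Sections over `Y` generating a module locally. -/
def Gens {Y : C} {I : Type u} (e : I → sc F.val Y) : Prop :=
  ∀ ⦃V : C⦄ (g : V ⟶ Y) (t : sc F.val V), ∃ S ∈ J V, ∀ ⦃V' : C⦄ (h : V' ⟶ V), S h →
    ∃ a : I →₀ rsec O V', rsm F.val h t = lc (res e (h ≫ g)) a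

/-- Generators and relations of a module over `Y`. -/
structure Pres {Y : C} {I R : Type u} (e : I → sc F.val Y) (c : R → I → rsec O Y) : Prop where
  gens : Gens e
  zero : ∀ k, ∃ S ∈ J Y, ∀ ⦃V : C⦄ (h : V ⟶ Y), S h →
    ∃ a : I →₀ rsec O V, (∀ i, a i = rsR h (c k i)) ∧ lc (res e h) a = 0
  ker : ∀ ⦃V : C⦄ (g : V ⟶ Y) (a : I →₀ rsec O V), lc (res e g) a = 0 →
    ∃ S ∈ J V, ∀ ⦃V' : C⦄ (h : V' ⟶ V), S h → (fun i => rsR h (a i)) ∈ relSpan c (h ≫ g)

lemma Gens.exists_coeffs {Y : C} {I : Type u} {e : I → sc F.val Y} (he : Gens e) {V : C} (g : V ⟶ Y) {κ : Type*}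
    (t : κ → sc F.val V) (s : Finset κ) :
    ∃ S ∈ J V, ∀ ⦃V' : C⦄ (h : V' ⟶ V), S h → ∃ a : κ → (I →₀ rsec O V'),
      ∀ k ∈ s, rsm F.val h (t k) = lc (res e (h ≫ g)) (a k) := by
  classical
  induction s using Finset.induction_on with
  | empty => exact ⟨⊤, J.top_mem V, fun _ _ _ => ⟨0, fun k hk => absurd hk (Finset.notMem_empty k)⟩⟩
  | insert k₀ s _ ih =>
    obtain ⟨S, hS, hS'⟩ := ih
    obtain ⟨R, hR, hR'⟩ := he g (t k₀)
    refine ⟨S ⊓ R, J.intersection_covering hS hR, fun V' h hh => ?_⟩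
    obtain ⟨a, ha⟩ := hS' h hh.1
    obtain ⟨b, hb⟩ := hR' h hh.2
    refine ⟨fun k => if k = k₀ then b else a k, fun k hk => ?_⟩
    dsimp only
    split_ifs with h'
    · rw [h', hb]
    · exact ha k ((Finset.mem_insert.1 hk).resolve_left h')

lemma Pres.ker_finset {Y : C} {I R : Type u} {e : I → sc F.val Y} {c : R → I → rsec O Y} (P : Pres e c)
    {V : C} (g : V ⟶ Y) {κ : Type*} (a : κ → (I →₀ rsec O V)) (s : Finset κ) (h0 : ∀ k ∈ s, lc (res e g) (a k) = 0) :
    ∃ S ∈ J V, ∀ ⦃V' : C⦄ (h : V' ⟶ V), S h → ∀ k ∈ s, (fun i => rsR h (a k i)) ∈ relSpan c (h ≫ g) := by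
  classical
  induction s using Finset.induction_on with
  | empty => exact ⟨⊤, J.top_mem V, fun _ _ _ k hk => absurd hk (Finset.notMem_empty k)⟩
  | insert k₀ s _ ih =>
    obtain ⟨S, hS, hS'⟩ := ih fun k hk => h0 k (Finset.mem_insert_of_mem hk)
    obtain ⟨R, hR, hR'⟩ := P.ker g (a k₀) (h0 k₀ (Finset.mem_insert_self _ _))
    exact ⟨S ⊓ R, J.intersection_covering hS hR, fun V' h hh k hk => (Finset.mem_insert.1 hk).elim
      (fun e => by subst e; exact hR' h hh.2) (hS' h hh.1 k)⟩

/-! ### Comparison with the localised site -/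

variable {Y : C}

lemma cover_of_over {W : Over Y} {S : Sieve W} (hS : S ∈ J.over Y W) :
    ∃ R ∈ J W.left, ∀ ⦃V : C⦄ (h : V ⟶ W.left), R h → S (Over.homMk h : Over.mk (h ≫ W.hom) ⟶ W) :=
  ⟨_, (GrothendieckTopology.mem_over_iff _ _).1 hS, fun _ h hh => (Sieve.overEquiv_iff S h).1 hh⟩

lemma over_of_cover {W : Over Y} (S : Sieve W) {R : Sieve W.left} (hR : R ∈ J W.left)
    (h : ∀ ⦃V : C⦄ (h : V ⟶ W.left), R h → S (Over.homMk h : Over.mk (h ≫ W.hom) ⟶ W)) : S ∈ J.over Y W :=
  (GrothendieckTopology.mem_over_iff _ _).2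
    (J.superset_covering (fun _ g hg => (Sieve.overEquiv_iff S g).2 (h g hg)) hR)

lemma epi_of_locSurj {P Q : ModOver O Y} (f : P ⟶ Q) (h : LocSurj f.val) : Epi f := by
  refine ⟨fun {R} a b e => mod_hom_ext fun W q => ?_⟩
  obtain ⟨S, hS, hS'⟩ := h W q
  refine sec_extM R hS fun V g hg => ?_
  obtain ⟨p, hp⟩ := hS' g hg
  rw [← apm_rsm, ← apm_rsm, ← hp]
  exact congrArg (fun k => apm (SheafOfModules.Hom.val k) V p) e

lemma kernel_preimage {P Q : ModOver O Y} (f : P ⟶ Q) (W : Over Y) (y : sc P.val W) (hy : apm f.val W y = 0) :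
    ∃ z, apm (kernel.ι f).val W z = y := by
  let S : ShortComplex (ModOver O Y) := ShortComplex.mk (kernel.ι f) f (kernel.condition f)
  have hex : S.Exact := ShortComplex.exact_of_f_is_kernel _ (kernelIsKernel f)
  have : (forgetP (O.over Y)).IsRightAdjoint := (adjP (O.over Y)).isRightAdjoint
  let G := forgetP (O.over Y) ⋙ PresheafOfModules.evaluation _ (op W)
  have hlim : PreservesFiniteLimits G := comp_preservesFiniteLimits _ _
  have hadd : G.Additive := ⟨fun {_ _ _ _} => rfl⟩
  have hh := G.preservesFiniteLimits_tfae.out 3 1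
  exact (ShortComplex.moduleCat_exact_iff _).1 (hh.1 hlim S ⟨hex, inferInstance⟩).1 y hy

variable (Y) in
/-- The free module on the localised site. -/
noncomputable abbrev frO (O : Sheaf J CommRingCat.{u}) (I : Type u) : ModOver O Y := fr (O.over Y) I

/-- The sections attached to a morphism out of a free module. -/
noncomputable def elts {I : Type u} (φ : frO Y O I ⟶ (ModSite.restr O Y).obj F) : I → sc F.val Y :=
  fun i => apm φ.val (top' Y) (gen (O.over Y) (top' Y) i)

lemma exists_hom_elts {I : Type u} (e : I → sc F.val Y) :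
    ∃ φ : frO Y O I ⟶ (ModSite.restr O Y).obj F, elts φ = e := by
  obtain ⟨φ, hφ⟩ := exists_hom (O := O.over Y) (X := top' Y) Over.mkIdTerminal (M := (ModSite.restr O Y).obj F) e
  exact ⟨φ, funext hφ⟩

lemma apm_gen {I : Type u} (φ : frO Y O I ⟶ (ModSite.restr O Y).obj F) (W : Over Y) (i : I) :
    (apm φ.val W (gen (O.over Y) W i) : sc F.val W.left) = rsm F.val W.hom (elts φ i) := by
  let g : W ⟶ top' Y := Over.homMk (U := W) (V := top' Y) W.hom (Category.comp_id _)
  exact (congrArg (apm φ.val W) (FreeSections.rsm_gen g i).symm).trans (apm_rsm φ.val g _)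

/-- The section of the free module attached to a vector. -/
noncomputable def toFree {I : Type u} (W : Over Y) (a : I →₀ rsec O W.left) : sc (frO Y O I).val W :=
  ∑ k ∈ a.support, (show rsec (O.over Y) W from a k) • gen (O.over Y) W k

lemma coef_toFree {I : Type u} (W : Over Y) (a : I →₀ rsec O W.left) (i : I) :
    (coef (O.over Y) W (toFree W a) i : rsec O W.left) = a i := by
  classical
  refine (FreeSections.coef_finite_comb (O := O.over Y) a.support _ i).trans ?_
  split_ifs with h
  · rfl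
  · exact (Finsupp.notMem_support_iff.1 h).symm

lemma apm_toFree {I : Type u} (φ : frO Y O I ⟶ (ModSite.restr O Y).obj F) (W : Over Y) (a : I →₀ rsec O W.left) :
    (apm φ.val W (toFree W a) : sc F.val W.left) = lc (res (elts φ) W.hom) a := by
  rw [lc, Finsupp.linearCombination_apply, toFree, map_sum]
  refine Finset.sum_congr rfl fun k _ => ?_
  exact (map_smul (apm φ.val W) _ _).trans (congrArg (fun z : sc F.val W.left => a k • z) (apm_gen φ W k))

lemma free_ext {I : Type u} {W : Over Y} {y z : sc (frO Y O I).val W}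
    (h : ∀ i, coef (O.over Y) W y i = coef (O.over Y) W z i) : y = z := by
  refine sub_eq_zero.1 ?_
  refine (FreeSections.eq_comb_of_coef (O := O.over Y) (y - z) ∅ fun k _ => ?_).trans Finset.sum_empty
  rw [map_sub, Pi.sub_apply, h k, sub_self]

lemma locally_toFree {I : Type u} (W : Over Y) (y : sc (frO Y O I).val W) :
    ∃ R ∈ J W.left, ∀ ⦃V : C⦄ (h : V ⟶ W.left), R h → ∃ a : I →₀ rsec O V,
      rsm (frO Y O I).val (Over.homMk h : Over.mk (h ≫ W.hom) ⟶ W) y = toFree (Over.mk (h ≫ W.hom)) a := by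
  classical
  obtain ⟨S, hS, hS'⟩ := FreeSections.exists_finite_comb (O := O.over Y) y
  obtain ⟨R, hR, hR'⟩ := cover_of_over hS
  refine ⟨R, hR, fun V h hh => ?_⟩
  obtain ⟨s, a, ha⟩ := hS' _ (hR' h hh)
  refine ⟨Finsupp.onFinset s (fun k => if k ∈ s then (show rsec O V from a k) else 0) (fun k hk => by
    by_contra h'
    exact hk (if_neg h')), free_ext fun i => ?_⟩
  rw [ha, FreeSections.coef_finite_comb]
  refine Eq.trans ?_ (coef_toFree _ _ i).symm
  rfl

/-- The coefficients of a section from a local expression. -/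
lemma coef_of_eq {I : Type u} {W : Over Y} {V : C} {h : V ⟶ W.left} {y : sc (frO Y O I).val W} {a : I →₀ rsec O V}
    (ha : rsm (frO Y O I).val (Over.homMk h : Over.mk (h ≫ W.hom) ⟶ W) y = toFree (Over.mk (h ≫ W.hom)) a) (i : I) :
    rsR h (coef (O.over Y) W y i : rsec O W.left) = a i :=
  (FreeSections.coef_rsm (O := O.over Y) _ y i).symm.trans
    ((congrArg (fun z => coef (O.over Y) _ z i) ha).trans (coef_toFree (Over.mk (h ≫ W.hom)) a i))

/-- The value of a morphism from a local expression. -/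
lemma lc_of_eq {I : Type u} (φ : frO Y O I ⟶ (ModSite.restr O Y).obj F) {W : Over Y} {V : C} {h : V ⟶ W.left}
    {y : sc (frO Y O I).val W} {a : I →₀ rsec O V}
    (ha : rsm (frO Y O I).val (Over.homMk h : Over.mk (h ≫ W.hom) ⟶ W) y = toFree (Over.mk (h ≫ W.hom)) a) :
    lc (res (elts φ) (h ≫ W.hom)) a = rsm F.val h (apm φ.val W y : sc F.val W.left) :=
  (apm_toFree φ (Over.mk (h ≫ W.hom)) a).symm.trans
    ((congrArg (apm φ.val (Over.mk (h ≫ W.hom))) ha).symm.trans (apm_rsm φ.val _ y))

theorem gens_of_epi {I : Type u} (φ : frO Y O I ⟶ (ModSite.restr O Y).obj F) [Epi φ] : Gens (elts φ) := by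
  intro V g t
  obtain ⟨S, hS, hS'⟩ := locSurj_of_epi φ (Over.mk g) t
  obtain ⟨R, hR, hR'⟩ := cover_of_over hS
  refine exists_refine hR fun V₁ h hh => ?_
  obtain ⟨y, hy⟩ := hS' _ (hR' h hh)
  obtain ⟨T, hT, hT'⟩ := locally_toFree _ y
  refine ⟨T, hT, fun V₂ k hk => ?_⟩
  obtain ⟨a, ha⟩ := hT' k hk
  refine ⟨a, ?_⟩
  have h1 := congrArg (apm φ.val _) ha
  rw [apm_rsm, hy, apm_toFree] at h1
  refine Eq.trans ?_ (h1.trans (congrArg (fun g' => lc (res (elts φ) g') a) (Category.assoc k h g).symm))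
  exact (rsm_rsm F.val h k t).symm

theorem epi_of_gens {I : Type u} (φ : frO Y O I ⟶ (ModSite.restr O Y).obj F) (h : Gens (elts φ)) : Epi φ := by
  refine epi_of_locSurj _ fun W q => ?_
  obtain ⟨R, hR, hR'⟩ := h W.hom q
  let S : Sieve W :=
    { arrows := fun V g => ∃ p, apm φ.val V p = rsm ((ModSite.restr O Y).obj F).val g q
      downward_closed := fun {V V'} {g} hg k => by
        obtain ⟨p, hp⟩ := hg
        exact ⟨rsm (frO Y O I).val k p, by rw [apm_rsm, hp, rsm_rsm]⟩ }
  refine ⟨S, over_of_cover S hR fun V k hk => ?_, fun V g hg => hg⟩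
  obtain ⟨a, ha⟩ := hR' k hk
  refine ⟨toFree (Over.mk (k ≫ W.hom)) a, ?_⟩
  exact Eq.trans (apm_toFree φ (Over.mk (k ≫ W.hom)) a) ha.symm

theorem nonempty_generatingSections {I : Type u} (e : I → sc F.val Y) (he : Gens e) :
    ∃ σ : ((ModSite.restr O Y).obj F).GeneratingSections, σ.I = I := by
  obtain ⟨φ, rfl⟩ := exists_hom_elts e
  exact ⟨{ I := I
           s := SheafOfModules.freeHomEquiv _ φ
           epi := by rw [Equiv.symm_apply_apply]; exact epi_of_gens φ he }, rfl⟩

theorem exists_pres {I R : Type u} (φ : frO Y O I ⟶ (ModSite.restr O Y).obj F) [Epi φ]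
    (ρ : frO Y O R ⟶ kernel φ) [Epi ρ] : ∃ c, Pres (R := R) (elts φ) c := by
  refine ⟨fun k i => coef (O.over Y) (top' Y)
    (apm (ρ ≫ kernel.ι φ).val (top' Y) (gen (O.over Y) (top' Y) k)) i, ⟨gens_of_epi φ, fun k => ?_, fun V g a ha => ?_⟩⟩
  · let z := apm (ρ ≫ kernel.ι φ).val (top' Y) (gen (O.over Y) (top' Y) k)
    obtain ⟨T, hT, hT'⟩ := locally_toFree _ z
    refine ⟨T, hT, fun V h hh => ?_⟩
    obtain ⟨a, ha⟩ := hT' h hh
    refine ⟨a, fun i => ?_, ?_⟩
    · exact (coef_toFree (Over.mk (h ≫ (top' Y).hom)) a i).symm.trans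
        ((congrArg (fun y => coef (O.over Y) _ y i) ha).symm.trans (FreeSections.coef_rsm (O := O.over Y) _ z i))
    · have h0 : apm φ.val (top' Y) z = 0 :=
        congrArg (fun ψ => apm (SheafOfModules.Hom.val ψ) (top' Y) (gen (O.over Y) (top' Y) k))
          ((Category.assoc ρ (kernel.ι φ) φ).trans (by rw [kernel.condition, comp_zero]))
      have h1 := congrArg (apm φ.val _) ha
      rw [apm_rsm, h0, map_zero, apm_toFree] at h1
      refine (congrArg (fun g' => lc (res (elts φ) g') a) ?_).trans h1.symm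
      exact (Category.comp_id h).symm
  · obtain ⟨z, hz⟩ := kernel_preimage φ (Over.mk g) (toFree (Over.mk g) a)
      (Eq.trans (apm_toFree φ (Over.mk g) a) ha)
    obtain ⟨S, hS, hS'⟩ := locSurj_of_epi ρ (Over.mk g) z
    obtain ⟨T, hT, hT'⟩ := cover_of_over hS
    refine exists_refine hT fun V₁ h hh => ?_
    obtain ⟨w, hw⟩ := hS' _ (hT' h hh)
    obtain ⟨T₂, hT₂, hT₂'⟩ := locally_toFree _ w
    refine ⟨T₂, hT₂, fun V₂ l hl => ?_⟩
    obtain ⟨b, hb⟩ := hT₂' l hl
    have h1 := congrArg (apm (kernel.ι φ).val _) hw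
    rw [apm_rsm, hz] at h1
    let W₂ : Over Y := Over.mk (l ≫ h ≫ g)
    have h2 : apm (ρ ≫ kernel.ι φ).val W₂ (toFree W₂ b) =
        rsm (frO Y O I).val (Over.homMk (l ≫ h) (Category.assoc _ _ _) : W₂ ⟶ Over.mk g) (toFree (Over.mk g) a) := by
      refine (congrArg (apm (ρ ≫ kernel.ι φ).val W₂) hb).symm.trans ?_
      refine (apm_rsm (ρ ≫ kernel.ι φ).val _ w).trans ?_
      refine (congrArg _ h1).trans ?_
      exact rsm_rsm _ _ _ _
    have h3 : ∀ i, rsR (l ≫ h) (a i) = ∑ k ∈ b.support, b k * rsR (l ≫ h ≫ g)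
        (coef (O.over Y) (top' Y) (apm (ρ ≫ kernel.ι φ).val (top' Y) (gen (O.over Y) (top' Y) k)) i : rsec O Y) := fun i => by
      refine ((congrArg (rsR (l ≫ h)) (coef_toFree (Over.mk g) a i)).symm.trans
        ((FreeSections.coef_rsm (O := O.over Y) (Over.homMk (l ≫ h) (Category.assoc _ _ _) : W₂ ⟶ Over.mk g)
          (toFree (Over.mk g) a) i).symm.trans (congrArg (fun y => coef (O.over Y) W₂ y i) h2).symm)).trans ?_
      rw [toFree, map_sum, map_sum, Finset.sum_apply]
      refine Finset.sum_congr rfl fun k _ => ?_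
      refine (congrArg (fun y => coef (O.over Y) W₂ y i) (map_smul (apm (ρ ≫ kernel.ι φ).val W₂) _ _)).trans ?_
      rw [map_smul, Pi.smul_apply, smul_eq_mul]
      refine congrArg (b k * ·) ?_
      let g₂ : W₂ ⟶ top' Y := Over.homMk (U := W₂) (V := top' Y) W₂.hom (Category.comp_id _)
      rw [← FreeSections.rsm_gen g₂ k, apm_rsm, FreeSections.coef_rsm]
      rfl
    rw [show (fun i => rsR (l ≫ h) (a i)) = _ from funext h3,
      show (l ≫ h) ≫ g = l ≫ h ≫ g from Category.assoc _ _ _]
    have h5 : (fun i => ∑ k ∈ b.support, b k * rsR (l ≫ h ≫ g)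
        (coef (O.over Y) (top' Y) (apm (ρ ≫ kernel.ι φ).val (top' Y) (gen (O.over Y) (top' Y) k)) i : rsec O Y)) =
        ∑ k ∈ b.support, b k • fun i => rsR (l ≫ h ≫ g)
          (coef (O.over Y) (top' Y) (apm (ρ ≫ kernel.ι φ).val (top' Y) (gen (O.over Y) (top' Y) k)) i : rsec O Y) :=
      funext fun i => by simp only [Finset.sum_apply, Pi.smul_apply, smul_eq_mul]
    rw [h5]
    exact Submodule.sum_mem _ fun k _ => Submodule.smul_mem _ _ (Submodule.subset_span ⟨k, rfl⟩)

theorem nonempty_presentation {I R : Type u} {e : I → sc F.val Y} {c : R → I → rsec O Y} (P : Pres e c) :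
    ∃ p : ((ModSite.restr O Y).obj F).Presentation, p.generators.I = I ∧ p.relations.I = R := by
  classical
  obtain ⟨φ, rfl⟩ := exists_hom_elts e
  have : Epi φ := epi_of_gens φ P.gens
  have hc : ∀ k, ∃ z : sc (frO Y O I).val (top' Y), (∀ i, (coef (O.over Y) (top' Y) z i : rsec O Y) = c k i) ∧
      apm φ.val (top' Y) z = 0 := by
    intro k
    obtain ⟨S, hS, hS'⟩ := P.zero k
    choose a ha ha' using hS'
    let S' : Sieve (top' Y) := (Sieve.overEquiv (top' Y)).symm S
    have hS'' : S' ∈ J.over Y (top' Y) :=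
      over_of_cover S' hS fun V h hh => (Sieve.overEquiv_iff S' h).1 (by rwa [OrderIso.apply_symm_apply])
    have hmem : ∀ ⦃W : Over Y⦄ (g : W ⟶ top' Y), S' g → S g.left := fun W g hg => hg
    obtain ⟨z, hz⟩ := glueM (frO Y O I) hS'' (fun W g hg => toFree W (a g.left (hmem g hg))) (fun W W' g hg l => by
      refine free_ext fun i => ?_
      rw [FreeSections.coef_rsm, coef_toFree, coef_toFree, ha, ha]
      exact rsR_rsR g.left l.left (c k i))
    refine ⟨z, fun i => ?_, sec_extM _ hS'' fun W g hg => ?_⟩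
    · refine sec_extM (ModSite.unit (O.over Y)) hS'' fun W g hg => ?_
      refine Eq.trans ?_ (ha g.left (hmem g hg) i)
      refine Eq.trans ?_ (coef_toFree W _ i)
      rw [← hz g hg, FreeSections.coef_rsm]
      rfl
    · rw [map_zero, ← apm_rsm, hz g hg, apm_toFree]
      refine Eq.trans ?_ (ha' g.left (hmem g hg))
      refine congrArg (fun g' => lc (res (elts φ) g') _) ?_
      exact (Over.w g).symm.trans (Category.comp_id _)
  choose z hz hz0 using hc
  choose w hw using fun k => kernel_preimage φ (top' Y) (z k) (hz0 k)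
  obtain ⟨ρ, hρ⟩ := exists_hom (O := O.over Y) (X := top' Y) Over.mkIdTerminal (M := kernel φ) w
  have hgen : ∀ (W : Over Y) (k : R) (i : I),
      (coef (O.over Y) W (apm (ρ ≫ kernel.ι φ).val W (gen (O.over Y) W k)) i : rsec O W.left) = rsR W.hom (c k i) := by
    intro W k i
    let g : W ⟶ top' Y := Over.homMk (U := W) (V := top' Y) W.hom (Category.comp_id _)
    rw [← FreeSections.rsm_gen g k, apm_rsm, FreeSections.coef_rsm, ← hz k i]
    refine congrArg (fun y => rsR g.left (coef (O.over Y) (top' Y) y i : rsec O Y)) ?_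
    exact (congrArg (apm (kernel.ι φ).val (top' Y)) (hρ k)).trans (hw k)
  have : Epi ρ := by
    refine epi_of_locSurj _ fun W q => ?_
    let S : Sieve W :=
      { arrows := fun V g => ∃ p, apm ρ.val V p = rsm (kernel φ).val g q
        downward_closed := fun {V V'} {g} hg k => by
          obtain ⟨p, hp⟩ := hg
          exact ⟨rsm (frO Y O R).val k p, by rw [apm_rsm, hp, rsm_rsm]⟩ }
    obtain ⟨T, hT, hT'⟩ := locally_toFree W (apm (kernel.ι φ).val W q)
    obtain ⟨T₃, hT₃, hT₃'⟩ := exists_refine (J := J)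
      (P := fun V g => S (Over.homMk g : Over.mk (g ≫ W.hom) ⟶ W)) hT fun V₁ h hh => by
      obtain ⟨a, ha⟩ := hT' h hh
      have ha0 : lc (res (elts φ) (h ≫ W.hom)) a = 0 := (lc_of_eq φ ha).trans
        ((congrArg (rsm F.val h) (congrArg (fun ψ => (apm (SheafOfModules.Hom.val ψ) W q : sc F.val W.left))
          (kernel.condition φ))).trans (map_zero _))
      obtain ⟨T₂, hT₂, hT₂'⟩ := P.ker (h ≫ W.hom) a ha0
      refine ⟨T₂, hT₂, fun V₂ l hl => ?_⟩
      let W₂ : Over Y := Over.mk ((l ≫ h) ≫ W.hom)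
      obtain ⟨b, hb⟩ := Finsupp.mem_span_range_iff_exists_finsupp.1
        (show (fun i => rsR l (a i)) ∈ relSpan c ((l ≫ h) ≫ W.hom) by rw [Category.assoc]; exact hT₂' l hl)
      refine ⟨toFree W₂ b, injective_of_mono (kernel.ι φ) W₂ (free_ext fun i => ?_)⟩
      rw [apm_rsm, FreeSections.coef_rsm]
      have e1 : (rsR (l ≫ h) (coef (O.over Y) W (apm (kernel.ι φ).val W q) i : rsec O W.left)) = rsR l (a i) := by
        rw [← rsR_rsR, coef_of_eq ha i]
      refine Eq.trans ?_ e1.symm
      refine Eq.trans ?_ (congrFun hb i)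
      rw [Finsupp.sum, Finset.sum_apply]
      show (coef (O.over Y) W₂ (apm (ρ ≫ kernel.ι φ).val W₂ (toFree W₂ b)) i : rsec O V₂) = _
      rw [toFree, map_sum, map_sum, Finset.sum_apply]
      refine Finset.sum_congr rfl fun k _ => ?_
      refine (congrArg (fun y => coef (O.over Y) W₂ y i) (map_smul (apm (ρ ≫ kernel.ι φ).val W₂) _ _)).trans ?_
      rw [map_smul]
      exact congrArg (b k * ·) (hgen W₂ k i)
    exact ⟨S, over_of_cover S hT₃ hT₃', fun V g hg => hg⟩
  let G : ((ModSite.restr O Y).obj F).GeneratingSections :=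
    { I := I, s := SheafOfModules.freeHomEquiv _ φ, epi := by rw [Equiv.symm_apply_apply]; infer_instance }
  refine ⟨{ generators := G
            relations :=
              { I := R
                s := SheafOfModules.freeHomEquiv _
                  (ρ ≫ (kernelIsoOfEq (show φ = G.π from (Equiv.symm_apply_apply _ _).symm)).hom)
                epi := by rw [Equiv.symm_apply_apply]; exact epi_comp ρ _ } }, rfl, rfl⟩

/-- Free generators over `Y`. -/
theorem isIso_of_pres {I : Type u} (φ : frO Y O I ⟶ (ModSite.restr O Y).obj F)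
    (P : Pres (elts φ) (fun (k : PEmpty.{u + 1}) (_ : I) => (k.elim : rsec O Y))) : IsIso φ := by
  obtain ⟨ψ, he, hψ⟩ : ∃ ψ : frO Y O I ⟶ (ModSite.restr O Y).obj F, Epi ψ ∧ ψ = φ := ⟨φ, epi_of_gens φ P.gens, rfl⟩
  have hm : Mono ψ := by
    refine mono_of_injective _ fun W => (injective_iff_map_eq_zero _).2 fun y hy => ?_
    obtain ⟨T, hT, hT'⟩ := locally_toFree W y
    obtain ⟨T₃, hT₃, hT₃'⟩ := exists_refine (J := J)
      (P := fun V g => rsm (frO Y O I).val (Over.homMk g : Over.mk (g ≫ W.hom) ⟶ W) y = 0) hT fun V₁ h hh => by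
      obtain ⟨a, ha⟩ := hT' h hh
      have ha0 : lc (res (elts φ) (h ≫ W.hom)) a = 0 := by
        rw [← hψ]
        exact (lc_of_eq ψ ha).trans ((congrArg (rsm F.val h) hy).trans (map_zero _))
      obtain ⟨T₂, hT₂, hT₂'⟩ := P.ker (h ≫ W.hom) a ha0
      refine ⟨T₂, hT₂, fun V₂ l hl => free_ext fun i => ?_⟩
      have h1 := hT₂' l hl
      rw [relSpan, Set.range_eq_empty, Submodule.span_empty, Submodule.mem_bot] at h1
      rw [FreeSections.coef_rsm, map_zero, Pi.zero_apply]
      refine Eq.trans ?_ (congrFun h1 i)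
      show rsR (l ≫ h) (coef (O.over Y) W y i : rsec O W.left) = rsR l (a i)
      rw [← rsR_rsR, coef_of_eq ha i]
    let S : Sieve W :=
      { arrows := fun V g => rsm (frO Y O I).val g y = 0
        downward_closed := fun {V V'} {g} hg k => by
          show rsm (frO Y O I).val (k ≫ g) y = 0
          rw [← rsm_rsm, show rsm (frO Y O I).val g y = 0 from hg, map_zero] }
    refine sec_extM _ (over_of_cover S hT₃ hT₃') fun V g hg => ?_
    exact (hg : rsm (frO Y O I).val g y = 0).trans (map_zero _).symm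
  have : IsIso ψ := isIso_of_mono_of_epi ψ
  exact hψ ▸ this

end Groth.SitesTopoi.GenSys
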