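import Groth.Agent.Misc4.FlatFactor
import Groth.Agent.SitesTopoi.Mod.Split

/-!
Presentations of sheaves of modules by sections and local relations, and morphisms out of them.
-/

universe u

open CategoryTheory CategoryTheory.Limits Opposite

set_option backward.defeqAttrib.useBackward true
set_option backward.isDefEq.respectTransparency false
set_option synthInstance.maxHeartbeats 400000

namespace Groth.SitesTopoi

open Groth.SitesTopoi.ModH Groth.Misc4.FreeOn Groth.Misc4.FlatFactor

variable {C : Type u} [SmallCategory C] {J : GrothendieckTopology C} {O : Sheaf J CommRingCat.{u}}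

/-- A finite presentation of `F` over `Y` by sections and relations. -/
structure LocPres (F : ModSite.Mod O) (Y : C) where
  /-- number of generators -/
  n : ℕ
  /-- number of relations -/
  m : ℕ
  /-- the generators -/
  e : Fin n → sc F.val Y
  /-- the relations -/
  c : Fin m → Fin n → rsec O Y
  rel : ∀ k, ∑ i, c k i • e i = 0
  gen : ∀ {V : C} (g : V ⟶ Y) (f : sc F.val V), ∃ S ∈ J V, ∀ ⦃V' : C⦄ (h : V' ⟶ V), S h →
    ∃ r : Fin n → rsec O V', rsm F.val h f = ∑ i, r i • rsm F.val (h ≫ g) (e i)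
  ker : ∀ {V : C} (g : V ⟶ Y) (r : Fin n → rsec O V), ∑ i, r i • rsm F.val g (e i) = 0 →
    ∃ S ∈ J V, ∀ ⦃V' : C⦄ (h : V' ⟶ V), S h →
      ∃ s : Fin m → rsec O V', ∀ i, rsR h (r i) = ∑ k, s k * rsR (h ≫ g) (c k i)

namespace LocPres

variable {F N : ModSite.Mod O} {Y W : C} (P : LocPres F Y) (g₀ : W ⟶ Y)

/-- Morphisms on a localised site agreeing on generators agree. -/
lemma hom_ext {ψ ψ' : (ModSite.restr O W).obj F ⟶ (ModSite.restr O W).obj N}
    (h : ∀ i, comp' ψ (𝟙 W) (rsm F.val g₀ (P.e i)) = comp' ψ' (𝟙 W) (rsm F.val g₀ (P.e i))) : ψ = ψ' := by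
  refine mod_hom_ext fun V f => ?_
  change comp' ψ V.hom f = comp' ψ' V.hom f
  obtain ⟨S, hS, hS'⟩ := P.gen (V.hom ≫ g₀) f
  refine sec_extM N hS fun V' k hk => ?_
  obtain ⟨r, hr⟩ := hS' k hk
  rw [rsm_comp', rsm_comp', hr, map_sum, map_sum]
  refine Finset.sum_congr rfl fun i _ => ?_
  rw [map_smul, map_smul]
  have e1 : rsm F.val (k ≫ V.hom ≫ g₀) (P.e i) = rsm F.val (k ≫ V.hom) (rsm F.val g₀ (P.e i)) := by
    rw [rsm_rsm, Category.assoc]
  rw [e1, ← Category.comp_id (k ≫ V.hom)]
  have h1 := congrArg (rsm N.val (k ≫ V.hom)) (h i)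
  rw [rsm_comp', rsm_comp'] at h1
  simp only [Category.comp_id] at h1 ⊢
  exact congrArg (r i • ·) h1

variable (x : Fin P.n → sc N.val W) (hx : ∀ k, ∑ i, rsR g₀ (P.c k i) • x i = 0)

/-- The value at a section. -/
def IsVal {V : C} (g : V ⟶ W) (f : sc F.val V) (z : sc N.val V) : Prop :=
  ∀ ⦃V' : C⦄ (h : V' ⟶ V) (r : Fin P.n → rsec O V'), rsm F.val h f = ∑ i, r i • rsm F.val (h ≫ g ≫ g₀) (P.e i) →
    rsm N.val h z = ∑ i, r i • rsm N.val (h ≫ g) (x i)

include hx

lemma agree {V : C} (g : V ⟶ W) (r r' : Fin P.n → rsec O V)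
    (h : ∑ i, r i • rsm F.val (g ≫ g₀) (P.e i) = ∑ i, r' i • rsm F.val (g ≫ g₀) (P.e i)) :
    ∑ i, r i • rsm N.val g (x i) = ∑ i, r' i • rsm N.val g (x i) := by
  rw [← sub_eq_zero, ← Finset.sum_sub_distrib]
  obtain ⟨S, hS, hS'⟩ := P.ker (g ≫ g₀) (fun i => r i - r' i)
    (by simp only [sub_smul, Finset.sum_sub_distrib, h, sub_self])
  refine sec_extM N hS fun V' k hk => ?_
  obtain ⟨s, hs⟩ := hS' k hk
  simp only [map_sum, map_zero, ← sub_smul, rsm_smul, rsm_rsm, hs, Finset.sum_smul, mul_smul]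
  rw [Finset.sum_comm]
  refine Finset.sum_eq_zero fun j _ => ?_
  rw [← Finset.smul_sum]
  have h1 := congrArg (rsm N.val (k ≫ g)) (hx j)
  simp only [map_sum, map_zero, rsm_smul, rsR_rsR] at h1
  simp only [Category.assoc] at h1
  rw [h1, smul_zero]

lemma exists_isVal {V : C} (g : V ⟶ W) (f : sc F.val V) : ∃ z, P.IsVal g₀ x g f z := by
  obtain ⟨S, hS, hS'⟩ := P.gen (g ≫ g₀) f
  choose r hr using hS'
  obtain ⟨z, hz⟩ := glueM N hS (fun V' k hk => ∑ i, r k hk i • rsm N.val (k ≫ g) (x i)) (fun V' V'' k hk l => by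
    simp only [map_sum, rsm_smul, rsm_rsm]
    rw [← Category.assoc]
    refine P.agree g₀ x hx ((l ≫ k) ≫ g) _ _ ?_
    have h1 := congrArg (rsm F.val l) (hr k hk)
    rw [rsm_rsm, hr (l ≫ k) (S.downward_closed hk l)] at h1
    simp only [map_sum, rsm_smul, rsm_rsm] at h1
    simp only [Category.assoc] at h1 ⊢
    exact h1.symm)
  refine ⟨z, fun V' h r' hr' => sec_extM N (J.pullback_stable h hS) fun V'' k hk => ?_⟩
  rw [rsm_rsm, hz _ hk]
  simp only [map_sum, rsm_smul, rsm_rsm]
  rw [← Category.assoc]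
  refine P.agree g₀ x hx ((k ≫ h) ≫ g) _ _ ?_
  have h1 := congrArg (rsm F.val k) hr'
  rw [rsm_rsm, hr (k ≫ h) hk] at h1
  simp only [map_sum, rsm_smul, rsm_rsm] at h1
  simp only [Category.assoc] at h1 ⊢
  exact h1

omit hx in
lemma isVal_unique {V : C} (g : V ⟶ W) (f : sc F.val V) {z z' : sc N.val V} (hz : P.IsVal g₀ x g f z)
    (hz' : P.IsVal g₀ x g f z') : z = z' := by
  obtain ⟨S, hS, hS'⟩ := P.gen (g ≫ g₀) f
  refine sec_extM N hS fun V' k hk => ?_
  obtain ⟨r, hr⟩ := hS' k hk
  rw [hz k r hr, hz' k r hr]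

/-- The morphism with prescribed values on generators. -/
theorem exists_hom : ∃ ψ : (ModSite.restr O W).obj F ⟶ (ModSite.restr O W).obj N,
    ∀ i, comp' ψ (𝟙 W) (rsm F.val g₀ (P.e i)) = x i := by
  classical
  choose z hz using fun (V : Over W) (f : sc F.val V.left) => P.exists_isVal g₀ x hx V.hom f
  have hadd : ∀ (V : Over W) (f f' : sc F.val V.left), z V (f + f') = z V f + z V f' := fun V f f' => by
    refine P.isVal_unique g₀ x V.hom _ (hz V _) ?_
    intro V' h r hr
    obtain ⟨S, hS, hS'⟩ := P.gen (h ≫ V.hom ≫ g₀) (rsm F.val h f)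
    obtain ⟨R, hR, hR'⟩ := P.gen (h ≫ V.hom ≫ g₀) (rsm F.val h f')
    refine sec_extM N (J.intersection_covering hS hR) fun V'' k hk => ?_
    obtain ⟨a, ha⟩ := hS' k hk.1
    obtain ⟨b, hb⟩ := hR' k hk.2
    rw [rsm_rsm] at ha hb
    simp only [← Category.assoc] at ha hb
    have e : ∑ i, rsR k (r i) • rsm F.val (((k ≫ h) ≫ V.hom) ≫ g₀) (P.e i) =
        ∑ i, (a i + b i) • rsm F.val (((k ≫ h) ≫ V.hom) ≫ g₀) (P.e i) := by
      have h1 := congrArg (rsm F.val k) hr
      simp only [map_add, map_sum, rsm_smul, rsm_rsm] at h1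
      simp only [add_smul, Finset.sum_add_distrib, ← ha, ← hb]
      simp only [Category.assoc] at h1 ⊢
      exact h1.symm
    simp only [map_add, map_sum, rsm_smul, rsm_rsm]
    rw [← Category.assoc k h V.hom, P.agree g₀ x hx ((k ≫ h) ≫ V.hom) _ _ e]
    rw [hz V f (k ≫ h) a (by simpa only [Category.assoc] using ha), hz V f' (k ≫ h) b (by simpa only [Category.assoc] using hb)]
    simp only [add_smul, Finset.sum_add_distrib]
  have hsmul : ∀ (V : Over W) (q : rsec O V.left) (f : sc F.val V.left), z V (q • f) = q • z V f := fun V q f => by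
    refine P.isVal_unique g₀ x V.hom _ (hz V _) ?_
    intro V' h r hr
    obtain ⟨S, hS, hS'⟩ := P.gen (h ≫ V.hom ≫ g₀) (rsm F.val h f)
    refine sec_extM N hS fun V'' k hk => ?_
    obtain ⟨a, ha⟩ := hS' k hk
    rw [rsm_rsm] at ha
    simp only [← Category.assoc] at ha
    have e : ∑ i, rsR k (r i) • rsm F.val (((k ≫ h) ≫ V.hom) ≫ g₀) (P.e i) =
        ∑ i, (rsR (k ≫ h) q * a i) • rsm F.val (((k ≫ h) ≫ V.hom) ≫ g₀) (P.e i) := by
      have h1 := congrArg (rsm F.val k) hr
      simp only [map_sum, rsm_smul, rsm_rsm, rsR_rsR] at h1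
      simp only [mul_smul, ← Finset.smul_sum, ← ha]
      simp only [Category.assoc] at h1 ⊢
      exact h1.symm
    simp only [map_sum, rsm_smul, rsm_rsm, rsR_rsR]
    rw [← Category.assoc k h V.hom, P.agree g₀ x hx ((k ≫ h) ≫ V.hom) _ _ e,
      hz V f (k ≫ h) a (by simpa only [Category.assoc] using ha)]
    simp only [mul_smul, Finset.smul_sum]
  have hnat : ∀ {V V' : Over W} (a : V' ⟶ V) (f : sc F.val V.left), z V' (rsm F.val a.left f) = rsm N.val a.left (z V f) := by
    intro V V' a f
    refine P.isVal_unique g₀ x V'.hom _ (hz V' _) fun U h r hr => ?_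
    have hw : (h ≫ a.left) ≫ V.hom = h ≫ V'.hom := by rw [Category.assoc, Over.w]
    rw [rsm_rsm, hz V f (h ≫ a.left) r (by
      rw [← rsm_rsm, hr]
      refine Finset.sum_congr rfl fun i _ => ?_
      rw [← Category.assoc (h ≫ a.left), hw, Category.assoc])]
    simp only [hw]
  let ψ : (ModSite.restr O W).obj F ⟶ (ModSite.restr O W).obj N :=
    { val :=
      { app := fun V => ModuleCat.ofHom (X := sc ((ModSite.restr O W).obj F).val V.unop)
          (Y := sc ((ModSite.restr O W).obj N).val V.unop)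
          { toFun := fun f => z V.unop f
            map_add' := hadd V.unop
            map_smul' := hsmul V.unop }
        naturality := fun {V V'} a => by
          ext f
          exact hnat a.unop f } }
  refine ⟨ψ, fun i => ?_⟩
  change z (Over.mk (𝟙 W)) (rsm F.val g₀ (P.e i)) = x i
  refine P.isVal_unique g₀ x (𝟙 W) _ (hz (Over.mk (𝟙 W)) _) fun V h r hr => ?_
  have h1 := P.agree g₀ x hx (h ≫ 𝟙 W) r (fun j => if j = i then 1 else 0) (by
    simp only [Category.assoc, Category.id_comp]
    simp only [Category.id_comp] at hr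
    rw [← hr]
    simp [rsm_rsm, ite_smul])
  rw [h1]
  simp [ite_smul]

end LocPres

/-- A presentation gives a presentation by sections. -/
theorem exists_locPres {F : ModSite.Mod O} {Y : C}
    (P : SheafOfModules.Presentation ((ModSite.restr O Y).obj F)) [P.IsFinite] : Nonempty (LocPres F Y) := by
  classical
  have : Finite P.generators.I := SheafOfModules.GeneratingSections.IsFiniteType.finite
  have : Finite P.relations.I := SheafOfModules.GeneratingSections.IsFiniteType.finite
  cases nonempty_fintype P.generators.I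
  cases nonempty_fintype P.relations.I
  let I := P.generators.I
  let π : (SheafOfModules.free I : ModOver O Y) ⟶ (ModSite.restr O Y).obj F := P.generators.π
  let ρ : (SheafOfModules.free P.relations.I : ModOver O Y) ⟶ SheafOfModules.free I :=
    (SheafOfModules.freeHomEquiv _).symm P.relations.s ≫ kernel.ι _
  have hρ : ρ ≫ π = 0 := by simp [ρ, π]
  let eI := Fintype.equivFin I
  let eR := Fintype.equivFin P.relations.I
  have key : ∀ {K : Type u} [Fintype K] {N : ModOver O Y} (φ : (SheafOfModules.free K : ModOver O Y) ⟶ N) (V : Over Y)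
      (z : sc (SheafOfModules.free K : ModOver O Y).val V),
      apm φ.val V z = ∑ k, (show rsec (O.over Y) V from apm (proj K k).val V z) •
        rsm N.val (Over.homMk V.hom (Category.comp_id _) : V ⟶ top' Y) (ev (SheafOfModules.ιFree k ≫ φ)) := by
    intro K _ N φ V z
    let A : ((SheafOfModules.free K : ModOver O Y) ⟶ N) →+ sc N.val V := AddMonoidHom.mk' (fun q => apm q.val V z) fun _ _ => rfl
    refine (congrArg A (eq_sum K φ)).trans ((map_sum A _ _).trans (Finset.sum_congr rfl fun k _ => ?_))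
    change apm (SheafOfModules.ιFree k ≫ φ).val V (apm (proj K k).val V z) = _
    refine (congrArg (apm (SheafOfModules.ιFree k ≫ φ).val V)
      (mul_one (show rsec (O.over Y) V from apm (proj K k).val V z)).symm).trans ?_
    refine (map_smul (apm (SheafOfModules.ιFree k ≫ φ).val V) (show rsec (O.over Y) V from apm (proj K k).val V z)
      (show sc (oU O Y).val V from (1 : rsec (O.over Y) V))).trans ?_
    refine congrArg _ ?_
    refine Eq.trans ?_ (apm_rsm (SheafOfModules.ιFree k ≫ φ).val _ _)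
    exact congrArg _ (map_one (rsR (O := O.over Y) (Over.homMk V.hom (Category.comp_id _) : V ⟶ top' Y))).symm
  let e : Fin (Fintype.card I) → sc F.val Y := fun j => ev (SheafOfModules.ιFree (eI.symm j) ≫ π)
  let c : Fin (Fintype.card P.relations.I) → Fin (Fintype.card I) → rsec O Y := fun k j =>
    ev (SheafOfModules.ιFree (eR.symm k) ≫ ρ ≫ proj I (eI.symm j))
  refine ⟨⟨_, _, e, c, fun k => ?_, fun {V} g f => ?_, fun {V} g r hr => ?_⟩⟩
  · have h1 : (∑ j, (SheafOfModules.ιFree (eR.symm k) ≫ ρ ≫ proj I (eI.symm j)) ≫ SheafOfModules.ιFree (eI.symm j) ≫ π) = 0 := by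
      rw [Equiv.sum_comp eI.symm fun i => (SheafOfModules.ιFree (eR.symm k) ≫ ρ ≫ proj I i) ≫ SheafOfModules.ιFree i ≫ π]
      simp only [Category.assoc, ← Preadditive.comp_sum, ← eq_sum I π, hρ, comp_zero]
    have h2 := congrArg (fun q => (ev q : sc F.val Y)) h1
    simp only [ev_sum, ev_zero] at h2
    refine Eq.trans (Finset.sum_congr rfl fun j _ => ?_) h2
    rw [eq_scal (SheafOfModules.ιFree (eR.symm k) ≫ ρ ≫ proj I (eI.symm j)), ev_scal_comp]
  · obtain ⟨S, hS, hS'⟩ := locSurj_of_epi π (Over.mk g) f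
    refine ⟨Sieve.functorPushforward (Over.forget Y) S, (J.mem_over_iff S).1 hS, ?_⟩
    rintro V' h ⟨U, a, b, ha, rfl⟩
    obtain ⟨z, hz⟩ := hS' a ha
    refine ⟨fun j => rsR b (show rsec O U.left from apm (proj I (eI.symm j)).val U z), ?_⟩
    have h1 := key π U z
    rw [hz] at h1
    have h2 : rsm F.val a.left f = ∑ i, (show rsec O U.left from apm (proj I i).val U z) • rsm F.val U.hom (ev (SheafOfModules.ιFree i ≫ π)) := h1
    change rsm F.val (b ≫ a.left) f = _
    refine (rsm_rsm F.val a.left b f).symm.trans ((congrArg (rsm F.val b) h2).trans ((map_sum _ _ _).trans ?_))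
    refine (Equiv.sum_comp eI.symm _).symm.trans ?_
    refine Finset.sum_congr rfl fun i _ => ?_
    rw [rsm_smul]
    refine congrArg (_ • ·) ((rsm_rsm F.val U.hom b _).trans ?_)
    have hw : b ≫ U.hom = (b ≫ a.left) ≫ g := (congrArg (b ≫ ·) (Over.w a).symm).trans (Category.assoc _ _ _).symm
    rw [hw]
    rfl
  · let T : Over Y := Over.mk g
    let z : sc (SheafOfModules.free I : ModOver O Y).val T :=
      ∑ i, (show rsec (O.over Y) T from r (eI i)) • apm (SheafOfModules.ιFree i : oU O Y ⟶ _).val T (1 : rsec (O.over Y) T)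
    have hproj : ∀ i, (show rsec (O.over Y) T from apm (proj I i).val T z) = r (eI i) := fun i => by
      change apm (proj I i).val T z = _
      simp only [z, map_sum, map_smul]
      rw [Finset.sum_eq_single i (fun j _ hj => ?_) (fun h => absurd (Finset.mem_univ i) h)]
      · refine (congrArg (fun q : oU O Y ⟶ oU O Y => (show rsec (O.over Y) T from r (eI i)) • apm q.val T (1 : rsec (O.over Y) T))
          ((ι_proj I i i).trans (if_pos rfl))).trans ?_
        exact mul_one (show rsec (O.over Y) T from r (eI i))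
      · refine (congrArg (fun q : oU O Y ⟶ oU O Y => (show rsec (O.over Y) T from r (eI j)) • apm q.val T (1 : rsec (O.over Y) T))
          ((ι_proj I i j).trans (if_neg hj))).trans ?_
        exact smul_zero _
    have hz : apm π.val T z = 0 := by
      rw [key π T z]
      refine Eq.trans ?_ hr
      refine Eq.trans ?_ (Equiv.sum_comp eI fun j => r j • rsm F.val g (e j))
      refine Finset.sum_congr rfl fun i _ => ?_
      rw [hproj]
      simp only [e, Equiv.symm_apply_apply]
      rfl
    have hS : (ShortComplex.mk (kernel.ι π) π (kernel.condition π)).ShortExact :=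
      { exact := ShortComplex.exact_of_f_is_kernel _ (kernelIsKernel π)
        mono_f := inferInstance
        epi_g := inferInstanceAs (Epi P.generators.π) }
    obtain ⟨y, hy⟩ := exists_preimage hS z hz
    have : Epi ((SheafOfModules.freeHomEquiv _).symm P.relations.s) := P.relations.epi
    obtain ⟨S, hS, hS'⟩ := locSurj_of_epi ((SheafOfModules.freeHomEquiv _).symm P.relations.s) T y
    refine ⟨Sieve.functorPushforward (Over.forget Y) S, (J.mem_over_iff S).1 hS, ?_⟩
    rintro V' h ⟨U, a, b, ha, rfl⟩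
    obtain ⟨w, hw⟩ := hS' a ha
    have hρw : apm ρ.val U w = rsm _ a z := by
      change apm (kernel.ι π).val U (apm ((SheafOfModules.freeHomEquiv _).symm P.relations.s).val U w) = _
      rw [hw, apm_rsm, hy]
    refine ⟨fun k => rsR b (show rsec O U.left from apm (proj P.relations.I (eR.symm k)).val U w), fun j => ?_⟩
    have h1 := key (ρ ≫ proj I (eI.symm j)) U w
    have h2 : apm (ρ ≫ proj I (eI.symm j)).val U w = (show rsec (O.over Y) U from rsR (O := O.over Y) a (r j)) := by
      refine (congrArg (apm (proj I (eI.symm j)).val U) hρw).trans ?_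
      refine (apm_rsm (proj I (eI.symm j)).val a z).trans ?_
      exact congrArg (rsR (O := O.over Y) a) ((hproj (eI.symm j)).trans (congrArg r (Equiv.apply_symm_apply eI j)))
    rw [h2] at h1
    have h3 : rsR (O := O) a.left (r j) = ∑ k, (show rsec O U.left from apm (proj P.relations.I k).val U w) *
        rsR (O := O) U.hom (ev (SheafOfModules.ιFree k ≫ ρ ≫ proj I (eI.symm j)) : rsec O Y) := h1
    change rsR (b ≫ a.left) (r j) = _
    refine (rsR_rsR a.left b (r j)).symm.trans ((congrArg (rsR b) h3).trans ((map_sum _ _ _).trans ?_))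
    refine (Equiv.sum_comp eR.symm _).symm.trans ?_
    refine Finset.sum_congr rfl fun k _ => ?_
    rw [map_mul]
    refine congrArg (_ * ·) ((rsR_rsR U.hom b _).trans ?_)
    have hw' : b ≫ U.hom = (b ≫ a.left) ≫ g := (congrArg (b ≫ ·) (Over.w a).symm).trans (Category.assoc _ _ _).symm
    rw [hw']
    rfl

/-- A presentation restricts along any morphism of the site. -/
noncomputable def LocPres.restrict {F : ModSite.Mod O} {Y W : C} (P : LocPres F Y) (a : W ⟶ Y) : LocPres F W where
  n := P.n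
  m := P.m
  e i := rsm F.val a (P.e i)
  c k i := rsR a (P.c k i)
  rel k := by
    have h := congrArg (rsm F.val a) (P.rel k)
    simpa only [map_sum, map_zero, rsm_smul] using h
  gen {V} g f := by
    obtain ⟨S, hS, hS'⟩ := P.gen (g ≫ a) f
    refine ⟨S, hS, fun V' h hh => ?_⟩
    obtain ⟨r, hr⟩ := hS' h hh
    exact ⟨r, hr.trans (Finset.sum_congr rfl fun i _ => by rw [rsm_rsm, Category.assoc])⟩
  ker {V} g r hr := by
    obtain ⟨S, hS, hS'⟩ := P.ker (g ≫ a) r (Eq.trans (Finset.sum_congr rfl fun i _ => by rw [rsm_rsm]) hr)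
    refine ⟨S, hS, fun V' h hh => ?_⟩
    obtain ⟨s, hs⟩ := hS' h hh
    exact ⟨s, fun i => (hs i).trans (Finset.sum_congr rfl fun k _ => by rw [rsR_rsR, Category.assoc])⟩

/-- A finitely presented module has local presentations by sections. -/
theorem exists_cover_locPres (F : ModSite.Mod O) [hF : F.IsFinitePresentation] (X : C) :
    ∃ S ∈ J X, ∀ ⦃W : C⦄ (g : W ⟶ X), S g → Nonempty (LocPres F W) := by
  obtain ⟨σ, hσ⟩ := SheafOfModules.IsFinitePresentation.exists_quasicoherentData F
  refine ⟨Sieve.ofObjects σ.X X, σ.coversTop X, ?_⟩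
  rintro W g ⟨i, ⟨a⟩⟩
  have := hσ.isFinite_presentation i
  obtain ⟨P⟩ := exists_locPres (σ.presentation i)
  exact ⟨P.restrict a⟩

end Groth.SitesTopoi
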