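import Groth.Agent.SitesTopoi.Mod.InvertibleSec
import Groth.Agent.SitesTopoi.Mod.LocPres
import Groth.Agent.SitesTopoi.Mod.HomSec
import Groth.Agent.SitesTopoi.Mod.GenSys

/-!
Internal hom out of a finitely presented module commutes with tensoring by a flat module.
-/

set_option autoImplicit false

universe u

open CategoryTheory CategoryTheory.Limits Opposite MonoidalCategory

set_option backward.defeqAttrib.useBackward true
set_option backward.isDefEq.respectTransparency false
set_option backward.isDefEq.respectTransparency.types false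
set_option synthInstance.maxHeartbeats 400000

namespace Groth.SitesTopoi.HomTensorFlat

open Groth.SitesTopoi.ModH Groth.SitesTopoi.HomSec Groth.SitesTopoi.PullTensor Groth.SitesTopoi.InvertibleSec
  Groth.Misc4.FreeOn

variable {C : Type u} [SmallCategory C] {J : GrothendieckTopology C} {O : Sheaf J CommRingCat.{u}}
  {F G H : ModSite.Mod O}

/-- The tensor of sections as a bilinear map. -/
noncomputable def tauL (M N : ModSite.Mod O) (V : C) :
    sc M.val V →ₗ[rsec O V] sc N.val V →ₗ[rsec O V] sc (tMN M N).val V :=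
  LinearMap.mk₂ (rsec O V) (fun x y => tau M N x y)
    (fun _ _ _ => (congrArg _ (tm_add_left _ _ _)).trans (map_add _ _ _))
    (fun _ _ _ => (congrArg _ (tm_smul_left _ _ _)).trans (map_smul _ _ _))
    (fun _ _ _ => (congrArg _ (tm_add_right _ _ _)).trans (map_add _ _ _))
    (fun _ _ _ => (congrArg _ (tm_smul_right _ _ _)).trans (map_smul _ _ _))

lemma tauL_apply {M N : ModSite.Mod O} {V : C} (x : sc M.val V) (y : sc N.val V) : tauL M N V x y = tau M N x y := rfl

lemma tau_push {M N : ModSite.Mod O} {V : C} {l l' : ℕ} (x : Fin l → sc M.val V) (a : Fin l → Fin l' → rsec O V)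
    (t : Fin l' → sc N.val V) :
    ∑ j, tau M N (x j) (∑ k, a j k • t k) = ∑ k, tau M N (∑ j, a j k • x j) (t k) := by
  simp only [← tauL_apply, map_sum, map_smul, LinearMap.sum_apply, LinearMap.smul_apply]
  exact Finset.sum_comm

lemma rsm_sum_tau {M N : ModSite.Mod O} {U V : C} (g : V ⟶ U) {ι : Type*} (I : Finset ι) (x : ι → sc M.val U)
    (y : ι → sc N.val U) :
    rsm (tMN M N).val g (∑ j ∈ I, tau M N (x j) (y j)) = ∑ j ∈ I, tau M N (rsm M.val g (x j)) (rsm N.val g (y j)) :=
  (map_sum _ _ _).trans (Finset.sum_congr rfl fun _ _ => rsm_tau M N g _ _)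

/-- Sums of tensors against a flat module that vanish are trivial nearby, simultaneously. -/
lemma exists_kill (hH : RelTriv H) {ι : Type*} [DecidableEq ι] (I : Finset ι) {U : C} {l : ℕ}
    (x : ι → Fin l → sc G.val U) (h : Fin l → sc H.val U) (hx : ∀ i ∈ I, ∑ j, tau G H (x i j) (h j) = 0) :
    ∃ S ∈ J U, ∀ ⦃V : C⦄ (g : V ⟶ U), S g → ∃ (l' : ℕ) (t : Fin l' → sc H.val V) (a : Fin l → Fin l' → rsec O V),
      (∀ j, rsm H.val g (h j) = ∑ k, a j k • t k) ∧ ∀ i ∈ I, ∀ k, ∑ j, a j k • rsm G.val g (x i j) = 0 := by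
  induction I using Finset.induction_on with
  | empty => exact ⟨⊤, J.top_mem U, fun V g _ => ⟨l, fun k => rsm H.val g (h k),
      fun j k => if j = k then 1 else 0, fun j => by simp, by simp⟩⟩
  | insert i₀ I hi₀ ih =>
    obtain ⟨S, hS, hS'⟩ := ih fun i hi => hx i (Finset.mem_insert_of_mem hi)
    choose l' t a hh ha using hS'
    have h1 : ∀ ⦃V : C⦄ (g : V ⟶ U) (hg : S g),
        ∑ k, tau G H (∑ j, a g hg j k • rsm G.val g (x i₀ j)) (t g hg k) = 0 := fun V g hg => by
      have e := (rsm_sum_tau g Finset.univ (x i₀) h).symm.trans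
        ((congrArg (rsm (tMN G H).val g) (hx i₀ (Finset.mem_insert_self i₀ I))).trans (map_zero _))
      simp only [hh g hg] at e
      exact (tau_push _ _ _).symm.trans e
    have h2 : ∀ ⦃V : C⦄ (g : V ⟶ U) (hg : S g),
        apm (etaP (G.val ⊗ H.val : PM O)) V (∑ k, tm (∑ j, a g hg j k • rsm G.val g (x i₀ j)) (t g hg k)) = 0 :=
      fun V g hg => (map_sum _ _ _).trans (h1 g hg)
    choose T hT hT' using fun {V : C} (g : V ⟶ U) (hg : S g) => locInj_etaP (G.val ⊗ H.val : PM O) V _ (h2 g hg)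
    choose R hR hR' using fun {V : C} (g : V ⟶ U) (hg : S g) {W : C} (k : W ⟶ V) (hk : T g hg k) =>
      hH.of_tensor_eq_zero (H := G.val) (U := W) (fun p => rsm G.val k (∑ j, a g hg j p • rsm G.val g (x i₀ j)))
        (fun p => rsm H.val k (t g hg p)) (by
          refine Eq.trans ?_ (hT' g hg k hk)
          rw [map_sum]
          exact Finset.sum_congr rfl fun p _ => (rsm_tm k _ _).symm)
    refine ⟨Sieve.bind S fun V g hg => Sieve.bind (T g hg) fun W k hk => R g hg k hk,
      J.bind_covering hS fun V g hg => J.bind_covering (hT g hg) fun W k hk => hR g hg k hk, ?_⟩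
    rintro Z _ ⟨V, q, g, hg, ⟨W, m, k, hk, hm, rfl⟩, rfl⟩
    obtain ⟨l'', t', b, hb, hb'⟩ := hR' g hg k hk m hm
    refine ⟨l'', t', fun j p => ∑ q, rsR (m ≫ k) (a g hg j q) * b q p, fun j => ?_, fun i hi p => ?_⟩
    · rw [← rsm_rsm, hh g hg j, map_sum]
      simp only [rsm_smul, Finset.sum_smul, mul_smul]
      rw [Finset.sum_comm]
      refine Finset.sum_congr rfl fun q _ => ?_
      rw [← Finset.smul_sum, ← hb q, rsm_rsm]
    · have key : ∑ j, (∑ q, rsR (m ≫ k) (a g hg j q) * b q p) • rsm G.val ((m ≫ k) ≫ g) (x i j) =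
          ∑ q, b q p • rsm G.val (m ≫ k) (∑ j, a g hg j q • rsm G.val g (x i j)) := by
        simp only [map_sum, rsm_smul, rsm_rsm, Finset.smul_sum, Finset.sum_smul, smul_smul]
        rw [Finset.sum_comm]
        simp only [mul_comm (b _ p)]
      refine key.trans ?_
      rcases Finset.mem_insert.1 hi with rfl | hi'
      · simpa only [rsm_rsm] using hb' p
      · simp [ha g hg i hi']

/-- Finitely many sections of a tensor product are locally sums of tensors. -/
lemma exists_sums {ι : Type*} [DecidableEq ι] (I : Finset ι) {U : C} (y : ι → sc (tMN G H).val U) :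
    ∃ S ∈ J U, ∀ ⦃V : C⦄ (g : V ⟶ U), S g → ∀ i ∈ I, ∃ (n : ℕ) (x : Fin n → sc G.val V) (h : Fin n → sc H.val V),
      rsm (tMN G H).val g (y i) = ∑ j, tau G H (x j) (h j) := by
  induction I using Finset.induction_on with
  | empty => exact ⟨⊤, J.top_mem U, fun V g _ i hi => absurd hi (Finset.notMem_empty i)⟩
  | insert i₀ I hi₀ ih =>
    obtain ⟨S, hS, hS'⟩ := ih
    obtain ⟨T, hT, hT'⟩ := locSurj_etaP (G.val ⊗ H.val : PM O) U (y i₀)
    refine ⟨S ⊓ T, J.intersection_covering hS hT, fun V g hg i hi => ?_⟩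
    rcases Finset.mem_insert.1 hi with rfl | hi'
    · obtain ⟨w, hw⟩ := hT' g hg.2
      obtain ⟨n, x, h, rfl⟩ := exists_sum_tm w
      exact ⟨n, x, h, hw.symm.trans (map_sum _ _ _)⟩
    · exact hS' g hg.1 i hi'

/-- A finitely presented module has presentations by sections on a covering. -/
lemma exists_locPres_cover (F : ModSite.Mod O) [hF : F.IsFinitePresentation] (U : C) :
    ∃ S ∈ J U, ∀ ⦃V : C⦄ (g : V ⟶ U), S g → ∃ (Y : C) (_ : V ⟶ Y), Nonempty (LocPres F Y) := by
  obtain ⟨σ, hσ⟩ := SheafOfModules.IsFinitePresentation.exists_quasicoherentData F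
  refine ⟨_, σ.coversTop U, fun V g hg => ?_⟩
  obtain ⟨i, ⟨k⟩⟩ := hg
  exact ⟨σ.X i, k, exists_locPres (σ.presentation i)⟩

variable [ModSite.HasSheafHom F]

variable (F G H) in
/-- The evaluation followed by tensoring. -/
noncomputable def evT : tMN (tMN ((ModSite.sheafHom F).obj G) H) F ⟶ tMN G H :=
  (TensorAssoc.assocApp ((ModSite.sheafHom F).obj G) H F).hom ≫
    ((ModSite.tensorBi O).obj ((ModSite.sheafHom F).obj G)).map (Invertible.symIso H F).hom ≫
      (TensorAssoc.assocApp ((ModSite.sheafHom F).obj G) F H).inv ≫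
        ((ModSite.tensorBi O).map ((ModSite.sheafHomAdj F).counit.app G)).app H

variable (F G H) in
/-- The comparison morphism. -/
noncomputable def comparison : tMN ((ModSite.sheafHom F).obj G) H ⟶ (ModSite.sheafHom F).obj (tMN G H) :=
  (ModSite.sheafHomAdj F).homEquiv _ _ (evT F G H)

lemma evalAt_eq {U V : C} (s : sc ((ModSite.sheafHom F).obj G).val U) (g : V ⟶ U) (f : sc F.val V) :
    evalAt s g f = apm ((ModSite.sheafHomAdj F).counit.app G).val V
      (tauL ((ModSite.sheafHom F).obj G) F V (rsm ((ModSite.sheafHom F).obj G).val g s) f) := rfl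

lemma evalAt_smul {U V : C} (r : rsec O U) (s : sc ((ModSite.sheafHom F).obj G).val U) (g : V ⟶ U) (f : sc F.val V) :
    evalAt (r • s) g f = rsR g r • evalAt s g f := by
  rw [evalAt_eq, evalAt_eq, rsm_smul, map_smul, LinearMap.smul_apply, map_smul]

lemma evalAt_smul_right {U V : C} (r : rsec O V) (s : sc ((ModSite.sheafHom F).obj G).val U) (g : V ⟶ U)
    (f : sc F.val V) : evalAt s g (r • f) = r • evalAt s g f := by
  rw [evalAt_eq, evalAt_eq, map_smul, map_smul]

lemma evalAt_sum {U V : C} {ι : Type*} (I : Finset ι) (s : ι → sc ((ModSite.sheafHom F).obj G).val U) (g : V ⟶ U)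
    (f : sc F.val V) : evalAt (∑ j ∈ I, s j) g f = ∑ j ∈ I, evalAt (s j) g f := by
  simp only [evalAt_eq, map_sum, LinearMap.sum_apply]

lemma evalAt_zero_right {U V : C} (s : sc ((ModSite.sheafHom F).obj G).val U) (g : V ⟶ U) :
    evalAt s g (0 : sc F.val V) = 0 := by
  rw [evalAt_eq, map_zero, map_zero]

lemma evalAt_sum_right {U V : C} {ι : Type*} (I : Finset ι) (s : sc ((ModSite.sheafHom F).obj G).val U) (g : V ⟶ U)
    (f : ι → sc F.val V) : evalAt s g (∑ j ∈ I, f j) = ∑ j ∈ I, evalAt s g (f j) := by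
  simp only [evalAt_eq, map_sum]

lemma rsm_evalAt {U V W : C} (s : sc ((ModSite.sheafHom F).obj G).val U) (g : V ⟶ U) (h : W ⟶ V) (f : sc F.val V) :
    rsm G.val h (evalAt s g f) = evalAt s (h ≫ g) (rsm F.val h f) := by
  rw [evalAt, evalAt, ← rsm_rsm]
  refine (apm_rsm ((ModSite.sheafHomAdj F).counit.app G).val h _).symm.trans ?_
  refine congrArg (apm ((ModSite.sheafHomAdj F).counit.app G).val W) ?_
  refine (apm_rsm (etaP (((ModSite.sheafHom F).obj G).val ⊗ F.val : PM O)) h _).symm.trans ?_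
  exact congrArg _ (rsm_tm h (rsm ((ModSite.sheafHom F).obj G).val g s) f)

lemma evT_tau {V : C} (s : sc ((ModSite.sheafHom F).obj G).val V) (h : sc H.val V) (f : sc F.val V) :
    apm (evT F G H).val V (tau (tMN ((ModSite.sheafHom F).obj G) H) F (tau ((ModSite.sheafHom F).obj G) H s h) f) =
      tau G H (evalAt s (𝟙 V) f) h := by
  change apm (((ModSite.tensorBi O).map ((ModSite.sheafHomAdj F).counit.app G)).app H).val V
    (apm (TensorAssoc.assocApp ((ModSite.sheafHom F).obj G) F H).inv.val V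
      (apm (((ModSite.tensorBi O).obj ((ModSite.sheafHom F).obj G)).map (Invertible.symIso H F).hom).val V
        (apm (TensorAssoc.assocApp ((ModSite.sheafHom F).obj G) H F).hom.val V _))) = _
  rw [assocApp_tau, mapRight_tau, symIso_tau, ← assocApp_tau]
  refine (congrArg (apm (((ModSite.tensorBi O).map ((ModSite.sheafHomAdj F).counit.app G)).app H).val V)
    (congrArg (fun q => apm (SheafOfModules.Hom.val q) V
      (tau (tMN ((ModSite.sheafHom F).obj G) F) H (tau ((ModSite.sheafHom F).obj G) F s f) h))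
      (TensorAssoc.assocApp ((ModSite.sheafHom F).obj G) F H).hom_inv_id)).trans ?_
  refine (mapLeft_tau ((ModSite.sheafHomAdj F).counit.app G) _ h).trans ?_
  refine congrArg (fun q => tau G H q h) ?_
  rw [evalAt_eq, rsm_id]
  rfl

lemma evalAt_comparison {U V : C} (z : sc (tMN ((ModSite.sheafHom F).obj G) H).val U) (g : V ⟶ U) (f : sc F.val V) :
    evalAt (apm (comparison F G H).val U z) g f =
      apm (evT F G H).val V (tau (tMN ((ModSite.sheafHom F).obj G) H) F (rsm _ g z) f) := by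
  have h : ((ModSite.tensorBi O).flip.obj F).map (comparison F G H) ≫ (ModSite.sheafHomAdj F).counit.app (tMN G H) =
      evT F G H :=
    ((ModSite.sheafHomAdj F).homEquiv_counit _ _ _).symm.trans (Equiv.symm_apply_apply _ _)
  rw [evalAt_eq, ← apm_rsm]
  refine Eq.trans ?_ (congrArg (fun q => apm (SheafOfModules.Hom.val q) V
    (tau (tMN ((ModSite.sheafHom F).obj G) H) F (rsm _ g z) f)) h)
  exact congrArg (apm ((ModSite.sheafHomAdj F).counit.app (tMN G H)).val V)
    (mapLeft_tau (comparison F G H) _ f).symm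

lemma evalAt_comparison_tau {U V : C} {l : ℕ} (s : Fin l → sc ((ModSite.sheafHom F).obj G).val U)
    (h : Fin l → sc H.val U) (g : V ⟶ U) (f : sc F.val V) :
    evalAt (apm (comparison F G H).val U (∑ j, tau _ H (s j) (h j))) g f =
      ∑ j, tau G H (evalAt (s j) g f) (rsm H.val g (h j)) := by
  rw [map_sum, evalAt_sum]
  refine Finset.sum_congr rfl fun j _ => ?_
  rw [evalAt_comparison, rsm_tau, evT_tau, evalAt_rsm, Category.id_comp]

/-- Sections of the internal hom agreeing on generators agree. -/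
lemma eq_of_gens {N : ModSite.Mod O} {Y W : C} (P : LocPres F Y) (g₀ : W ⟶ Y)
    {s s' : sc ((ModSite.sheafHom F).obj N).val W}
    (h : ∀ i, evalAt s (𝟙 W) (rsm F.val g₀ (P.e i)) = evalAt s' (𝟙 W) (rsm F.val g₀ (P.e i))) : s = s' :=
  (secEquiv F N W).injective (P.hom_ext g₀ fun i =>
    (comp'_secEquiv s (𝟙 W) _).trans ((h i).trans (comp'_secEquiv s' (𝟙 W) _).symm))

variable [F.IsFinitePresentation]

theorem mono_comparison (hH : RelTriv H) : Mono (comparison F G H) := by
  refine mono_of_injective _ fun U => (injective_iff_map_eq_zero _).2 fun z hz => ?_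
  obtain ⟨S, hS, hS'⟩ := locSurj_etaP (((ModSite.sheafHom F).obj G).val ⊗ H.val : PM O) U z
  refine sec_extM _ hS fun V g hg => ?_
  obtain ⟨w, hw⟩ := hS' g hg
  obtain ⟨l, s, h, rfl⟩ := exists_sum_tm w
  have hzV : rsm (tMN ((ModSite.sheafHom F).obj G) H).val g z = ∑ j, tau _ H (s j) (h j) :=
    hw.symm.trans (map_sum _ _ _)
  have hV : ∀ ⦃W : C⦄ (k : W ⟶ V) (f : sc F.val W),
      ∑ j, tau G H (evalAt (s j) k f) (rsm H.val k (h j)) = 0 := fun W k f => by
    rw [← evalAt_comparison_tau, ← hzV, apm_rsm, hz, map_zero, evalAt_zero]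
  obtain ⟨T, hT, hT'⟩ := exists_locPres_cover F V
  rw [map_zero, hzV]
  refine sec_extM _ hT fun W k hk => ?_
  obtain ⟨Y, k₀, ⟨P⟩⟩ := hT' k hk
  obtain ⟨R, hR, hR'⟩ := exists_kill hH (Finset.univ : Finset (Fin P.n))
    (fun i j => evalAt (s j) k (rsm F.val k₀ (P.e i))) (fun j => rsm H.val k (h j)) fun i _ => hV k _
  refine sec_extM _ hR fun W' m hm => ?_
  obtain ⟨l', t, a, hh, ha⟩ := hR' m hm
  rw [map_zero, map_zero, rsm_rsm, rsm_sum_tau]
  have hh' : ∀ j, rsm H.val (m ≫ k) (h j) = ∑ p, a j p • t p := fun j => (rsm_rsm _ _ _ _).symm.trans (hh j)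
  refine (Finset.sum_congr rfl fun j _ => congrArg _ (hh' j)).trans ?_
  rw [tau_push]
  refine Finset.sum_eq_zero fun p _ => ?_
  have h0 : ∑ j, a j p • rsm ((ModSite.sheafHom F).obj G).val (m ≫ k) (s j) = 0 := by
    refine eq_of_gens P (m ≫ k₀) fun i => ?_
    rw [evalAt_sum, evalAt_zero]
    refine Eq.trans (Finset.sum_congr rfl fun j _ => ?_) (ha i (Finset.mem_univ i) p)
    rw [evalAt_smul, evalAt_rsm, rsR_id, Category.id_comp, rsm_evalAt, rsm_rsm]
  rw [h0]
  exact congrFun (congrArg DFunLike.coe (map_zero (tauL ((ModSite.sheafHom F).obj G) H W'))) (t p)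

theorem locSurj_comparison (hH : RelTriv H) : LocSurj (comparison F G H).val := by
  classical
  intro U ξ
  obtain ⟨S, hS, hS'⟩ := exists_locPres_cover F U
  choose Y k₀ hP using hS'
  let y : ∀ ⦃V : C⦄ (g : V ⟶ U) (hg : S g), Fin (hP g hg).some.n → sc (tMN G H).val V :=
    fun V g hg i => evalAt ξ g (rsm F.val (k₀ g hg) ((hP g hg).some.e i))
  choose T hT hT' using fun {V : C} (g : V ⟶ U) (hg : S g) => exists_sums (G := G) (H := H) Finset.univ (y g hg)
  choose nn xx hh hy using fun {V : C} (g : V ⟶ U) (hg : S g) {W : C} (k : W ⟶ V) (hk : T g hg k) i =>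
    hT' g hg k hk i (Finset.mem_univ i)
  let E := fun {V : C} (g : V ⟶ U) (hg : S g) {W : C} (k : W ⟶ V) (hk : T g hg k) =>
    (Fintype.equivFin (Σ i, Fin (nn g hg k hk i))).symm
  let x' := fun {V : C} (g : V ⟶ U) (hg : S g) {W : C} (k : W ⟶ V) (hk : T g hg k) (i : Fin (hP g hg).some.n)
      (q : Fin (Fintype.card (Σ i, Fin (nn g hg k hk i)))) =>
    if (E g hg k hk q).1 = i then xx g hg k hk (E g hg k hk q).1 (E g hg k hk q).2 else 0
  let h' := fun {V : C} (g : V ⟶ U) (hg : S g) {W : C} (k : W ⟶ V) (hk : T g hg k)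
      (q : Fin (Fintype.card (Σ i, Fin (nn g hg k hk i)))) => hh g hg k hk (E g hg k hk q).1 (E g hg k hk q).2
  have hy' : ∀ {V : C} (g : V ⟶ U) (hg : S g) {W : C} (k : W ⟶ V) (hk : T g hg k) (i : Fin (hP g hg).some.n),
      ∑ q, tau G H (x' g hg k hk i q) (h' g hg k hk q) = rsm (tMN G H).val k (y g hg i) := by
    intro V g hg W k hk i
    refine ((E g hg k hk).sum_comp fun p => tau G H (if p.1 = i then xx g hg k hk p.1 p.2 else 0)
      (hh g hg k hk p.1 p.2)).trans ?_
    rw [Fintype.sum_sigma, Fintype.sum_eq_single i fun j hj => ?_]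
    · exact (Finset.sum_congr rfl fun p _ => by rw [if_pos rfl]).trans (hy g hg k hk i).symm
    · exact Finset.sum_eq_zero fun p _ => by
        rw [if_neg hj]
        exact congrFun (congrArg DFunLike.coe (map_zero (tauL G H W))) _
  have hrel : ∀ {V : C} (g : V ⟶ U) (hg : S g) {W : C} (k : W ⟶ V) (hk : T g hg k),
      ∀ r ∈ (Finset.univ : Finset (Fin (hP g hg).some.m)),
      ∑ q, tau G H (∑ i, rsR (k ≫ k₀ g hg) ((hP g hg).some.c r i) • x' g hg k hk i q) (h' g hg k hk q) = 0 := by
    intro V g hg W k hk r _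
    simp only [← tauL_apply, map_sum, map_smul, LinearMap.sum_apply, LinearMap.smul_apply]
    rw [Finset.sum_comm]
    simp only [← Finset.smul_sum, tauL_apply, hy', y, rsm_evalAt, rsm_rsm, ← evalAt_smul_right, ← evalAt_sum_right]
    have e0 := congrArg (rsm F.val (k ≫ k₀ g hg)) ((hP g hg).some.rel r)
    simp only [map_sum, rsm_smul, map_zero] at e0
    rw [e0]
    exact evalAt_zero_right _ _
  choose R hR hR' using fun {V : C} (g : V ⟶ U) (hg : S g) {W : C} (k : W ⟶ V) (hk : T g hg k) =>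
    exists_kill hH Finset.univ _ _ (hrel g hg k hk)
  refine ⟨Sieve.bind S fun V g hg => Sieve.bind (T g hg) fun W k hk => R g hg k hk,
    J.bind_covering hS fun V g hg => J.bind_covering (hT g hg) fun W k hk => hR g hg k hk, ?_⟩
  rintro Z _ ⟨V, q, g, hg, ⟨W, m, k, hk, hm, rfl⟩, rfl⟩
  obtain ⟨l, t, a, ht, ha⟩ := hR' g hg k hk m hm
  let P := (hP g hg).some
  let x₀ : Fin l → Fin P.n → sc G.val Z := fun p i => ∑ q, a q p • rsm G.val m (x' g hg k hk i q)
  have hx₀ : ∀ p r, ∑ i, rsR (m ≫ k ≫ k₀ g hg) (P.c r i) • x₀ p i = 0 := fun p r => by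
    refine Eq.trans ?_ (ha r (Finset.mem_univ r) p)
    simp only [x₀, map_sum, rsm_smul, rsR_rsR, Finset.smul_sum, smul_smul]
    rw [Finset.sum_comm]
    simp only [mul_comm (a _ p)]
    rfl
  choose ψ hψ using fun p => P.exists_hom (m ≫ k ≫ k₀ g hg) (x₀ p) (hx₀ p)
  choose s hs using fun p => exists_section (ψ p)
  refine ⟨∑ p, tau ((ModSite.sheafHom F).obj G) H (s p) (t p), eq_of_gens P (m ≫ k ≫ k₀ g hg) fun i => ?_⟩
  rw [evalAt_comparison_tau, evalAt_rsm, Category.id_comp]
  simp only [hs, hψ, rsm_id, x₀]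
  rw [← tau_push]
  simp only [← ht, ← rsm_sum_tau, hy', y, rsm_evalAt, rsm_rsm, Category.assoc]
  rfl

lemma epi_of_locSurj {P Q : ModSite.Mod O} (f : P ⟶ Q) (h : LocSurj f.val) : Epi f := by
  refine ⟨fun {R} a b e => mod_hom_ext fun W q => ?_⟩
  obtain ⟨S, hS, hS'⟩ := h W q
  refine sec_extM R hS fun V g hg => ?_
  obtain ⟨p, hp⟩ := hS' g hg
  rw [← apm_rsm, ← apm_rsm, ← hp]
  exact congrArg (fun k => apm (SheafOfModules.Hom.val k) V p) e

theorem isIso_comparison (hH : RelTriv H) : IsIso (comparison F G H) := by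
  have : Mono (comparison F G H) := mono_comparison hH
  have : Epi (comparison F G H) := epi_of_locSurj _ (locSurj_comparison hH)
  exact isIso_of_mono_of_epi _

end Groth.SitesTopoi.HomTensorFlat
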