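import Groth.Agent.SitesTopoi.Mod.SpaceFT

/-!
Kernels, cokernels and extensions of modules of finite type and finite presentation on topological spaces.
-/

set_option autoImplicit false

universe u

open CategoryTheory CategoryTheory.Limits Opposite TopologicalSpace

set_option backward.defeqAttrib.useBackward true
set_option backward.isDefEq.respectTransparency false
set_option backward.isDefEq.respectTransparency.types false
set_option synthInstance.maxHeartbeats 400000

namespace Groth.SitesTopoi.SpaceFP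

open Groth.SitesTopoi.ModH Groth.AdicLinTop.SpacePres Groth.SitesTopoi.SpaceGerm Groth.SitesTopoi.SpaceFT

variable {T : Type u} [TopologicalSpace T] {O : Sheaf (Opens.grothendieckTopology T) CommRingCat.{u}}
  {F G : ModSite.Mod O}

/-- Generators and relations near every point of an open. -/
structure Pres {U : Opens T} {ι κ : Type*} [Fintype ι] [Fintype κ] (s : ι → sc F.val U)
    (r : κ → ι → rsec O U) : Prop where
  gens : Gens s
  zero : ∀ j, ∑ i, r j i • s i = 0
  rel : ∀ (W : Opens T) (hW : W ≤ U) (a : ι → rsec O W), ∑ i, a i • rm F hW (s i) = 0 → ∀ y ∈ W,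
    ∃ (V : Opens T) (hV : V ≤ W), y ∈ V ∧ ∃ c : κ → rsec O V,
      ∀ i, rr hV (a i) = ∑ j, c j * rr (hV.trans hW) (r j i)

lemma Pres.restrict {U U' : Opens T} {ι κ : Type*} [Fintype ι] [Fintype κ] {s : ι → sc F.val U}
    {r : κ → ι → rsec O U} (P : Pres s r) (h : U' ≤ U) :
    Pres (fun i => rm F h (s i)) (fun j i => rr h (r j i)) where
  gens := P.gens.restrict h
  zero j := by
    have e := congrArg (rm F h) (P.zero j)
    rw [rm_comb, map_zero] at e
    exact e
  rel W hW a ha y hy := by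
    obtain ⟨V, hV, hyV, c, hc⟩ := P.rel W (hW.trans h) a
      ((Finset.sum_congr rfl fun i _ => by rw [rm_rm]).trans ha) y hy
    exact ⟨V, hV, hyV, c, fun i => (hc i).trans (Finset.sum_congr rfl fun j _ => by rw [rr_rr])⟩

theorem isFinitePresentation_of_pres
    (h : ∀ x : T, ∃ (U : Opens T) (_ : x ∈ U) (ι κ : Type) (_ : Fintype ι) (_ : Fintype κ)
      (s : ι → sc F.val U) (r : κ → ι → rsec O U), Pres s r) :
    SheafOfModules.IsFinitePresentation.{u} (R := ModSite.ringSh O) F := by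
  refine isFinitePresentation_of_presData fun x => ?_
  obtain ⟨U, hx, ι, κ, _, _, s, r, P⟩ := h x
  let e := Fintype.equivFin ι
  let e' := Fintype.equivFin κ
  refine ⟨U, _, _, hx, ⟨{ genData P.gens with
    r := fun j i => r (e'.symm j) (e.symm i), zero := fun j => ?_, rel := fun W hW a ha y hy => ?_ }⟩⟩
  · exact (Equiv.sum_comp e.symm fun i => r (e'.symm j) i • s i).trans (P.zero _)
  · obtain ⟨V, hV, hyV, c, hc⟩ := P.rel W hW (fun i => a (e i))
      (Eq.trans ((Equiv.sum_comp e.symm fun i => a (e i) • rm F hW (s i)).symm.trans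
        (Finset.sum_congr rfl fun i _ => by rw [Equiv.apply_symm_apply]; rfl)) ha) y hy
    refine ⟨V, hV, hyV, fun j => c (e'.symm j), fun i => ?_⟩
    have h1 := hc (e.symm i)
    rw [Equiv.apply_symm_apply] at h1
    exact h1.trans (Equiv.sum_comp e'.symm fun j => c j * rr (hV.trans hW) (r j (e.symm i))).symm

theorem exists_pres [hF : SheafOfModules.IsFinitePresentation.{u} (R := ModSite.ringSh O) F] (x : T) :
    ∃ (U : Opens T) (_ : x ∈ U) (n m : ℕ) (s : Fin n → sc F.val U) (r : Fin m → Fin n → rsec O U), Pres s r := by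
  obtain ⟨U, n, m, hx, ⟨P⟩⟩ := exists_presData hF x
  exact ⟨U, hx, n, m, P.s, P.r, ⟨gens_of_genData P.toGenData, P.zero, P.rel⟩⟩

/-- A map onto a module of finite type which is surjective on a stalk is surjective nearby. -/
theorem exists_epi_restr (φ : G ⟶ F) [SheafOfModules.IsFiniteType.{u} (R := ModSite.ringSh O) F] (x : T)
    (hx : Function.Surjective (ModSite.stalkMap (pt x) φ).hom) :
    ∃ U : Opens T, x ∈ U ∧ Epi ((ModSite.restr O U).map φ) := by
  obtain ⟨U, hxU, n, s, hs⟩ := exists_gens (F := F) x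
  choose m hm using fun i => hx (gm F hxU (s i))
  obtain ⟨V, hV, hxV, g, hg⟩ := exists_reps hxU m
  have e : ∀ i, gm F hxV (apm φ.val V (g i)) = gm F hxV (rm F hV (s i)) := fun i => by
    rw [← stalkMap_gm, hg, hm, gm_rm]
  obtain ⟨V', hV', hxV', e'⟩ := gm_eq_fin hxV e
  refine ⟨V', hxV', epi_restr_of_nhds φ V' fun W hW t y hy => ?_⟩
  obtain ⟨Z, hZ, hyZ, a, ha⟩ := hs W ((hW.trans hV').trans hV) t y hy
  refine ⟨Z, hZ, hyZ, ∑ i, a i • rm G ((hZ.trans hW).trans hV') (g i), ?_⟩
  rw [apm_comb, ha]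
  refine Finset.sum_congr rfl fun i _ => ?_
  have h1 := congrArg (rm F (hZ.trans hW)) (e' i)
  rw [rm_rm, rm_rm, rm_rm, rm_apm] at h1
  rw [h1]

/-- Extensions of modules of finite type are of finite type. -/
theorem isFiniteType_ext {S : ShortComplex (ModSite.Mod O)} (hS : S.ShortExact)
    [SheafOfModules.IsFiniteType.{u} (R := ModSite.ringSh O) S.X₁]
    [SheafOfModules.IsFiniteType.{u} (R := ModSite.ringSh O) S.X₃] :
    SheafOfModules.IsFiniteType.{u} (R := ModSite.ringSh O) S.X₂ := by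
  have := hS.epi_g
  refine isFiniteType_of_gens fun x => ?_
  obtain ⟨U₁, hx₁, n, s, hs⟩ := exists_gens (F := S.X₁) x
  obtain ⟨U₃, hx₃, m, t, ht⟩ := exists_gens (F := S.X₃) x
  obtain ⟨V, hV, hxV, v, hv⟩ := exists_lifts_of_epi S.g hx₃ t
  refine ⟨U₁ ⊓ V, ⟨hx₁, hxV⟩, Fin n ⊕ Fin m, inferInstance,
    Sum.elim (fun i => rm S.X₂ inf_le_left (apm S.f.val U₁ (s i))) (fun j => rm S.X₂ inf_le_right (v j)),
    fun W hW q y hy => ?_⟩
  have hW₁ : W ≤ U₁ := hW.trans inf_le_left
  have hWV : W ≤ V := hW.trans inf_le_right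
  obtain ⟨Z, hZ, hyZ, b, hb⟩ := ht W (hWV.trans hV) (apm S.g.val W q) y hy
  have h0 : apm S.g.val Z (rm S.X₂ hZ q - ∑ j, b j • rm S.X₂ (hZ.trans hWV) (v j)) = 0 := by
    rw [map_sub, ← rm_apm, hb, apm_comb, sub_eq_zero]
    exact Finset.sum_congr rfl fun j _ => by rw [← rm_apm, hv, rm_rm]
  obtain ⟨z, hz⟩ := exists_preimage hS _ h0
  obtain ⟨Z', hZ', hyZ', a, ha⟩ := hs Z (hZ.trans hW₁) z y hyZ
  refine ⟨Z', hZ'.trans hZ, hyZ', Sum.elim a (fun j => rr hZ' (b j)), ?_⟩
  have e := congrArg (rm S.X₂ hZ') hz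
  rw [rm_apm, ha, map_sub, rm_rm, rm_comb, apm_comb, eq_sub_iff_add_eq] at e
  rw [Fintype.sum_sum_type, ← e]
  refine congrArg₂ (· + ·) (Finset.sum_congr rfl fun i _ => ?_) (Finset.sum_congr rfl fun j _ => ?_)
  · simp only [Sum.elim_inl, rm_rm, rm_apm]
  · simp only [Sum.elim_inr, rm_rm]

/-- The kernel of a surjection from a module of finite type to one of finite presentation is of finite type. -/
theorem isFiniteType_kernel (θ : G ⟶ F) [Epi θ] [SheafOfModules.IsFiniteType.{u} (R := ModSite.ringSh O) G]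
    [SheafOfModules.IsFinitePresentation.{u} (R := ModSite.ringSh O) F] :
    SheafOfModules.IsFiniteType.{u} (R := ModSite.ringSh O) (kernel θ) := by
  refine isFiniteType_of_gens fun x => ?_
  obtain ⟨U, hxU, n, m, s, r, P⟩ := exists_pres (F := F) x
  obtain ⟨UG, hxG, p, g, hg⟩ := exists_gens (F := G) x
  obtain ⟨V₁, hV₁, hxV₁, u, hu⟩ := exists_lifts_of_epi θ hxU s
  obtain ⟨V₂, hV₂, hxV₂, a, ha⟩ := exists_coeffs P.gens (inf_le_left : U ⊓ UG ≤ U)
    (fun k => rm F inf_le_right (apm θ.val UG (g k))) (show x ∈ U ⊓ UG from ⟨hxU, hxG⟩)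
  let V := V₁ ⊓ V₂
  have hVU : V ≤ U := inf_le_left.trans hV₁
  have hVG : V ≤ UG := inf_le_right.trans (hV₂.trans inf_le_right)
  have h₁ : V ≤ V₁ := inf_le_left
  have h₂ : V ≤ V₂ := inf_le_right
  have hA : ∀ k, apm θ.val V (rm G hVG (g k) - ∑ i, rr h₂ (a k i) • rm G h₁ (u i)) = 0 := by
    intro k
    have e := congrArg (rm F h₂) (ha k)
    rw [rm_rm, rm_rm, rm_comb] at e
    simp only [rm_rm] at e
    rw [map_sub, ← rm_apm, apm_comb, sub_eq_zero, e]
    exact Finset.sum_congr rfl fun i _ => by rw [← rm_apm, hu, rm_rm]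
  have hB : ∀ j, apm θ.val V (∑ i, rr hVU (r j i) • rm G h₁ (u i)) = 0 := by
    intro j
    have e := congrArg (rm F hVU) (P.zero j)
    rw [rm_comb, map_zero] at e
    rw [apm_comb]
    refine Eq.trans ?_ e
    exact Finset.sum_congr rfl fun i _ => by rw [← rm_apm, hu, rm_rm]
  choose zA hzA using fun k => exists_kernel_preimage θ _ (hA k)
  choose zB hzB using fun j => exists_kernel_preimage θ _ (hB j)
  refine ⟨V, ⟨hxV₁, hxV₂⟩, Fin p ⊕ Fin m, inferInstance, Sum.elim zA zB, fun W hW t y hy => ?_⟩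
  obtain ⟨Z, hZ, hyZ, c, hc⟩ := hg W (hW.trans hVG) (apm (kernel.ι θ).val W t) y hy
  have hZV : Z ≤ V := hZ.trans hW
  let d : Fin n → rsec O Z := fun i => ∑ k, c k * rr (hZV.trans h₂) (a k i)
  have hzero : apm θ.val Z (apm (kernel.ι θ).val Z (rm (kernel θ) hZ t)) = 0 :=
    congrArg (fun k => apm (SheafOfModules.Hom.val k) Z (rm (kernel θ) hZ t)) (kernel.condition θ)
  have hdec : apm (kernel.ι θ).val Z (rm (kernel θ) hZ t) =
      (∑ k, c k • rm G hZV (rm G hVG (g k) - ∑ i, rr h₂ (a k i) • rm G h₁ (u i))) +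
        ∑ i, d i • rm G (hZV.trans h₁) (u i) := by
    rw [← rm_apm, hc]
    simp only [map_sub, rm_rm, rm_comb, smul_sub, Finset.smul_sum, Finset.sum_sub_distrib, rr_rr, d,
      Finset.sum_smul, mul_smul]
    rw [Finset.sum_comm (f := fun i k => c k • rr (hZV.trans h₂) (a k i) • rm G (hZV.trans h₁) (u i))]
    abel
  have hd : ∑ i, d i • rm F (hZV.trans hVU) (s i) = 0 := by
    rw [hdec, map_add, apm_comb, apm_comb] at hzero
    simp only [← rm_apm, hA, map_zero, smul_zero, Finset.sum_const_zero, zero_add] at hzero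
    refine Eq.trans ?_ hzero
    exact Finset.sum_congr rfl fun i _ => by rw [hu, rm_rm]
  obtain ⟨Z', hZ', hyZ', e, he⟩ := P.rel Z (hZV.trans hVU) d hd y hyZ
  refine ⟨Z', hZ'.trans hZ, hyZ', Sum.elim (fun k => rr hZ' (c k)) e, ?_⟩
  refine injective_of_mono (kernel.ι θ) Z' ?_
  rw [Fintype.sum_sum_type, map_add, apm_comb, apm_comb]
  simp only [Sum.elim_inl, Sum.elim_inr, ← rm_apm, hzA, hzB]
  have h1 := congrArg (rm G hZ') hdec
  rw [map_add, rm_comb, rm_comb] at h1
  simp only [rm_rm] at h1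
  rw [← rm_rm _ hZ hZ', rm_apm _ hZ, h1]
  refine congrArg₂ (· + ·) (Finset.sum_congr rfl fun k _ => ?_) ?_
  · rfl
  · simp only [he, Finset.sum_smul, mul_smul, rm_comb, rm_rm, rr_rr, Finset.smul_sum]
    rw [Finset.sum_comm]

/-- The cokernel of a map from a module of finite type to one of finite presentation is of finite presentation. -/
theorem isFinitePresentation_cokernel (φ : G ⟶ F) [SheafOfModules.IsFiniteType.{u} (R := ModSite.ringSh O) G]
    [SheafOfModules.IsFinitePresentation.{u} (R := ModSite.ringSh O) F] :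
    SheafOfModules.IsFinitePresentation.{u} (R := ModSite.ringSh O) (cokernel φ) := by
  refine isFinitePresentation_of_pres fun x => ?_
  obtain ⟨U, hxU, n, m, s, r, P⟩ := exists_pres (F := F) x
  obtain ⟨UG, hxG, p, g, hg⟩ := exists_gens (F := G) x
  obtain ⟨V, hV, hxV, a, ha⟩ := exists_coeffs P.gens (inf_le_left : U ⊓ UG ≤ U)
    (fun k => rm F inf_le_right (apm φ.val UG (g k))) (show x ∈ U ⊓ UG from ⟨hxU, hxG⟩)
  have hVU : V ≤ U := hV.trans inf_le_left
  have hVG : V ≤ UG := hV.trans inf_le_right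
  let π := cokernel.π φ
  let S : ShortComplex (ModSite.Mod O) := ShortComplex.mk φ π (cokernel.condition φ)
  have hS : S.Exact := ShortComplex.exact_of_g_is_cokernel _ (cokernelIsCokernel φ)
  have hφ0 : ∀ {W : Opens T} (w : sc G.val W), apm π.val W (apm φ.val W w) = 0 := fun w =>
    congrArg (fun k => apm (SheafOfModules.Hom.val k) _ w) (cokernel.condition φ)
  have ha' : ∀ k, apm φ.val V (rm G hVG (g k)) = ∑ i, a k i • rm F hVU (s i) := fun k => by
    have e := ha k
    rw [rm_rm] at e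
    rw [← rm_apm]
    exact e
  refine ⟨V, hxV, Fin n, Fin m ⊕ Fin p, inferInstance, inferInstance, fun i => apm π.val V (rm F hVU (s i)),
    Sum.elim (fun j i => rr hVU (r j i)) a, ⟨fun W hW t y hy => ?_, fun j => ?_, fun W hW b hb y hy => ?_⟩⟩
  · obtain ⟨Z, hZ, hyZ, f, hf⟩ := nhds_of_epi π t hy
    obtain ⟨Z', hZ', hyZ', b, hb⟩ := P.gens Z ((hZ.trans hW).trans hVU) f y hyZ
    refine ⟨Z', hZ'.trans hZ, hyZ', b, ?_⟩
    rw [← rm_rm _ hZ hZ', ← hf, rm_apm, hb, apm_comb]
    exact Finset.sum_congr rfl fun i _ => by rw [rm_apm, rm_rm]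
  · rw [← apm_comb]
    cases j with
    | inl j =>
      have e := congrArg (rm F hVU) (P.zero j)
      rw [rm_comb, map_zero] at e
      simp only [Sum.elim_inl, e, map_zero]
    | inr k => simp only [Sum.elim_inr, ← ha', hφ0]
  · simp only [rm_apm, rm_rm] at hb
    rw [← apm_comb] at hb
    obtain ⟨Z, hZ, hyZ, w, hw⟩ := exists_local_preimage hS _ hb hy
    obtain ⟨Z', hZ', hyZ', c, hc⟩ := hg Z ((hZ.trans hW).trans hVG) w y hyZ
    have hZ'V : Z' ≤ V := (hZ'.trans hZ).trans hW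
    let d : Fin n → rsec O Z' := fun i => rr (hZ'.trans hZ) (b i) - ∑ k, c k * rr hZ'V (a k i)
    have hd : ∑ i, d i • rm F (hZ'V.trans hVU) (s i) = 0 := by
      have e := congrArg (rm F hZ') hw
      dsimp only [S] at e
      rw [rm_apm, hc, apm_comb, rm_rm, rm_comb] at e
      have e2 : ∀ k, apm φ.val Z' (rm G (hZ'.trans ((hZ.trans hW).trans hVG)) (g k)) =
          ∑ i, rr hZ'V (a k i) • rm F (hZ'V.trans hVU) (s i) := fun k => by
        rw [← rm_rm G hVG hZ'V, ← rm_apm, ha', rm_comb]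
        simp only [rm_rm]
      simp only [e2, rm_rm, Finset.smul_sum] at e
      simp only [d, sub_smul, Finset.sum_sub_distrib, Finset.sum_smul, mul_smul]
      rw [Finset.sum_comm (f := fun i k => c k • rr hZ'V (a k i) • rm F (hZ'V.trans hVU) (s i)), e, sub_self]
    obtain ⟨Z'', hZ'', hyZ'', e, he⟩ := P.rel Z' (hZ'V.trans hVU) d hd y hyZ'
    refine ⟨Z'', hZ''.trans (hZ'.trans hZ), hyZ'', Sum.elim e (fun k => rr hZ'' (c k)), fun i => ?_⟩
    rw [Fintype.sum_sum_type]
    simp only [Sum.elim_inl, Sum.elim_inr, rr_rr]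
    have e1 := he i
    simp only [d, map_sub, map_sum, map_mul, rr_rr] at e1
    exact eq_add_of_sub_eq e1

end Groth.SitesTopoi.SpaceFP
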