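import Groth.Agent.SitesTopoi.Mod.SpaceFT
import Groth.Agent.SitesTopoi.Mod.FiltColim
import Mathlib.Topology.Compactness.Compact

/-!
Modules of finite type as directed colimits on quasi-compact spaces.
-/

set_option autoImplicit false

universe u

open CategoryTheory CategoryTheory.Limits Opposite TopologicalSpace

set_option backward.defeqAttrib.useBackward true
set_option backward.isDefEq.respectTransparency false
set_option backward.isDefEq.respectTransparency.types false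
set_option synthInstance.maxHeartbeats 400000

namespace Groth.SitesTopoi.SpaceColim

open Groth.SitesTopoi.ModH Groth.AdicLinTop.SpacePres Groth.SitesTopoi.SpaceGerm Groth.SitesTopoi.SpaceFT

variable {T : Type u} [TopologicalSpace T] {O : Sheaf (Opens.grothendieckTopology T) CommRingCat.{u}}
  {I : Type u} [Preorder I] [Nonempty I] [IsDirected I (· ≤ ·)]
  (D : I ⥤ ModSite.Mod O) (c : Cocone D) (hc : IsColimit c)

include hc

theorem exists_epi [CompactSpace T] [SheafOfModules.IsFiniteType.{u} (R := ModSite.ringSh O) c.pt] :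
    ∃ i : I, Epi (c.ι.app i) := by
  have hloc : ∀ x : T, ∃ (V : Opens T) (l : I), x ∈ V ∧ ∀ (W : Opens T) (q : sc c.pt.val W), W ≤ V → ∀ y ∈ W,
      ∃ (Z : Opens T) (hZ : Z ≤ W), y ∈ Z ∧ ∃ p, apm (c.ι.app l).val Z p = rm c.pt hZ q := by
    intro x
    obtain ⟨U, hxU, n, s, hs⟩ := exists_gens (F := c.pt) x
    obtain ⟨S, hS, hS'⟩ := Groth.SitesTopoi.FiltColim.exists_local_stage_fin c hc U s
    obtain ⟨V, hV, hxV, hSV⟩ := exists_nhd_of_mem hS hxU
    obtain ⟨l, t, ht⟩ := hS' _ hSV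
    refine ⟨V, l, hxV, fun W q hW y hy => ?_⟩
    obtain ⟨Z, hZ, hyZ, a, ha⟩ := hs W (hW.trans hV) q y hy
    refine ⟨Z, hZ, hyZ, ∑ i, a i • rm (D.obj l) (hZ.trans hW) (t i), ?_⟩
    rw [apm_comb, ha]
    refine Finset.sum_congr rfl fun i _ => ?_
    exact congrArg (a i • ·) ((rm_apm (c.ι.app l) (hZ.trans hW) (t i)).symm.trans
      ((congrArg (rm c.pt (hZ.trans hW)) (ht i)).trans (rm_rm _ _ _ _)))
  choose V l hxV h using hloc
  obtain ⟨s, hs⟩ := isCompact_univ.elim_finite_subcover (fun x => (V x : Set T)) (fun x => (V x).2)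
    (fun x _ => Set.mem_iUnion.2 ⟨x, hxV x⟩)
  classical
  obtain ⟨i, hi⟩ := (s.image l).exists_le
  refine ⟨i, epi_of_nhds _ fun W q y hy => ?_⟩
  obtain ⟨x, hx, hyx⟩ : ∃ x ∈ s, y ∈ V x := by simpa using hs (Set.mem_univ y)
  obtain ⟨Z, hZ, hyZ, p, hp⟩ := h x (W ⊓ V x) (rm c.pt inf_le_left q) inf_le_right y ⟨hy, hyx⟩
  let α : l x ⟶ i := homOfLE (hi _ (Finset.mem_image_of_mem l hx))
  refine ⟨Z, hZ.trans inf_le_left, hyZ, apm (D.map α).val Z p, ?_⟩
  refine (congrArg (fun φ => apm (SheafOfModules.Hom.val φ) Z p) (c.w α)).trans ?_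
  exact hp.trans (rm_rm _ _ _ _)

theorem mono_app (hD : ∀ (i j : I) (f : i ⟶ j), Mono (D.map f)) (i : I) : Mono (c.ι.app i) := by
  refine mono_of_injective _ fun W => (injective_iff_map_eq_zero _).2 fun t ht => ext_local fun y hy => ?_
  obtain ⟨S, hS, hS'⟩ := Groth.SitesTopoi.FiltColim.exists_local_zero c hc W t ht
  obtain ⟨Z, hZ, hyZ, hSZ⟩ := exists_nhd_of_mem hS hy
  obtain ⟨j, α, hα⟩ := hS' _ hSZ
  have := hD i j α
  refine ⟨Z, hZ, hyZ, injective_of_mono (D.map α) Z ?_⟩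
  refine hα.trans ?_
  rw [map_zero, map_zero]

theorem exists_isIso [CompactSpace T] [SheafOfModules.IsFiniteType.{u} (R := ModSite.ringSh O) c.pt]
    (hD : ∀ (i j : I) (f : i ⟶ j), Mono (D.map f)) : ∃ i : I, IsIso (c.ι.app i) := by
  obtain ⟨i, hi⟩ := exists_epi D c hc
  have := mono_app D c hc hD i
  exact ⟨i, isIso_of_mono_of_epi _⟩

end Groth.SitesTopoi.SpaceColim
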