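import Groth.Agent.SitesTopoi.Mod.Relations
import Groth.Prelude.Def_ModSite2
import Mathlib.RingTheory.Flat.EquationalCriterion
import Mathlib.CategoryTheory.Sites.Point.Conservative

/-!
Stalks of flat sheaves of modules.
-/

universe u

open CategoryTheory CategoryTheory.Limits Opposite

namespace Groth.SitesTopoi.ModH

variable {C : Type u} [SmallCategory C] {J : GrothendieckTopology C} {O : Sheaf J CommRingCat.{u}}
  (p : GrothendieckTopology.Point.{u} J)

/-- The germ map of the structure sheaf as a ring map. -/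
noncomputable def gR (X : C) (x : p.fiber.obj X) : rsec O X →+* ModSite.stalkRing p O :=
  (p.toPresheafFiber X x O.obj).hom

/-- The germ map of a sheaf of modules as an additive map. -/
noncomputable def gM (F : ModSite.Mod O) (X : C) (x : p.fiber.obj X) : sc F.val X →+ ModSite.stalkAb p F :=
  (p.toPresheafFiber X x (ModSite.toAb F).obj).hom

lemma gM_smul (F : ModSite.Mod O) (X : C) (x : p.fiber.obj X) (r : rsec O X) (s : sc F.val X) :
    gM p F X x (r • s) = gR p X x r • gM p F X x s :=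
  ModSite.germ_smul p F X x r s

lemma gR_res {X Y : C} (g : Y ⟶ X) (y : p.fiber.obj Y) (r : rsec O X) :
    gR p Y y (rsR g r) = gR p X (p.fiber.map g y) r :=
  p.toPresheafFiber_w_apply g y O.obj r

lemma gM_res (F : ModSite.Mod O) {X Y : C} (g : Y ⟶ X) (y : p.fiber.obj Y) (s : sc F.val X) :
    gM p F Y y (rsm F.val g s) = gM p F X (p.fiber.map g y) s :=
  p.toPresheafFiber_w_apply g y (ModSite.toAb F).obj s

lemma gM_surj (F : ModSite.Mod O) (m : ModSite.stalkAb p F) :
    ∃ (X : C) (x : p.fiber.obj X) (s : sc F.val X), gM p F X x s = m :=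
  p.toPresheafFiber_jointly_surjective (P := (ModSite.toAb F).obj) m

lemma gR_surj (c : ModSite.stalkRing p O) : ∃ (X : C) (x : p.fiber.obj X) (r : rsec O X), gR p X x r = c :=
  p.toPresheafFiber_jointly_surjective (P := O.obj) c

lemma exists_min {X Y : C} (x : p.fiber.obj X) (y : p.fiber.obj Y) :
    ∃ (W : C) (w : p.fiber.obj W) (a : W ⟶ X) (b : W ⟶ Y), p.fiber.map a w = x ∧ p.fiber.map b w = y :=
  let e₁ := Functor.elementsMk p.fiber X x
  let e₂ := Functor.elementsMk p.fiber Y y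
  ⟨(IsCofiltered.min e₁ e₂).1, (IsCofiltered.min e₁ e₂).2, (IsCofiltered.minToLeft e₁ e₂).1,
    (IsCofiltered.minToRight e₁ e₂).1, (IsCofiltered.minToLeft e₁ e₂).2, (IsCofiltered.minToRight e₁ e₂).2⟩

lemma exists_common (F : ModSite.Mod O) : ∀ (n : ℕ) (c : Fin n → ModSite.stalkRing p O)
    (m : Fin n → ModSite.stalkAb p F) (X₀ : C) (x₀ : p.fiber.obj X₀),
    ∃ (X : C) (x : p.fiber.obj X) (g : X ⟶ X₀) (r : Fin n → rsec O X) (s : Fin n → sc F.val X),
      p.fiber.map g x = x₀ ∧ (∀ i, gR p X x (r i) = c i) ∧ ∀ i, gM p F X x (s i) = m i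
  | 0, _, _, X₀, x₀ => ⟨X₀, x₀, 𝟙 _, Fin.elim0, Fin.elim0, by simp, fun i => i.elim0, fun i => i.elim0⟩
  | n + 1, c, m, X₀, x₀ => by
    obtain ⟨A, a, r₀, hr₀⟩ := gR_surj p (c 0)
    obtain ⟨B, b, s₀, hs₀⟩ := gM_surj p F (m 0)
    obtain ⟨W, w, wa, wb, ha, hb⟩ := exists_min p a b
    obtain ⟨W', w', v, v₀, hv, hv₀⟩ := exists_min p w x₀
    obtain ⟨X, x, g, r, s, hg, hr, hs⟩ := exists_common F n (fun i => c i.succ) (fun i => m i.succ) W' w'
    refine ⟨X, x, g ≫ v₀, Fin.cons (rsR g (rsR v (rsR wa r₀))) r, Fin.cons (rsm F.val g (rsm F.val v (rsm F.val wb s₀))) s,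
      by rw [Functor.map_comp, types_comp_apply, hg, hv₀], fun i => ?_, fun i => ?_⟩
    · induction i using Fin.cases with
      | zero => simp [gR_res, hg, hv, ha, hr₀]
      | succ i => simpa using hr i
    · induction i using Fin.cases with
      | zero => simp [gM_res, hg, hv, hb, hs₀]
      | succ i => simpa using hs i

lemma exists_point_nhd : ∃ (X : C) (_ : p.fiber.obj X), True :=
  let e : p.fiber.Elements := (IsCofiltered.nonempty (C := p.fiber.Elements)).some
  ⟨e.1, e.2, trivial⟩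

lemma flat_stalk {F : ModSite.Mod O} (h : RelTriv F) : Module.Flat (ModSite.stalkRing p O) (ModSite.stalkMod p F) := by
  refine Module.Flat.of_forall_isTrivialRelation fun {l} {f} {x} hx => ?_
  obtain ⟨X₀, x₀, -⟩ := exists_point_nhd p
  obtain ⟨X, x', -, r, s, -, hr, hs⟩ := exists_common p F l f x X₀ x₀
  have h₀ : gM p F X x' (∑ i, r i • s i) = gM p F X x' 0 := by
    simp only [map_sum, map_zero, gM_smul, hr, hs]
    exact hx
  obtain ⟨Y, g, y, hy, hy'⟩ := (p.toPresheafFiber_eq_iff' (P := (ModSite.toAb F).obj) X x' _ _).1 h₀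
  have h₁ : ∑ i, rsR g (r i) • rsm F.val g (s i) = 0 := by
    simpa only [map_sum, rsm_smul, map_zero] using (show rsm F.val g (∑ i, r i • s i) = rsm F.val g 0 from hy')
  obtain ⟨S, hS, hS'⟩ := h Y l _ _ h₁
  obtain ⟨Z, k, hk, z, hz⟩ := p.jointly_surjective S hS y
  obtain ⟨m, t, a, ha, ha'⟩ := hS' k hk
  refine ⟨m, fun i j => gR p Z z (a i j), fun j => gM p F Z z (t j), fun i => ?_, fun j => ?_⟩
  · have e := congrArg (gM p F Z z) (ha i)
    simp only [gM_res, map_sum, gM_smul, hz, hy, hs] at e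
    exact e
  · have e := congrArg (gR p Z z) (ha' j)
    simp only [map_sum, map_mul, map_zero, gR_res, hz, hy, hr] at e
    exact (Finset.sum_congr rfl fun i _ => mul_comm _ _).trans e

lemma relTriv_of_flat_stalks (P : ObjectProperty (GrothendieckTopology.Point.{u} J))
    (hP : P.IsConservativeFamilyOfPoints) (F : ModSite.Mod O)
    (h : ∀ q : GrothendieckTopology.Point.{u} J, P q → Module.Flat (ModSite.stalkRing q O) (ModSite.stalkMod q F)) :
    RelTriv F := by
  intro U n f s hrel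
  let Good : ∀ ⦃V : C⦄, (V ⟶ U) → Prop := fun V g =>
    ∃ (l : ℕ) (t : Fin l → sc F.val V) (a : Fin n → Fin l → rsec O V),
      (∀ j, rsm F.val g (s j) = ∑ k, a j k • t k) ∧ ∀ k, ∑ j, a j k * rsR g (f j) = 0
  let ι := Σ' (V : C) (g : V ⟶ U), Good g
  let S : Sieve U :=
    { arrows := fun V g => Good g
      downward_closed := by
        rintro V W g ⟨l, t, a, ha, ha'⟩ k
        refine ⟨l, fun i => rsm F.val k (t i), fun j i => rsR k (a j i), fun j => ?_, fun i => ?_⟩
        · rw [← rsm_rsm, ha, map_sum]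
          simp only [rsm_smul]
        · have e := congrArg (rsR k) (ha' i)
          simp only [map_sum, map_mul, rsR_rsR, map_zero] at e
          exact e }
  refine ⟨S, J.superset_covering (S := Sieve.ofArrows (fun i : ι => i.1) (fun i => i.2.1)) ?_ ?_, fun V g hg => hg⟩
  · rw [Sieve.generate_le_iff, Presieve.ofArrows_le_iff]
    exact fun i => i.2.2
  rw [hP.jointly_reflect_ofArrows_mem]
  intro Φ u
  have hflat := h Φ.obj Φ.property
  have h₀ : ∑ j, gR Φ.obj U u (f j) • gM Φ.obj F U u (s j) = 0 := by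
    simpa only [map_sum, gM_smul, map_zero] using congrArg (gM Φ.obj F U u) hrel
  obtain ⟨l, a, t, ha, ha'⟩ := Module.Flat.iff_forall_isTrivialRelation.1 hflat h₀
  obtain ⟨X, x, g, A, T, hg, hA, hT⟩ := exists_common Φ.obj F (n * l + l)
    (Fin.append (fun i => a (finProdFinEquiv.symm i).1 (finProdFinEquiv.symm i).2) (fun _ => 0))
    (Fin.append (fun _ => 0) t) U u
  let a₀ : Fin n → Fin l → rsec O X := fun j k => A (Fin.castAdd l (finProdFinEquiv (j, k)))
  let t₀ : Fin l → sc F.val X := fun k => T (Fin.natAdd (n * l) k)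
  have hA₀ : ∀ j k, gR Φ.obj X x (a₀ j k) = a j k := fun j k => by simp only [a₀, hA, Fin.append_left, Equiv.symm_apply_apply]
  have hT₀ : ∀ k, gM Φ.obj F X x (t₀ k) = t k := fun k => by simp [t₀, hT]
  have e₁ : ∀ j, gM Φ.obj F X x (rsm F.val g (s j)) = gM Φ.obj F X x (∑ k, a₀ j k • t₀ k) := fun j => by
    simp only [gM_res, hg, map_sum, gM_smul, hA₀, hT₀]
    exact ha j
  have e₂ : ∀ k, gR Φ.obj X x (∑ j, a₀ j k * rsR g (f j)) = gR Φ.obj X x 0 := fun k => by
    simp only [map_sum, map_mul, gR_res, hg, hA₀, map_zero]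
    exact (Finset.sum_congr rfl fun i _ => mul_comm _ _).trans (ha' k)
  have hj : ∀ (L : List (Fin n)), ∃ (Y : C) (m : Y ⟶ X) (y : Φ.obj.fiber.obj Y), Φ.obj.fiber.map m y = x ∧
      ∀ j ∈ L, rsm F.val (m ≫ g) (s j) = ∑ k, rsR m (a₀ j k) • rsm F.val m (t₀ k) := by
    intro L
    induction L with
    | nil => exact ⟨X, 𝟙 X, x, by simp, fun _ h => (List.not_mem_nil h).elim⟩
    | cons j L ih =>
      obtain ⟨Y, m, y, hy, hL⟩ := ih
      obtain ⟨Y', m', y', hy', e⟩ := (Φ.obj.toPresheafFiber_eq_iff' (P := (ModSite.toAb F).obj) X x _ _).1 (e₁ j)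
      obtain ⟨W, w, wa, wb, hwa, hwb⟩ := exists_min Φ.obj y y'
      obtain ⟨E, η, heq, hη⟩ : ∃ (E : Φ.obj.fiber.Elements) (η : E ⟶ Functor.elementsMk Φ.obj.fiber W w),
          η.1 ≫ wa ≫ m = η.1 ≫ wb ≫ m' ∧ Φ.obj.fiber.map η.1 E.2 = w := by
        let e₁ : Functor.elementsMk Φ.obj.fiber W w ⟶ Functor.elementsMk Φ.obj.fiber X x :=
          CategoryOfElements.homMk _ _ (wa ≫ m) (by simp [hwa, hy])
        let e₂ : Functor.elementsMk Φ.obj.fiber W w ⟶ Functor.elementsMk Φ.obj.fiber X x :=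
          CategoryOfElements.homMk _ _ (wb ≫ m') (by simp [hwb, hy'])
        exact ⟨IsCofiltered.eq e₁ e₂, IsCofiltered.eqHom e₁ e₂,
          congrArg Subtype.val (IsCofiltered.eq_condition e₁ e₂), (IsCofiltered.eqHom e₁ e₂).2⟩
      refine ⟨E.1, η.1 ≫ wa ≫ m, E.2, by simp [hη, hwa, hy], fun i hi => ?_⟩
      rcases List.mem_cons.1 hi with rfl | hi
      · rw [heq]
        have := congrArg (rsm F.val (η.1 ≫ wb)) (show rsm F.val m' (rsm F.val g (s i)) =
          rsm F.val m' (∑ k, a₀ i k • t₀ k) from e)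
        simpa only [rsm_rsm, map_sum, rsm_smul, rsR_rsR, Category.assoc] using this
      · have := congrArg (rsm F.val (η.1 ≫ wa)) (hL i hi)
        simpa only [rsm_rsm, map_sum, rsm_smul, rsR_rsR, Category.assoc] using this
  obtain ⟨Y, m, y, hy, hY⟩ := hj (List.finRange n)
  have hk : ∀ (L : List (Fin l)), ∃ (Z : C) (q : Z ⟶ Y) (z : Φ.obj.fiber.obj Z), Φ.obj.fiber.map q z = y ∧
      ∀ k ∈ L, ∑ j, rsR (q ≫ m) (a₀ j k) * rsR ((q ≫ m) ≫ g) (f j) = 0 := by
    intro L
    induction L with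
    | nil => exact ⟨Y, 𝟙 Y, y, by simp, fun _ h => (List.not_mem_nil h).elim⟩
    | cons k L ih =>
      obtain ⟨Z, q, z, hz, hL⟩ := ih
      have e₃ : gR Φ.obj Z z (∑ j, rsR (q ≫ m) (a₀ j k) * rsR ((q ≫ m) ≫ g) (f j)) = gR Φ.obj Z z 0 := by
        have := e₂ k
        simp only [map_sum, map_mul, gR_res, Functor.map_comp, types_comp_apply, hz, hy, map_zero] at this ⊢
        exact this
      obtain ⟨Z', q', z', hz', e⟩ := (Φ.obj.toPresheafFiber_eq_iff' (P := O.obj) Z z _ _).1 e₃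
      refine ⟨Z', q' ≫ q, z', by simp [hz', hz], fun i hi => ?_⟩
      rcases List.mem_cons.1 hi with rfl | hi
      · have e' : rsR q' (∑ j, rsR (q ≫ m) (a₀ j i) * rsR ((q ≫ m) ≫ g) (f j)) = rsR q' 0 := e
        simpa only [map_sum, map_mul, rsR_rsR, map_zero, Category.assoc] using e'
      · simpa only [map_sum, map_mul, rsR_rsR, map_zero, Category.assoc] using congrArg (rsR q') (hL i hi)
  obtain ⟨Z, q, z, hz, hZ⟩ := hk (List.finRange l)
  refine ⟨⟨Z, (q ≫ m) ≫ g, l, fun k => rsm F.val (q ≫ m) (t₀ k), fun j k => rsR (q ≫ m) (a₀ j k), fun j => ?_,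
    fun k => hZ k (List.mem_finRange k)⟩, z, by simp [hz, hy, hg]⟩
  simpa only [rsm_rsm, map_sum, rsm_smul, rsR_rsR, Category.assoc] using congrArg (rsm F.val q) (hY j (List.mem_finRange j))

lemma isFlat_iff_flat_stalks (P : ObjectProperty (GrothendieckTopology.Point.{u} J))
    (hP : P.IsConservativeFamilyOfPoints) (F : ModSite.Mod O) :
    ModSite.IsFlat F ↔ ∀ q, P q → Module.Flat (ModSite.stalkRing q O) (ModSite.stalkMod q F) :=
  ⟨fun h q _ => flat_stalk q (relTriv_of_isFlat h), fun h => (relTriv_of_flat_stalks P hP F h).isFlat⟩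

end Groth.SitesTopoi.ModH
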