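import Groth.Agent.SitesTopoi.Mod.SpaceLF
import Mathlib.LinearAlgebra.Dimension.Free
import Mathlib.RingTheory.LocalRing.RingHom.Basic
import Mathlib.SetTheory.Cardinal.Finite
import Mathlib.Topology.LocallyConstant.Basic
import Mathlib.Algebra.Category.ModuleCat.Sheaf.LocallyFree

/-!
Ranks of locally free modules on topological spaces, and direct summands of finite locally free modules.
-/

set_option autoImplicit false

universe u

open CategoryTheory CategoryTheory.Limits Opposite TopologicalSpace

set_option backward.defeqAttrib.useBackward true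
set_option backward.isDefEq.respectTransparency false
set_option backward.isDefEq.respectTransparency.types false
set_option synthInstance.maxHeartbeats 400000

namespace Groth.SitesTopoi.SpaceRank

open Groth.SitesTopoi.ModH Groth.AdicLinTop.SpacePres Groth.SitesTopoi.SpaceGerm Groth.SitesTopoi.SpaceFT
  Groth.SitesTopoi.SpaceFP Groth.SitesTopoi.SpaceLF

variable {T : Type u} [TopologicalSpace T] {O : Sheaf (Opens.grothendieckTopology T) CommRingCat.{u}}
  {F H : ModSite.Mod O}

/-- A direct summand of a finite locally free module is free near a point with local stalk ring. -/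
theorem exists_basis_retract (hH : ∀ x : T, ∃ (U : Opens T) (_ : x ∈ U) (n : ℕ) (s : Fin n → sc H.val U), Basis s)
    (i : F ⟶ H) (p : H ⟶ F) (hip : i ≫ p = 𝟙 F) (x : T)
    (hO : IsLocalRing (TopCat.Presheaf.stalk (C := CommRingCat.{u}) (X := TopCat.of T) O.obj x)) :
    ∃ (U : Opens T) (_ : x ∈ U) (r : ℕ) (u : Fin r → sc F.val U), Basis u := by
  classical
  have := isFinitePresentation_of_retract hH i p hip
  obtain ⟨U, hxU, n, h, B⟩ := hH x
  let R := ModSite.stalkRing (pt x) O
  have : IsLocalRing R := (topStalkEquiv (O := O) (x := x)).symm.isLocalRing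
  let ix := (ModSite.stalkMap (pt x) i).hom
  let px := (ModSite.stalkMap (pt x) p).hom
  have hpx : ∀ m, px (ix m) = m := fun m => by
    obtain ⟨V, hV, s, rfl⟩ := gm_surj m
    refine (congrArg px (stalkMap_gm i hV s)).trans ((stalkMap_gm p hV _).trans (congrArg (gm F hV) ?_))
    exact congrArg (fun k => apm (SheafOfModules.Hom.val k) V s) hip
  have : Module.Finite R (ModSite.stalkMod (pt x) H) := Module.Finite.equiv (B.stalkEquiv hxU)
  have : Module.Free R (ModSite.stalkMod (pt x) H) := Module.Free.of_equiv (B.stalkEquiv hxU)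
  have : Module.Finite R (ModSite.stalkMod (pt x) F) := Module.Finite.of_surjective px fun m => ⟨ix m, hpx m⟩
  have : Module.Projective R (ModSite.stalkMod (pt x) F) := Module.Projective.of_split ix px (LinearMap.ext hpx)
  have : Module.Free R (ModSite.stalkMod (pt x) F) := Module.free_of_flat_of_isLocalRing
  obtain ⟨V, hV, u, hu⟩ := exists_basis_of_stalk (F := F) x (Module.finBasis R (ModSite.stalkMod (pt x) F)).equivFun
  exact ⟨V, hV, _, u, hu⟩

lemma nontrivial_stalkRing {x : T} (hO : Nontrivial (TopCat.Presheaf.stalk (C := CommRingCat.{u}) (X := TopCat.of T) O.obj x)) :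
    Nontrivial (ModSite.stalkRing (pt x) O) :=
  (topStalkEquiv (O := O) (x := x)).toEquiv.nontrivial

/-- Two free models of a module near a point, one of which is finite, are both finite. -/
theorem finite_of_finite {U V : Opens T} {I J : Type u} [Finite I]
    (e : (ModSite.restr O U).obj F ≅ SheafOfModules.free I) (f : (ModSite.restr O V).obj F ≅ SheafOfModules.free J)
    {x : T} (hxU : x ∈ U) (hxV : x ∈ V) (hne : Nontrivial (ModSite.stalkRing (pt x) O)) : Finite J := by
  classical
  have : Fintype I := Fintype.ofFinite I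
  have hW : ∀ i : I, ∃ Z, Z ≤ U ⊓ V ∧ x ∈ Z ∧ ∀ (Z' : Opens T) (h : Z' ≤ U ⊓ V), Z' ≤ Z →
      ∃ (S : Finset J) (a : J → rsec O Z'), img e (h.trans inf_le_left) i = ∑ j ∈ S, a j • img f (h.trans inf_le_right) j := by
    intro i
    let y := apm f.hom.val (ov (inf_le_right : U ⊓ V ≤ V)) (img e (inf_le_left : U ⊓ V ≤ U) i)
    obtain ⟨S, hS, hS'⟩ := AdicLinTop.FreeSections.exists_finite_comb (O := O.over V) y
    obtain ⟨Z, hZ, hxZ, hSZ⟩ := exists_nhd_of_mem ((GrothendieckTopology.mem_over_iff _ _).1 hS) (show x ∈ U ⊓ V from ⟨hxU, hxV⟩)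
    let g : ov (hZ.trans inf_le_right) ⟶ ov (inf_le_right : U ⊓ V ≤ V) := Over.homMk (homOfLE hZ)
    obtain ⟨s, a, ha⟩ := hS' g ((Sieve.overEquiv_iff S (homOfLE hZ)).1 hSZ)
    refine ⟨Z, hZ, hxZ, fun Z' h hle => ⟨s, fun j => rr hle (show rsec O Z from a j), ?_⟩⟩
    have h1 : rm F hZ (img e (inf_le_left : U ⊓ V ≤ U) i) =
        ∑ j ∈ s, (show rsec O Z from a j) • img f (hZ.trans inf_le_right) j := by
      refine Eq.trans ?_ (apm_inv_comb f (hZ.trans inf_le_right) s _)
      refine Eq.trans ?_ (congrArg (apm f.inv.val (ov (hZ.trans inf_le_right))) ha)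
      rw [← apm_rsm (M := ((ModSite.restr O V).obj F).val) f.hom.val g]
      exact (hom_inv_apm f (ov (hZ.trans inf_le_right)) _).symm
    have h2 := congrArg (rm F hle) h1
    rw [rm_rm, rm_img, map_sum] at h2
    refine h2.trans (Finset.sum_congr rfl fun j _ => ?_)
    rw [rm_smul, rm_img]
  obtain ⟨Z, hZ, hxZ, hspan⟩ := exists_nhd_forall (show x ∈ U ⊓ V from ⟨hxU, hxV⟩)
    (fun (i : I) Z => ∀ (Z' : Opens T) (h : Z' ≤ U ⊓ V), Z' ≤ Z →
      ∃ (S : Finset J) (a : J → rsec O Z'), img e (h.trans inf_le_left) i = ∑ j ∈ S, a j • img f (h.trans inf_le_right) j)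
    (fun i V V' hle h Z' h1 h2 => h Z' h1 (h2.trans hle)) hW
  choose S a hSa using fun i => hspan i Z hZ le_rfl
  refine Finite.of_finite_univ (Set.Finite.subset (Finset.univ.biUnion S).finite_toSet fun j _ => ?_)
  by_contra hj
  obtain ⟨Y, hY, hxY, c, hc⟩ := (basis_of_iso e).gens Z (hZ.trans inf_le_left) (img f (hZ.trans inf_le_right) j) x hxZ
  simp only [rm_img] at hc
  let hYV : Y ≤ V := (hY.trans hZ).trans inf_le_right
  have h1 := congrArg (apm f.hom.val (ov hYV)) hc
  rw [show apm f.hom.val (ov hYV) (img f hYV j) = GlobalFree.gen (O.over V) (ov hYV) j from inv_hom_apm f _ _] at h1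
  have hi : ∀ i, img e ((hY.trans hZ).trans inf_le_left) i = ∑ k ∈ S i, rr hY (a i k) • img f hYV k := fun i => by
    have h2 := congrArg (rm F hY) (hSa i)
    rw [rm_img, map_sum] at h2
    refine h2.trans (Finset.sum_congr rfl fun k _ => ?_)
    rw [rm_smul, rm_img]
  simp only [hi, ← apm_inv_comb f hYV] at h1
  have h2 := congrArg (fun z => GlobalFree.coef (O.over V) (ov hYV) z j) h1
  simp only [GlobalFree.coef_gen, if_true] at h2
  have h3 : (1 : rsec O Y) = 0 := by
    refine h2.trans ?_
    rw [map_sum, map_sum, Finset.sum_apply]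
    refine Finset.sum_eq_zero fun i _ => ?_
    have hji : j ∉ S i := fun hh => hj (Finset.mem_biUnion.2 ⟨i, Finset.mem_univ i, hh⟩)
    have h4 := AdicLinTop.FreeSections.coef_finite_comb (O := O.over V) (U := ov hYV) (S i)
      (fun k => (show rsec (O.over V) (ov hYV) from rr hY (a i k))) j
    rw [if_neg hji] at h4
    have h5 := map_smul (apm f.hom.val (ov hYV)) (show rsec (O.over V) (ov hYV) from c i)
      (apm f.inv.val (ov hYV) (∑ k ∈ S i, (show rsec (O.over V) (ov hYV) from rr hY (a i k)) • GlobalFree.gen (O.over V) (ov hYV) k))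
    refine (congrArg (fun z => GlobalFree.coef (O.over V) (ov hYV) z j) h5).trans ?_
    rw [inv_hom_apm, map_smul, Pi.smul_apply, h4, smul_zero]
  have h6 := congrArg (gr hxY) h3
  rw [map_one, map_zero] at h6
  exact one_ne_zero h6

/-- Two free models of a module near a point have the same rank. -/
theorem card_eq {U V : Opens T} {I J : Type u}
    (e : (ModSite.restr O U).obj F ≅ SheafOfModules.free I) (f : (ModSite.restr O V).obj F ≅ SheafOfModules.free J)
    {x : T} (hxU : x ∈ U) (hxV : x ∈ V) (hne : Nontrivial (ModSite.stalkRing (pt x) O)) :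
    ENat.card I = ENat.card J := by
  rcases finite_or_infinite I with hI | hI
  · have hJ : Finite J := finite_of_finite e f hxU hxV hne
    have : Fintype I := Fintype.ofFinite I
    have : Fintype J := Fintype.ofFinite J
    rw [ENat.card_eq_coe_fintype_card, ENat.card_eq_coe_fintype_card]
    have B := basis_of_iso e
    have C := basis_of_iso f
    let R := ModSite.stalkRing (pt x) O
    let eI := Fintype.equivFin I
    let eJ := Fintype.equivFin J
    have B' : Basis (fun k => img e (le_refl U) (eI.symm k)) := by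
      refine ⟨fun W hW t y hy => ?_, fun W hW a ha => ?_⟩
      · obtain ⟨Z, hZ, hyZ, a, ha⟩ := B.gens W hW t y hy
        exact ⟨Z, hZ, hyZ, fun k => a (eI.symm k), ha.trans (Equiv.sum_comp eI.symm fun i => a i • rm F (hZ.trans hW) (img e (le_refl U) i)).symm⟩
      · have h0 := B.indep W hW (fun i => a (eI i))
          ((Equiv.sum_comp eI.symm fun i => a (eI i) • rm F hW (img e (le_refl U) i)).symm.trans (by simpa using ha))
        exact funext fun k => by simpa using congrFun h0 (eI.symm k)
    have C' : Basis (fun k => img f (le_refl V) (eJ.symm k)) := by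
      refine ⟨fun W hW t y hy => ?_, fun W hW a ha => ?_⟩
      · obtain ⟨Z, hZ, hyZ, a, ha⟩ := C.gens W hW t y hy
        exact ⟨Z, hZ, hyZ, fun k => a (eJ.symm k), ha.trans (Equiv.sum_comp eJ.symm fun i => a i • rm F (hZ.trans hW) (img f (le_refl V) i)).symm⟩
      · have h0 := C.indep W hW (fun i => a (eJ i))
          ((Equiv.sum_comp eJ.symm fun i => a (eJ i) • rm F hW (img f (le_refl V) i)).symm.trans (by simpa using ha))
        exact funext fun k => by simpa using congrFun h0 (eJ.symm k)
    have h := card_eq_of_linearEquiv R ((B'.stalkEquiv hxU).trans (C'.stalkEquiv hxV).symm)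
    simpa using congrArg (fun n : ℕ => (n : ℕ∞)) h
  · have hJ : Infinite J := by
      rcases finite_or_infinite J with hJ | hJ
      · have := finite_of_finite f e hxV hxU hne
        exact absurd this (not_finite_iff_infinite.2 hI)
      · exact hJ
    rw [ENat.card_eq_top_of_infinite, ENat.card_eq_top_of_infinite]

/-- The rank of a locally free module is locally constant. -/
theorem exists_rank (hO : ∀ x : T, Nontrivial (TopCat.Presheaf.stalk (C := CommRingCat.{u}) (X := TopCat.of T) O.obj x))
    [hF : SheafOfModules.IsLocallyFree.{u} (R := ModSite.ringSh O) F] :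
    ∃ rk : T → ℕ∞, IsLocallyConstant rk ∧
      ∀ (x : T) (U : Opens T) (I : Type u), x ∈ U →
        Nonempty ((ModSite.restr O U).obj F ≅ SheafOfModules.free I) → ENat.card I = rk x := by
  have hloc : ∀ x : T, ∃ (U : Opens T) (I : Type u), x ∈ U ∧ Nonempty ((ModSite.restr O U).obj F ≅ SheafOfModules.free I) := by
    intro x
    obtain ⟨q, hq⟩ := hF.exists_isLocallyFreeData
    obtain ⟨k, hk⟩ : ∃ k, x ∈ q.X k := by
      have := q.coversTop
      rw [Opens.coversTop_iff] at this
      exact Opens.mem_iSup.mp ((this ▸ trivial : x ∈ iSup q.X))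
    let γ : ((ModSite.restr O (q.X k)).obj F).GeneratingSections := q.generators k
    have h : IsIso γ.π := hq.isIso k
    obtain ⟨g, hg⟩ : ∃ g : (SheafOfModules.free γ.I : Groth.Misc4.FlatFactor.ModOver O (q.X k)) ⟶
        (ModSite.restr O (q.X k)).obj F, IsIso g := ⟨γ.π, h⟩
    exact ⟨q.X k, γ.I, hk, ⟨(asIso g).symm⟩⟩
  choose U I hxU hI using hloc
  refine ⟨fun x => ENat.card (I x), ?_, fun x V J hxV hJ => ?_⟩
  · rw [IsLocallyConstant.iff_exists_open]
    intro x
    refine ⟨U x, (U x).2, hxU x, fun y hy => ?_⟩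
    exact card_eq (hI y).some (hI x).some (hxU y) hy (nontrivial_stalkRing (hO y))
  · exact card_eq hJ.some (hI x).some hxV (hxU x) (nontrivial_stalkRing (hO x))

end Groth.SitesTopoi.SpaceRank
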