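import Groth.Agent.SitesTopoi.Mod.SpaceFT
import Groth.Prelude.Def_ModSite
import Mathlib.CategoryTheory.Sites.LocallySurjective
import Mathlib.Topology.Maps.Basic

/-!
Direct images of modules of finite type along closed embeddings.
-/

set_option autoImplicit false

universe u

open CategoryTheory CategoryTheory.Limits Opposite TopologicalSpace

set_option backward.defeqAttrib.useBackward true
set_option backward.isDefEq.respectTransparency false
set_option backward.isDefEq.respectTransparency.types false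
set_option synthInstance.maxHeartbeats 400000

namespace Groth.SitesTopoi.SpacePush

open Groth.SitesTopoi.ModH Groth.AdicLinTop.SpacePres Groth.SitesTopoi.SpaceGerm Groth.SitesTopoi.SpaceFT

variable {Z X : TopCat.{u}} (i : Z ⟶ X)
  {O_Z : TopCat.Sheaf CommRingCat.{u} Z} {O_X : TopCat.Sheaf CommRingCat.{u} X}
  (c : O_X ⟶ ((TopologicalSpace.Opens.map i).sheafPushforwardContinuous CommRingCat.{u}
    (Opens.grothendieckTopology X) (Opens.grothendieckTopology Z)).obj O_Z)
  (F : ModSite.Mod O_Z)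

/-- The direct image. -/
noncomputable abbrev pF : ModSite.Mod O_X := (ModSite.RMor.ofFlat (TopologicalSpace.Opens.map i) c).push.obj F

/-- The inverse image of an open. -/
abbrev pre (V : Opens X) : Opens Z := (TopologicalSpace.Opens.map i).obj V

lemma pre_mono {V W : Opens X} (h : W ≤ V) : pre i W ≤ pre i V := fun _ hz => h hz

/-- A section of the direct image as a section. -/
noncomputable def toZ {V : Opens X} : sc (pF i c F).val V →+ sc F.val (pre i V) where
  toFun s := s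
  map_zero' := rfl
  map_add' _ _ := rfl

/-- A section as a section of the direct image. -/
noncomputable def ofZ {V : Opens X} : sc F.val (pre i V) →+ sc (pF i c F).val V where
  toFun s := s
  map_zero' := rfl
  map_add' _ _ := rfl

/-- The ring map. -/
noncomputable def cR (V : Opens X) : rsec O_X V →+* rsec O_Z (pre i V) := (c.hom.app (op V)).hom

lemma toZ_smul {V : Opens X} (r : rsec O_X V) (s : sc (pF i c F).val V) :
    toZ i c F (r • s) = cR i c V r • toZ i c F s := rfl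

lemma toZ_rm {V W : Opens X} (h : W ≤ V) (s : sc (pF i c F).val V) :
    toZ i c F (rm (pF i c F) h s) = rm F (pre_mono i h) (toZ i c F s) := rfl

lemma toZ_injective {V : Opens X} : Function.Injective (toZ i c F (V := V)) := fun _ _ h => h

lemma toZ_comb {V : Opens X} {ι : Type*} [Fintype ι] (a : ι → rsec O_X V) (s : ι → sc (pF i c F).val V) :
    toZ i c F (∑ k, a k • s k) = ∑ k, cR i c V (a k) • toZ i c F (s k) :=
  (map_sum _ _ _).trans (Finset.sum_congr rfl fun k _ => toZ_smul i c F _ _)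

lemma cR_rr {V W : Opens X} (h : W ≤ V) (r : rsec O_X V) :
    cR i c W (rr h r) = rr (pre_mono i h) (cR i c V r) :=
  NatTrans.naturality_apply c.hom (homOfLE h).op r

lemma exists_pre (hi : Topology.IsInducing i) (U : Opens Z) : ∃ V : Opens X, pre i V ≤ U ∧ U ≤ pre i V := by
  obtain ⟨t, ht, e⟩ := hi.isOpen_iff.1 U.2
  exact ⟨⟨t, ht⟩, fun z hz => (e.le hz : z ∈ (U : Set Z)), fun z hz => (e.ge hz : z ∈ i ⁻¹' t)⟩

lemma exists_lift_coeff (hc : Sheaf.IsLocallySurjective c) {W : Opens X} (a : rsec O_Z (pre i W)) {y : X} (hy : y ∈ W) :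
    ∃ (Y : Opens X) (hY : Y ≤ W), y ∈ Y ∧ ∃ b : rsec O_X Y, cR i c Y b = rr (pre_mono i hY) a := by
  obtain ⟨Y, hY, hyY, b, hb⟩ := exists_nhd_of_mem (Presheaf.imageSieve_mem (Opens.grothendieckTopology X) c.hom a) hy
  exact ⟨Y, hY, hyY, b, hb⟩

lemma sc_eq_zero_of_empty {V : Opens Z} (h : ∀ z, z ∉ V) (s : sc F.val V) : s = 0 :=
  ext_local fun z hz => absurd hz (h z)

theorem isFiniteType_push (hi : Topology.IsClosedEmbedding i) (hc : Sheaf.IsLocallySurjective c)
    [SheafOfModules.IsFiniteType.{u} (R := ModSite.ringSh O_Z) F] :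
    SheafOfModules.IsFiniteType.{u} (R := ModSite.ringSh O_X) (pF i c F) := by
  let R : Opens X := ⟨(Set.range i)ᶜ, hi.isClosed_range.isOpen_compl⟩
  refine isFiniteType_of_gens fun x => ?_
  by_cases hx : x ∈ Set.range i
  swap
  · refine ⟨R, hx, PEmpty.{1}, inferInstance, fun j => j.elim, fun W hW t y hy => ⟨W, le_rfl, hy, fun j => j.elim, ?_⟩⟩
    refine (rm_self _ t).trans ((toZ_injective i c F ?_).trans Finset.sum_empty.symm)
    rw [map_zero]
    exact sc_eq_zero_of_empty F (fun z hz => hW hz ⟨z, rfl⟩) _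
  obtain ⟨z, rfl⟩ := hx
  obtain ⟨U, hzU, n, s, hs⟩ := exists_gens (F := F) z
  obtain ⟨V, hVU, hUV⟩ := exists_pre i hi.isInducing U
  refine ⟨V, hUV hzU, Fin n, inferInstance, fun k => ofZ i c F (rm F hVU (s k)), fun W hW t y hy => ?_⟩
  by_cases hy' : y ∈ Set.range i
  swap
  · refine ⟨W ⊓ R, inf_le_left, ⟨hy, hy'⟩, 0, ?_⟩
    refine toZ_injective i c F ?_
    rw [toZ_comb]
    exact (sc_eq_zero_of_empty (V := pre i (W ⊓ R)) F (fun z hz => hz.2 ⟨z, rfl⟩) _).trans
      (sc_eq_zero_of_empty (V := pre i (W ⊓ R)) F (fun z hz => hz.2 ⟨z, rfl⟩) _).symm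
  obtain ⟨w, rfl⟩ := hy'
  obtain ⟨Q, hQ, hwQ, a, ha⟩ := hs (pre i W) ((pre_mono i hW).trans hVU) (toZ i c F t) w hy
  obtain ⟨W', hW'Q, hQW'⟩ := exists_pre i hi.isInducing Q
  let W₁ := W ⊓ W'
  have h₁ : pre i W₁ ≤ Q := (pre_mono i inf_le_right).trans hW'Q
  obtain ⟨Y, hY, hyY, hb⟩ := exists_nhd_forall (show i w ∈ W₁ from ⟨hy, hQW' hwQ⟩)
    (fun (k : Fin n) Y => ∀ (Y' : Opens X) (h : Y' ≤ W₁), Y' ≤ Y →
      ∃ b : rsec O_X Y', cR i c Y' b = rr ((pre_mono i h).trans h₁) (a k))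
    (fun k V V' hle h Y' h1 h2 => h Y' h1 (h2.trans hle))
    (fun k => by
      obtain ⟨Y, hY, hyY, b, hb⟩ := exists_lift_coeff i c hc (rr h₁ (a k)) (show i w ∈ W₁ from ⟨hy, hQW' hwQ⟩)
      refine ⟨Y, hY, hyY, fun Y' h hle => ⟨rr hle b, ?_⟩⟩
      rw [cR_rr, hb, rr_rr, rr_rr])
  choose b hb' using fun k => hb k Y hY le_rfl
  refine ⟨Y, hY.trans inf_le_left, hyY, b, toZ_injective i c F ?_⟩
  have h2 := congrArg (rm F ((pre_mono i hY).trans h₁)) ha
  rw [rm_rm, rm_comb] at h2
  rw [toZ_rm, toZ_comb, h2]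
  refine Finset.sum_congr rfl fun k _ => ?_
  rw [hb', rm_rm, toZ_rm]
  exact congrArg _ (rm_rm F hVU (pre_mono i ((hY.trans inf_le_left).trans hW)) (s k)).symm

theorem isFiniteType_of_push (hi : Topology.IsClosedEmbedding i)
    [SheafOfModules.IsFiniteType.{u} (R := ModSite.ringSh O_X) (pF i c F)] :
    SheafOfModules.IsFiniteType.{u} (R := ModSite.ringSh O_Z) F := by
  refine isFiniteType_of_gens fun z => ?_
  obtain ⟨V, hV, n, s, hs⟩ := exists_gens (F := pF i c F) (i z)
  refine ⟨pre i V, hV, Fin n, inferInstance, fun k => toZ i c F (s k), fun W' hW' t w hw => ?_⟩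
  obtain ⟨W, hWW', hW'W⟩ := exists_pre i hi.isInducing W'
  have h₁ : pre i (W ⊓ V) ≤ W' := (pre_mono i inf_le_left).trans hWW'
  obtain ⟨Y, hY, hyY, a, ha⟩ := hs (W ⊓ V) inf_le_right (ofZ i c F (rm F h₁ t)) (i w) ⟨hW'W hw, hW' hw⟩
  refine ⟨pre i Y, (pre_mono i hY).trans h₁, hyY, fun k => cR i c Y (a k), ?_⟩
  have h2 := congrArg (toZ i c F) ha
  rw [toZ_rm, toZ_comb] at h2
  refine ((rm_rm F h₁ (pre_mono i hY) t).symm.trans h2).trans ?_
  exact Finset.sum_congr rfl fun k _ => congrArg _ (toZ_rm i c F (hY.trans inf_le_right) (s k))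

end Groth.SitesTopoi.SpacePush
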