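import Groth.Agent.SitesTopoi.Mod.SpacePush
import Groth.Agent.SitesTopoi.Mod.PullTensor
import Groth.Agent.SiteCohomology.ClosedPush

/-!
Direct image of modules along a closed embedding of ringed spaces: exact, fully faithful, essential image.
-/

set_option autoImplicit false

universe u

open CategoryTheory CategoryTheory.Limits Opposite TopologicalSpace

set_option backward.defeqAttrib.useBackward true
set_option backward.isDefEq.respectTransparency false
set_option backward.isDefEq.respectTransparency.types false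
set_option synthInstance.maxHeartbeats 400000

namespace Groth.SitesTopoi.SpaceClosedMod

open Groth.SitesTopoi.ModH Groth.AdicLinTop.SpacePres Groth.SitesTopoi.SpaceGerm Groth.SitesTopoi.SpaceFT
  Groth.SitesTopoi.SpacePush

variable {Z X : TopCat.{u}} (i : Z ⟶ X)
  {O_Z : TopCat.Sheaf CommRingCat.{u} Z} {O_X : TopCat.Sheaf CommRingCat.{u} X}
  (c : O_X ⟶ ((TopologicalSpace.Opens.map i).sheafPushforwardContinuous CommRingCat.{u}
    (Opens.grothendieckTopology X) (Opens.grothendieckTopology Z)).obj O_Z)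

/-- The morphism of ringed sites. -/
noncomputable abbrev im : ModSite.RMor O_Z O_X := ModSite.RMor.ofFlat (TopologicalSpace.Opens.map i) c

lemma exists_rlift_fin (hc : Sheaf.IsLocallySurjective c) {W : Opens X} {κ : Type*} [Finite κ]
    (a : κ → rsec O_Z (pre i W)) {y : X} (hy : y ∈ W) :
    ∃ (Y : Opens X) (hY : Y ≤ W), y ∈ Y ∧ ∃ b : κ → rsec O_X Y, ∀ k, cR i c Y (b k) = rr (pre_mono i hY) (a k) := by
  obtain ⟨Y, hY, hyY, hb⟩ := exists_nhd_forall hy
    (fun (k : κ) Y => ∀ (Y' : Opens X) (h : Y' ≤ W), Y' ≤ Y → ∃ b : rsec O_X Y', cR i c Y' b = rr (pre_mono i h) (a k))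
    (fun k V V' hle h Y' h1 h2 => h Y' h1 (h2.trans hle))
    (fun k => by
      obtain ⟨Y, hY, hyY, b, hb⟩ := exists_lift_coeff i c hc (a k) hy
      refine ⟨Y, hY, hyY, fun Y' h hle => ⟨rr hle b, ?_⟩⟩
      rw [cR_rr, hb, rr_rr])
  choose b hb' using fun k => hb k Y hY le_rfl
  exact ⟨Y, hY, hyY, b, hb'⟩

section Exact

variable {F F' : ModSite.Mod O_Z}

lemma rm_injective {U V : Opens Z} (h : V ≤ U) (h' : U ≤ V) : Function.Injective (rm F h) := fun a b e => by
  have e' := congrArg (rm F h') e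
  rwa [rm_rm, rm_rm, rm_self, rm_self] at e'

lemma epi_push_map (hi : Topology.IsClosedEmbedding i) (φ : F ⟶ F') [Epi φ] : Epi ((im i c).push.map φ) := by
  refine epi_of_nhds _ fun W t y hy => ?_
  by_cases hy' : y ∈ Set.range i
  · obtain ⟨z, rfl⟩ := hy'
    obtain ⟨Q, hQ, hzQ, p, hp⟩ := nhds_of_epi φ (toZ i c F' t) (show z ∈ pre i W from hy)
    obtain ⟨W', hW'Q, hQW'⟩ := exists_pre i hi.isInducing Q
    have h₁ : pre i (W ⊓ W') ≤ Q := (pre_mono i inf_le_right).trans hW'Q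
    refine ⟨W ⊓ W', inf_le_left, ⟨hy, hQW' hzQ⟩, ofZ i c F (rm F h₁ p), ?_⟩
    show apm φ.val (pre i (W ⊓ W')) (rm F h₁ p) = rm F' (pre_mono i inf_le_left) (toZ i c F' t)
    rw [← rm_apm, hp, rm_rm]
  · refine ⟨W ⊓ ⟨(Set.range i)ᶜ, hi.isClosed_range.isOpen_compl⟩, inf_le_left, ⟨hy, hy'⟩, 0, ?_⟩
    refine toZ_injective i c F' ?_
    exact (sc_eq_zero_of_empty (V := pre i (W ⊓ ⟨(Set.range i)ᶜ, hi.isClosed_range.isOpen_compl⟩)) F'
      (fun z hz => hz.2 ⟨z, rfl⟩) _).trans (sc_eq_zero_of_empty (V := pre i (W ⊓ ⟨(Set.range i)ᶜ,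
        hi.isClosed_range.isOpen_compl⟩)) F' (fun z hz => hz.2 ⟨z, rfl⟩) _).symm

theorem preservesFiniteColimits_push (hi : Topology.IsClosedEmbedding i) :
    PreservesFiniteColimits (im i c).push := by
  have : (im i c).push.IsRightAdjoint := inferInstance
  have : PreservesFiniteLimits (im i c).push := inferInstance
  have : (im i c).push.PreservesEpimorphisms := ⟨fun φ hφ => epi_push_map i c hi φ⟩
  exact Groth.SiteCohomology.preservesFiniteColimits_of_preservesEpi _

theorem faithful_push (hi : Topology.IsClosedEmbedding i) : (im i c).push.Faithful := by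
  refine ⟨fun {F G} φ ψ h => mod_hom_ext fun U m => ?_⟩
  obtain ⟨V, hVU, hUV⟩ := exists_pre i hi.isInducing U
  refine rm_injective (F := G) hVU hUV ?_
  rw [rm_apm, rm_apm]
  exact congrArg (fun χ => toZ i c G (apm (SheafOfModules.Hom.val χ) V (ofZ i c F (rm F hVU m)))) h

variable (hi : Topology.IsClosedEmbedding i) (hc : Sheaf.IsLocallySurjective c) (ψ : pF i c F ⟶ pF i c F')

/-- A chosen open with given inverse image. -/
noncomputable def ext (U : Opens Z) : Opens X := (exists_pre i hi.isInducing U).choose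

lemma pre_ext_le (U : Opens Z) : pre i (ext i hi U) ≤ U := (exists_pre i hi.isInducing U).choose_spec.1

lemma le_pre_ext (U : Opens Z) : U ≤ pre i (ext i hi U) := (exists_pre i hi.isInducing U).choose_spec.2

/-- The sections of a morphism of direct images. -/
noncomputable def lowerFn (U : Opens Z) : sc F.val U →+ sc F'.val U :=
  (rm F' (le_pre_ext i hi U)).comp ((toZ i c F').comp ((apm ψ.val (ext i hi U)).toAddMonoidHom.comp
    ((ofZ i c F).comp (rm F (pre_ext_le i hi U)))))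

lemma rm_lowerFn {U : Opens Z} {V : Opens X} (h : pre i V ≤ U) (m : sc F.val U) :
    rm F' h (lowerFn i c hi ψ U m) = toZ i c F' (apm ψ.val V (ofZ i c F (rm F h m))) := by
  refine ext_local fun z hz => ?_
  let W := V ⊓ ext i hi U
  refine ⟨pre i W, pre_mono i inf_le_left, ⟨hz, le_pre_ext i hi U (h hz)⟩, ?_⟩
  show rm F' (pre_mono i inf_le_left) (rm F' h (rm F' (le_pre_ext i hi U)
    (toZ i c F' (apm ψ.val (ext i hi U) (ofZ i c F (rm F (pre_ext_le i hi U) m)))))) = _
  rw [rm_rm, rm_rm, ← toZ_rm i c F' (inf_le_left : W ≤ V), rm_apm]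
  refine Eq.trans ?_ (congrArg (fun s => toZ i c F' (apm ψ.val W s))
    (show rm (pF i c F) inf_le_right (ofZ i c F (rm F (pre_ext_le i hi U) m)) =
      rm (pF i c F) inf_le_left (ofZ i c F (rm F h m)) from toZ_injective i c F (by
        rw [toZ_rm, toZ_rm]
        exact (rm_rm F (pre_ext_le i hi U) _ m).trans (rm_rm F h _ m).symm)))
  rw [← rm_apm, toZ_rm]

include hc in
lemma lowerFn_smul (U : Opens Z) (a : rsec O_Z U) (m : sc F.val U) :
    lowerFn i c hi ψ U (a • m) = a • lowerFn i c hi ψ U m := by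
  refine ext_local fun z hz => ?_
  obtain ⟨Y, hY, hyY, b, hb⟩ := exists_rlift_fin i c hc (fun _ : Unit => rr (pre_ext_le i hi U) a)
    (show i z ∈ ext i hi U from le_pre_ext i hi U hz)
  have hYU : pre i Y ≤ U := (pre_mono i hY).trans (pre_ext_le i hi U)
  have hb' : cR i c Y (b ()) = rr hYU a := (hb ()).trans (rr_rr _ _ _)
  refine ⟨pre i Y, hYU, hyY, ?_⟩
  rw [rm_smul, rm_lowerFn, rm_lowerFn, rm_smul, ← hb',
    show ofZ i c F (cR i c Y (b ()) • rm F hYU m) = b () • ofZ i c F (rm F hYU m) from rfl, map_smul, toZ_smul]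

lemma lowerFn_rm {U U' : Opens Z} (h : U' ≤ U) (m : sc F.val U) :
    lowerFn i c hi ψ U' (rm F h m) = rm F' h (lowerFn i c hi ψ U m) := by
  refine rm_injective (F := F') (pre_ext_le i hi U') (le_pre_ext i hi U') ?_
  rw [rm_lowerFn, rm_rm, rm_rm, rm_lowerFn]

/-- The morphism underlying a morphism of direct images. -/
noncomputable def lower : F ⟶ F' where
  val :=
    { app := fun U => ModuleCat.ofHom (X := sc F.val U.unop) (Y := sc F'.val U.unop)
        { toFun := fun m => lowerFn i c hi ψ U.unop m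
          map_add' := fun a b => map_add _ a b
          map_smul' := fun r m => lowerFn_smul i c hi hc ψ U.unop r m }
      naturality := fun {U U'} g => by
        ext m
        exact lowerFn_rm i c hi ψ g.unop.le m }

lemma push_map_lower : (im i c).push.map (lower i c hi hc ψ) = ψ := by
  refine mod_hom_ext fun V s => toZ_injective i c F' ?_
  show lowerFn i c hi ψ (pre i V) (toZ i c F s) = toZ i c F' (apm ψ.val V s)
  refine (rm_self F' _).symm.trans ((rm_lowerFn i c hi ψ (le_refl _) _).trans ?_)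
  rw [rm_self]
  rfl

end Exact

theorem full_push (hi : Topology.IsClosedEmbedding i) (hc : Sheaf.IsLocallySurjective c) : (im i c).push.Full :=
  ⟨fun ψ => ⟨lower i c hi hc ψ, push_map_lower i c hi hc ψ⟩⟩

section Image

variable (G : ModSite.Mod O_X)

/-- The condition that the ideal of the closed subspace kills a module. -/
def KilledBy : Prop :=
  ∀ (U : Opens X) (a : rsec O_X U), cR i c U a = 0 → ∀ s : sc G.val U, a • s = 0

lemma killed_push (F : ModSite.Mod O_Z) : KilledBy i c (pF i c F) := fun U a ha s => by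
  refine toZ_injective i c F ?_
  rw [toZ_smul, ha, zero_smul, map_zero]

lemma killed_of_iso {G' : ModSite.Mod O_X} (e : G' ≅ G) (h : KilledBy i c G') : KilledBy i c G := fun U a ha s => by
  have e1 : apm e.hom.val U (apm e.inv.val U s) = s :=
    congrArg (fun k => apm (SheafOfModules.Hom.val k) U s) e.inv_hom_id
  rw [← e1, ← map_smul, h U a ha, map_zero]

lemma rsec_eq_zero_of_empty {V : Opens Z} (h : ∀ z, z ∉ V) (r : rsec O_Z V) : r = 0 :=
  rext_local fun z hz => absurd hz (h z)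

lemma killed_zero (hG : KilledBy i c G) {W : Opens X} (hW : ∀ z, i z ∉ W) (s : sc G.val W) : s = 0 :=
  (one_smul (rsec O_X W) s).symm.trans (hG W 1 (rsec_eq_zero_of_empty (V := pre i W) hW _) s)

lemma exists_theta_comb {C D : Type u} [SmallCategory C] [SmallCategory D] {J : GrothendieckTopology C}
    {K : GrothendieckTopology D} {O_C : Sheaf J CommRingCat.{u}} {O_D : Sheaf K CommRingCat.{u}}
    (f : ModSite.RMor O_C O_D) (M : ModSite.Mod O_D) {c : C} (t : sc (f.pull.obj M).val c) :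
    ∃ S ∈ J c, ∀ ⦃c' : C⦄ (g : c' ⟶ c), S g → ∃ (d : D) (β : c' ⟶ f.fn.obj d) (v : Vec (O_C := O_C) M d c'),
      rsm (f.pull.obj M).val g t = v.sum fun x a => a • rsm (f.pull.obj M).val β (thetaD f M d x) := by
  have hl : LocFiltered J K f.fn := locFiltered (J := J) (K := K) f.fn
  obtain ⟨S, hS, hS'⟩ := locSurj_etaP (Qp f M) c (apm (fromPull f M).val c t)
  refine exists_refine hS fun c₁ g hg => ?_
  obtain ⟨q, hq⟩ := hS' g hg
  obtain ⟨T, hT, hT'⟩ := exists_repr (f := f) (M := M) hl fun _ : Fin 1 => q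
  refine ⟨T, hT, fun c₂ k hk => ?_⟩
  obtain ⟨d, β, v, hv⟩ := hT' k hk
  refine ⟨d, β, v 0, ?_⟩
  rw [← toPull_vecTo, ← hv 0, apm_rsm (etaP (Qp f M)), hq]
  refine (congrArg (fun ψ => apm (SheafOfModules.Hom.val ψ) c₂ (rsm (f.pull.obj M).val (k ≫ g) t))
    (pullIso f M).hom_inv_id).symm.trans (congrArg (apm (toPull f M).val c₂) ?_)
  exact (apm_rsm (fromPull f M).val (k ≫ g) t).trans (rsm_rsm _ g k _).symm

lemma epi_unit (hi : Topology.IsClosedEmbedding i) (hc : Sheaf.IsLocallySurjective c) :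
    Epi ((im i c).adj.unit.app G) := by
  let P := (im i c).pull.obj G
  suffices h : ∀ η : G ⟶ pF i c P, (∀ (d : Opens X) (x : sc G.val d),
      toZ i c P (apm η.val d x) = thetaD (im i c) G d x) → Epi η from h _ fun _ _ => rfl
  intro η hη
  refine epi_of_nhds η fun W t y hy => ?_
  by_cases hy' : y ∈ Set.range i
  swap
  · refine ⟨W ⊓ ⟨(Set.range i)ᶜ, hi.isClosed_range.isOpen_compl⟩, inf_le_left, ⟨hy, hy'⟩, 0, ?_⟩
    refine toZ_injective i c P ?_
    exact (sc_eq_zero_of_empty (V := pre i (W ⊓ ⟨(Set.range i)ᶜ, hi.isClosed_range.isOpen_compl⟩)) P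
      (fun z hz => hz.2 ⟨z, rfl⟩) _).trans (sc_eq_zero_of_empty (V := pre i (W ⊓ ⟨(Set.range i)ᶜ,
        hi.isClosed_range.isOpen_compl⟩)) P (fun z hz => hz.2 ⟨z, rfl⟩) _).symm
  obtain ⟨z, rfl⟩ := hy'
  obtain ⟨S, hS, hS'⟩ := exists_theta_comb (im i c) G (c := pre i W) (toZ i c P t)
  obtain ⟨Q, hQ, hzQ, hSQ⟩ := exists_nhd_of_mem hS (show z ∈ pre i W from hy)
  obtain ⟨d, β, v, hv⟩ := hS' _ hSQ
  obtain ⟨W', hW'Q, hQW'⟩ := exists_pre i hi.isInducing Q
  let W₁ : Opens X := W' ⊓ d ⊓ W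
  have h₁ : pre i W₁ ≤ Q := (pre_mono i (inf_le_left.trans inf_le_left)).trans hW'Q
  have hd : Q ≤ pre i d := β.le
  obtain ⟨Y, hY, hyY, b, hb⟩ := exists_rlift_fin i c hc (fun x : v.support => rr h₁ (v x.1))
    (show i z ∈ W₁ from ⟨⟨hQW' hzQ, hd hzQ⟩, hy⟩)
  have hYd : Y ≤ d := hY.trans (inf_le_left.trans inf_le_right)
  refine ⟨Y, hY.trans inf_le_right, hyY, ∑ x : v.support, b x • rm G hYd (x.1 : sc G.val d), toZ_injective i c P ?_⟩
  have hYQ : pre i Y ≤ Q := (pre_mono i hY).trans h₁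
  have h2 := congrArg (rm P hYQ) (hv : rm P hQ (toZ i c P t) = _)
  rw [rm_rm] at h2
  rw [toZ_rm, h2, apm_comb, toZ_comb, Finsupp.sum, map_sum]
  refine (Finset.sum_congr rfl fun x _ => ?_).trans
    (Finset.sum_coe_sort v.support fun x => rm P hYQ (v x • rsm P.val β (thetaD (im i c) G d x)))
  rw [hb x, rr_rr, rm_smul, ← rm_apm, toZ_rm, hη]
  refine congrArg (fun s => rr hYQ (v x.1) • s) ?_
  exact (rsm_rsm P.val β (homOfLE hYQ) (thetaD (im i c) G d x.1)).symm

lemma mono_unit (hi : Topology.IsClosedEmbedding i) (hc : Sheaf.IsLocallySurjective c) (hG : KilledBy i c G) :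
    Mono ((im i c).adj.unit.app G) := by
  classical
  have hl : LocFiltered (Opens.grothendieckTopology Z) (Opens.grothendieckTopology X) (im i c).fn :=
    locFiltered (J := Opens.grothendieckTopology Z) (K := Opens.grothendieckTopology X) (im i c).fn
  suffices h : ∀ (U : Opens X) (x : sc G.val U), thetaD (im i c) G U x = 0 → x = 0 from
    mono_of_injective _ fun U => (injective_iff_map_eq_zero _).2 fun x hx => h U x hx
  intro U x hx
  refine ext_local fun y hy => ?_
  suffices h : ∃ (V : Opens X) (hV : V ≤ U), y ∈ V ∧ rm G hV x = 0 by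
    obtain ⟨V, hV, h1, h2⟩ := h
    exact ⟨V, hV, h1, h2.trans (map_zero _).symm⟩
  by_cases hy' : y ∈ Set.range i
  swap
  · refine ⟨U ⊓ ⟨(Set.range i)ᶜ, hi.isClosed_range.isOpen_compl⟩, inf_le_left, ⟨hy, hy'⟩, ?_⟩
    exact killed_zero i c G hG (W := U ⊓ ⟨(Set.range i)ᶜ, hi.isClosed_range.isOpen_compl⟩) (fun z hz => hz.2 ⟨z, rfl⟩) _
  obtain ⟨z, rfl⟩ := hy'
  have h0 : apm (PullTensor.qTo (im i c) G) (pre i U) (vecTo (im i c) G (𝟙 (pre i U)) (Finsupp.single x 1)) = 0 := by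
    rw [vecTo_single, one_smul]
    refine (PullTensor.qTo_ge (im i c) G (d := U) (𝟙 (pre i U)) x).trans ?_
    refine (congrArg (rsm ((im i c).pull.obj G).val (𝟙 (pre i U))) (show thetaD (im i c) G U x = 0 from hx)).trans ?_
    exact map_zero _
  obtain ⟨T₀, hT₀, hT₀'⟩ := ((isIso_aP_map_iff (PullTensor.qTo (im i c) G)).1
    (PullTensor.isIso_aP_map_qTo (im i c) G)).1 (pre i U) _ h0
  obtain ⟨Q₁, hQ₁, hz₁, hS₁⟩ := exists_nhd_of_mem hT₀ (show z ∈ pre i U from hy)
  have h1 : vecTo (im i c) G (homOfLE hQ₁ ≫ 𝟙 (pre i U)) (vpush G (𝟙 U) (homOfLE hQ₁) (Finsupp.single x 1)) = 0 := by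
    rw [vecTo_vpush (im i c) G (𝟙 U) (homOfLE hQ₁) (𝟙 (pre i U)) (homOfLE hQ₁ ≫ 𝟙 (pre i U)) (Subsingleton.elim _ _),
      hT₀' _ hS₁]
  obtain ⟨T₁, hT₁, hT₁'⟩ := exists_rel₀ hl (homOfLE hQ₁ ≫ 𝟙 (pre i U)) _ h1
  obtain ⟨Q, hQ, hzQ, hS₂⟩ := exists_nhd_of_mem hT₁ hz₁
  obtain ⟨d, w, β, -, hmem⟩ := hT₁' _ hS₂
  rw [vpush_vpush, vpush_single, map_one] at hmem
  obtain ⟨n, s, q, hq⟩ := Submodule.mem_span_set'.1 hmem
  choose ρ hρ hρ' using fun j => (q j).2
  obtain ⟨W', hW'Q, hQW'⟩ := exists_pre i hi.isInducing Q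
  let W₁ : Opens X := W' ⊓ d
  have h₁ : pre i W₁ ≤ Q := (pre_mono i inf_le_left).trans hW'Q
  have hd : Q ≤ pre i d := β.le
  obtain ⟨Y, hY, hyY, b, hb⟩ := exists_rlift_fin i c hc (fun j => rr h₁ (s j)) (show i z ∈ W₁ from ⟨hQW' hzQ, hd hzQ⟩)
  have hYd : Y ≤ d := hY.trans inf_le_right
  have hYQ : pre i Y ≤ Q := (pre_mono i hY).trans h₁
  have hYU : Y ≤ U := hYd.trans w.le
  let x₁ : sc G.val d := rsm G.val (w ≫ 𝟙 U) x
  let ω : sc G.val d →₀ rsec O_X Y :=
    Finsupp.single x₁ 1 - ∑ j, b j • (ρ j).mapRange (rr hYd) (map_zero _)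
  have hcoef : ∀ e, cR i c Y (ω e) = 0 := fun e => by
    have h2 := congrArg (fun r : rsec O_Z Q => rr hYQ r)
      (congrArg (fun v : Vec (O_C := O_Z) G d Q => v e) hq)
    have hs : ∀ j, ((q j).1 : Vec (O_C := O_Z) G d Q) e = sha (im i c) β (ρ j e) := fun j => by
      rw [← hρ' j]
      exact Finsupp.mapRange_apply ..
    simp only [Finsupp.finsetSum_apply, Finsupp.smul_apply, smul_eq_mul, hs, map_sum, map_mul, Finsupp.single_apply,
      apply_ite (rr hYQ), map_one, map_zero] at h2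
    have h3 : ∀ j, rr hYQ (sha (im i c) β (ρ j e)) = cR i c Y (rr hYd (ρ j e)) := fun j => by
      rw [cR_rr]
      exact rsR_rsR _ _ _
    simp only [h3] at h2
    simp only [ω, Finsupp.sub_apply, Finsupp.finsetSum_apply, Finsupp.smul_apply, Finsupp.mapRange_apply, smul_eq_mul,
      map_sub, map_sum, map_mul, Finsupp.single_apply, apply_ite (cR i c Y), map_one, map_zero, hb, rr_rr]
    rw [h2, sub_eq_zero]
  refine ⟨Y, hYU, hyY, ?_⟩
  let L : (sc G.val d →₀ rsec O_X Y) →ₗ[rsec O_X Y] sc G.val Y :=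
    Finsupp.linearCombination _ (fun e => rm G hYd e)
  have hLρ : ∀ j, L ((ρ j).mapRange (rr hYd) (map_zero _)) = 0 := fun j => by
    have h2 := congrArg (rm G hYd) (show combD G d (ρ j) = 0 from hρ j)
    rw [map_zero] at h2
    refine Eq.trans ?_ h2
    simp only [L, combD, Finsupp.linearCombination_apply, Finsupp.sum, map_sum, rm_smul, id_eq]
    refine Finsupp.sum_of_support_subset ((ρ j).mapRange (rr hYd) (map_zero _)) Finsupp.support_mapRange
      (fun e r => r • rm G hYd e) fun _ _ => zero_smul _ _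
  have h4 : L ω = rm G hYU x := by
    rw [map_sub, map_sum]
    simp only [map_smul, hLρ, smul_zero, Finset.sum_const_zero, sub_zero]
    simp only [L, Finsupp.linearCombination_single, one_smul, x₁]
    exact (rsm_rsm G.val _ _ x).trans (congrArg (fun g => rsm G.val g x) (Subsingleton.elim _ _))
  rw [← h4, show L ω = ω.sum fun e r => r • rm G hYd e from Finsupp.linearCombination_apply _ _]
  exact Finset.sum_eq_zero fun e _ => hG Y (ω e) (hcoef e) _

theorem essImage_iff (hi : Topology.IsClosedEmbedding i) (hc : Sheaf.IsLocallySurjective c) :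
    (im i c).push.essImage G ↔ KilledBy i c G := by
  refine ⟨fun ⟨F, ⟨e⟩⟩ => killed_of_iso i c G e (killed_push i c F), fun h => ?_⟩
  have h1 := mono_unit i c G hi hc h
  have h2 := epi_unit i c G hi hc
  obtain ⟨η, hη1, hη2⟩ : ∃ η : G ⟶ (im i c).push.obj ((im i c).pull.obj G), Mono η ∧ Epi η :=
    ⟨(im i c).adj.unit.app G, h1, h2⟩
  have : IsIso η := isIso_of_mono_of_epi η
  exact ⟨(im i c).pull.obj G, ⟨(asIso η).symm⟩⟩

end Image

end Groth.SitesTopoi.SpaceClosedMod
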