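import Groth.Agent.SitesTopoi.Mod.GenSysTensor

/-!
Tensor products of modules which are locally generated, of finite type, quasi-coherent, of finite presentation
or locally free.
-/

set_option autoImplicit false

universe u

open CategoryTheory CategoryTheory.Limits Opposite

set_option backward.defeqAttrib.useBackward true
set_option backward.isDefEq.respectTransparency false
set_option backward.isDefEq.respectTransparency.types false
set_option synthInstance.maxHeartbeats 400000

namespace Groth.SitesTopoi.GenSysPermanence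

open Groth.SitesTopoi.ModH Groth.SitesTopoi.GenSys Groth.SitesTopoi.GenSysPull Groth.SitesTopoi.GenSysTensor
  Groth.SitesTopoi.PullTensor Groth.Misc4.FlatFactor

variable {C : Type u} [SmallCategory C] {J : GrothendieckTopology C} {O : Sheaf J CommRingCat.{u}}
  {M N : ModSite.Mod O}

lemma res_res {Y W V : C} {I : Type u} (e : I → sc M.val Y) (a : W ⟶ Y) (g : V ⟶ W) :
    res (res e a) g = res e (g ≫ a) := funext fun _ => rsm_rsm _ _ _ _

lemma relSpan_restrict {Y W V : C} {I R : Type u} (c : R → I → rsec O Y) (a : W ⟶ Y) (g : V ⟶ W) :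
    relSpan (fun k i => rsR a (c k i)) g = relSpan c (g ≫ a) := by
  simp only [relSpan, rsR_rsR]

lemma gens_restrict {Y W : C} {I : Type u} {e : I → sc M.val Y} (he : Gens e) (a : W ⟶ Y) : Gens (res e a) := by
  intro V g t
  obtain ⟨S, hS, hS'⟩ := he (g ≫ a) t
  refine ⟨S, hS, fun V' h hh => ?_⟩
  obtain ⟨b, hb⟩ := hS' h hh
  exact ⟨b, by rw [hb, res_res, Category.assoc]⟩

lemma pres_restrict {Y W : C} {I R : Type u} {e : I → sc M.val Y} {c : R → I → rsec O Y} (P : Pres e c) (a : W ⟶ Y) :
    Pres (res e a) (fun k i => rsR a (c k i)) := by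
  refine ⟨gens_restrict P.gens a, fun k => ?_, fun V g b hb => ?_⟩
  · obtain ⟨S, hS, hS'⟩ := P.zero k
    refine ⟨S.pullback a, J.pullback_stable a hS, fun V h hh => ?_⟩
    obtain ⟨b, hb, hb0⟩ := hS' (h ≫ a) hh
    exact ⟨b, fun i => (hb i).trans (rsR_rsR a h (c k i)).symm, by rw [res_res]; exact hb0⟩
  · rw [res_res] at hb
    obtain ⟨S, hS, hS'⟩ := P.ker (g ≫ a) b hb
    refine ⟨S, hS, fun V' h hh => ?_⟩
    rw [relSpan_restrict, Category.assoc]
    exact hS' h hh

/-- Common refinements of two families. -/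
abbrev Ix {ι ι' : Type u} (X : ι → C) (X' : ι' → C) : Type u :=
  Σ (i : ι) (j : ι') (W : C), (W ⟶ X i) × (W ⟶ X' j)

lemma coversTop_ix {ι ι' : Type u} {X : ι → C} {X' : ι' → C} (h : J.CoversTop X) (h' : J.CoversTop X') :
    J.CoversTop fun k : Ix X X' => k.2.2.1 := by
  intro c
  refine J.superset_covering ?_ (J.intersection_covering (h c) (h' c))
  rintro W g ⟨⟨i, ⟨a⟩⟩, ⟨j, ⟨b⟩⟩⟩
  exact ⟨⟨i, j, W, a, b⟩, ⟨𝟙 W⟩⟩

/-- The tensor product. -/
noncomputable abbrev T (M N : ModSite.Mod O) : ModSite.Mod O := tMN M N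

lemma exists_gens_tensor {Y Y' W : C} (p : ((ModSite.restr O Y).obj M).GeneratingSections)
    (p' : ((ModSite.restr O Y').obj N).GeneratingSections) (a : W ⟶ Y) (b : W ⟶ Y') :
    ∃ g : ((ModSite.restr O W).obj (T M N)).GeneratingSections, g.I = (p.I × p'.I) := by
  let φ : frO Y O p.I ⟶ (ModSite.restr O Y).obj M := p.π
  have h1 : Epi φ := inferInstanceAs (Epi p.π)
  let ψ : frO Y' O p'.I ⟶ (ModSite.restr O Y').obj N := p'.π
  have h2 : Epi ψ := inferInstanceAs (Epi p'.π)
  exact nonempty_generatingSections _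
    (gens_tensor (gens_restrict (gens_of_epi φ) a) (gens_restrict (gens_of_epi ψ) b))

lemma exists_presentation_tensor {Y Y' W : C} (p : ((ModSite.restr O Y).obj M).Presentation)
    (p' : ((ModSite.restr O Y').obj N).Presentation) (a : W ⟶ Y) (b : W ⟶ Y') :
    ∃ q : ((ModSite.restr O W).obj (T M N)).Presentation, q.generators.I = (p.generators.I × p'.generators.I) ∧
      q.relations.I = ((p.relations.I × p'.generators.I) ⊕ (p.generators.I × p'.relations.I)) := by
  obtain ⟨e, c, P⟩ := exists_pres_of_presentation p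
  obtain ⟨e', c', P'⟩ := exists_pres_of_presentation p'
  exact nonempty_presentation (pres_tensor (pres_restrict P a) (pres_restrict P' b))

lemma exists_free_tensor {Y Y' W : C} (p : ((ModSite.restr O Y).obj M).GeneratingSections) (hp : IsIso p.π)
    (p' : ((ModSite.restr O Y').obj N).GeneratingSections) (hp' : IsIso p'.π) (a : W ⟶ Y) (b : W ⟶ Y') :
    ∃ g : ((ModSite.restr O W).obj (T M N)).GeneratingSections, IsIso g.π := by
  let φ : frO Y O p.I ⟶ (ModSite.restr O Y).obj M := p.π
  have h1 : IsIso φ := hp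
  let ψ : frO Y' O p'.I ⟶ (ModSite.restr O Y').obj N := p'.π
  have h2 : IsIso ψ := hp'
  have P := pres_tensor (pres_restrict (pres_of_isIso φ) a) (pres_restrict (pres_of_isIso ψ) b)
  obtain ⟨χ, hχ⟩ := exists_hom_elts (F := T M N) (te (res (elts φ) a) (res (elts ψ) b))
  rw [← hχ] at P
  refine exists_generators_of_isIso χ (isIso_of_pres χ ⟨P.gens, fun k => k.elim, fun V g v hv => ?_⟩)
  obtain ⟨S, hS, hS'⟩ := P.ker g v hv
  refine ⟨S, hS, fun V' h hh => ?_⟩
  have h4 := hS' h hh
  rw [relSpan, Set.range_eq_empty, Submodule.span_empty, Submodule.mem_bot] at h4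
  rw [h4]
  exact zero_mem _

theorem nonempty_localGeneratorsData (σ : SheafOfModules.LocalGeneratorsData.{u} (R := ModSite.ringSh O) M)
    (σ' : SheafOfModules.LocalGeneratorsData.{u} (R := ModSite.ringSh O) N) :
    ∃ τ : SheafOfModules.LocalGeneratorsData.{u} (R := ModSite.ringSh O) (T M N),
      (∀ i, (σ.generators i).IsFiniteType) → (∀ j, (σ'.generators j).IsFiniteType) → τ.IsFiniteType := by
  choose g hg using fun k : Ix σ.X σ'.X =>
    exists_gens_tensor (σ.generators k.1) (σ'.generators k.2.1) k.2.2.2.1 k.2.2.2.2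
  let τ : SheafOfModules.LocalGeneratorsData.{u} (R := ModSite.ringSh O) (T M N) :=
    { I := Ix σ.X σ'.X
      X := fun k => k.2.2.1
      coversTop := coversTop_ix σ.coversTop σ'.coversTop
      generators := g }
  refine ⟨τ, fun h h' => SheafOfModules.LocalGeneratorsData.IsFiniteType.mk (R := ModSite.ringSh O)
    (M := T M N) (p := τ) fun k => ⟨?_⟩⟩
  show Finite (g k).I
  rw [hg k]
  have := (h k.1).finite
  have := (h' k.2.1).finite
  infer_instance

theorem isFiniteType (hM : SheafOfModules.IsFiniteType.{u} (R := ModSite.ringSh O) M)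
    (hN : SheafOfModules.IsFiniteType.{u} (R := ModSite.ringSh O) N) :
    SheafOfModules.IsFiniteType.{u} (R := ModSite.ringSh O) (T M N) := by
  obtain ⟨σ, hσ⟩ := hM.exists_localGeneratorsData
  obtain ⟨σ', hσ'⟩ := hN.exists_localGeneratorsData
  obtain ⟨τ, hτ⟩ := nonempty_localGeneratorsData σ σ'
  exact SheafOfModules.IsFiniteType.mk (R := ModSite.ringSh O) (M := T M N)
    ⟨τ, hτ hσ.isFiniteType hσ'.isFiniteType⟩

theorem nonempty_quasicoherentData (σ : SheafOfModules.QuasicoherentData.{u} (R := ModSite.ringSh O) M)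
    (σ' : SheafOfModules.QuasicoherentData.{u} (R := ModSite.ringSh O) N) :
    ∃ τ : SheafOfModules.QuasicoherentData.{u} (R := ModSite.ringSh O) (T M N),
      (∀ i, (σ.presentation i).IsFinite) → (∀ j, (σ'.presentation j).IsFinite) → τ.IsFinitePresentation := by
  choose q hq hq' using fun k : Ix σ.X σ'.X =>
    exists_presentation_tensor (σ.presentation k.1) (σ'.presentation k.2.1) k.2.2.2.1 k.2.2.2.2
  let τ : SheafOfModules.QuasicoherentData.{u} (R := ModSite.ringSh O) (T M N) :=
    { I := Ix σ.X σ'.X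
      X := fun k => k.2.2.1
      coversTop := coversTop_ix σ.coversTop σ'.coversTop
      presentation := q }
  refine ⟨τ, fun h h' => SheafOfModules.QuasicoherentData.IsFinitePresentation.mk (R := ModSite.ringSh O)
    (M := T M N) (q := τ) fun k => ?_⟩
  have := (h k.1).isFiniteType_generators.finite
  have := (h' k.2.1).isFiniteType_generators.finite
  have := (h k.1).isFiniteType_relations.finite
  have := (h' k.2.1).isFiniteType_relations.finite
  refine { isFiniteType_generators := ⟨?_⟩, isFiniteType_relations := ⟨?_⟩ }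
  · show Finite (q k).generators.I
    rw [hq k]
    infer_instance
  · show Finite (q k).relations.I
    rw [hq' k]
    infer_instance

theorem isQuasicoherent (hM : SheafOfModules.IsQuasicoherent.{u} (R := ModSite.ringSh O) M)
    (hN : SheafOfModules.IsQuasicoherent.{u} (R := ModSite.ringSh O) N) :
    SheafOfModules.IsQuasicoherent.{u} (R := ModSite.ringSh O) (T M N) := by
  obtain ⟨σ⟩ := hM.nonempty_quasicoherentData
  obtain ⟨σ'⟩ := hN.nonempty_quasicoherentData
  obtain ⟨τ, -⟩ := nonempty_quasicoherentData σ σ'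
  exact SheafOfModules.IsQuasicoherent.mk (R := ModSite.ringSh O) (M := T M N) ⟨τ⟩

theorem isFinitePresentation (hM : SheafOfModules.IsFinitePresentation.{u} (R := ModSite.ringSh O) M)
    (hN : SheafOfModules.IsFinitePresentation.{u} (R := ModSite.ringSh O) N) :
    SheafOfModules.IsFinitePresentation.{u} (R := ModSite.ringSh O) (T M N) := by
  obtain ⟨σ, hσ⟩ := hM.exists_quasicoherentData
  obtain ⟨σ', hσ'⟩ := hN.exists_quasicoherentData
  obtain ⟨τ, hτ⟩ := nonempty_quasicoherentData σ σ'
  exact SheafOfModules.IsFinitePresentation.mk (R := ModSite.ringSh O) (M := T M N)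
    ⟨τ, hτ hσ.isFinite_presentation hσ'.isFinite_presentation⟩

theorem isLocallyFree (hM : SheafOfModules.IsLocallyFree.{u} (R := ModSite.ringSh O) M)
    (hN : SheafOfModules.IsLocallyFree.{u} (R := ModSite.ringSh O) N) :
    SheafOfModules.IsLocallyFree.{u} (R := ModSite.ringSh O) (T M N) := by
  obtain ⟨σ, hσ⟩ := hM.exists_isLocallyFreeData
  obtain ⟨σ', hσ'⟩ := hN.exists_isLocallyFreeData
  choose g hg using fun k : Ix σ.X σ'.X =>
    exists_free_tensor (σ.generators k.1) (hσ.isIso _) (σ'.generators k.2.1) (hσ'.isIso _) k.2.2.2.1 k.2.2.2.2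
  let τ : SheafOfModules.LocalGeneratorsData.{u} (R := ModSite.ringSh O) (T M N) :=
    { I := Ix σ.X σ'.X
      X := fun k => k.2.2.1
      coversTop := coversTop_ix σ.coversTop σ'.coversTop
      generators := g }
  exact SheafOfModules.IsLocallyFree.mk (R := ModSite.ringSh O) (M := T M N)
    ⟨τ, SheafOfModules.LocalGeneratorsData.IsLocallyFreeData.mk (R := ModSite.ringSh O) (M := T M N) (q := τ) hg⟩

end Groth.SitesTopoi.GenSysPermanence
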