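import Groth.Agent.SitesTopoi.Mod.SpaceFP
import Groth.Agent.AdicLinTop.FreeSections
import Mathlib.LinearAlgebra.InvariantBasisNumber
import Mathlib.LinearAlgebra.Matrix.InvariantBasisNumber
import Mathlib.LinearAlgebra.Matrix.NonsingularInverse
import Mathlib.RingTheory.LocalRing.Module

/-!
Finite locally free modules on topological spaces, through sections.
-/

set_option autoImplicit false

universe u

open CategoryTheory CategoryTheory.Limits Opposite TopologicalSpace

set_option backward.defeqAttrib.useBackward true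
set_option backward.isDefEq.respectTransparency false
set_option backward.isDefEq.respectTransparency.types false
set_option synthInstance.maxHeartbeats 400000

namespace Groth.SitesTopoi.SpaceLF

open Groth.SitesTopoi.ModH Groth.AdicLinTop.SpacePres Groth.SitesTopoi.SpaceGerm Groth.SitesTopoi.SpaceFT
  Groth.SitesTopoi.SpaceFP Groth.Misc4.FlatFactor

variable {T : Type u} [TopologicalSpace T] {O : Sheaf (Opens.grothendieckTopology T) CommRingCat.{u}}
  {F G : ModSite.Mod O}

/-- A basis of a module over an open. -/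
structure Basis {U : Opens T} {ι : Type*} [Fintype ι] (s : ι → sc F.val U) : Prop where
  gens : Gens s
  indep : ∀ (W : Opens T) (hW : W ≤ U) (a : ι → rsec O W), ∑ i, a i • rm F hW (s i) = 0 → a = 0

lemma Basis.restrict {U U' : Opens T} {ι : Type*} [Fintype ι] {s : ι → sc F.val U} (B : Basis s) (h : U' ≤ U) :
    Basis (fun i => rm F h (s i)) :=
  ⟨B.gens.restrict h, fun W hW a ha => B.indep W (hW.trans h) a
    ((Finset.sum_congr rfl fun i _ => by rw [rm_rm]).trans ha)⟩

lemma Basis.coeff_unique {U W : Opens T} {ι : Type*} [Fintype ι] {s : ι → sc F.val U} (B : Basis s) (hW : W ≤ U)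
    {a b : ι → rsec O W} (h : ∑ i, a i • rm F hW (s i) = ∑ i, b i • rm F hW (s i)) : a = b := by
  refine sub_eq_zero.1 (B.indep W hW (a - b) ?_)
  simp only [Pi.sub_apply, sub_smul, Finset.sum_sub_distrib, h, sub_self]

lemma Basis.pres {U : Opens T} {ι : Type*} [Fintype ι] {s : ι → sc F.val U} (B : Basis s) :
    Pres s (fun (j : PEmpty.{1}) (_ : ι) => (j.elim : rsec O U)) where
  gens := B.gens
  zero j := j.elim
  rel W hW a ha y hy := ⟨W, le_rfl, hy, fun j => j.elim, fun i => by
    rw [B.indep W hW a ha]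
    simp⟩

/-- The image of a free generator. -/
noncomputable def img {U : Opens T} {I : Type u}
    (e : (ModSite.restr O U).obj F ≅ SheafOfModules.free I) {W : Opens T} (hW : W ≤ U) (i : I) : sc F.val W :=
  apm e.inv.val (ov hW) (GlobalFree.gen (O.over U) (ov hW) i)

lemma rm_img {U : Opens T} {I : Type u} (e : (ModSite.restr O U).obj F ≅ SheafOfModules.free I)
    {W W' : Opens T} (hW : W ≤ U) (h : W' ≤ W) (i : I) : rm F h (img e hW i) = img e (h.trans hW) i := by
  let g : ov (h.trans hW) ⟶ ov hW := Over.homMk (homOfLE h)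
  refine (apm_rsm e.inv.val g (GlobalFree.gen (O.over U) (ov hW) i)).symm.trans ?_
  exact congrArg (apm e.inv.val (ov (h.trans hW))) (AdicLinTop.FreeSections.rsm_gen g i)

lemma apm_inv_comb {U : Opens T} {I : Type u} (e : (ModSite.restr O U).obj F ≅ SheafOfModules.free I)
    {W : Opens T} (hW : W ≤ U) (S : Finset I) (a : I → rsec O W) :
    apm e.inv.val (ov hW) (∑ i ∈ S, (show rsec (O.over U) (ov hW) from a i) • GlobalFree.gen (O.over U) (ov hW) i) =
      (∑ i ∈ S, a i • img e hW i : sc F.val W) := by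
  rw [map_sum]
  exact Finset.sum_congr rfl fun i _ => map_smul (apm e.inv.val (ov hW)) _ _

lemma hom_inv_apm {U : Opens T} {I : Type u} (e : (ModSite.restr O U).obj F ≅ SheafOfModules.free I)
    (W : Over U) (z : sc ((ModSite.restr O U).obj F).val W) : apm e.inv.val W (apm e.hom.val W z) = z :=
  congrArg (fun k => apm (SheafOfModules.Hom.val k) W z) e.hom_inv_id

lemma inv_hom_apm {U : Opens T} {I : Type u} (e : (ModSite.restr O U).obj F ≅ SheafOfModules.free I)
    (W : Over U) (z : sc (SheafOfModules.free I : ModOver O U).val W) : apm e.hom.val W (apm e.inv.val W z) = z :=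
  congrArg (fun k => apm (SheafOfModules.Hom.val k) W z) e.inv_hom_id

theorem basis_of_iso {U : Opens T} {I : Type u} [Fintype I]
    (e : (ModSite.restr O U).obj F ≅ SheafOfModules.free I) : Basis (fun i => img e (le_refl U) i) := by
  refine ⟨fun W hW t y hy => ⟨W, le_rfl, hy,
    GlobalFree.coef (O.over U) (ov hW) (apm e.hom.val (ov hW) t), ?_⟩, fun W hW a ha => ?_⟩
  · rw [rm_self]
    simp only [rm_img]
    refine Eq.trans ?_ (apm_inv_comb e hW Finset.univ _)
    refine (hom_inv_apm e (ov hW) t).symm.trans (congrArg (apm e.inv.val (ov hW)) ?_)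
    refine (GlobalFree.comb_coef _).symm.trans ?_
    exact Fintype.linearCombination_apply _ _ _
  · simp only [rm_img] at ha
    have h0 := congrArg (apm e.hom.val (ov hW)) ((apm_inv_comb e hW Finset.univ a).trans ha)
    rw [inv_hom_apm] at h0
    have h1 := congrArg (GlobalFree.coef (O.over U) (ov hW)) (h0.trans (map_zero (apm e.hom.val (ov hW))))
    rw [map_zero, ← Fintype.linearCombination_apply] at h1
    exact (GlobalFree.coef_comb (O := O.over U) (X := ov hW) a).symm.trans h1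

theorem exists_basis_of_iso {U : Opens T} {n : ℕ}
    (h : Nonempty ((ModSite.restr O U).obj F ≅ SheafOfModules.free (ULift.{u} (Fin n)))) :
    ∃ s : Fin n → sc F.val U, Basis s := by
  obtain ⟨e⟩ := h
  have B := basis_of_iso e
  refine ⟨fun i => img e (le_refl U) ⟨i⟩, fun W hW t y hy => ?_, fun W hW a ha => ?_⟩
  · obtain ⟨V, hV, hyV, a, ha⟩ := B.gens W hW t y hy
    exact ⟨V, hV, hyV, fun i => a ⟨i⟩, ha.trans (Equiv.sum_comp Equiv.ulift.symm _).symm⟩
  · have h0 := B.indep W hW (fun i => a i.down) ((Equiv.sum_comp Equiv.ulift.symm _).symm.trans ha)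
    exact funext fun i => congrFun h0 ⟨i⟩

lemma free_ext {U : Opens T} {ι : Type u} [Fintype ι] (W : Over U)
    (y : sc (SheafOfModules.free ι : ModOver O U).val W) (h : ∀ i, coord i W y = 0) : y = 0 := by
  let E : ((SheafOfModules.free ι : ModOver O U) ⟶ SheafOfModules.free ι) →+
      sc (SheafOfModules.free ι : ModOver O U).val W :=
    AddMonoidHom.mk' (fun k => apm k.val W y) fun _ _ => rfl
  have e : E (∑ i, proj ι i ≫ SheafOfModules.ιFree i) = y := by rw [sum_proj_ι]; rfl
  rw [← e, map_sum]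
  refine Finset.sum_eq_zero fun i _ => ?_
  refine (congrArg (apm (SheafOfModules.ιFree i : oU O U ⟶ _).val W) (h i)).trans ?_
  exact map_zero _

lemma mono_freeMap {U : Opens T} {n : ℕ} {s : Fin n → sc F.val U} (B : Basis s) : Mono (freeMap s) := by
  refine mono_of_injective _ fun W => (injective_iff_map_eq_zero _).2 fun y hy => ?_
  have h1 : ∑ i, coord ⟨i⟩ W y • rm F W.hom.le (s i) = 0 := by
    have h2 : ∑ i, coord ⟨i⟩ W y • rsm F.val W.hom (s i) = 0 := by
      rw [← apm_freeMap s W y, hy]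
    refine Eq.trans (Finset.sum_congr rfl fun i _ => ?_) h2
    rw [Subsingleton.elim W.hom (homOfLE W.hom.le)]
  have h0 := B.indep W.left W.hom.le _ h1
  exact free_ext W y fun i => congrFun h0 i.down

theorem nonempty_iso_of_basis {U : Opens T} {n : ℕ} {s : Fin n → sc F.val U} (B : Basis s) :
    Nonempty ((ModSite.restr O U).obj F ≅ SheafOfModules.free (ULift.{u} (Fin n))) := by
  have h1 : Epi (freeMap s) := epi_freeMap ⟨s, B.gens⟩
  have h2 : Mono (freeMap s) := mono_freeMap B
  obtain ⟨f, hf1, hf2⟩ : ∃ f : (SheafOfModules.free (ULift.{u} (Fin n)) : ModOver O U) ⟶ (ModSite.restr O U).obj F,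
      Epi f ∧ Mono f := ⟨freeMap s, h1, h2⟩
  have : IsIso f := isIso_of_mono_of_epi f
  exact ⟨(asIso f).symm⟩

/-! ### Stalks -/

lemma gr_eq_fin {U : Opens T} {x : T} (hx : x ∈ U) {ι : Type*} [Finite ι] {a b : ι → rsec O U}
    (h : ∀ i, gr hx (a i) = gr hx (b i)) :
    ∃ (V : Opens T) (hV : V ≤ U), x ∈ V ∧ ∀ i, rr hV (a i) = rr hV (b i) := by
  obtain ⟨V, hV, hxV, e⟩ := exists_nhd_forall hx
    (fun i V => ∀ W (hW : W ≤ U), W ≤ V → rr hW (a i) = rr hW (b i))
    (fun i V V' hle h W hW hW' => h W hW (hW'.trans hle))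
    (fun i => by
      obtain ⟨V, g, ⟨⟨hxV⟩⟩, -, e⟩ := ((pt x).toPresheafFiber_eq_iff' (P := O.obj) U _ (a i) (b i)).1 (h i)
      refine ⟨V, g.le, hxV, fun W hW hW' => ?_⟩
      have h1 : rr hW' (rr g.le (a i)) = rr hW' (rr g.le (b i)) := congrArg (rr hW') e
      rwa [rr_rr, rr_rr] at h1)
  exact ⟨V, hV, hxV, fun i => e i V hV le_rfl⟩

lemma Basis.gm_bijective {U : Opens T} {ι : Type} [Fintype ι] {s : ι → sc F.val U} (B : Basis s) {x : T} (hx : x ∈ U) :
    Function.Bijective (Fintype.linearCombination (ModSite.stalkRing (pt x) O)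
      (fun i => (gm F hx (s i) : ModSite.stalkMod (pt x) F))) := by
  refine ⟨(injective_iff_map_eq_zero _).2 fun c hc => ?_, fun m => ?_⟩
  · obtain ⟨V, hV, hxV, a, ha⟩ := exists_rreps hx c
    rw [Fintype.linearCombination_apply] at hc
    have h0 : gm F hxV (∑ i, a i • rm F hV (s i)) = gm F hxV 0 := by
      rw [gm_comb, map_zero]
      exact (Finset.sum_congr rfl fun i _ => by rw [ha, gm_rm]).trans hc
    obtain ⟨V', hV', hxV', e⟩ := gm_eq hxV h0
    rw [rm_comb, map_zero] at e
    simp only [rm_rm] at e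
    funext i
    rw [← ha, ← gr_rr hV' hxV', congrFun (B.indep V' _ _ e) i]
    exact map_zero _
  · obtain ⟨c, hc⟩ := exists_gm_eq B.gens hx m
    exact ⟨c, (Fintype.linearCombination_apply _ _ _).trans hc.symm⟩

/-- The stalk of a module with a basis nearby is free. -/
noncomputable def Basis.stalkEquiv {U : Opens T} {ι : Type} [Fintype ι] {s : ι → sc F.val U} (B : Basis s) {x : T}
    (hx : x ∈ U) : (ι → ModSite.stalkRing (pt x) O) ≃ₗ[ModSite.stalkRing (pt x) O] ModSite.stalkMod (pt x) F :=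
  LinearEquiv.ofBijective _ (B.gm_bijective hx)

/-- A finitely presented module with free stalk is free nearby. -/
theorem exists_basis_of_stalk [SheafOfModules.IsFinitePresentation.{u} (R := ModSite.ringSh O) F] (x : T) {r : ℕ}
    (e : ModSite.stalkMod (pt x) F ≃ₗ[ModSite.stalkRing (pt x) O] (Fin r → ModSite.stalkRing (pt x) O)) :
    ∃ (U : Opens T) (_ : x ∈ U) (u : Fin r → sc F.val U), Basis u := by
  classical
  obtain ⟨U, hxU, n, m, s, rel, P⟩ := exists_pres (F := F) x
  let μ : Fin r → ModSite.stalkAb (pt x) F := fun i => e.symm (Pi.single i 1)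
  have hμ : ∀ c : Fin r → ModSite.stalkRing (pt x) O, (∑ i, c i • μ i : ModSite.stalkMod (pt x) F) = e.symm c := by
    intro c
    conv_rhs => rw [pi_eq_sum_univ' c]
    simp only [map_sum, map_smul, μ]
  obtain ⟨V₀, hV₀, hxV₀, u, hu⟩ := exists_reps hxU μ
  have hc : ∀ k, ∃ c : Fin r → ModSite.stalkRing (pt x) O, gm F hxU (s k) = ∑ i, c i • μ i := fun k =>
    ⟨e (gm F hxU (s k)), ((hμ _).trans (e.symm_apply_apply _)).symm⟩
  choose c hc using hc
  obtain ⟨V₁, hV₁, hxV₁, C, hC⟩ := exists_rreps hxV₀ (fun q : Fin n × Fin r => c q.1 q.2)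
  obtain ⟨V₂, hV₂, hxV₂, hs⟩ := gm_eq_fin hxV₁ (s := fun k => rm F (hV₁.trans hV₀) (s k))
    (t := fun k => ∑ i, C (k, i) • rm F hV₁ (u i)) (fun k => by
      rw [gm_rm, gm_comb, hc]
      exact Finset.sum_congr rfl fun i _ => by rw [hC, gm_rm, hu])
  obtain ⟨V₃, hV₃, hxV₃, D, hD⟩ := exists_coeffs P.gens ((hV₂.trans hV₁).trans hV₀)
    (fun i => rm F (hV₂.trans hV₁) (u i)) hxV₂
  have h₂ : V₃ ≤ V₁ := hV₃.trans hV₂
  have h₀ : V₃ ≤ V₀ := h₂.trans hV₁
  have hU : V₃ ≤ U := h₀.trans hV₀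
  let Cm : Fin n → Fin r → rsec O V₃ := fun k i => rr h₂ (C (k, i))
  let u₃ : Fin r → sc F.val V₃ := fun i => rm F h₀ (u i)
  have hs₃ : ∀ k, rm F hU (s k) = ∑ i, Cm k i • u₃ i := fun k => by
    have h1 := congrArg (rm F hV₃) (hs k)
    rw [rm_rm, rm_rm, rm_rm, rm_comb] at h1
    simp only [rm_rm] at h1
    exact h1
  have hu₃ : ∀ i, u₃ i = ∑ k, D i k • rm F hU (s k) := fun i => by
    have h1 := hD i
    rw [rm_rm] at h1
    exact h1
  let w : Fin r ⊕ Fin m → Fin r → rsec O V₃ :=
    Sum.elim (fun i l => (if i = l then 1 else 0) - ∑ k, D i k * Cm k l) (fun j l => ∑ k, rr hU (rel j k) * Cm k l)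
  have hw : ∀ q, ∑ l, w q l • u₃ l = 0 := by
    rintro (i | j)
    · simp only [w, Sum.elim_inl, sub_smul, Finset.sum_sub_distrib, Finset.sum_smul, mul_smul, ite_smul, one_smul,
        zero_smul, Finset.sum_ite_eq, Finset.mem_univ, if_true]
      rw [Finset.sum_comm, sub_eq_zero, hu₃ i]
      simp only [← Finset.smul_sum, hs₃]
    · simp only [w, Sum.elim_inr, Finset.sum_smul, mul_smul]
      rw [Finset.sum_comm]
      simp only [← Finset.smul_sum, ← hs₃, ← rm_smul, ← map_sum, P.zero, map_zero]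
  obtain ⟨V₄, hV₄, hxV₄, hw₄⟩ := gr_eq_fin hxV₃ (a := fun q : (Fin r ⊕ Fin m) × Fin r => w q.1 q.2) (b := fun _ => 0)
    (fun q => by
      have h1 := congrArg (gm F hxV₃) (hw q.1)
      rw [gm_comb, map_zero] at h1
      have h2 : (∑ l, gr hxV₃ (w q.1 l) • μ l : ModSite.stalkMod (pt x) F) = 0 := by
        refine Eq.trans ?_ h1
        exact Finset.sum_congr rfl fun l _ => by rw [show gm F hxV₃ (u₃ l) = μ l from (gm_rm _ _ _).trans (hu l)]
      rw [hμ] at h2
      have h3 := e.symm.map_eq_zero_iff.1 h2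
      exact (congrFun h3 q.2).trans (map_zero _).symm)
  refine ⟨V₄, hxV₄, fun i => rm F hV₄ (u₃ i), fun W hW t y hy => ?_, fun W hW a ha => ?_⟩
  · obtain ⟨Z, hZ, hyZ, b, hb⟩ := P.gens W ((hW.trans hV₄).trans hU) t y hy
    have hZ₃ : Z ≤ V₃ := (hZ.trans hW).trans hV₄
    refine ⟨Z, hZ, hyZ, fun i => ∑ k, b k * rr hZ₃ (Cm k i), hb.trans ?_⟩
    have h1 : ∀ k, rm F (hZ₃.trans hU) (s k) = ∑ i, rr hZ₃ (Cm k i) • rm F hZ₃ (u₃ i) := fun k => by
      rw [← rm_comb, ← hs₃, rm_rm]
    simp only [h1, Finset.smul_sum, Finset.sum_smul, mul_smul, rm_rm]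
    exact Finset.sum_comm
  · refine funext fun l => rext_local fun y hy => ?_
    simp only [rm_rm] at ha
    have hW₃ : W ≤ V₃ := hW.trans hV₄
    have ha' : ∑ k, (∑ i, a i * rr hW₃ (D i k)) • rm F (hW₃.trans hU) (s k) = 0 := by
      refine Eq.trans ?_ ha
      simp only [Finset.sum_smul, mul_smul]
      rw [Finset.sum_comm]
      refine Finset.sum_congr rfl fun i _ => ?_
      rw [← Finset.smul_sum, hu₃ i, rm_comb]
      simp only [rm_rm]
    obtain ⟨Z, hZ, hyZ, b, hb⟩ := P.rel W (hW₃.trans hU) _ ha' y hy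
    refine ⟨Z, hZ, hyZ, ?_⟩
    have hz : ∀ q, rr ((hZ.trans hW).trans hV₄) (w q l) = 0 := fun q => by
      have h1 := congrArg (rr (hZ.trans hW)) (hw₄ (q, l))
      rw [rr_rr, rr_rr, map_zero] at h1
      exact h1
    rw [Pi.zero_apply, map_zero]
    have hA : ∀ i, rr ((hZ.trans hW).trans hV₄) (if i = l then (1 : rsec O V₃) else 0) =
        ∑ k, rr ((hZ.trans hW).trans hV₄) (D i k) * rr ((hZ.trans hW).trans hV₄) (Cm k l) := fun i => by
      have h1 := hz (Sum.inl i)
      simp only [w, Sum.elim_inl, map_sub, map_sum, map_mul, sub_eq_zero] at h1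
      exact h1
    have hB : ∀ j, ∑ k, rr (((hZ.trans hW).trans hV₄).trans hU) (rel j k) * rr ((hZ.trans hW).trans hV₄) (Cm k l) = 0 := fun j => by
      have h1 := hz (Sum.inr j)
      simp only [w, Sum.elim_inr, map_sum, map_mul, rr_rr] at h1
      exact h1
    calc rr hZ (a l) = ∑ i, rr hZ (a i) * rr ((hZ.trans hW).trans hV₄) (if i = l then (1 : rsec O V₃) else 0) := by
          simp [apply_ite (rr ((hZ.trans hW).trans hV₄)), mul_ite]
      _ = ∑ k, (∑ i, rr hZ (a i) * rr ((hZ.trans hW).trans hV₄) (D i k)) * rr ((hZ.trans hW).trans hV₄) (Cm k l) := by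
          simp only [hA, Finset.mul_sum, Finset.sum_mul, mul_assoc]
          exact Finset.sum_comm
      _ = ∑ k, (∑ j, b j * rr (((hZ.trans hW).trans hV₄).trans hU) (rel j k)) * rr ((hZ.trans hW).trans hV₄) (Cm k l) := by
          refine Finset.sum_congr rfl fun k _ => congrArg (· * _) ?_
          have h1 := hb k
          simp only [map_sum, map_mul, rr_rr] at h1
          exact h1
      _ = 0 := by
          simp only [Finset.sum_mul, mul_assoc]
          rw [Finset.sum_comm]
          simp only [← Finset.mul_sum, hB, mul_zero, Finset.sum_const_zero]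

/-- A direct summand of a module with bases has presentations. -/
theorem isFinitePresentation_of_retract {H : ModSite.Mod O}
    (hH : ∀ x : T, ∃ (U : Opens T) (_ : x ∈ U) (n : ℕ) (s : Fin n → sc H.val U), Basis s)
    (i : F ⟶ H) (p : H ⟶ F) (hip : i ≫ p = 𝟙 F) :
    SheafOfModules.IsFinitePresentation.{u} (R := ModSite.ringSh O) F := by
  refine isFinitePresentation_of_pres fun x => ?_
  obtain ⟨U, hxU, n, h, B⟩ := hH x
  have hpi : ∀ {W : Opens T} (t : sc F.val W), apm p.val W (apm i.val W t) = t := fun t =>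
    congrArg (fun k => apm (SheafOfModules.Hom.val k) _ t) hip
  obtain ⟨V, hV, hxV, A, hA⟩ := exists_coeffs B.gens (le_refl U) (fun k => h k - apm i.val U (apm p.val U (h k))) hxU
  have hA' : ∀ {W : Opens T} (hW : W ≤ V) (k : Fin n), rm H (hW.trans hV) (h k) - apm i.val W (apm p.val W (rm H (hW.trans hV) (h k))) =
      ∑ l, rr hW (A k l) • rm H (hW.trans hV) (h l) := fun hW k => by
    have h1 := congrArg (rm H hW) (hA k)
    rw [rm_rm, map_sub, rm_apm, rm_apm, rm_comb] at h1
    simp only [rm_rm] at h1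
    exact h1
  refine ⟨V, hxV, Fin n, Fin n, inferInstance, inferInstance, fun k => apm p.val V (rm H hV (h k)), A,
    ⟨fun W hW t y hy => ?_, fun j => ?_, fun W hW c hc y hy => ?_⟩⟩
  · obtain ⟨Z, hZ, hyZ, a, ha⟩ := B.gens W (hW.trans hV) (apm i.val W t) y hy
    refine ⟨Z, hZ, hyZ, a, ?_⟩
    rw [← hpi t, rm_apm, ha, apm_comb]
    simp only [rm_apm, rm_rm]
  · have h1 := congrArg (apm p.val V) (hA' (le_refl V) j)
    rw [map_sub, hpi, sub_self, apm_comb] at h1
    simp only [show ∀ l, rr (le_refl V) (A j l) = A j l from fun l => rsR_id _] at h1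
    exact h1.symm
  · simp only [rm_apm, rm_rm] at hc
    rw [← apm_comb] at hc
    have h1 : ∑ k, c k • rm H (hW.trans hV) (h k) =
        ∑ k, c k • (rm H (hW.trans hV) (h k) - apm i.val W (apm p.val W (rm H (hW.trans hV) (h k)))) := by
      simp only [smul_sub, Finset.sum_sub_distrib]
      rw [← apm_comb, ← apm_comb, hc, map_zero, sub_zero]
    simp only [hA' hW, Finset.smul_sum, ← mul_smul] at h1
    rw [Finset.sum_comm (f := fun k l => (c k * rr hW (A k l)) • rm H (hW.trans hV) (h l))] at h1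
    simp only [← Finset.sum_smul] at h1
    refine ⟨W, le_rfl, hy, c, fun l => ?_⟩
    rw [show rr (le_refl W) (c l) = c l from rsR_id _]
    exact congrFun (B.coeff_unique (hW.trans hV) h1) l

/-- A surjection between finite free modules of the same rank is an isomorphism. -/
theorem isIso_of_epi (φ : F ⟶ G) [Epi φ] (r : ℕ)
    (hF : ∀ x : T, ∃ (U : Opens T) (_ : x ∈ U) (s : Fin r → sc F.val U), Basis s)
    (hG : ∀ x : T, ∃ (U : Opens T) (_ : x ∈ U) (s : Fin r → sc G.val U), Basis s) : IsIso φ := by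
  have : Mono φ := by
    refine mono_of_injective φ fun W => (injective_iff_map_eq_zero _).2 fun t ht => ext_local fun x hx => ?_
    obtain ⟨U₁, hx₁, f, hf⟩ := hF x
    obtain ⟨U₂, hx₂, g, hg⟩ := hG x
    obtain ⟨V₁, hV₁, hxV₁, u, hu⟩ := exists_lifts_of_epi φ hx₂ g
    obtain ⟨V₂, hV₂, hxV₂, B, hB⟩ := exists_coeffs hf.gens (inf_le_left : U₁ ⊓ V₁ ≤ U₁)
      (fun k => rm F inf_le_right (u k)) (show x ∈ U₁ ⊓ V₁ from ⟨hx₁, hxV₁⟩)
    obtain ⟨V₃, hV₃, hxV₃, A, hA⟩ := exists_coeffs hg.gens (inf_le_left : U₂ ⊓ V₂ ≤ U₂)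
      (fun l => apm φ.val (U₂ ⊓ V₂) (rm F (inf_le_right.trans (hV₂.trans inf_le_left)) (f l)))
      (show x ∈ U₂ ⊓ V₂ from ⟨hx₂, hxV₂⟩)
    obtain ⟨Z, hZ, hxZ, c, hc⟩ := hf.gens (W ⊓ (U₁ ⊓ V₃)) (inf_le_right.trans inf_le_left) (rm F inf_le_left t) x
      ⟨hx, hx₁, hxV₃⟩
    refine ⟨Z, hZ.trans inf_le_left, hxZ, ?_⟩
    have hZ3 : Z ≤ V₃ := hZ.trans (inf_le_right.trans inf_le_right)
    have hZ2 : Z ≤ V₂ := hZ3.trans (hV₃.trans inf_le_right)
    have hZ1 : Z ≤ V₁ := hZ2.trans (hV₂.trans inf_le_right)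
    have hZf : Z ≤ U₁ := hZ2.trans (hV₂.trans inf_le_left)
    have hZg : Z ≤ U₂ := hZ3.trans (hV₃.trans inf_le_left)
    let Bm : Matrix (Fin r) (Fin r) (rsec O Z) := fun k l => rr hZ2 (B k l)
    let Am : Matrix (Fin r) (Fin r) (rsec O Z) := fun l m => rr hZ3 (A l m)
    have hA' : ∀ l, apm φ.val Z (rm F hZf (f l)) = ∑ m, Am l m • rm G hZg (g m) := fun l => by
      have h1 := congrArg (rm G hZ3) (hA l)
      rw [rm_rm, rm_apm, rm_rm, rm_comb] at h1
      simp only [rm_rm] at h1
      exact h1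
    have hB' : ∀ k, rm F hZ1 (u k) = ∑ l, Bm k l • rm F hZf (f l) := fun k => by
      have h1 := congrArg (rm F hZ2) (hB k)
      rw [rm_rm, rm_rm, rm_comb] at h1
      simp only [rm_rm] at h1
      exact h1
    have hBA : Bm * Am = 1 := by
      refine Matrix.ext fun k m => ?_
      refine congrFun (hg.coeff_unique hZg (a := fun m => (Bm * Am) k m)
        (b := fun m => (1 : Matrix (Fin r) (Fin r) (rsec O Z)) k m) ?_) m
      have h1 := congrArg (apm φ.val Z) (hB' k)
      rw [← rm_apm, hu, rm_rm, apm_comb] at h1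
      simp only [hA', Finset.smul_sum, ← mul_smul] at h1
      rw [Finset.sum_comm] at h1
      simp only [← Finset.sum_smul] at h1
      refine (h1.symm.trans ?_)
      simp [Matrix.one_apply, ite_smul]
    have hAB : Am * Bm = 1 := mul_eq_one_comm.1 hBA
    rw [map_zero, ← rm_rm F inf_le_left hZ, hc]
    refine Finset.sum_eq_zero fun i _ => ?_
    have hcA : Matrix.vecMul c Am = 0 := by
      refine hg.indep Z hZg _ ?_
      have h1 := congrArg (apm φ.val Z) hc
      rw [rm_rm, ← rm_apm, ht, map_zero, apm_comb] at h1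
      simp only [hA', Finset.smul_sum, ← mul_smul] at h1
      rw [Finset.sum_comm] at h1
      simp only [← Finset.sum_smul] at h1
      exact h1.symm
    have hc0 : c = 0 := by
      have h1 := congrArg (fun v => Matrix.vecMul v Bm) hcA
      simp only [Matrix.vecMul_vecMul, hAB, Matrix.vecMul_one, Matrix.zero_vecMul] at h1
      exact h1
    rw [hc0, Pi.zero_apply, zero_smul]
  exact isIso_of_mono_of_epi φ

end Groth.SitesTopoi.SpaceLF
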