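import Groth.Agent.SitesTopoi.Mod.Invertible
import Groth.Agent.SitesTopoi.Mod.SpaceLF

/-!
Invertible sheaves of modules through sections; the open set where a section generates.
-/

set_option autoImplicit false

universe u

open CategoryTheory CategoryTheory.Limits Opposite TopologicalSpace MonoidalCategory

set_option backward.defeqAttrib.useBackward true
set_option backward.isDefEq.respectTransparency false
set_option backward.isDefEq.respectTransparency.types false
set_option synthInstance.maxHeartbeats 400000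

namespace Groth.SitesTopoi.InvertibleSec

open Groth.SitesTopoi.ModH Groth.SitesTopoi.PullTensor Groth.SitesTopoi.Invertible

variable {C : Type u} [SmallCategory C] {J : GrothendieckTopology C} {O : Sheaf J CommRingCat.{u}}
  {L L' M N P : ModSite.Mod O}

lemma mapLeft_tau (φ : M ⟶ P) {V : C} (x : sc M.val V) (y : sc N.val V) :
    apm (((ModSite.tensorBi O).map φ).app N).val V (tau M N x y) = tau P N (apm φ.val V x) y :=
  etaP_naturality (MonoidalCategory.whiskerRight (C := PM O) φ.val N.val) V (tm x y)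

lemma mapRight_tau (φ : N ⟶ P) {V : C} (x : sc M.val V) (y : sc N.val V) :
    apm (((ModSite.tensorBi O).obj M).map φ).val V (tau M N x y) = tau M P x (apm φ.val V y) :=
  etaP_naturality (MonoidalCategory.whiskerLeft (C := PM O) M.val φ.val) V (tm x y)

lemma symIso_tau {V : C} (x : sc M.val V) (y : sc N.val V) :
    apm (symIso M N).hom.val V (tau M N x y) = tau N M y x :=
  etaP_naturality ((β_ (show PM O from M.val) (show PM O from N.val)).hom) V (tm x y)

lemma unitTensorIso_tau {V : C} (r : rsec O V) (x : sc M.val V) :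
    apm ((unitTensorIso O).hom.app M).val V (tau (ModSite.unit O) M r x) = r • x := by
  change apm ((adjP O).counit.app M).val V
    (apm ((aP O).map (leftUnitor (C := PM O) M.val).hom).val V (tau (ModSite.unit O) M r x)) = r • x
  refine (congrArg (apm ((adjP O).counit.app M).val V)
    (etaP_naturality (leftUnitor (C := PM O) M.val).hom V (tm (M := (ModSite.unit O).val) r x))).trans ?_
  exact congrArg (fun g => apm g V (r • x)) ((adjP O).right_triangle_components M)

lemma assocApp_tau {V : C} (x : sc L.val V) (y : sc M.val V) (z : sc N.val V) :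
    apm (TensorAssoc.assocApp L M N).hom.val V (tau (tMN L M) N (tau L M x y) z) =
      tau L (tMN M N) x (tau M N y z) := by
  have h1 := isIso_aP_map_whiskerRight (etaP (L.val ⊗ M.val : PM O)) N.val
  have e : tau (tMN L M) N (tau L M x y) z = apm ((aP O).map (etaP (L.val ⊗ M.val : PM O) ▷ N.val)).val V
      (apm (etaP ((L.val ⊗ M.val) ⊗ N.val : PM O)) V (tm (tm x y) z)) :=
    (etaP_naturality (etaP (L.val ⊗ M.val : PM O) ▷ N.val) V (tm (tm x y) z)).symm
  change apm ((aP O).map (MonoidalCategory.whiskerLeft (C := PM O) L.val (etaP (M.val ⊗ N.val : PM O)))).val V (apm ((aP O).map (α_ (show PM O from L.val) M.val N.val).hom).val V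
    (apm (inv ((aP O).map (etaP (L.val ⊗ M.val : PM O) ▷ N.val))).val V (tau (tMN L M) N (tau L M x y) z))) = _
  refine (congrArg (fun q => apm ((aP O).map (MonoidalCategory.whiskerLeft (C := PM O) L.val (etaP (M.val ⊗ N.val : PM O)))).val V
    (apm ((aP O).map (α_ (show PM O from L.val) M.val N.val).hom).val V
    (apm (inv ((aP O).map (etaP (L.val ⊗ M.val : PM O) ▷ N.val))).val V q))) e).trans ?_
  refine (congrArg (fun q => apm ((aP O).map (MonoidalCategory.whiskerLeft (C := PM O) L.val (etaP (M.val ⊗ N.val : PM O)))).val V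
    (apm ((aP O).map (α_ (show PM O from L.val) M.val N.val).hom).val V q))
    (congrArg (fun g => apm (SheafOfModules.Hom.val g) V (apm (etaP ((L.val ⊗ M.val) ⊗ N.val : PM O)) V (tm (tm x y) z)))
      (IsIso.hom_inv_id ((aP O).map (etaP (L.val ⊗ M.val : PM O) ▷ N.val))))).trans ?_
  refine (congrArg (apm ((aP O).map (MonoidalCategory.whiskerLeft (C := PM O) L.val (etaP (M.val ⊗ N.val : PM O)))).val V)
    (etaP_naturality (α_ (show PM O from L.val) M.val N.val).hom V (tm (tm x y) z))).trans ?_
  exact etaP_naturality (MonoidalCategory.whiskerLeft (C := PM O) L.val (etaP (M.val ⊗ N.val : PM O))) V (tm x (tm y z))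

variable (e : tMN L L' ≅ ModSite.unit O)

/-- The pairing of an invertible module with its inverse. -/
noncomputable def pair {V : C} (x : sc L.val V) (y : sc L'.val V) : rsec O V :=
  apm e.hom.val V (tau L L' x y)

lemma pair_smul_left {V : C} (r : rsec O V) (x : sc L.val V) (y : sc L'.val V) :
    pair e (r • x) y = r * pair e x y :=
  (congrArg (fun q => apm e.hom.val V (apm (etaP (L.val ⊗ L'.val : PM O)) V q)) (tm_smul_left r x y)).trans
    ((congrArg (apm e.hom.val V) (map_smul _ _ _)).trans (map_smul _ _ _))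

lemma pair_smul_right {V : C} (r : rsec O V) (x : sc L.val V) (y : sc L'.val V) :
    pair e x (r • y) = r * pair e x y :=
  (congrArg (fun q => apm e.hom.val V (apm (etaP (L.val ⊗ L'.val : PM O)) V q)) (tm_smul_right r x y)).trans
    ((congrArg (apm e.hom.val V) (map_smul _ _ _)).trans (map_smul _ _ _))

lemma rsR_pair {V W : C} (k : W ⟶ V) (x : sc L.val V) (y : sc L'.val V) :
    rsR k (pair e x y) = pair e (rsm L.val k x) (rsm L'.val k y) :=
  (apm_rsm e.hom.val k (tau L L' x y)).symm.trans (congrArg (apm e.hom.val W) (rsm_tau L L' k x y))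

/-- The automorphism comparing the two ways of contracting. -/
noncomputable def theta : L ≅ L :=
  ((unitTensorIso O).app L).symm ≪≫ (((ModSite.tensorBi O).mapIso e).app L).symm ≪≫
    TensorAssoc.assocApp L L' L ≪≫ ((ModSite.tensorBi O).obj L).mapIso (symIso L' L ≪≫ e) ≪≫
    symIso L (ModSite.unit O) ≪≫ (unitTensorIso O).app L

lemma theta_pair {V : C} (t a : sc L.val V) (y : sc L'.val V) :
    apm (theta e).hom.val V (pair e t y • a) = pair e a y • t := by
  let z := tau (tMN L L') L (tau L L' t y) a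
  have h1 : apm ((unitTensorIso O).hom.app L).val V (apm (((ModSite.tensorBi O).map e.hom).app L).val V z) =
      pair e t y • a :=
    (congrArg (apm ((unitTensorIso O).hom.app L).val V) (mapLeft_tau e.hom _ a)).trans (unitTensorIso_tau _ a)
  have h2 : ((((ModSite.tensorBi O).mapIso e).app L) ≪≫ (unitTensorIso O).app L).hom ≫ (theta e).hom =
      (TensorAssoc.assocApp L L' L ≪≫ ((ModSite.tensorBi O).obj L).mapIso (symIso L' L ≪≫ e) ≪≫
        symIso L (ModSite.unit O) ≪≫ (unitTensorIso O).app L).hom := by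
    simp [theta]
  have h3 := congrArg (fun g => apm (SheafOfModules.Hom.val g) V z) h2
  rw [← h1]
  refine h3.trans ?_
  change apm ((unitTensorIso O).hom.app L).val V (apm (symIso L (ModSite.unit O)).hom.val V
    (apm (((ModSite.tensorBi O).obj L).map ((symIso L' L).hom ≫ e.hom)).val V
      (apm (TensorAssoc.assocApp L L' L).hom.val V z))) = _
  rw [assocApp_tau, mapRight_tau]
  refine (congrArg (apm ((unitTensorIso O).hom.app L).val V) (symIso_tau _ _)).trans ?_
  refine (unitTensorIso_tau _ _).trans ?_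
  exact congrArg (fun q => apm e.hom.val V q • t) (symIso_tau y a)

lemma exists_sum_tm {A B : PM O} {V : C} (w : sc (A ⊗ B : PM O) V) :
    ∃ (n : ℕ) (x : Fin n → sc A V) (y : Fin n → sc B V), w = ∑ i, tm (x i) (y i) := by
  induction w using tens_induction with
  | zero => exact ⟨0, Fin.elim0, Fin.elim0, Finset.sum_empty.symm⟩
  | tmul a b => exact ⟨1, fun _ => a, fun _ => b, by simp⟩
  | add w₁ w₂ h₁ h₂ =>
    obtain ⟨n₁, x₁, y₁, rfl⟩ := h₁
    obtain ⟨n₂, x₂, y₂, rfl⟩ := h₂
    refine ⟨n₁ + n₂, Fin.append x₁ x₂, Fin.append y₁ y₂, ?_⟩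
    rw [Fin.sum_univ_add]
    simp only [Fin.append_left, Fin.append_right]

end Groth.SitesTopoi.InvertibleSec

namespace Groth.SitesTopoi.InvertibleSec.Space

open Groth.SitesTopoi.ModH Groth.AdicLinTop.SpacePres Groth.SitesTopoi.SpaceGerm Groth.SitesTopoi.SpaceFT
  Groth.SitesTopoi.SpaceLF Groth.SitesTopoi.PullTensor

variable {T : Type u} [TopologicalSpace T] {O : Sheaf (Opens.grothendieckTopology T) CommRingCat.{u}}
  {L L' : ModSite.Mod O} (e : tMN L L' ≅ ModSite.unit O)

lemma exists_pair_one {U : Opens T} {x : T} (hx : x ∈ U) :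
    ∃ (V : Opens T) (_ : V ≤ U) (_ : x ∈ V) (n : ℕ) (a : Fin n → sc L.val V) (b : Fin n → sc L'.val V),
      ∑ i, pair e (a i) (b i) = 1 := by
  obtain ⟨S, hS, hS'⟩ := locSurj_etaP (L.val ⊗ L'.val : PM O) U (apm e.inv.val U (1 : rsec O U))
  obtain ⟨V, hV, hxV, hSV⟩ := exists_nhd_of_mem hS hx
  obtain ⟨w, hw⟩ := hS' _ hSV
  obtain ⟨n, a, b, rfl⟩ := exists_sum_tm w
  refine ⟨V, hV, hxV, n, a, b, ?_⟩
  have h := congrArg (apm e.hom.val V) hw
  rw [map_sum, map_sum] at h
  refine h.trans ((apm_rsm e.hom.val _ _).trans ?_)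
  refine (congrArg (rsm (ModSite.unit O).val (homOfLE hV))
    (congrArg (fun g => apm (SheafOfModules.Hom.val g) U (1 : rsec O U)) e.inv_hom_id)).trans ?_
  exact map_one (rsR (homOfLE hV))

include e in
/-- A section whose germ is not in the maximal ideal times the stalk generates nearby. -/
theorem exists_basis {U : Opens T} (s : sc L.val U) {x : T} (hx : x ∈ U) [IsLocalRing (ModSite.stalkRing (pt x) O)]
    (hs : gm L hx s ∉ IsLocalRing.maximalIdeal (ModSite.stalkRing (pt x) O) •
      (⊤ : Submodule (ModSite.stalkRing (pt x) O) (ModSite.stalkAb (pt x) L))) :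
    ∃ (W : Opens T) (hW : W ≤ U) (_ : x ∈ W), Basis fun _ : Fin 1 => rm L hW s := by
  obtain ⟨V, hV, hxV, n, a, b, h1⟩ := exists_pair_one e hx
  have hi : ∃ i, IsUnit (gr hxV (pair e (rm L hV s) (b i))) := by
    by_contra hc
    refine hs ?_
    have h2 : apm (theta e).hom.val V (∑ i, pair e (rm L hV s) (b i) • a i) = rm L hV s := by
      rw [map_sum]
      refine (Finset.sum_congr rfl fun i _ => theta_pair e (rm L hV s) (a i) (b i)).trans ?_
      rw [← Finset.sum_smul, h1, one_smul]
    rw [← gm_rm hV hxV s, ← h2, ← stalkMap_gm (theta e).hom hxV, gm_comb, map_sum]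
    refine Submodule.sum_mem _ fun i _ => ?_
    rw [map_smul]
    refine Submodule.smul_mem_smul ?_ Submodule.mem_top
    exact (IsLocalRing.mem_maximalIdeal _).2 fun hu => hc ⟨i, hu⟩
  obtain ⟨i, hi⟩ := hi
  obtain ⟨v, hv⟩ := hi.exists_left_inv
  obtain ⟨V', hxV', r, rfl⟩ := gr_surj v
  have hx2 : x ∈ V ⊓ V' := ⟨hxV, hxV'⟩
  obtain ⟨W, hW, hxW, he⟩ := gr_eq_fin hx2
    (a := fun _ : Fin 1 => rr inf_le_right r * rr inf_le_left (pair e (rm L hV s) (b i))) (b := fun _ => 1)
    fun _ => by rw [map_mul, gr_rr, gr_rr, map_one]; exact hv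
  have hWV : W ≤ V := hW.trans inf_le_left
  have hWU : W ≤ U := hWV.trans hV
  let y : sc L'.val W := rr (hW.trans inf_le_right) r • rm L' hWV (b i)
  have hy : pair e (rm L hWU s) y = 1 := by
    rw [pair_smul_right]
    have h := he 0
    rw [map_mul, rr_rr, rr_rr, map_one] at h
    refine Eq.trans (congrArg (_ * ·) ?_) h
    refine Eq.trans ?_ (rsR_pair e (homOfLE hWV) (rm L hV s) (b i)).symm
    exact congrArg (fun q => pair e q (rm L' hWV (b i))) (rm_rm L hV hWV s).symm
  have key : ∀ {Z : Opens T} (hZ : Z ≤ W) (t : sc L.val Z),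
      t = pair e t (rm L' hZ y) • rm L (hZ.trans hWU) s := by
    intro Z hZ t
    have h0 : pair e (rm L (hZ.trans hWU) s) (rm L' hZ y) = 1 := by
      refine Eq.trans ?_ ((congrArg (rr hZ) hy).trans (map_one _))
      refine Eq.trans ?_ (rsR_pair e (homOfLE hZ) (rm L hWU s) y).symm
      exact congrArg (fun q => pair e q (rm L' hZ y)) (rm_rm L hWU hZ s).symm
    have hθ := theta_pair e (rm L (hZ.trans hWU) s) (rm L (hZ.trans hWU) s) (rm L' hZ y)
    rw [h0, one_smul] at hθ
    have ht := theta_pair e t (rm L (hZ.trans hWU) s) (rm L' hZ y)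
    rw [h0, one_smul, map_smul, hθ] at ht
    exact ht.symm
  refine ⟨W, hWU, hxW, fun Z hZ t z hz => ⟨Z, le_rfl, hz, fun _ => pair e t (rm L' hZ y), ?_⟩, fun Z hZ c hc => ?_⟩
  · rw [rm_self, Fin.sum_univ_one, rm_rm]
    exact key hZ t
  · rw [Fin.sum_univ_one, rm_rm] at hc
    have h0 : pair e (rm L (hZ.trans hWU) s) (rm L' hZ y) = 1 := by
      refine Eq.trans ?_ ((congrArg (rr hZ) hy).trans (map_one _))
      refine Eq.trans ?_ (rsR_pair e (homOfLE hZ) (rm L hWU s) y).symm
      exact congrArg (fun q => pair e q (rm L' hZ y)) (rm_rm L hWU hZ s).symm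
    have h := congrArg (fun q => pair e q (rm L' hZ y)) hc
    simp only [pair_smul_left, h0, mul_one] at h
    rw [show (0 : sc L.val Z) = (0 : rsec O Z) • (0 : sc L.val Z) from (zero_smul _ _).symm, pair_smul_left, zero_mul] at h
    funext k
    rw [Subsingleton.elim k 0]
    exact h

/-- Where a section generates, it is a free generator of the stalk. -/
theorem bijective_of_basis {W : Opens T} {s : sc L.val W} (B : Basis fun _ : Fin 1 => s) {x : T} (hx : x ∈ W) :
    Function.Bijective fun a : ModSite.stalkRing (pt x) O => (a • gm L hx s : ModSite.stalkAb (pt x) L) := by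
  have h := (B.gm_bijective hx).comp (LinearEquiv.funUnique (Fin 1) (ModSite.stalkRing (pt x) O)
    (ModSite.stalkRing (pt x) O)).symm.bijective
  refine (Equiv.bijective_comp (Equiv.refl _) _).1 ?_
  convert h using 1
  funext a
  simp [Fintype.linearCombination_apply]

lemma not_mem_of_bijective {x : T} [IsLocalRing (ModSite.stalkRing (pt x) O)] {μ : ModSite.stalkAb (pt x) L}
    (h : Function.Bijective fun a : ModSite.stalkRing (pt x) O => (a • μ : ModSite.stalkAb (pt x) L)) :
    μ ∉ IsLocalRing.maximalIdeal (ModSite.stalkRing (pt x) O) •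
      (⊤ : Submodule (ModSite.stalkRing (pt x) O) (ModSite.stalkAb (pt x) L)) := by
  intro hm
  have key : ∀ ν ∈ IsLocalRing.maximalIdeal (ModSite.stalkRing (pt x) O) •
      (⊤ : Submodule (ModSite.stalkRing (pt x) O) (ModSite.stalkAb (pt x) L)),
      ∃ c ∈ IsLocalRing.maximalIdeal (ModSite.stalkRing (pt x) O), ν = c • μ := by
    intro ν hν
    refine Submodule.smul_induction_on hν (fun r hr m _ => ?_) fun a b ha hb => ?_
    · obtain ⟨d, rfl⟩ := h.2 m
      exact ⟨r * d, Ideal.mul_mem_right _ _ hr, (mul_smul r d μ).symm⟩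
    · obtain ⟨c, hc, rfl⟩ := ha
      obtain ⟨d, hd, rfl⟩ := hb
      exact ⟨c + d, add_mem hc hd, (add_smul c d μ).symm⟩
  obtain ⟨c, hc, he⟩ := key μ hm
  refine (IsLocalRing.mem_maximalIdeal _).1 hc ?_
  rw [show c = 1 from (h.1 ((one_smul _ μ).trans he)).symm]
  exact isUnit_one

include e in
/-- The locus where a section of an invertible module generates. -/
theorem isOpen_and_bijective (hO : ∀ x : T, IsLocalRing (ModSite.stalkRing (pt x) O)) (U : Opens T) (s : sc L.val U) :
    IsOpen {x : T | ∃ hx : x ∈ U, gm L hx s ∉ (@IsLocalRing.maximalIdeal (ModSite.stalkRing (pt x) O) _ (hO x)) •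
        (⊤ : Submodule (ModSite.stalkRing (pt x) O) (ModSite.stalkAb (pt x) L))} ∧
      ∀ (x : T) (hx : x ∈ U), gm L hx s ∉ (@IsLocalRing.maximalIdeal (ModSite.stalkRing (pt x) O) _ (hO x)) •
          (⊤ : Submodule (ModSite.stalkRing (pt x) O) (ModSite.stalkAb (pt x) L)) →
        Function.Bijective (fun a : ModSite.stalkRing (pt x) O => (a • gm L hx s : ModSite.stalkAb (pt x) L)) := by
  refine ⟨isOpen_iff_forall_mem_open.2 fun x ⟨hx, hs⟩ => ?_, fun x hx hs => ?_⟩
  · have := hO x
    obtain ⟨W, hW, hxW, B⟩ := exists_basis e s hx hs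
    refine ⟨W, fun y hy => ⟨hW hy, ?_⟩, W.isOpen, hxW⟩
    have := hO y
    rw [← gm_rm hW hy s]
    exact not_mem_of_bijective (bijective_of_basis B hy)
  · have := hO x
    obtain ⟨W, hW, hxW, B⟩ := exists_basis e s hx hs
    rw [← gm_rm hW hxW s]
    exact bijective_of_basis B hxW

end Groth.SitesTopoi.InvertibleSec.Space
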