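import Groth.Agent.SitesTopoi.Mod.GenSys
import Groth.Agent.SitesTopoi.Mod.PullTensor
import Mathlib.Algebra.Category.ModuleCat.Sheaf.Quasicoherent

/-!
The inverse image preserves local generation, finite type, quasi-coherence, finite presentation and local freeness.
-/

set_option autoImplicit false

universe u

open CategoryTheory CategoryTheory.Limits Opposite

set_option backward.defeqAttrib.useBackward true
set_option backward.isDefEq.respectTransparency false
set_option backward.isDefEq.respectTransparency.types false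
set_option synthInstance.maxHeartbeats 400000

namespace Groth.SitesTopoi.GenSysPull

open Groth.SitesTopoi.ModH Groth.SitesTopoi.GenSys Groth.Misc4.FlatFactor

variable {C D : Type u} [SmallCategory C] [SmallCategory D] {J : GrothendieckTopology C}
  {K : GrothendieckTopology D} {O_C : Sheaf J CommRingCat.{u}} {O_D : Sheaf K CommRingCat.{u}}
  (f : ModSite.RMor O_C O_D)

section Points

variable {M : ModSite.Mod O_D}

/-- The image of a family of sections. -/
noncomputable def pe {d : D} {I : Type u} (e : I → sc M.val d) : I → sc (f.pull.obj M).val (f.fn.obj d) :=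
  fun i => thetaD f M d (e i)

/-- The image of a family of relations. -/
noncomputable def pc {d : D} {I R : Type u} (c : R → I → rsec O_D d) : R → I → rsec O_C (f.fn.obj d) :=
  fun k i => shf f d (c k i)

/-- The image of a vector. -/
noncomputable def pv {c : C} {d : D} {I : Type u} (β : c ⟶ f.fn.obj d) : (I →₀ rsec O_D d) →+ (I →₀ rsec O_C c) :=
  Finsupp.mapRange.addMonoidHom (sha f β).toAddMonoidHom

lemma lc_pv {c : C} {d₀ d : D} {I : Type u} (e : I → sc M.val d₀) (w : d ⟶ d₀) (β : c ⟶ f.fn.obj d)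
    (a : I →₀ rsec O_D d) :
    lc (res (pe f e) (β ≫ f.fn.map w)) (pv f β a) = rsm (f.pull.obj M).val β (thetaD f M d (lc (res e w) a)) := by
  induction a using Finsupp.induction_linear with
  | zero => simp
  | add a b ha hb => simp only [map_add, ha, hb]
  | single i r =>
    simp only [lc, pv, pe, res, Finsupp.mapRange.addMonoidHom_apply, Finsupp.mapRange_single,
      Finsupp.linearCombination_single, RingHom.toAddMonoidHom_eq_coe, AddMonoidHom.coe_coe]
    rw [thetaD_smul, rsm_smul, thetaD_rsm, rsm_rsm]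
    rfl

lemma lc_smul {V : C} {I : Type u} {N : ModSite.Mod O_C} (v : I → sc N.val V) (r : rsec O_C V) (a : I →₀ rsec O_C V) :
    lc v (r • a) = r • lc v a := map_smul _ r a

lemma gens_pull {d : D} {I : Type u} {e : I → sc M.val d} (he : Gens e) : Gens (pe f e) := by
  classical
  have hl : LocFiltered J K f.fn := locFiltered (J := J) (K := K) f.fn
  intro c γ t
  obtain ⟨S, hS, hS'⟩ := locSurj_etaP (Qp f M) c (apm (fromPull f M).val c t)
  refine exists_refine hS fun c₁ g hg => ?_
  obtain ⟨q, hq⟩ := hS' g hg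
  obtain ⟨T, hT, hT'⟩ := exists_repr (f := f) (M := M) hl fun _ : Fin 1 => q
  refine exists_refine hT fun c₂ k hk => ?_
  obtain ⟨d', β, v, hv⟩ := hT' k hk
  have ht : rsm (f.pull.obj M).val (k ≫ g) t = (v 0).sum fun x a => a • rsm (f.pull.obj M).val β (thetaD f M d' x) := by
    rw [← toPull_vecTo, ← hv 0, apm_rsm (etaP (Qp f M)), hq]
    refine (congrArg (fun ψ => apm (SheafOfModules.Hom.val ψ) c₂ (rsm (f.pull.obj M).val (k ≫ g) t))
      (pullIso f M).hom_inv_id).symm.trans (congrArg (apm (toPull f M).val c₂) ?_)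
    exact (apm_rsm (fromPull f M).val (k ≫ g) t).trans (rsm_rsm _ g k _).symm
  obtain ⟨T₁, hT₁, hT₁'⟩ := hl.pair c₂ d' d β ((k ≫ g) ≫ γ)
  refine exists_refine hT₁ fun c₃ l hl' => ?_
  obtain ⟨d'', u₁, u₂, β₁, e₁, e₂⟩ := hT₁' l hl'
  obtain ⟨S₂, hS₂, hS₂'⟩ := he.exists_coeffs u₂ (fun x : sc M.val d' => rsm M.val u₁ x) (v 0).support
  obtain ⟨T₂, hT₂, hT₂'⟩ := hl.cover d'' S₂ hS₂ c₃ β₁
  refine ⟨T₂, hT₂, fun c₄ m hm => ?_⟩
  obtain ⟨d₃, w, β₂, hw, e₃⟩ := hT₂' m hm
  obtain ⟨A, hA⟩ := hS₂' w hw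
  refine ⟨(v 0).sum fun x a => rsR (m ≫ l) a • pv f β₂ (A x), ?_⟩
  have e0 : rsm (f.pull.obj M).val (m ≫ l ≫ k ≫ g) t =
      rsm (f.pull.obj M).val (m ≫ l) (rsm (f.pull.obj M).val (k ≫ g) t) := by
    rw [rsm_rsm]
    simp only [Category.assoc]
  simp only [Category.assoc]
  rw [e0, ht]
  simp only [Finsupp.sum, map_sum, lc_smul, rsm_smul, rsm_rsm]
  refine Finset.sum_congr rfl fun x hx => congrArg _ ?_
  have hγ : β₂ ≫ f.fn.map (w ≫ u₂) = m ≫ l ≫ k ≫ g ≫ γ := by
    rw [Functor.map_comp, ← Category.assoc, e₃, Category.assoc, e₂]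
    simp only [Category.assoc]
  have hβ : (m ≫ l) ≫ β = β₂ ≫ f.fn.map (w ≫ u₁) := by
    rw [Functor.map_comp, ← Category.assoc, e₃, Category.assoc, Category.assoc, e₁]
  rw [← hγ, lc_pv, ← hA x hx, rsm_rsm, thetaD_rsm, rsm_rsm, hβ]

variable {I R : Type u}

lemma pv_mem_relSpan {c : C} {d₀ d : D} {r : R → I → rsec O_D d₀} {w : d ⟶ d₀} (β : c ⟶ f.fn.obj d) {a : I → rsec O_D d}
    (ha : a ∈ relSpan r w) : (fun i => sha f β (a i)) ∈ relSpan (pc f r) (β ≫ f.fn.map w) := by
  induction ha using Submodule.span_induction with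
  | zero =>
    simp only [Pi.zero_apply, map_zero]
    exact zero_mem _
  | add a b _ _ ha hb =>
    simp only [Pi.add_apply, map_add]
    exact add_mem ha hb
  | smul r a _ ha =>
    simp only [Pi.smul_apply, smul_eq_mul, map_mul]
    exact Submodule.smul_mem _ (sha f β r) ha
  | mem a ha =>
    obtain ⟨k, rfl⟩ := ha
    refine Submodule.subset_span ⟨k, funext fun i => ?_⟩
    rw [sha_rsR]
    rfl

theorem pres_pull {d : D} {e : I → sc M.val d} {r : R → I → rsec O_D d} (P : Pres e r) : Pres (pe f e) (pc f r) := by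
  classical
  have hl : LocFiltered J K f.fn := locFiltered (J := J) (K := K) f.fn
  refine ⟨gens_pull f P.gens, fun k => ?_, fun c γ a ha => ?_⟩
  · obtain ⟨S, hS, hS'⟩ := P.zero k
    obtain ⟨T, hT, hT'⟩ := hl.cover d S hS (f.fn.obj d) (𝟙 _)
    refine ⟨T, hT, fun c h hh => ?_⟩
    obtain ⟨d', w, β, hw, eβ⟩ := hT' h hh
    rw [Category.comp_id] at eβ
    obtain ⟨a, ha, ha0⟩ := hS' w hw
    refine ⟨pv f β a, fun i => ?_, ?_⟩
    · show sha f β (a i) = rsR h (shf f d (r k i))
      rw [ha, sha_rsR, eβ]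
      rfl
    · rw [← eβ, lc_pv, ha0, map_zero, map_zero]
  let v : Vec (O_C := O_C) M d c := a.mapDomain e
  have hv : apm (PullTensor.qTo f M) c (vecTo f M γ v) = 0 := by
    refine Eq.trans ?_ ha
    rw [vecTo, show v = a.mapDomain e from rfl, Finsupp.linearCombination_mapDomain]
    simp only [lc, Finsupp.linearCombination_apply, Finsupp.sum, map_sum, map_smul, Function.comp_apply]
    exact Finset.sum_congr rfl fun i _ => congrArg (fun z : sc (f.pull.obj M).val c => a i • z) (PullTensor.qTo_ge f M γ (e i))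
  obtain ⟨T₀, hT₀, hT₀'⟩ := ((isIso_aP_map_iff (PullTensor.qTo f M)).1 (PullTensor.isIso_aP_map_qTo f M)).1 c _ hv
  refine exists_refine hT₀ fun c₁ l hl' => ?_
  have h1 : vecTo f M (l ≫ γ) (vpush M (𝟙 d) l v) = 0 := by
    rw [vecTo_vpush f M (𝟙 d) l γ (l ≫ γ) (by simp), hT₀' l hl']
  obtain ⟨T₁, hT₁, hT₁'⟩ := exists_rel₀ hl (l ≫ γ) _ h1
  refine exists_refine hT₁ fun c₂ m hm => ?_
  obtain ⟨d₁, w, β₁, hw, hmem⟩ := hT₁' m hm
  rw [vpush_vpush, Category.comp_id] at hmem
  obtain ⟨n, s, q, hq⟩ := Submodule.mem_span_set'.1 hmem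
  choose ρ hρ hρ' using fun j => (q j).2
  let X : Finset (sc M.val d₁) :=
    Finset.univ.biUnion (fun j => (ρ j).support) ∪ a.support.image fun i => rsm M.val w (e i)
  obtain ⟨S₂, hS₂, hS₂'⟩ := P.gens.exists_coeffs w (fun x : sc M.val d₁ => x) X
  obtain ⟨T₂, hT₂, hT₂'⟩ := hl.cover d₁ S₂ hS₂ c₂ β₁
  refine exists_refine hT₂ fun c₃ p hp => ?_
  obtain ⟨d₂, g, β₂, hg, e₂⟩ := hT₂' p hp
  obtain ⟨A, hA⟩ := hS₂' g hg
  -- the vectors with vanishing combination
  let κ : Type u := ULift.{u} (Fin n) ⊕ I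
  let bad : κ → (I →₀ rsec O_D d₂) := Sum.elim (fun j => (ρ j.down).sum fun x b => rsR g b • A x)
    (fun i => Finsupp.single i 1 - A (rsm M.val w (e i)))
  let sK : Finset κ := (Finset.univ.map ⟨Sum.inl, Sum.inl_injective⟩) ∪ (a.support.map ⟨Sum.inr, Sum.inr_injective⟩)
  have hbad : ∀ x ∈ sK, lc (res e (g ≫ w)) (bad x) = 0 := by
    intro x hx
    rcases x with j | i
    · have e1 : rsm M.val g (combD M d₁ (ρ j.down)) = 0 := by
        rw [show combD M d₁ (ρ j.down) = 0 from hρ j.down, map_zero]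
      refine Eq.trans ?_ e1
      simp only [bad, Sum.elim_inl, combD, Finsupp.linearCombination_apply, Finsupp.sum, map_sum, map_smul, rsm_smul, id_eq]
      refine Finset.sum_congr rfl fun y hy => congrArg _ ?_
      exact (hA y (Finset.mem_union_left _ (Finset.mem_biUnion.2 ⟨j.down, Finset.mem_univ _, hy⟩))).symm
    · have hi : i ∈ a.support := by
        simpa [sK] using hx
      simp only [bad, Sum.elim_inr, map_sub]
      rw [← hA (rsm M.val w (e i)) (Finset.mem_union_right _ (Finset.mem_image_of_mem _ hi)), rsm_rsm]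
      simp [lc, res]
  obtain ⟨S₃, hS₃, hS₃'⟩ := P.ker_finset (g ≫ w) bad sK hbad
  obtain ⟨T₃, hT₃, hT₃'⟩ := hl.cover d₂ S₃ hS₃ c₃ β₂
  refine ⟨T₃, hT₃, fun c₄ o ho => ?_⟩
  obtain ⟨d₃, g₃, β₃, hg₃, e₃⟩ := hT₃' o ho
  let Hc : c₄ ⟶ c₂ := o ≫ p
  have hγ : β₃ ≫ f.fn.map (g₃ ≫ g ≫ w) = (((o ≫ p) ≫ m) ≫ l) ≫ γ := by
    rw [Functor.map_comp, ← Category.assoc, e₃, Functor.map_comp, Category.assoc, ← Category.assoc β₂, e₂,
      Category.assoc, hw]
    simp only [Category.assoc]
  let B : sc M.val d₁ → I → rsec O_C c₄ := fun x i => sha f β₃ (rsR g₃ (A x i))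
  let Φ : Vec (O_C := O_C) M d₁ c₂ →+ (I → rsec O_C c₄) :=
    Finsupp.liftAddHom fun x =>
      { toFun := fun b i => rsR Hc b * B x i
        map_zero' := funext fun i => by simp
        map_add' := fun b b' => funext fun i => by simp [add_mul] }
  have hΦ : ∀ x b i, Φ (Finsupp.single x b) i = rsR Hc b * B x i := fun x b i => by
    simp only [Φ, Finsupp.liftAddHom_apply_single]
    rfl
  have hΦv : ∀ z i, Φ z i = z.sum fun x b => rsR Hc b * B x i := fun z i => by
    conv_lhs => rw [← Finsupp.sum_single z]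
    simp only [Finsupp.sum, map_sum, Finset.sum_apply, hΦ]
  have hbad' : ∀ x ∈ sK, (fun i => sha f β₃ (rsR g₃ (bad x i))) ∈ relSpan (pc f r) ((((o ≫ p) ≫ m) ≫ l) ≫ γ) := by
    intro x hx
    rw [← hγ]
    exact pv_mem_relSpan f β₃ (hS₃' g₃ hg₃ x hx)
  have hΦs : ∀ (b : rsec O_C c₂) z, Φ (b • z) = rsR Hc b • Φ z := fun b z => by
    induction z using Finsupp.induction_linear with
    | zero => simp
    | add x y hx hy => simp only [smul_add, map_add, hx, hy]
    | single x r' =>
      funext i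
      rw [Finsupp.smul_single, hΦ, Pi.smul_apply, hΦ, smul_eq_mul, smul_eq_mul, map_mul, mul_assoc]
  have hcomm : ∀ b, rsR Hc (sha f β₁ b) = sha f β₃ (rsR g₃ (rsR g b)) := fun b => by
    rw [rsR_sha, sha_rsR, sha_rsR, e₃]
    simp only [Hc, Category.assoc, e₂]
  have hrel : Φ (vpush M w (m ≫ l) v) ∈ relSpan (pc f r) ((((o ≫ p) ≫ m) ≫ l) ≫ γ) := by
    rw [← hq, map_sum]
    refine Submodule.sum_mem _ fun j _ => ?_
    rw [hΦs]
    refine Submodule.smul_mem _ _ ?_
    have e1 : Φ ((ρ j).mapRange (sha f β₁) (map_zero _)) = fun i => sha f β₃ (rsR g₃ (bad (Sum.inl ⟨j⟩) i)) := by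
      funext i
      rw [hΦv, Finsupp.sum_mapRange_index (fun x => by simp)]
      simp only [bad, Sum.elim_inl, Finsupp.sum, Finsupp.finsetSum_apply, Finsupp.smul_apply, smul_eq_mul, map_sum,
        map_mul, hcomm, B]
    have e2 := hbad' (Sum.inl ⟨j⟩) (by simp [sK])
    rw [← e1] at e2
    exact (hρ' j) ▸ e2
  let H : c₄ ⟶ c := ((o ≫ p) ≫ m) ≫ l
  have hv : vpush M w (m ≫ l) v =
      ∑ i ∈ a.support, Finsupp.single (rsm M.val w (e i)) (rsR (m ≫ l) (a i)) := by
    simp only [v, Finsupp.mapDomain, Finsupp.sum, map_sum, vpush_single]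
  have key : (fun i => rsR H (a i)) =
      Φ (vpush M w (m ≫ l) v) + ∑ i ∈ a.support, rsR H (a i) • fun i' => sha f β₃ (rsR g₃ (bad (Sum.inr i) i')) := by
    funext i'
    rw [hv, map_sum, Pi.add_apply, Finset.sum_apply, Finset.sum_apply, ← Finset.sum_add_distrib]
    have hH : ∀ i, rsR Hc (rsR (m ≫ l) (a i)) = rsR H (a i) := fun i => by
      rw [rsR_rsR]
      simp only [H, Hc, Category.assoc]
    simp only [hΦ, hH, bad, Sum.elim_inr, B, Pi.smul_apply, smul_eq_mul, Finsupp.sub_apply, map_sub, ← mul_add,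
      add_sub_cancel, Finsupp.single_apply, apply_ite (rsR g₃), apply_ite (sha f β₃), map_one, map_zero, mul_ite, mul_one,
      mul_zero]
    rw [Finset.sum_ite_eq']
    split_ifs with hi'
    · rfl
    · rw [Finsupp.notMem_support_iff.1 hi', map_zero]
  have h5 := Submodule.add_mem _ hrel (Submodule.sum_mem _ (t := a.support) fun i hi =>
    Submodule.smul_mem _ (rsR H (a i)) (hbad' (Sum.inr i) (show Sum.inr i ∈ sK by simpa [sK] using hi)))
  rw [← key] at h5
  exact h5

end Points

section Global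

variable {M : ModSite.Mod O_D}

lemma coversTop_pull {ι : Type u} {X : ι → D} (hX : K.CoversTop X) : J.CoversTop fun i => f.fn.obj (X i) := by
  have hl : LocFiltered J K f.fn := locFiltered (J := J) (K := K) f.fn
  intro c
  obtain ⟨S, hS, hS'⟩ := hl.nonempty c
  obtain ⟨R, hR, hR'⟩ := exists_refine (J := J) (P := fun c' g => Sieve.ofObjects (fun i => f.fn.obj (X i)) c g) hS
    fun c₁ g hg => by
      obtain ⟨d, ⟨α⟩⟩ := hS' g hg
      obtain ⟨T, hT, hT'⟩ := hl.cover d _ (hX d) c₁ α
      refine ⟨T, hT, fun c₂ k hk => ?_⟩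
      obtain ⟨d', g', β, ⟨i, ⟨a⟩⟩, -⟩ := hT' k hk
      exact ⟨i, ⟨β ≫ f.fn.map a⟩⟩
  exact J.superset_covering (fun _ g hg => hR' g hg) hR

lemma exists_pres_of_presentation {d : D} (p : ((ModSite.restr O_D d).obj M).Presentation) :
    ∃ (e : p.generators.I → sc M.val d) (c : p.relations.I → p.generators.I → rsec O_D d), Pres e c := by
  let φ : frO d O_D p.generators.I ⟶ (ModSite.restr O_D d).obj M := p.generators.π
  have h1 : Epi φ := inferInstanceAs (Epi p.generators.π)
  let ρ : frO d O_D p.relations.I ⟶ kernel φ := p.relations.π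
  have h2 : Epi ρ := inferInstanceAs (Epi p.relations.π)
  exact ⟨_, exists_pres φ ρ⟩

theorem nonempty_localGeneratorsData (σ : SheafOfModules.LocalGeneratorsData.{u} (R := ModSite.ringSh O_D) M) :
    ∃ τ : SheafOfModules.LocalGeneratorsData.{u} (R := ModSite.ringSh O_C) (f.pull.obj M),
      (∀ i, (σ.generators i).IsFiniteType) → τ.IsFiniteType := by
  have h : ∀ i, ∃ g : ((ModSite.restr O_C (f.fn.obj (σ.X i))).obj (f.pull.obj M)).GeneratingSections,
      g.I = (σ.generators i).I := fun i => by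
    let φ : frO (σ.X i) O_D (σ.generators i).I ⟶ (ModSite.restr O_D (σ.X i)).obj M := (σ.generators i).π
    have h1 : Epi φ := inferInstanceAs (Epi (σ.generators i).π)
    exact nonempty_generatingSections _ (gens_pull f (gens_of_epi φ))
  choose g hg using h
  let τ : SheafOfModules.LocalGeneratorsData.{u} (R := ModSite.ringSh O_C) (f.pull.obj M) :=
    { I := σ.I
      X := fun i => f.fn.obj (σ.X i)
      coversTop := coversTop_pull f σ.coversTop
      generators := g }
  refine ⟨τ, fun hσ => SheafOfModules.LocalGeneratorsData.IsFiniteType.mk (R := ModSite.ringSh O_C)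
    (M := f.pull.obj M) (p := τ) fun i => ⟨?_⟩⟩
  show Finite (g i).I
  rw [hg i]
  exact (hσ i).finite

theorem isFiniteType_pull [hM : SheafOfModules.IsFiniteType.{u} (R := ModSite.ringSh O_D) M] :
    SheafOfModules.IsFiniteType.{u} (R := ModSite.ringSh O_C) (f.pull.obj M) := by
  obtain ⟨σ, hσ⟩ := hM.exists_localGeneratorsData
  obtain ⟨τ, hτ⟩ := nonempty_localGeneratorsData f σ
  exact SheafOfModules.IsFiniteType.mk (R := ModSite.ringSh O_C) (M := f.pull.obj M) ⟨τ, hτ hσ.isFiniteType⟩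

lemma pull_presentation {d : D} (q : ((ModSite.restr O_D d).obj M).Presentation) :
    ∃ p : ((ModSite.restr O_C (f.fn.obj d)).obj (f.pull.obj M)).Presentation,
      p.generators.I = q.generators.I ∧ p.relations.I = q.relations.I := by
  obtain ⟨e, c, P⟩ := exists_pres_of_presentation q
  exact nonempty_presentation (pres_pull f P)

theorem nonempty_quasicoherentData (σ : SheafOfModules.QuasicoherentData.{u} (R := ModSite.ringSh O_D) M) :
    ∃ τ : SheafOfModules.QuasicoherentData.{u} (R := ModSite.ringSh O_C) (f.pull.obj M),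
      (∀ i, (σ.presentation i).IsFinite) → τ.IsFinitePresentation := by
  have h : ∀ i, ∃ p : ((ModSite.restr O_C (f.fn.obj (σ.X i))).obj (f.pull.obj M)).Presentation,
      p.generators.I = (σ.presentation i).generators.I ∧ p.relations.I = (σ.presentation i).relations.I := fun i =>
    pull_presentation f (σ.presentation i)
  choose p hp hp' using h
  let τ : SheafOfModules.QuasicoherentData.{u} (R := ModSite.ringSh O_C) (f.pull.obj M) :=
    { I := σ.I
      X := fun i => f.fn.obj (σ.X i)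
      coversTop := coversTop_pull f σ.coversTop
      presentation := p }
  refine ⟨τ, fun hσ => SheafOfModules.QuasicoherentData.IsFinitePresentation.mk (R := ModSite.ringSh O_C)
    (M := f.pull.obj M) (q := τ) fun i => ?_⟩
  refine { isFiniteType_generators := ⟨?_⟩, isFiniteType_relations := ⟨?_⟩ }
  · show Finite (p i).generators.I
    rw [hp i]
    exact (hσ i).isFiniteType_generators.finite
  · show Finite (p i).relations.I
    rw [hp' i]
    exact (hσ i).isFiniteType_relations.finite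

theorem isQuasicoherent_pull [hM : SheafOfModules.IsQuasicoherent.{u} (R := ModSite.ringSh O_D) M] :
    SheafOfModules.IsQuasicoherent.{u} (R := ModSite.ringSh O_C) (f.pull.obj M) := by
  obtain ⟨σ⟩ := hM.nonempty_quasicoherentData
  obtain ⟨τ, -⟩ := nonempty_quasicoherentData f σ
  exact SheafOfModules.IsQuasicoherent.mk (R := ModSite.ringSh O_C) (M := f.pull.obj M) ⟨τ⟩

theorem isFinitePresentation_pull [hM : SheafOfModules.IsFinitePresentation.{u} (R := ModSite.ringSh O_D) M] :
    SheafOfModules.IsFinitePresentation.{u} (R := ModSite.ringSh O_C) (f.pull.obj M) := by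
  obtain ⟨σ, hσ⟩ := hM.exists_quasicoherentData
  obtain ⟨τ, hτ⟩ := nonempty_quasicoherentData f σ
  exact SheafOfModules.IsFinitePresentation.mk (R := ModSite.ringSh O_C) (M := f.pull.obj M) ⟨τ, hτ hσ.isFinite_presentation⟩

lemma pres_of_isIso {d : D} {I : Type u} (φ : frO d O_D I ⟶ (ModSite.restr O_D d).obj M) [IsIso φ] :
    Pres (elts φ) (fun (k : PEmpty.{u + 1}) (_ : I) => (k.elim : rsec O_D d)) := by
  refine ⟨gens_of_epi φ, fun k => k.elim, fun V g a ha => ⟨⊤, K.top_mem V, fun V' h _ => ?_⟩⟩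
  have h0 : toFree (Over.mk g) a = 0 :=
    injective_of_mono φ (Over.mk g) (((apm_toFree φ (Over.mk g) a).trans ha).trans (map_zero _).symm)
  have h2 : (fun j => rsR h (a j)) = 0 := funext fun j => by
    have h3 : a j = 0 := (coef_toFree (Over.mk g) a j).symm.trans
      (congrFun ((congrArg (GlobalFree.coef (O_D.over d) (Over.mk g)) h0).trans (map_zero _)) j)
    rw [h3]
    exact map_zero _
  rw [h2]
  exact zero_mem _

lemma exists_isIso_pull {d : D} {I : Type u} (φ : frO d O_D I ⟶ (ModSite.restr O_D d).obj M) [IsIso φ] :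
    ∃ ψ : frO (f.fn.obj d) O_C I ⟶ (ModSite.restr O_C (f.fn.obj d)).obj (f.pull.obj M), IsIso ψ := by
  have P' := pres_pull f (pres_of_isIso φ)
  obtain ⟨ψ, hψ⟩ := exists_hom_elts (pe f (elts φ))
  rw [← hψ] at P'
  refine ⟨ψ, isIso_of_pres ψ ⟨P'.gens, fun k => k.elim, fun V g a ha => ?_⟩⟩
  obtain ⟨S, hS, hS'⟩ := P'.ker g a ha
  refine ⟨S, hS, fun V' h hh => ?_⟩
  have h4 := hS' h hh
  rw [relSpan, Set.range_eq_empty, Submodule.span_empty, Submodule.mem_bot] at h4
  rw [h4]
  exact zero_mem _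

lemma exists_generators_of_isIso {Y : C} {N : ModSite.Mod O_C} {I : Type u}
    (ψ : frO Y O_C I ⟶ (ModSite.restr O_C Y).obj N) (hψ : IsIso ψ) :
    ∃ g : ((ModSite.restr O_C Y).obj N).GeneratingSections, IsIso g.π := by
  have he : Epi ψ := @IsIso.epi_of_iso _ _ _ _ ψ hψ
  refine ⟨{ I := I
            s := SheafOfModules.freeHomEquiv _ ψ
            epi := by rw [Equiv.symm_apply_apply]; exact he }, ?_⟩
  show IsIso ((SheafOfModules.freeHomEquiv _).symm (SheafOfModules.freeHomEquiv _ ψ))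
  rw [Equiv.symm_apply_apply]
  exact hψ

lemma exists_generators_pull {d : D} (q : ((ModSite.restr O_D d).obj M).GeneratingSections) (hq : IsIso q.π) :
    ∃ g : ((ModSite.restr O_C (f.fn.obj d)).obj (f.pull.obj M)).GeneratingSections, IsIso g.π := by
  let φ : frO d O_D q.I ⟶ (ModSite.restr O_D d).obj M := q.π
  have h1 : IsIso φ := hq
  obtain ⟨ψ, hψ⟩ := exists_isIso_pull f φ
  exact exists_generators_of_isIso ψ hψ

theorem isLocallyFree_pull [hM : SheafOfModules.IsLocallyFree.{u} (R := ModSite.ringSh O_D) M] :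
    SheafOfModules.IsLocallyFree.{u} (R := ModSite.ringSh O_C) (f.pull.obj M) := by
  obtain ⟨σ, hσ⟩ := hM.exists_isLocallyFreeData
  choose g hg using fun i => exists_generators_pull f (σ.generators i) (hσ.isIso i)
  let τ : SheafOfModules.LocalGeneratorsData.{u} (R := ModSite.ringSh O_C) (f.pull.obj M) :=
    { I := σ.I
      X := fun i => f.fn.obj (σ.X i)
      coversTop := coversTop_pull f σ.coversTop
      generators := g }
  exact SheafOfModules.IsLocallyFree.mk (R := ModSite.ringSh O_C) (M := f.pull.obj M)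
    ⟨τ, SheafOfModules.LocalGeneratorsData.IsLocallyFreeData.mk (R := ModSite.ringSh O_C) (M := f.pull.obj M)
      (q := τ) hg⟩

end Global

end Groth.SitesTopoi.GenSysPull
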