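import Groth.Agent.SitesTopoi.Mod.PullFlat
import Groth.Prelude.Def_ModSite2
import Mathlib.RingTheory.Ideal.Quotient.Operations

/-!
Sections of the inverse image of the sheaf of rings along a morphism of ringed sites.
-/

universe u

open CategoryTheory CategoryTheory.Limits Opposite

namespace Groth.SitesTopoi.ModH

variable {C D : Type u} [SmallCategory C] [SmallCategory D] {J : GrothendieckTopology C}
  {K : GrothendieckTopology D} {O_C : Sheaf J CommRingCat.{u}} {O_D : Sheaf K CommRingCat.{u}}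
  (f : ModSite.RMor O_C O_D)

/-- The map to the inverse image ring on sections. -/
noncomputable def iun (d : D) : rsec O_D d →+* rsec f.invRing (f.fn.obj d) :=
  (((f.fn.sheafAdjunctionContinuous CommRingCat.{u} K J).unit.app O_D).hom.app (op d)).hom

/-- The map to the inverse image ring in a chart. -/
noncomputable def iua {c : C} {d : D} (α : c ⟶ f.fn.obj d) : rsec O_D d →+* rsec f.invRing c := (rsR α).comp (iun f d)

lemma iun_nat {d d' : D} (u : d' ⟶ d) (r : rsec O_D d) : iun f d' (rsR u r) = rsR (f.fn.map u) (iun f d r) :=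
  NatTrans.naturality_apply ((f.fn.sheafAdjunctionContinuous CommRingCat.{u} K J).unit.app O_D).hom u.op r

lemma iua_rsR {c : C} {d d' : D} (β : c ⟶ f.fn.obj d') (u : d' ⟶ d) (r : rsec O_D d) :
    iua f β (rsR u r) = iua f (β ≫ f.fn.map u) r := by
  simp only [iua, RingHom.comp_apply, iun_nat, rsR_rsR]

lemma rsR_iua {c c' : C} (h : c' ⟶ c) {d : D} (α : c ⟶ f.fn.obj d) (r : rsec O_D d) :
    rsR h (iua f α r) = iua f (h ≫ α) r := by
  simp only [iua, RingHom.comp_apply, rsR_rsR]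

/-- The structure map on sections of the inverse image ring. -/
noncomputable def ish (c : C) : rsec f.invRing c →+* rsec O_C c := (f.invSharp.hom.app (op c)).hom

lemma ish_rsR {c c' : C} (h : c' ⟶ c) (r : rsec f.invRing c) : ish f c' (rsR h r) = rsR h (ish f c r) :=
  NatTrans.naturality_apply f.invSharp.hom h.op r

lemma ish_iun (d : D) (r : rsec O_D d) : ish f (f.fn.obj d) (iun f d r) = shf f d r := by
  have e : (f.fn.sheafAdjunctionContinuous CommRingCat.{u} K J).unit.app O_D ≫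
      (f.fn.sheafPushforwardContinuous CommRingCat.{u} K J).map f.invSharp = f.sharp :=
    ((f.fn.sheafAdjunctionContinuous CommRingCat.{u} K J).homEquiv_unit _ _ _).symm.trans (Equiv.apply_symm_apply _ _)
  exact congrArg (fun φ => (φ.hom.app (op d)).hom r) e

lemma ish_iua {c : C} {d : D} (α : c ⟶ f.fn.obj d) (r : rsec O_D d) : ish f c (iua f α r) = sha f α r :=
  (ish_rsR f α (iun f d r)).trans (congrArg (rsR α) (ish_iun f d r))

/-- A section killed by a local refinement of a chart. -/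
def Kill {c : C} {d : D} (β : c ⟶ f.fn.obj d) (z : rsec O_D d) : Prop :=
  ∃ S ∈ J c, ∀ ⦃c' : C⦄ (h : c' ⟶ c), S h → ∃ (d₁ : D) (w : d₁ ⟶ d) (β₁ : c' ⟶ f.fn.obj d₁),
    β₁ ≫ f.fn.map w = h ≫ β ∧ rsR w z = 0

variable {f}

lemma Kill.refine (hl : LocFiltered J K f.fn) {c c₁ : C} {d d₁ : D} {β : c ⟶ f.fn.obj d} {z : rsec O_D d}
    (h : Kill f β z) (g : c₁ ⟶ c) (w : d₁ ⟶ d) (β₁ : c₁ ⟶ f.fn.obj d₁) (e : β₁ ≫ f.fn.map w = g ≫ β) :
    Kill f β₁ (rsR w z) := by
  obtain ⟨S, hS, h'⟩ := h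
  refine exists_refine (J.pullback_stable g hS) fun c' k hk => ?_
  obtain ⟨d₂, w₂, β₂, e₂, hz⟩ := h' (k ≫ g) hk
  obtain ⟨T, hT, hT'⟩ := hl.pair c' d₂ d₁ β₂ (k ≫ β₁)
  refine exists_refine hT fun c'' l hl' => ?_
  obtain ⟨d₃, u₂, u₁, β₃, a₂, a₁⟩ := hT' l hl'
  obtain ⟨R, hR, hR'⟩ := hl.equalize c'' d₃ d (u₁ ≫ w) (u₂ ≫ w₂) β₃ (by
    rw [Functor.map_comp, Functor.map_comp, reassoc_of% a₁, reassoc_of% a₂, e, e₂, Category.assoc])
  refine ⟨R, hR, fun c₃ m hm => ?_⟩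
  obtain ⟨d₄, v, β₄, ev, e₄⟩ := hR' m hm
  refine ⟨d₄, v ≫ u₁, β₄, by rw [Functor.map_comp, ← Category.assoc, e₄, Category.assoc, a₁]; simp, ?_⟩
  rw [rsR_rsR, Category.assoc, ev, ← Category.assoc, ← rsR_rsR, hz, map_zero]

lemma Kill.add (hl : LocFiltered J K f.fn) {c : C} {d : D} {β : c ⟶ f.fn.obj d} {z y : rsec O_D d}
    (hz : Kill f β z) (hy : Kill f β y) : Kill f β (z + y) := by
  obtain ⟨S, hS, h'⟩ := hz
  refine exists_refine hS fun c' g hg => ?_
  obtain ⟨d₁, w, β₁, e, hz⟩ := h' g hg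
  obtain ⟨T, hT, hT'⟩ := hy.refine hl g w β₁ e
  refine ⟨T, hT, fun c'' k hk => ?_⟩
  obtain ⟨d₂, v, β₂, e₂, hy'⟩ := hT' k hk
  refine ⟨d₂, v ≫ w, β₂, by rw [Functor.map_comp, ← Category.assoc, e₂, Category.assoc, e, Category.assoc], ?_⟩
  rw [← rsR_rsR, map_add, map_add, hz, map_zero, hy', add_zero]

lemma kill_two (hl : LocFiltered J K f.fn) {c : C} {d d₀ : D} {β : c ⟶ f.fn.obj d} (u u' : d ⟶ d₀) (r : rsec O_D d₀)
    (e : β ≫ f.fn.map u = β ≫ f.fn.map u') : Kill f β (rsR u r - rsR u' r) := by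
  obtain ⟨S, hS, h'⟩ := hl.equalize c d d₀ u u' β e
  refine ⟨S, hS, fun c' g hg => ?_⟩
  obtain ⟨d₁, w, β₁, ew, e₁⟩ := h' g hg
  exact ⟨d₁, w, β₁, e₁, by rw [map_sub, rsR_rsR, rsR_rsR, ew, sub_self]⟩

namespace InvRing

variable (f) in
/-- A chart over an object. -/
structure Chart (c : C) where
  /-- the source -/
  c' : C
  /-- the arrow -/
  h : c' ⟶ c
  /-- the object downstairs -/
  d : D
  /-- the chart map -/
  β : c' ⟶ f.fn.obj d

variable (f) in
/-- Families indexed by charts. -/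
abbrev Fam (c : C) : Type u := (X : Chart f c) → rsec O_D X.d

/-- A chart factoring through all members of a list. -/
def Thru {c : C} (X : Chart f c) (L : List (Σ d₀ : D, c ⟶ f.fn.obj d₀)) : Prop :=
  ∀ p ∈ L, ∃ u : X.d ⟶ p.1, X.β ≫ f.fn.map u = X.h ≫ p.2

variable (hl : LocFiltered J K f.fn)

/-- The ideal of families vanishing in deep charts. -/
def evI (c : C) : Ideal (Fam f c) where
  carrier := {z | ∃ L, ∀ X : Chart f c, Thru X L → Kill f X.β (z X)}
  zero_mem' := ⟨[], fun X _ => ⟨⊤, J.top_mem _, fun c' h _ => ⟨X.d, 𝟙 _, h ≫ X.β, by simp, map_zero _⟩⟩⟩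
  add_mem' := by
    rintro z y ⟨L₁, h₁⟩ ⟨L₂, h₂⟩
    exact ⟨L₁ ++ L₂, fun X hX => (h₁ X fun p hp => hX p (List.mem_append_left _ hp)).add hl
      (h₂ X fun p hp => hX p (List.mem_append_right _ hp))⟩
  smul_mem' := by
    rintro a z ⟨L, h⟩
    refine ⟨L, fun X hX => ?_⟩
    obtain ⟨S, hS, h'⟩ := h X hX
    refine ⟨S, hS, fun c' g hg => ?_⟩
    obtain ⟨d₁, w, β₁, e, hz⟩ := h' g hg
    exact ⟨d₁, w, β₁, e, by rw [Pi.smul_apply', smul_eq_mul, map_mul, hz, mul_zero]⟩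

/-- Push a chart forward. -/
def Chart.push {c c₁ : C} (g : c₁ ⟶ c) (X : Chart f c₁) : Chart f c := ⟨X.c', X.h ≫ g, X.d, X.β⟩

/-- Restriction of families. -/
def famMap {c c₁ : C} (g : c₁ ⟶ c) : Fam f c →+* Fam f c₁ :=
  RingHom.pi fun X => Pi.evalRingHom _ (Chart.push g X)

lemma evI_le {c c₁ : C} (g : c₁ ⟶ c) : evI hl c ≤ (evI hl c₁).comap (famMap g) := by
  rintro z ⟨L, h⟩
  refine ⟨L.map fun p => ⟨p.1, g ≫ p.2⟩, fun X hX => h (Chart.push g X) fun p hp => ?_⟩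
  obtain ⟨u, hu⟩ := hX _ (List.mem_map_of_mem hp)
  exact ⟨u, hu.trans (Category.assoc _ _ _).symm⟩

/-- The target presheaf of rings. -/
noncomputable def tgt : Cᵒᵖ ⥤ CommRingCat.{u} where
  obj c := CommRingCat.of (Fam f c.unop ⧸ evI hl c.unop)
  map g := CommRingCat.ofHom (Ideal.quotientMap _ (famMap g.unop) (evI_le hl g.unop))
  map_id c := by
    refine CommRingCat.hom_ext (Ideal.Quotient.ringHom_ext (RingHom.ext fun z => ?_))
    refine congrArg (Ideal.Quotient.mk _) (funext fun X => ?_)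
    obtain ⟨c', h, d, β⟩ := X
    change z ⟨c', h ≫ 𝟙 _, d, β⟩ = z ⟨c', h, d, β⟩
    rw [Category.comp_id]
  map_comp {c c₁ c₂} g g' := by
    refine CommRingCat.hom_ext (Ideal.Quotient.ringHom_ext (RingHom.ext fun z => ?_))
    refine congrArg (Ideal.Quotient.mk _) (funext fun X => ?_)
    obtain ⟨c', h, d, β⟩ := X
    change z ⟨c', h ≫ g'.unop ≫ g.unop, d, β⟩ = z ⟨c', (h ≫ g'.unop) ≫ g.unop, d, β⟩
    rw [Category.assoc]

open Classical in
/-- The family attached to a section in a chart. -/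
noncomputable def fam {c : C} {d₀ : D} (α : c ⟶ f.fn.obj d₀) (r : rsec O_D d₀) : Fam f c := fun X =>
  if hX : ∃ u : X.d ⟶ d₀, X.β ≫ f.fn.map u = X.h ≫ α then rsR hX.choose r else 0

lemma fam_eq {c : C} {d₀ : D} (α : c ⟶ f.fn.obj d₀) (r : rsec O_D d₀) (X : Chart f c)
    (hX : ∃ u : X.d ⟶ d₀, X.β ≫ f.fn.map u = X.h ≫ α) : fam α r X = rsR hX.choose r := dif_pos hX

lemma mk_eq_of_single {c : C} {z y : Fam f c} {d₀ : D} (α : c ⟶ f.fn.obj d₀)
    (h : ∀ X : Chart f c, (∃ u : X.d ⟶ d₀, X.β ≫ f.fn.map u = X.h ≫ α) → z X = y X) :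
    Ideal.Quotient.mk (evI hl c) z = Ideal.Quotient.mk _ y := by
  refine Ideal.Quotient.eq.2 ⟨[⟨d₀, α⟩], fun X hX => ⟨⊤, J.top_mem _, fun c' k _ => ⟨X.d, 𝟙 _, k ≫ X.β, by simp, ?_⟩⟩⟩
  rw [Pi.sub_apply, h X (hX _ (List.mem_singleton_self _)), sub_self, map_zero]

/-- The map to the target in a chart. -/
noncomputable def toTgt {c : C} {d₀ : D} (α : c ⟶ f.fn.obj d₀) : rsec O_D d₀ →+* Fam f c ⧸ evI hl c where
  toFun r := Ideal.Quotient.mk _ (fam α r)
  map_one' := mk_eq_of_single hl α fun X hX => by rw [fam_eq α 1 X hX, map_one]; rfl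
  map_zero' := mk_eq_of_single hl α fun X hX => by rw [fam_eq α 0 X hX, map_zero]; rfl
  map_add' r s := (mk_eq_of_single hl α fun X hX => by
    rw [fam_eq α (r + s) X hX, map_add, Pi.add_apply, fam_eq α r X hX, fam_eq α s X hX]).trans (map_add _ _ _)
  map_mul' r s := (mk_eq_of_single hl α fun X hX => by
    rw [fam_eq α (r * s) X hX, map_mul, Pi.mul_apply, fam_eq α r X hX, fam_eq α s X hX]).trans (map_mul _ _ _)

lemma toTgt_map {c c₁ : C} (g : c₁ ⟶ c) {d₀ : D} (α : c ⟶ f.fn.obj d₀) (r : rsec O_D d₀) :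
    ((tgt hl).map g.op).hom (toTgt hl α r) = toTgt hl (g ≫ α) r := by
  refine Ideal.Quotient.eq.2 ⟨[⟨d₀, g ≫ α⟩], fun X hX => ?_⟩
  have h₁ : ∃ u : X.d ⟶ d₀, X.β ≫ f.fn.map u = X.h ≫ g ≫ α := hX _ (List.mem_singleton_self _)
  have h₂ : ∃ u : (Chart.push g X).d ⟶ d₀, X.β ≫ f.fn.map u = (X.h ≫ g) ≫ α :=
    h₁.imp fun u hu => hu.trans (Category.assoc _ _ _).symm
  change Kill f X.β (HSub.hSub (α := rsec O_D X.d) (β := rsec O_D X.d) (fam α r (Chart.push g X)) (fam (g ≫ α) r X))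
  rw [fam_eq α r _ h₂, fam_eq (g ≫ α) r _ h₁]
  exact kill_two hl _ _ r (h₂.choose_spec.trans ((Category.assoc _ _ _).trans h₁.choose_spec.symm))

lemma toTgt_rsR {c : C} {d₀ d₁ : D} (α : c ⟶ f.fn.obj d₁) (v : d₁ ⟶ d₀) (r : rsec O_D d₀) :
    toTgt hl α (rsR v r) = toTgt hl (α ≫ f.fn.map v) r := by
  refine Ideal.Quotient.eq.2 ⟨[⟨d₁, α⟩], fun X hX => ?_⟩
  have h₁ : ∃ u : X.d ⟶ d₁, X.β ≫ f.fn.map u = X.h ≫ α := hX _ (List.mem_singleton_self _)
  have h₂ : ∃ u : X.d ⟶ d₀, X.β ≫ f.fn.map u = X.h ≫ α ≫ f.fn.map v :=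
    ⟨h₁.choose ≫ v, by rw [Functor.map_comp, ← Category.assoc, h₁.choose_spec, Category.assoc]⟩
  rw [Pi.sub_apply, fam_eq α _ _ h₁, fam_eq _ r _ h₂, rsR_rsR]
  exact kill_two hl _ _ r (by rw [Functor.map_comp, ← Category.assoc, h₁.choose_spec, h₂.choose_spec, Category.assoc])

/-- The target sheaf of rings. -/
noncomputable def tgtSheaf : Sheaf J CommRingCat.{u} := (presheafToSheaf J CommRingCat.{u}).obj (tgt hl)

/-- The map into the target. -/
noncomputable def toTgtSheaf : O_D ⟶ (f.fn.sheafPushforwardContinuous CommRingCat.{u} K J).obj (tgtSheaf hl) where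
  hom :=
    { app := fun d => CommRingCat.ofHom (R := rsec O_D d.unop) (S := (tgt hl).obj (op (f.fn.obj d.unop)))
          (toTgt hl (𝟙 (f.fn.obj d.unop))) ≫ (CategoryTheory.toSheafify J (tgt hl)).app (op (f.fn.obj d.unop))
      naturality := fun {d d'} v => by
        refine CommRingCat.hom_ext (RingHom.ext fun r => ?_)
        change ((CategoryTheory.toSheafify J (tgt hl)).app _).hom (toTgt hl (𝟙 _) (rsR v.unop r)) =
          ((sheafify J (tgt hl)).map (f.fn.map v.unop).op).hom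
            (((CategoryTheory.toSheafify J (tgt hl)).app _).hom (toTgt hl (𝟙 _) r))
        refine Eq.trans ?_ (NatTrans.naturality_apply (CategoryTheory.toSheafify J (tgt hl)) (f.fn.map v.unop).op
          (toTgt hl (𝟙 _) r))
        refine congrArg _ ?_
        rw [toTgt_rsR, Category.id_comp]
        exact (congrArg (fun a => toTgt hl a r) (Category.comp_id _).symm).trans (toTgt_map hl _ _ r).symm }

lemma tgt_iua {c : C} {d : D} (α : c ⟶ f.fn.obj d) (r : rsec O_D d) :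
    ((((f.fn.sheafAdjunctionContinuous CommRingCat.{u} K J).homEquiv _ _).symm (toTgtSheaf hl)).hom.app (op c)).hom
      (iua f α r) = ((CategoryTheory.toSheafify J (tgt hl)).app (op c)).hom (toTgt hl α r) := by
  have e := congrArg (fun φ => (φ.hom.app (op d)).hom r)
    (((f.fn.sheafAdjunctionContinuous CommRingCat.{u} K J).homEquiv_unit _ _ _).symm.trans
      (((f.fn.sheafAdjunctionContinuous CommRingCat.{u} K J).homEquiv _ _).apply_symm_apply (toTgtSheaf hl)))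
  refine (NatTrans.naturality_apply
    ((((f.fn.sheafAdjunctionContinuous CommRingCat.{u} K J).homEquiv _ _).symm (toTgtSheaf hl)).hom) α.op
    (iun f d r)).trans ?_
  refine (congrArg (fun x => ((sheafify J (tgt hl)).map α.op).hom x) e).trans ?_
  refine (NatTrans.naturality_apply (CategoryTheory.toSheafify J (tgt hl)) α.op (toTgt hl (𝟙 _) r)).symm.trans ?_
  refine congrArg _ ((toTgt_map hl α (𝟙 _) r).trans ?_)
  rw [Category.comp_id]

include hl in
/-- A section which dies in the inverse image ring dies in a refinement. -/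
theorem kill_of_iua_eq_zero {c : C} {d : D} {α : c ⟶ f.fn.obj d} {z : rsec O_D d} (hz : iua f α z = 0) :
    Kill f α z := by
  have h0 : ((CategoryTheory.toSheafify J (tgt hl)).app (op c)).hom (toTgt hl α z) =
      ((CategoryTheory.toSheafify J (tgt hl)).app (op c)).hom 0 := by
    refine ((tgt_iua hl α z).symm.trans ?_).trans (map_zero _).symm
    rw [hz]
    exact map_zero _
  refine exists_refine (Presheaf.equalizerSieve_mem J (CategoryTheory.toSheafify J (tgt hl)) (X := op c) _ _ h0)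
    fun c₁ g hg => ?_
  have hmem : Ideal.Quotient.mk (evI hl c₁) (fam (g ≫ α) z) = 0 :=
    (toTgt_map hl g α z).symm.trans ((hg : _ = _).trans (map_zero _))
  obtain ⟨L, hL⟩ := Ideal.Quotient.eq_zero_iff_mem.1 hmem
  obtain ⟨T, hT, hT'⟩ := exists_extend hl (g ≫ α) (Finset.univ : Finset (ULift.{u} (Fin L.length)))
    (fun i => L[i.down].1) (fun i => L[i.down].2)
  refine exists_refine hT fun c₂ k hk => ?_
  obtain ⟨d₁, w, β₁, u, hw, hu⟩ := hT' k hk
  have hX : ∃ v : d₁ ⟶ d, β₁ ≫ f.fn.map v = k ≫ g ≫ α := ⟨w, hw⟩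
  have hk' := hL ⟨c₂, k, d₁, β₁⟩ fun p hp => by
    obtain ⟨i, hi, rfl⟩ := List.getElem_of_mem hp
    exact ⟨u ⟨⟨i, hi⟩⟩ (Finset.mem_univ _), hu ⟨⟨i, hi⟩⟩ (Finset.mem_univ _)⟩
  rw [fam_eq (g ≫ α) z _ hX] at hk'
  have := hk'.add hl (kill_two hl w hX.choose z (hw.trans hX.choose_spec.symm))
  rw [add_sub_cancel] at this
  obtain ⟨R, hR, hR'⟩ := this
  refine ⟨R, hR, fun c₃ l hl' => ?_⟩
  obtain ⟨d₂, v, β₂, e, hv⟩ := hR' l hl'
  refine ⟨d₂, v ≫ w, β₂, ?_, by rw [← rsR_rsR]; exact hv⟩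
  rw [Functor.map_comp, ← Category.assoc, e, Category.assoc, hw]
  simp

variable (f) in
/-- Sections which locally come from downstairs. -/
def LocImg (c : C) (r : rsec f.invRing c) : Prop :=
  ∃ S ∈ J c, ∀ ⦃c' : C⦄ (h : c' ⟶ c), S h → ∃ (d : D) (β : c' ⟶ f.fn.obj d) (z : rsec O_D d), iua f β z = rsR h r

include hl in
lemma locImg_two {c : C} (r s : rsec f.invRing c) (hr : LocImg f c r) (hs : LocImg f c s) :
    ∃ S ∈ J c, ∀ ⦃c' : C⦄ (h : c' ⟶ c), S h → ∃ (d : D) (β : c' ⟶ f.fn.obj d) (z y : rsec O_D d),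
      iua f β z = rsR h r ∧ iua f β y = rsR h s := by
  obtain ⟨S, hS, h₁⟩ := hr
  obtain ⟨T, hT, h₂⟩ := hs
  refine exists_refine (J.intersection_covering hS hT) fun c' g hg => ?_
  obtain ⟨d₁, β₁, z, hz⟩ := h₁ g hg.1
  obtain ⟨d₂, β₂, y, hy⟩ := h₂ g hg.2
  obtain ⟨R, hR, hR'⟩ := hl.pair c' d₁ d₂ β₁ β₂
  refine ⟨R, hR, fun c'' k hk => ?_⟩
  obtain ⟨d, u₁, u₂, β, e₁, e₂⟩ := hR' k hk
  refine ⟨d, β, rsR u₁ z, rsR u₂ y, ?_, ?_⟩
  · rw [iua_rsR, e₁, ← rsR_iua, hz, rsR_rsR]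
  · rw [iua_rsR, e₂, ← rsR_iua, hy, rsR_rsR]

include hl in
lemma locImg_op {c : C} {r s : rsec f.invRing c} (hr : LocImg f c r) (hs : LocImg f c s) :
    LocImg f c (r + s) ∧ LocImg f c (r * s) ∧ LocImg f c (-r) ∧ LocImg f c 0 ∧ LocImg f c 1 := by
  obtain ⟨S, hS, h'⟩ := locImg_two hl r s hr hs
  refine ⟨⟨S, hS, fun c' g hg => ?_⟩, ⟨S, hS, fun c' g hg => ?_⟩, ⟨S, hS, fun c' g hg => ?_⟩,
    ⟨S, hS, fun c' g hg => ?_⟩, ⟨S, hS, fun c' g hg => ?_⟩⟩ <;> obtain ⟨d, β, z, y, hz, hy⟩ := h' g hg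
  · exact ⟨d, β, z + y, by rw [map_add, map_add, hz, hy]⟩
  · exact ⟨d, β, z * y, by rw [map_mul, map_mul, hz, hy]⟩
  · exact ⟨d, β, -z, by rw [map_neg, map_neg, hz]⟩
  · exact ⟨d, β, 0, by rw [map_zero, map_zero]⟩
  · exact ⟨d, β, 1, by rw [map_one, map_one]⟩

include hl in
lemma locImg_one (c : C) : LocImg f c 1 := by
  obtain ⟨S, hS, h'⟩ := hl.nonempty c
  refine ⟨S, hS, fun c' g hg => ?_⟩
  obtain ⟨d, ⟨β⟩⟩ := h' g hg
  exact ⟨d, β, 1, by rw [map_one, map_one]⟩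

/-- The subring of local images. -/
def imgRing (c : C) : Subring (rsec f.invRing c) where
  carrier := {r | LocImg f c r}
  one_mem' := locImg_one hl c
  zero_mem' := (locImg_op hl (locImg_one hl c) (locImg_one hl c)).2.2.2.1
  add_mem' hr hs := (locImg_op hl hr hs).1
  mul_mem' hr hs := (locImg_op hl hr hs).2.1
  neg_mem' hr := (locImg_op hl hr hr).2.2.1

lemma imgRing_rsR {c c₁ : C} (g : c₁ ⟶ c) {r : rsec f.invRing c} (hr : r ∈ imgRing hl c) :
    rsR g r ∈ imgRing hl c₁ := by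
  obtain ⟨S, hS, h'⟩ := hr
  refine ⟨S.pullback g, J.pullback_stable g hS, fun c' k hk => ?_⟩
  obtain ⟨d, β, z, hz⟩ := h' (k ≫ g) hk
  exact ⟨d, β, z, by rw [hz, rsR_rsR]⟩

/-- The presheaf of local images. -/
noncomputable def imgPsh : Cᵒᵖ ⥤ CommRingCat.{u} where
  obj c := CommRingCat.of (imgRing hl c.unop)
  map {c c'} g := CommRingCat.ofHom ((f.invRing.obj.map g).hom.restrict _ (imgRing hl c'.unop)
    fun r hr => imgRing_rsR hl g.unop hr)
  map_id c := by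
    refine CommRingCat.hom_ext (RingHom.ext fun r => Subtype.ext ?_)
    exact rsR_id (O := f.invRing) r.1
  map_comp g g' := by
    refine CommRingCat.hom_ext (RingHom.ext fun r => Subtype.ext ?_)
    exact (rsR_rsR (O := f.invRing) g.unop g'.unop r.1).symm

/-- The inclusion of local images. -/
noncomputable def imgIncl : imgPsh hl ⟶ f.invRing.obj where
  app c := CommRingCat.ofHom (imgRing hl c.unop).subtype
  naturality _ _ _ := rfl

/-- The map to local images. -/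
noncomputable def toImg : O_D ⟶ (f.fn.sheafPushforwardContinuous CommRingCat.{u} K J).obj
    ((presheafToSheaf J CommRingCat.{u}).obj (imgPsh hl)) where
  hom :=
    { app := fun d => CommRingCat.ofHom (R := rsec O_D d.unop) (S := (imgPsh hl).obj (op (f.fn.obj d.unop)))
          ((iun f d.unop).codRestrict (imgRing hl (f.fn.obj d.unop)) fun r =>
            ⟨⊤, J.top_mem _, fun c' h _ => ⟨d.unop, h, r, rfl⟩⟩) ≫
        (CategoryTheory.toSheafify J (imgPsh hl)).app (op (f.fn.obj d.unop))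
      naturality := fun {d d'} v => by
        refine CommRingCat.hom_ext (RingHom.ext fun r => ?_)
        refine Eq.trans ?_ (NatTrans.naturality_apply (CategoryTheory.toSheafify J (imgPsh hl)) (f.fn.map v.unop).op _)
        exact congrArg _ (Subtype.ext (iun_nat f v.unop r)) }

include hl in
/-- Every section of the inverse image ring locally comes from downstairs. -/
theorem locImg (c : C) (r : rsec f.invRing c) : LocImg f c r := by
  let adj := f.fn.sheafAdjunctionContinuous CommRingCat.{u} K J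
  let χ := (adj.homEquiv _ _).symm (toImg hl)
  let ι := ((sheafificationAdjunction J CommRingCat.{u}).homEquiv _ _).symm (imgIncl hl)
  have hι : CategoryTheory.toSheafify J (imgPsh hl) ≫ ι.hom = imgIncl hl :=
    ((sheafificationAdjunction J CommRingCat.{u}).homEquiv_unit _ _ _).symm.trans (Equiv.apply_symm_apply _ _)
  have e : χ ≫ ι = 𝟙 _ := (adj.homEquiv _ _).injective (by
    rw [Adjunction.homEquiv_naturality_right, Equiv.apply_symm_apply, Adjunction.homEquiv_id]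
    refine Sheaf.hom_ext (NatTrans.ext (funext fun d => CommRingCat.hom_ext (RingHom.ext fun z => ?_)))
    exact congrArg (fun φ : imgPsh hl ⟶ f.invRing.obj => (φ.app (op (f.fn.obj d.unop))).hom
      (⟨iun f d.unop z, ⟨⊤, J.top_mem _, fun c' h _ => ⟨d.unop, h, z, rfl⟩⟩⟩ : imgRing hl (f.fn.obj d.unop))) hι)
  have er : (ι.hom.app (op c)).hom ((χ.hom.app (op c)).hom r) = r := congrArg (fun φ => (φ.hom.app (op c)).hom r) e
  refine exists_refine (Presheaf.imageSieve_mem J (CategoryTheory.toSheafify J (imgPsh hl)) ((χ.hom.app (op c)).hom r))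
    fun c₁ g hg => ?_
  obtain ⟨t, ht⟩ := hg
  have e₁ : rsR g r = t.1 := by
    refine Eq.trans ?_ (congrArg (fun φ => (φ.app (op c₁)).hom t) hι)
    refine Eq.trans ?_ (congrArg (fun x => (ι.hom.app (op c₁)).hom x) ht).symm
    exact (congrArg (rsR g) er).symm.trans (NatTrans.naturality_apply ι.hom g.op _).symm
  obtain ⟨S, hS, h'⟩ := t.2
  refine ⟨S, hS, fun c₂ k hk => ?_⟩
  obtain ⟨d, β, z, hz⟩ := h' k hk
  exact ⟨d, β, z, by rw [hz, ← e₁, rsR_rsR]⟩

end InvRing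

variable (hl : LocFiltered J K f.fn)
include hl

/-- Finitely many sections of the inverse image ring come from a common refinement. -/
lemma exists_lift_chart {c : C} {d₀ : D} (β : c ⟶ f.fn.obj d₀) {ι : Type*} (s : Finset ι) (r : ι → rsec f.invRing c) :
    ∃ S ∈ J c, ∀ ⦃c' : C⦄ (h : c' ⟶ c), S h → ∃ (d₁ : D) (w : d₁ ⟶ d₀) (β₁ : c' ⟶ f.fn.obj d₁) (z : ι → rsec O_D d₁),
      β₁ ≫ f.fn.map w = h ≫ β ∧ ∀ i ∈ s, iua f β₁ (z i) = rsR h (r i) := by
  classical
  induction s using Finset.induction_on with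
  | empty => exact ⟨⊤, J.top_mem c, fun c' h _ => ⟨d₀, 𝟙 _, h ≫ β, 0, by simp, fun i hi => absurd hi (Finset.notMem_empty i)⟩⟩
  | insert i₀ s hi₀ ih =>
    obtain ⟨S, hS, hS'⟩ := ih
    obtain ⟨R, hR, hR'⟩ := InvRing.locImg hl c (r i₀)
    refine exists_refine (J.intersection_covering hS hR) fun c' h hh => ?_
    obtain ⟨d₁, w, β₁, z, hw, hz⟩ := hS' h hh.1
    obtain ⟨d₂, β₂, z₂, hz₂⟩ := hR' h hh.2
    obtain ⟨T, hT, hT'⟩ := hl.pair c' d₁ d₂ β₁ β₂
    refine ⟨T, hT, fun c'' k hk => ?_⟩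
    obtain ⟨d, u₁, u₂, β', e₁, e₂⟩ := hT' k hk
    refine ⟨d, u₁ ≫ w, β', fun i => if i = i₀ then rsR u₂ z₂ else rsR u₁ (z i),
      by rw [Functor.map_comp, ← Category.assoc, e₁, Category.assoc, hw, Category.assoc], fun i hi => ?_⟩
    dsimp only
    split_ifs with h'
    · rw [h', iua_rsR, e₂, ← rsR_iua, hz₂, rsR_rsR]
    · rw [iua_rsR, e₁, ← rsR_iua, hz i ((Finset.mem_insert.1 hi).resolve_left h'), rsR_rsR]

/-- Finitely many sections dying in the inverse image ring die in a common refinement. -/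
lemma exists_kill_chart {c : C} {d₀ : D} (β : c ⟶ f.fn.obj d₀) {ι : Type*} (s : Finset ι) (z : ι → rsec O_D d₀)
    (hz : ∀ i ∈ s, iua f β (z i) = 0) :
    ∃ S ∈ J c, ∀ ⦃c' : C⦄ (h : c' ⟶ c), S h → ∃ (d₁ : D) (w : d₁ ⟶ d₀) (β₁ : c' ⟶ f.fn.obj d₁),
      β₁ ≫ f.fn.map w = h ≫ β ∧ ∀ i ∈ s, rsR w (z i) = 0 := by
  classical
  induction s using Finset.induction_on with
  | empty => exact ⟨⊤, J.top_mem c, fun c' h _ => ⟨d₀, 𝟙 _, h ≫ β, by simp, fun i hi => absurd hi (Finset.notMem_empty i)⟩⟩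
  | insert i₀ s hi₀ ih =>
    obtain ⟨S, hS, hS'⟩ := ih fun i hi => hz i (Finset.mem_insert_of_mem hi)
    refine exists_refine hS fun c' h hh => ?_
    obtain ⟨d₁, w, β₁, hw, hw'⟩ := hS' h hh
    obtain ⟨T, hT, hT'⟩ := (InvRing.kill_of_iua_eq_zero hl (hz i₀ (Finset.mem_insert_self _ _))).refine hl h w β₁ hw
    refine ⟨T, hT, fun c'' k hk => ?_⟩
    obtain ⟨d, v, β', e, hv⟩ := hT' k hk
    refine ⟨d, v ≫ w, β', by rw [Functor.map_comp, ← Category.assoc, e, Category.assoc, hw, Category.assoc], fun i hi => ?_⟩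
    rw [← rsR_rsR]
    rcases Finset.mem_insert.1 hi with rfl | hi
    · exact hv
    · rw [hw' i hi, map_zero]

end Groth.SitesTopoi.ModH
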