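import Groth.Agent.SitesTopoi.Mod.SpaceFT
import Groth.Agent.SitesTopoi.Mod.InvRing
import Groth.Agent.SitesTopoi.Mod.PullTensor
import Mathlib.RingTheory.Flat.Stability
import Mathlib.Algebra.Homology.ShortComplex.ExactFunctor

/-!
For a morphism of ringed spaces and a module flat over the base, pulling back and tensoring is exact.
-/

set_option autoImplicit false

universe u

open CategoryTheory CategoryTheory.Limits Opposite TopologicalSpace MonoidalCategory TensorProduct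

set_option backward.defeqAttrib.useBackward true
set_option backward.isDefEq.respectTransparency false
set_option backward.isDefEq.respectTransparency.types false
set_option synthInstance.maxHeartbeats 400000

namespace Groth.SitesTopoi.SpaceFlatOver

open Groth.SitesTopoi.ModH Groth.AdicLinTop.SpacePres Groth.SitesTopoi.SpaceGerm Groth.SitesTopoi.SpaceFT
  Groth.SitesTopoi.PullTensor

variable {X Y : TopCat.{u}} (f : X ⟶ Y) {O_X : TopCat.Sheaf CommRingCat.{u} X}
  {O_Y : TopCat.Sheaf CommRingCat.{u} Y}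
  (c : O_Y ⟶ ((TopologicalSpace.Opens.map f).sheafPushforwardContinuous CommRingCat.{u}
    (Opens.grothendieckTopology Y) (Opens.grothendieckTopology X)).obj O_X)

/-- The morphism of ringed sites. -/
noncomputable abbrev fm' : ModSite.RMor O_X O_Y := ModSite.RMor.ofFlat (TopologicalSpace.Opens.map f) c

/-- The inverse image of an open. -/
abbrev pr' (d : Opens Y) : Opens X := (TopologicalSpace.Opens.map f).obj d

section Rings

variable (x : X)

/-- The ring map of stalks into the stalk of the inverse image ring. -/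
noncomputable def toInv : ModSite.stalkRing (pt (f x)) O_Y ⟶ ModSite.stalkRing (pt x) (fm' f c).invRing :=
  (pt (f x)).presheafFiberDesc
    (fun d hd => CommRingCat.ofHom ((gr (O := (fm' f c).invRing) (U := pr' f d) hd.down.down).comp (iun (fm' f c) d)))
    (fun {d d'} u hd => by
      refine CommRingCat.hom_ext (RingHom.ext fun r => ?_)
      show gr (O := (fm' f c).invRing) (U := pr' f d) hd.down.down (iun (fm' f c) d (rsR u r)) = _
      rw [iun_nat]
      exact gR_res (pt x) ((fm' f c).fn.map u) ⟨⟨hd.down.down⟩⟩ (iun (fm' f c) d' r))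

variable {x}

lemma toInv_gr {d : Opens Y} (hd : f x ∈ d) (r : rsec O_Y d) :
    toInv f c x (gr hd r) = gr (O := (fm' f c).invRing) (U := pr' f d) hd (iun (fm' f c) d r) :=
  ConcreteCategory.congr_hom (show (pt (f x)).toPresheafFiber d ⟨⟨hd⟩⟩ O_Y.obj ≫ toInv f c x =
    CommRingCat.ofHom ((gr (O := (fm' f c).invRing) (U := pr' f d) hd).comp (iun (fm' f c) d)) from colimit.ι_desc _ _) r

lemma gr_iua {Q : Opens X} (hQ : x ∈ Q) {d : Opens Y} (β : Q ⟶ pr' f d) (r : rsec O_Y d) :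
    gr hQ (iua (fm' f c) β r) = toInv f c x (gr (show f x ∈ d from β.le hQ) r) := by
  rw [toInv_gr]
  exact gR_res (pt x) β ⟨⟨hQ⟩⟩ (iun (fm' f c) d r)

lemma toInv_bijective : Function.Bijective (toInv f c x) := by
  have hl : LocFiltered (Opens.grothendieckTopology X) (Opens.grothendieckTopology Y) (fm' f c).fn :=
    locFiltered (J := Opens.grothendieckTopology X) (K := Opens.grothendieckTopology Y) (fm' f c).fn
  constructor
  · rw [injective_iff_map_eq_zero]
    intro a ha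
    obtain ⟨d, hd, r, rfl⟩ := gr_surj a
    rw [toInv_gr] at ha
    obtain ⟨V, g, ⟨⟨hxV⟩⟩, -, e⟩ := ((pt x).toPresheafFiber_eq_iff' (P := (fm' f c).invRing.obj) (pr' f d) ⟨⟨hd⟩⟩
      (iun (fm' f c) d r) 0).1 (ha.trans (map_zero _).symm)
    obtain ⟨S, hS, hS'⟩ := exists_kill_chart (f := fm' f c) hl (c := V) g (Finset.univ : Finset (Fin 1)) (fun _ => r)
      fun _ _ => (e : iua (fm' f c) g r = _).trans (map_zero _)
    obtain ⟨Q, hQ, hxQ, hSQ⟩ := exists_nhd_of_mem hS hxV
    obtain ⟨d₁, w, β, -, h0⟩ := hS' _ hSQ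
    rw [← gr_rr w.le (show f x ∈ d₁ from β.le hxQ) r, show rr w.le r = 0 from h0 0 (Finset.mem_univ _), map_zero]
  · intro b
    obtain ⟨Q, hxQ, r, rfl⟩ := gr_surj b
    obtain ⟨S, hS, hS'⟩ := Groth.SitesTopoi.ModH.InvRing.locImg hl Q r
    obtain ⟨Q', hQ', hxQ', hSQ⟩ := exists_nhd_of_mem hS hxQ
    obtain ⟨d, β, z, hz⟩ := hS' _ hSQ
    refine ⟨gr (show f x ∈ d from β.le hxQ') z, ?_⟩
    rw [← gr_iua f c hxQ' β z, hz]
    exact gr_rr hQ' hxQ' r

variable (x)

/-- The ring map of stalks. -/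
noncomputable def φst : ModSite.stalkRing (pt (f x)) O_Y →+* ModSite.stalkRing (pt x) O_X :=
  (((pt x).sheafFiber (A := CommRingCat.{u})).map (fm' f c).invSharp).hom.comp (toInv f c x).hom

variable {x}

lemma φst_gr {d : Opens Y} (hd : f x ∈ d) (r : rsec O_Y d) :
    φst f c x (gr hd r) = gr (O := O_X) (U := pr' f d) hd (shf (fm' f c) d r) := by
  show ((pt x).sheafFiber.map (fm' f c).invSharp).hom (toInv f c x (gr hd r)) = _
  rw [toInv_gr]
  refine ((pt x).toPresheafFiber_naturality_apply (fm' f c).invSharp.hom (pr' f d) ⟨⟨hd⟩⟩ (iun (fm' f c) d r)).trans ?_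
  exact congrArg (gr (O := O_X) (U := pr' f d) hd) (ish_iun (fm' f c) d r)

lemma φst_sha {Q : Opens X} (hQ : x ∈ Q) {d : Opens Y} (β : Q ⟶ pr' f d) (r : rsec O_Y d) :
    gr hQ (sha (fm' f c) β r) = φst f c x (gr (show f x ∈ d from β.le hQ) r) := by
  rw [φst_gr]
  exact gR_res (pt x) β ⟨⟨hQ⟩⟩ (shf (fm' f c) d r)

end Rings

section Tau

variable {C : Type u} [SmallCategory C] {J : GrothendieckTopology C} {O : Sheaf J CommRingCat.{u}}
  {M N : ModSite.Mod O} {V : C}

lemma tau_add_left' (a b : sc M.val V) (y : sc N.val V) : tau M N (a + b) y = tau M N a y + tau M N b y :=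
  (congrArg _ (tm_add_left _ _ _)).trans (map_add _ _ _)

lemma tau_add_right' (a : sc M.val V) (y y' : sc N.val V) : tau M N a (y + y') = tau M N a y + tau M N a y' :=
  (congrArg _ (tm_add_right _ _ _)).trans (map_add _ _ _)

lemma tau_smul' (r : rsec O V) (a : sc M.val V) (y : sc N.val V) : tau M N (r • a) y = tau M N a (r • y) :=
  congrArg _ ((tm_smul_left _ _ _).trans (tm_smul_right _ _ _).symm)

end Tau

variable (F : ModSite.Mod O_X) (x : X)

/-- The stalk of the module over the stalk of the base. -/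
def Fst : Type u := ModSite.stalkAb (pt x) F

noncomputable instance : AddCommGroup (Fst F x) := inferInstanceAs (AddCommGroup (ModSite.stalkAb (pt x) F))

/-- The module structure over the stalk of the base. -/
@[reducible]
noncomputable def modFst : Module (ModSite.stalkRing (pt (f x)) O_Y) (Fst F x) :=
  Module.compHom (ModSite.stalkAb (pt x) F) (φst f c x)

theorem flat_Fst (hF : @Module.Flat (ModSite.stalkRing (pt x) (fm' f c).invRing) (ModSite.stalkAb (pt x) F) _ _
      (Module.compHom (ModSite.stalkAb (pt x) F)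
        (((pt x).sheafFiber (A := CommRingCat.{u})).map (fm' f c).invSharp).hom)) :
    @Module.Flat (ModSite.stalkRing (pt (f x)) O_Y) (Fst F x) _ _ (modFst f c F x) := by
  let R := ModSite.stalkRing (pt (f x)) O_Y
  let S := ModSite.stalkRing (pt x) (fm' f c).invRing
  let alg : Algebra R S := (toInv f c x).hom.toAlgebra
  let mS : Module S (Fst F x) := Module.compHom (ModSite.stalkAb (pt x) F)
    (((pt x).sheafFiber (A := CommRingCat.{u})).map (fm' f c).invSharp).hom
  let mR : Module R (Fst F x) := modFst f c F x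
  have hT : IsScalarTower R S (Fst F x) := IsScalarTower.of_algebraMap_smul fun r m => rfl
  have hS : Module.Flat R S := Module.Flat.of_linearEquiv
    (LinearEquiv.ofBijective (Algebra.linearMap R S) (toInv_bijective f c (x := x))).symm
  have hF' : Module.Flat S (Fst F x) := hF
  exact Module.Flat.trans R S (Fst F x)

variable {f c F x}

/-- The germ in the base-change module. -/
noncomputable def gF {Q : Opens X} (hQ : x ∈ Q) : sc F.val Q →+ Fst F x := gm F hQ

lemma gF_sha {Q : Opens X} (hQ : x ∈ Q) {d : Opens Y} (β : Q ⟶ pr' f d) (r : rsec O_Y d) (s : sc F.val Q) :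
    letI := modFst f c F x
    gF hQ (sha (fm' f c) β r • s) = gr (show f x ∈ d from β.le hQ) r • gF hQ s :=
  (gm_smul hQ _ s).trans (congrArg (fun a => a • gm F hQ s) (φst_sha f c hQ β r))

lemma gF_rm {Q Q' : Opens X} (h : Q' ≤ Q) (hQ : x ∈ Q') (s : sc F.val Q) : gF hQ (rm F h s) = gF (h hQ) s :=
  gm_rm h hQ s

section Sections

variable (f c F) (M : ModSite.Mod O_Y)

/-- The inverse image tensored with the module. -/
noncomputable abbrev TM : ModSite.Mod O_X := tMN ((fm' f c).pull.obj M) F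

/-- The comparison from the presheaf tensor product. -/
noncomputable def kap : (Qp (fm' f c) M ⊗ F.val : PM O_X) ⟶ (TM f c F M).val :=
  (qTo (fm' f c) M ▷ F.val) ≫ etaP (((fm' f c).pull.obj M).val ⊗ F.val : PM O_X)

lemma kap_loc : LocInj (kap f c F M) ∧ LocSurj (kap f c F M) := by
  refine (isIso_aP_map_iff _).1 ?_
  have := isIso_aP_map_qTo (fm' f c) M
  have := isIso_aP_map_whiskerRight (qTo (fm' f c) M) F.val
  rw [kap, Functor.map_comp]
  infer_instance

variable {f c F M}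

lemma kap_ge {Q : Opens X} {d : Opens Y} (β : Q ⟶ pr' f d) (m : sc M.val d) (s : sc F.val Q) :
    apm (kap f c F M) Q (tm (ge (fm' f c) M β m) s) =
      tau ((fm' f c).pull.obj M) F (rsm ((fm' f c).pull.obj M).val β (thetaD (fm' f c) M d m)) s :=
  congrArg (fun q => apm (etaP (((fm' f c).pull.obj M).val ⊗ F.val : PM O_X)) Q (tm q s)) (qTo_ge (fm' f c) M β m)

/-- A combination of generators. -/
noncomputable def rep {Q : Opens X} {d : Opens Y} (β : Q ⟶ pr' f d) {n : ℕ} (m : Fin n → sc M.val d)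
    (s : Fin n → sc F.val Q) : sc (Qp (fm' f c) M ⊗ F.val : PM O_X) Q :=
  ∑ j, tm (ge (fm' f c) M β (m j)) (s j)

lemma rsm_rep {Q Q' : Opens X} {d d' : Opens Y} (k : Q' ⟶ Q) (u : d' ⟶ d) (β : Q ⟶ pr' f d) (β' : Q' ⟶ pr' f d')
    {n : ℕ} (m : Fin n → sc M.val d) (s : Fin n → sc F.val Q) :
    rsm (Qp (fm' f c) M ⊗ F.val : PM O_X) k (rep (c := c) β m s) =
      rep (c := c) β' (fun j => rsm M.val u (m j)) (fun j => rsm F.val k (s j)) := by
  rw [rep, map_sum]
  refine Finset.sum_congr rfl fun j _ => ?_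
  rw [rsm_tm, rsm_ge, ge_rsm]
  exact congrArg (fun γ => tm (ge (fm' f c) M γ (m j)) (rsm F.val k (s j))) (Subsingleton.elim _ _)

/-- Every section of the presheaf tensor product is a combination of generators near a point. -/
lemma exists_rep {Q : Opens X} (hx : x ∈ Q) (w : sc (Qp (fm' f c) M ⊗ F.val : PM O_X) Q) :
    ∃ (Q' : Opens X) (k : Q' ⟶ Q), x ∈ Q' ∧ ∃ (d : Opens Y) (β : Q' ⟶ pr' f d) (n : ℕ) (m : Fin n → sc M.val d)
      (s : Fin n → sc F.val Q'), rsm (Qp (fm' f c) M ⊗ F.val : PM O_X) k w = rep (c := c) β m s := by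
  induction w using tens_induction with
  | zero =>
    exact ⟨Q, 𝟙 Q, hx, ⊤, homOfLE le_top, 0, Fin.elim0, Fin.elim0, by rw [map_zero]; exact Finset.sum_empty.symm⟩
  | tmul q s =>
    have hl : LocFiltered (Opens.grothendieckTopology X) (Opens.grothendieckTopology Y) (fm' f c).fn :=
      locFiltered (J := Opens.grothendieckTopology X) (K := Opens.grothendieckTopology Y) (fm' f c).fn
    obtain ⟨S, hS, hS'⟩ := exists_repr (f := fm' f c) (M := M) hl fun _ : Fin 1 => q
    obtain ⟨Q', hQ', hxQ', hSQ⟩ := exists_nhd_of_mem hS hx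
    obtain ⟨d, β, v, hv⟩ := hS' _ hSQ
    let e := (v 0).support.equivFin
    refine ⟨Q', homOfLE hQ', hxQ', d, β, _, fun j => (e.symm j).1, fun j => (v 0) (e.symm j).1 • rsm F.val (homOfLE hQ') s, ?_⟩
    rw [rsm_tm, hv 0, vecTo, Finsupp.linearCombination_apply, Finsupp.sum, rep]
    refine Eq.trans ?_ ((Equiv.sum_comp e.symm fun y : (v 0).support =>
      tm (ge (fm' f c) M β y.1) ((v 0) y.1 • rsm F.val (homOfLE hQ') s))).symm
    rw [Finset.sum_coe_sort (v 0).support fun y => tm (ge (fm' f c) M β y) ((v 0) y • rsm F.val (homOfLE hQ') s)]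
    let L : sc (Qp (fm' f c) M) Q' →+ sc (Qp (fm' f c) M ⊗ F.val : PM O_X) Q' :=
      AddMonoidHom.mk' (fun q => tm q (rsm F.val (homOfLE hQ') s)) fun a b => tm_add_left a b _
    refine (map_sum L _ _).trans (Finset.sum_congr rfl fun y _ => ?_)
    exact (tm_smul_left _ _ _).trans (tm_smul_right _ _ _).symm
  | add w₁ w₂ h₁ h₂ =>
    obtain ⟨Q₁, k₁, hx₁, d₁, β₁, n₁, m₁, s₁, e₁⟩ := h₁
    obtain ⟨Q₂, k₂, hx₂, d₂, β₂, n₂, m₂, s₂, e₂⟩ := h₂
    let Q' := Q₁ ⊓ Q₂
    let β' : Q' ⟶ pr' f (d₁ ⊓ d₂) := homOfLE fun y hy => ⟨β₁.le hy.1, β₂.le hy.2⟩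
    refine ⟨Q', homOfLE inf_le_left ≫ k₁, ⟨hx₁, hx₂⟩, d₁ ⊓ d₂, β', n₁ + n₂,
      Fin.append (fun j => rsm M.val (homOfLE inf_le_left) (m₁ j)) (fun j => rsm M.val (homOfLE inf_le_right) (m₂ j)),
      Fin.append (fun j => rsm F.val (homOfLE inf_le_left : Q' ⟶ Q₁) (s₁ j))
        (fun j => rsm F.val (homOfLE inf_le_right : Q' ⟶ Q₂) (s₂ j)), ?_⟩
    have a₁ := congrArg (rsm (Qp (fm' f c) M ⊗ F.val : PM O_X) (homOfLE inf_le_left : Q' ⟶ Q₁)) e₁
    have a₂ := congrArg (rsm (Qp (fm' f c) M ⊗ F.val : PM O_X) (homOfLE inf_le_right : Q' ⟶ Q₂)) e₂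
    rw [rsm_rsm, rsm_rep _ (homOfLE inf_le_left : d₁ ⊓ d₂ ⟶ d₁) β₁ β'] at a₁
    rw [rsm_rsm, rsm_rep _ (homOfLE inf_le_right : d₁ ⊓ d₂ ⟶ d₂) β₂ β',
      Subsingleton.elim ((homOfLE inf_le_right : Q' ⟶ Q₂) ≫ k₂) (homOfLE inf_le_left ≫ k₁)] at a₂
    rw [map_add, a₁, a₂, rep, rep, rep, Fin.sum_univ_add]
    simp only [Fin.append_left, Fin.append_right]

end Sections

section Forward

variable (f c F x) (M : ModSite.Mod O_Y)

/-- The value of the stalk map on a generator. -/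
noncomputable def genVal {Q : Opens X} (hQ : x ∈ Q) (s : sc F.val Q) (e : (Gen (fm' f c) M).obj (op Q)) :
    rsec O_X Q →+ (letI := modFst f c F x
      ModSite.stalkMod (pt (f x)) M ⊗[ModSite.stalkRing (pt (f x)) O_Y] Fst F x) :=
  letI := modFst f c F x
  AddMonoidHom.mk' (fun b => (gm M (show f x ∈ e.1 from e.2.1.le hQ) e.2.2 : ModSite.stalkMod (pt (f x)) M) ⊗ₜ gF hQ (b • s))
    fun a b => by rw [add_smul, map_add, TensorProduct.tmul_add]

/-- The stalk map on formal combinations. -/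
noncomputable def preVal {Q : Opens X} (hQ : x ∈ Q) (s : sc F.val Q) :
    sc (FT O_X (Gen (fm' f c) M)) Q →+ (letI := modFst f c F x
      ModSite.stalkMod (pt (f x)) M ⊗[ModSite.stalkRing (pt (f x)) O_Y] Fst F x) :=
  letI := modFst f c F x
  (Finsupp.liftAddHom (genVal f c F x M hQ s)).comp (toF (O := O_X) (Gen (fm' f c) M) Q).toLinearMap.toAddMonoidHom

variable {f c F x M}

lemma preVal_smul_fm {Q : Opens X} (hQ : x ∈ Q) (s : sc F.val Q) (b : rsec O_X Q) (e : (Gen (fm' f c) M).obj (op Q)) :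
    preVal f c F x M hQ s (b • fm e) = genVal f c F x M hQ s e b := by
  simp only [preVal, AddMonoidHom.coe_comp, Function.comp_apply, LinearMap.toAddMonoidHom_coe, LinearEquiv.coe_coe,
    map_smul, toF_fm, Finsupp.smul_single, smul_eq_mul, mul_one]
  exact Finsupp.liftAddHom_apply_single _ _ _

lemma preVal_smul {Q : Opens X} (hQ : x ∈ Q) (s : sc F.val Q) (b : rsec O_X Q) (y : sc (FT O_X (Gen (fm' f c) M)) Q) :
    preVal f c F x M hQ s (b • y) = preVal f c F x M hQ (b • s) y := by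
  rw [eq_sum_fm y, Finset.smul_sum, map_sum, map_sum]
  refine Finset.sum_congr rfl fun e _ => ?_
  rw [smul_smul, preVal_smul_fm, preVal_smul_fm]
  letI := modFst f c F x
  show _ ⊗ₜ gF hQ ((b * _) • s) = _ ⊗ₜ gF hQ (_ • b • s)
  rw [mul_smul, smul_comm]

lemma preVal_add {Q : Opens X} (hQ : x ∈ Q) (s s' : sc F.val Q) (y : sc (FT O_X (Gen (fm' f c) M)) Q) :
    preVal f c F x M hQ (s + s') y = preVal f c F x M hQ s y + preVal f c F x M hQ s' y := by
  rw [eq_sum_fm y, map_sum, map_sum, map_sum, ← Finset.sum_add_distrib]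
  refine Finset.sum_congr rfl fun e _ => ?_
  rw [preVal_smul_fm, preVal_smul_fm, preVal_smul_fm]
  letI := modFst f c F x
  show _ ⊗ₜ gF hQ (_ • (s + s')) = _ ⊗ₜ gF hQ (_ • s) + _ ⊗ₜ gF hQ (_ • s')
  rw [smul_add, map_add, TensorProduct.tmul_add]

lemma preVal_rel {Q : Opens X} (hQ : x ∈ Q) (s : sc F.val Q) (i : (Rl (fm' f c) M).obj (op Q)) :
    preVal f c F x M hQ s (relElt (fm' f c) M Q i) = 0 := by
  letI := modFst f c F x
  rcases i with ⟨d, α, r, hr⟩ | ⟨d, d', u, α, m⟩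
  · change preVal f c F x M hQ s (r.sum fun m a => sha (fm' f c) α a • fm (gn (fm' f c) M α m)) = 0
    rw [Finsupp.sum]
    refine ((map_sum _ _ _).trans (Finset.sum_congr rfl fun m _ => preVal_smul_fm hQ s _ _)).trans ?_
    have hd : f x ∈ d := α.le hQ
    have e : ∀ m, genVal f c F x M hQ s (gn (fm' f c) M α m) (sha (fm' f c) α (r m)) =
        (gm M hd (r m • m) : ModSite.stalkMod (pt (f x)) M) ⊗ₜ gF hQ s := fun m => by
      show (gm M hd m : ModSite.stalkMod (pt (f x)) M) ⊗ₜ gF hQ (sha (fm' f c) α (r m) • s) = _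
      rw [gF_sha, gm_smul, TensorProduct.smul_tmul]
    refine (Finset.sum_congr rfl fun m _ => e m).trans ?_
    rw [← TensorProduct.sum_tmul]
    have e0 : ∑ m ∈ r.support, r m • m = 0 := by
      simpa [combD, Finsupp.linearCombination_apply, Finsupp.sum] using LinearMap.mem_ker.1 hr
    refine (congrArg (fun μ : ModSite.stalkMod (pt (f x)) M => μ ⊗ₜ gF hQ s)
      ((map_sum (gm M hd) _ _).symm.trans (congrArg (gm M hd) e0 |>.trans (map_zero _)))).trans ?_
    exact TensorProduct.zero_tmul _ _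
  · change preVal f c F x M hQ s (fm _ - fm _) = 0
    rw [map_sub, ← one_smul (rsec O_X Q) (fm (gn (fm' f c) M α (rsm M.val u m))),
      ← one_smul (rsec O_X Q) (fm (gn (fm' f c) M (α ≫ (fm' f c).fn.map u) m)), preVal_smul_fm, preVal_smul_fm, sub_eq_zero]
    exact congrArg (fun μ : ModSite.stalkMod (pt (f x)) M => μ ⊗ₜ gF hQ ((1 : rsec O_X Q) • s))
      (gm_rm u.le (show f x ∈ d' from α.le hQ) m)

variable (f c F x M)

/-- The stalk map on a section of the presheaf inverse image and a section of the module. -/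
noncomputable def qVal {Q : Opens X} (hQ : x ∈ Q) (q : sc (Qp (fm' f c) M) Q) (s : sc F.val Q) :
    (letI := modFst f c F x;
      ModSite.stalkMod (pt (f x)) M ⊗[ModSite.stalkRing (pt (f x)) O_Y] Fst F x) :=
  preVal f c F x M hQ s (qpr_surjective (fm' f c) M Q q).choose

variable {f c F x M}

lemma qVal_qpr {Q : Opens X} (hQ : x ∈ Q) (y : sc (FT O_X (Gen (fm' f c) M)) Q) (s : sc F.val Q) :
    qVal f c F x M hQ (apm (qpr (fm' f c) M) Q y) s = preVal f c F x M hQ s y := by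
  let y' := (qpr_surjective (fm' f c) M Q (apm (qpr (fm' f c) M) Q y)).choose
  have h1 : apm (qpr (fm' f c) M) Q (y' - y) = 0 := by
    rw [map_sub, (qpr_surjective (fm' f c) M Q (apm (qpr (fm' f c) M) Q y)).choose_spec, sub_self]
  obtain ⟨w, hw⟩ := exists_pres_of_qpr_eq_zero (fm' f c) M h1
  refine sub_eq_zero.1 ((map_sub (preVal f c F x M hQ s) y' y).symm.trans ?_)
  rw [← hw, eq_sum_fm w, map_sum, map_sum]
  refine Finset.sum_eq_zero fun i _ => ?_
  rw [map_smul, pres_fm, preVal_smul, preVal_rel]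

/-- The stalk map on the presheaf tensor product. -/
noncomputable def lam {Q : Opens X} (hQ : x ∈ Q) : sc (Qp (fm' f c) M ⊗ F.val : PM O_X) Q →+
    (letI := modFst f c F x;
      ModSite.stalkMod (pt (f x)) M ⊗[ModSite.stalkRing (pt (f x)) O_Y] Fst F x) :=
  letI := modFst f c F x
  TensorProduct.liftAddHom
    (AddMonoidHom.mk' (fun q => AddMonoidHom.mk' (fun s => qVal f c F x M hQ q s) fun s s' => by
        obtain ⟨y, rfl⟩ := qpr_surjective (fm' f c) M Q q
        simp only [qVal_qpr]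
        exact preVal_add hQ s s' y)
      fun q q' => by
        ext s
        obtain ⟨y, rfl⟩ := qpr_surjective (fm' f c) M Q q
        obtain ⟨y', rfl⟩ := qpr_surjective (fm' f c) M Q q'
        simp only [AddMonoidHom.mk'_apply, AddMonoidHom.add_apply, ← map_add, qVal_qpr])
    fun b q s => by
      obtain ⟨y, rfl⟩ := qpr_surjective (fm' f c) M Q q
      simp only [AddMonoidHom.mk'_apply, ← map_smul, qVal_qpr]
      exact preVal_smul hQ s b y

lemma lam_rep {Q : Opens X} (hQ : x ∈ Q) {d : Opens Y} (β : Q ⟶ pr' f d) {n : ℕ} (m : Fin n → sc M.val d)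
    (s : Fin n → sc F.val Q) :
    letI := modFst f c F x
    lam (M := M) hQ (rep (c := c) β m s) =
      ∑ j, (gm M (show f x ∈ d from β.le hQ) (m j) : ModSite.stalkMod (pt (f x)) M) ⊗ₜ gF hQ (s j) := by
  rw [rep, map_sum]
  refine Finset.sum_congr rfl fun j _ => ?_
  show qVal f c F x M hQ (ge (fm' f c) M β (m j)) (s j) = _
  rw [ge, qVal_qpr, ← one_smul (rsec O_X Q) (fm (gn (fm' f c) M β (m j))), preVal_smul_fm]
  letI := modFst f c F x
  show _ ⊗ₜ gF hQ ((1 : rsec O_X Q) • s j) = _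
  rw [one_smul]

end Forward

section Backward

variable (f c F x) (M : ModSite.Mod O_Y)

lemma exists_bwd (μ : ModSite.stalkMod (pt (f x)) M) (σ : Fst F x) :
    ∃ (Q : Opens X) (hQ : x ∈ Q) (d : Opens Y) (β : Q ⟶ pr' f d) (m : sc M.val d) (s : sc F.val Q),
      gm M (show f x ∈ d from β.le hQ) m = μ ∧ gF hQ s = σ := by
  obtain ⟨d, hd, m, hm⟩ := gm_surj (F := M) μ
  obtain ⟨Q, hQ, s, hs⟩ := gm_surj (F := F) σ
  exact ⟨Q ⊓ pr' f d, ⟨hQ, hd⟩, d, homOfLE inf_le_right, m, rm F inf_le_left s, hm, (gm_rm _ _ s).trans hs⟩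

/-- The germ of a pure tensor in the sheaf. -/
noncomputable def tval {Q : Opens X} (hQ : x ∈ Q) {d : Opens Y} (β : Q ⟶ pr' f d) (m : sc M.val d) (s : sc F.val Q) :
    ModSite.stalkAb (pt x) (TM f c F M) :=
  gm (TM f c F M) hQ (tau ((fm' f c).pull.obj M) F (rsm ((fm' f c).pull.obj M).val β (thetaD (fm' f c) M d m)) s)

variable {f c F x M}

lemma tval_res {Q Q' : Opens X} (k : Q' ⟶ Q) (hQ' : x ∈ Q') {d d' : Opens Y} (u : d' ⟶ d) (β : Q ⟶ pr' f d)
    (β' : Q' ⟶ pr' f d') (m : sc M.val d) (s : sc F.val Q) :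
    tval f c F x M hQ' β' (rsm M.val u m) (rsm F.val k s) = tval f c F x M (k.le hQ') β m s := by
  refine Eq.trans ?_ (gM_res (pt x) (TM f c F M) k ⟨⟨hQ'⟩⟩ _)
  refine congrArg (gm (TM f c F M) hQ') ?_
  rw [rsm_tau, thetaD_rsm]
  refine (congrArg₂ (tau ((fm' f c).pull.obj M) F) ?_ rfl).trans rfl
  refine (rsm_rsm _ _ _ _).trans ((congrArg (fun γ => rsm ((fm' f c).pull.obj M).val γ (thetaD (fm' f c) M d m))
    (Subsingleton.elim _ (k ≫ β))).trans (rsm_rsm _ _ _ _).symm)

lemma tval_unique {Q₁ Q₂ : Opens X} (h₁ : x ∈ Q₁) (h₂ : x ∈ Q₂) {d₁ d₂ : Opens Y} (β₁ : Q₁ ⟶ pr' f d₁)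
    (β₂ : Q₂ ⟶ pr' f d₂) {m₁ : sc M.val d₁} {m₂ : sc M.val d₂} {s₁ : sc F.val Q₁} {s₂ : sc F.val Q₂}
    (hm : gm M (show f x ∈ d₁ from β₁.le h₁) m₁ = gm M (show f x ∈ d₂ from β₂.le h₂) m₂) (hs : gF h₁ s₁ = gF h₂ s₂) :
    tval f c F x M h₁ β₁ m₁ s₁ = tval f c F x M h₂ β₂ m₂ s₂ := by
  have hd : f x ∈ d₁ ⊓ d₂ := ⟨β₁.le h₁, β₂.le h₂⟩
  obtain ⟨d, hdle, hxd, em⟩ := gm_eq hd (s := rm M inf_le_left m₁) (t := rm M inf_le_right m₂)
    (by rw [gm_rm, gm_rm]; exact hm)
  obtain ⟨Q, hQle, hxQ, es⟩ := gm_eq (F := F) (show x ∈ Q₁ ⊓ Q₂ from ⟨h₁, h₂⟩) (s := rm F inf_le_left s₁)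
    (t := rm F inf_le_right s₂) (by rw [gm_rm, gm_rm]; exact hs)
  let Q' := Q ⊓ pr' f d
  let β : Q' ⟶ pr' f d := homOfLE inf_le_right
  have hx' : x ∈ Q' := ⟨hxQ, hxd⟩
  rw [rm_rm, rm_rm] at em es
  rw [← tval_res (homOfLE ((inf_le_left.trans hQle).trans inf_le_left) : Q' ⟶ Q₁) hx'
      (homOfLE (hdle.trans inf_le_left) : d ⟶ d₁) β₁ β m₁ s₁,
    ← tval_res (homOfLE ((inf_le_left.trans hQle).trans inf_le_right) : Q' ⟶ Q₂) hx'
      (homOfLE (hdle.trans inf_le_right) : d ⟶ d₂) β₂ β m₂ s₂]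
  have es' := congrArg (rm F (inf_le_left : Q' ≤ Q)) es
  rw [rm_rm, rm_rm] at es'
  exact congrArg₂ (fun a b => tval f c F x M hx' β a b) em es'

variable (f c F x M)

/-- The inverse stalk map on a pair. -/
noncomputable def bval (μ : ModSite.stalkMod (pt (f x)) M) (σ : Fst F x) : ModSite.stalkAb (pt x) (TM f c F M) :=
  let h := exists_bwd f F x M μ σ
  tval f c F x M h.choose_spec.choose h.choose_spec.choose_spec.choose_spec.choose
    h.choose_spec.choose_spec.choose_spec.choose_spec.choose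
    h.choose_spec.choose_spec.choose_spec.choose_spec.choose_spec.choose

variable {f c F x M}

lemma bval_gm {Q : Opens X} (hQ : x ∈ Q) {d : Opens Y} (β : Q ⟶ pr' f d) (m : sc M.val d) (s : sc F.val Q) :
    bval f c F x M (gm M (show f x ∈ d from β.le hQ) m) (gF hQ s) = tval f c F x M hQ β m s := by
  let h := exists_bwd f F x M (gm M (show f x ∈ d from β.le hQ) m) (gF hQ s)
  exact tval_unique h.choose_spec.choose hQ h.choose_spec.choose_spec.choose_spec.choose β
    h.choose_spec.choose_spec.choose_spec.choose_spec.choose_spec.choose_spec.1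
    h.choose_spec.choose_spec.choose_spec.choose_spec.choose_spec.choose_spec.2

lemma bval_add_right (μ : ModSite.stalkMod (pt (f x)) M) (σ σ' : Fst F x) :
    bval f c F x M μ (σ + σ') = bval f c F x M μ σ + bval f c F x M μ σ' := by
  obtain ⟨Q, hQ, d, β, m, s, rfl, rfl⟩ := exists_bwd f F x M μ σ
  obtain ⟨Q', hQ', s', hs'⟩ := gm_surj (F := F) σ'
  obtain rfl : gF hQ' s' = σ' := hs'
  let β'' : Q ⊓ Q' ⟶ pr' f d := homOfLE (inf_le_left.trans β.le)
  have hx : x ∈ Q ⊓ Q' := ⟨hQ, hQ'⟩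
  have e1 : (gF hQ s : Fst F x) = gF hx (rm F inf_le_left s) := (gF_rm inf_le_left hx s).symm
  have e2 : gF hQ' s' = gF hx (rm F inf_le_right s') := (gF_rm inf_le_right hx s').symm
  have e3 : gF hQ s + gF hQ' s' = gF hx (rm F inf_le_left s + rm F inf_le_right s') := by
    rw [map_add, ← e1, ← e2]
  rw [e3, e1, e2]
  refine (bval_gm hx β'' m _).trans ?_
  refine Eq.trans ?_ (congrArg₂ (· + ·) (bval_gm hx β'' m _) (bval_gm hx β'' m _)).symm
  exact (congrArg (gm (TM f c F M) hx) (tau_add_right' _ _ _)).trans (map_add _ _ _)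

lemma bval_add_left (μ μ' : ModSite.stalkMod (pt (f x)) M) (σ : Fst F x) :
    bval f c F x M (μ + μ') σ = bval f c F x M μ σ + bval f c F x M μ' σ := by
  obtain ⟨Q, hQ, d, β, m, s, rfl, rfl⟩ := exists_bwd f F x M μ σ
  obtain ⟨d', hd', m', rfl⟩ := gm_surj (F := M) μ'
  let β'' : Q ⊓ pr' f d' ⟶ pr' f (d ⊓ d') := homOfLE fun y hy => ⟨β.le hy.1, hy.2⟩
  have hx : x ∈ Q ⊓ pr' f d' := ⟨hQ, hd'⟩
  have hd : f x ∈ d ⊓ d' := β''.le hx
  have e1 : gm M (show f x ∈ d from β.le hQ) m = gm M hd (rm M inf_le_left m) := (gm_rm inf_le_left hd m).symm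
  have e2 : gm M hd' m' = gm M hd (rm M inf_le_right m') := (gm_rm inf_le_right hd m').symm
  have e3 : gm M (show f x ∈ d from β.le hQ) m + gm M hd' m' = gm M hd (rm M inf_le_left m + rm M inf_le_right m') := by
    rw [map_add, ← e1, ← e2]
  rw [e3, e1, e2, show (gF hQ s : Fst F x) = gF hx (rm F inf_le_left s) from (gF_rm inf_le_left hx s).symm]
  refine (bval_gm hx β'' _ _).trans ?_
  refine Eq.trans ?_ (congrArg₂ (· + ·) (bval_gm hx β'' _ _) (bval_gm hx β'' _ _)).symm
  refine (congrArg (gm (TM f c F M) hx) ?_).trans (map_add _ _ _)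
  rw [map_add, map_add]
  exact tau_add_left' _ _ _

lemma bval_smul (r : ModSite.stalkRing (pt (f x)) O_Y) (μ : ModSite.stalkMod (pt (f x)) M) (σ : Fst F x) :
    letI := modFst f c F x
    bval f c F x M (r • μ) σ = bval f c F x M μ (r • σ) := by
  obtain ⟨Q, hQ, d, β, m, s, rfl, rfl⟩ := exists_bwd f F x M μ σ
  obtain ⟨d', hd', r', rfl⟩ := gr_surj r
  let β'' : Q ⊓ pr' f d' ⟶ pr' f (d ⊓ d') := homOfLE fun y hy => ⟨β.le hy.1, hy.2⟩
  have hx : x ∈ Q ⊓ pr' f d' := ⟨hQ, hd'⟩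
  have hd : f x ∈ d ⊓ d' := β''.le hx
  letI := modFst f c F x
  rw [show gm M (show f x ∈ d from β.le hQ) m = gm M hd (rm M inf_le_left m) from (gm_rm inf_le_left hd m).symm,
    show gr hd' r' = gr hd (rr inf_le_right r') from (gr_rr inf_le_right hd r').symm,
    show (gF hQ s : Fst F x) = gF hx (rm F inf_le_left s) from (gF_rm inf_le_left hx s).symm, ← gm_smul,
    ← gF_sha hx β'']
  refine (bval_gm hx β'' _ _).trans ((congrArg (gm (TM f c F M) hx) ?_).trans (bval_gm hx β'' _ _).symm)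
  rw [thetaD_smul, rsm_smul]
  exact tau_smul' _ _ _

variable (f c F x M)

/-- The inverse stalk map. -/
noncomputable def bwd : (letI := modFst f c F x;
      ModSite.stalkMod (pt (f x)) M ⊗[ModSite.stalkRing (pt (f x)) O_Y] Fst F x) →+
      ModSite.stalkAb (pt x) (TM f c F M) :=
  letI := modFst f c F x
  TensorProduct.liftAddHom
    (AddMonoidHom.mk' (fun μ => AddMonoidHom.mk' (fun σ => bval f c F x M μ σ) (bval_add_right μ))
      fun μ μ' => AddMonoidHom.ext (bval_add_left μ μ'))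
    fun r μ σ => bval_smul r μ σ

variable {f c F x M}

lemma bwd_sum {Q : Opens X} (hQ : x ∈ Q) {d : Opens Y} (β : Q ⟶ pr' f d) {n : ℕ} (m : Fin n → sc M.val d)
    (s : Fin n → sc F.val Q) :
    letI := modFst f c F x
    bwd f c F x M (∑ j, (gm M (show f x ∈ d from β.le hQ) (m j) : ModSite.stalkMod (pt (f x)) M) ⊗ₜ gF hQ (s j)) =
      gm (TM f c F M) hQ (apm (kap f c F M) Q (rep (c := c) β m s)) := by
  letI := modFst f c F x
  rw [rep, map_sum, map_sum, map_sum]
  refine Finset.sum_congr rfl fun j _ => ?_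
  refine (bval_gm hQ β (m j) (s j)).trans ?_
  exact congrArg (gm (TM f c F M) hQ) (kap_ge β (m j) (s j)).symm

end Backward

section Mono

variable {M' M : ModSite.Mod O_Y} (φ : M' ⟶ M)

lemma map_tau {A B : ModSite.Mod O_X} (ψ : A ⟶ B) {Q : Opens X} (a : sc A.val Q) (s : sc F.val Q) :
    apm (((ModSite.tensorBi O_X).flip.obj F).map ψ).val Q (tau A F a s) = tau B F (apm ψ.val Q a) s :=
  etaP_naturality (MonoidalCategory.whiskerRight (C := PM O_X) ψ.val F.val) Q (tm a s)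

lemma map_kap_rep {Q : Opens X} {d : Opens Y} (β : Q ⟶ pr' f d) {n : ℕ} (m : Fin n → sc M'.val d)
    (s : Fin n → sc F.val Q) :
    apm (((fm' f c).pull ⋙ (ModSite.tensorBi O_X).flip.obj F).map φ).val Q (apm (kap f c F M') Q (rep (c := c) β m s)) =
      apm (kap f c F M) Q (rep (c := c) β (fun j => apm φ.val d (m j)) s) := by
  rw [rep, rep, map_sum, map_sum, map_sum]
  refine Finset.sum_congr rfl fun j _ => ?_
  rw [kap_ge, kap_ge]
  refine (map_tau ((fm' f c).pull.map φ) _ _).trans ?_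
  exact congrArg (fun a => tau ((fm' f c).pull.obj M) F a (s j))
    ((apm_rsm _ β _).trans (congrArg _ (thetaD_naturality (fm' f c) φ d (m j))))

lemma stalkMap_injective [Mono φ] (y : Y) : Function.Injective (ModSite.stalkMap (pt y) φ).hom := by
  refine (injective_iff_map_eq_zero _).2 fun a ha => ?_
  obtain ⟨d, hd, m, rfl⟩ := gm_surj (F := M') a
  rw [stalkMap_gm, ← map_zero (gm M hd)] at ha
  obtain ⟨V, hV, hyV, e⟩ := gm_eq hd ha
  rw [rm_apm, map_zero] at e
  have e' : rm M' hV m = 0 := injective_of_mono φ V (e.trans (map_zero _).symm)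
  rw [← gm_rm hV hyV m, e', map_zero]

theorem mono_map [Mono φ]
    (hF : ∀ x : X, @Module.Flat (ModSite.stalkRing (pt (f x)) O_Y) (Fst F x) _ _ (modFst f c F x)) :
    Mono (((fm' f c).pull ⋙ (ModSite.tensorBi O_X).flip.obj F).map φ) := by
  refine mono_of_injective _ fun U => (injective_iff_map_eq_zero _).2 fun z hz => ext_local fun x hx => ?_
  obtain ⟨S, hS, hS'⟩ := (kap_loc f c F M').2 U z
  obtain ⟨Q, hQ, hxQ, hSQ⟩ := exists_nhd_of_mem hS hx
  obtain ⟨w, hw⟩ := hS' _ hSQ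
  obtain ⟨Q₁, k, hx₁, d, β, n, m, s, e⟩ := exists_rep hxQ w
  have hz₁ : apm (kap f c F M') Q₁ (rep (c := c) β m s) =
      rsm (TM f c F M').val (k ≫ homOfLE hQ) z := by
    rw [← e, apm_rsm, hw, rsm_rsm]
  have h0 : apm (kap f c F M) Q₁ (rep (c := c) β (fun j => apm φ.val d (m j)) s) = 0 := by
    rw [← map_kap_rep φ β m s, hz₁]
    exact (apm_rsm _ _ _).trans ((congrArg _ hz).trans (map_zero _))
  obtain ⟨T, hT, hT'⟩ := (kap_loc f c F M).1 Q₁ _ h0
  obtain ⟨Q₂, hQ₂, hx₂, hTQ⟩ := exists_nhd_of_mem hT hx₁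
  let β₂ : Q₂ ⟶ pr' f d := homOfLE hQ₂ ≫ β
  have h1 := hT' _ hTQ
  rw [rsm_rep (homOfLE hQ₂) (𝟙 d) β β₂] at h1
  letI := modFst f c F x
  have : Module.Flat (ModSite.stalkRing (pt (f x)) O_Y) (Fst F x) := hF x
  let φx : ModSite.stalkMod (pt (f x)) M' →ₗ[ModSite.stalkRing (pt (f x)) O_Y] ModSite.stalkMod (pt (f x)) M :=
    (ModSite.stalkMap (pt (f x)) φ).hom
  have hd : f x ∈ d := β₂.le hx₂
  let σ := fun j => gF hx₂ (rsm F.val (homOfLE hQ₂) (s j))
  have h2 : ∑ j, (gm M' hd (m j) : ModSite.stalkMod (pt (f x)) M') ⊗ₜ[ModSite.stalkRing (pt (f x)) O_Y] σ j = 0 := by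
    refine Module.Flat.rTensor_preserves_injective_linearMap φx (stalkMap_injective φ (f x)) ?_
    refine (Eq.trans ?_ ((congrArg (lam hx₂) h1).trans (map_zero _))).trans (map_zero _).symm
    rw [map_sum, lam_rep]
    refine Finset.sum_congr rfl fun j _ => ?_
    refine (LinearMap.rTensor_tmul _ _ _ _).trans ?_
    exact congrArg (fun μ : ModSite.stalkMod (pt (f x)) M => μ ⊗ₜ[ModSite.stalkRing (pt (f x)) O_Y] σ j)
      ((stalkMap_gm φ hd (m j)).trans (congrArg (gm M hd) (rsm_id M.val (apm φ.val d (m j))).symm))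
  have h3 := (bwd_sum hx₂ β₂ m (fun j => rsm F.val (homOfLE hQ₂) (s j))).symm.trans ((congrArg _ h2).trans (map_zero _))
  have h4 : apm (kap f c F M') Q₂ (rep (c := c) β₂ m fun j => rsm F.val (homOfLE hQ₂) (s j)) =
      rm (TM f c F M') ((hQ₂.trans k.le).trans hQ) z := by
    have := congrArg (rsm (TM f c F M').val (homOfLE hQ₂)) hz₁
    rw [← apm_rsm, rsm_rep (homOfLE hQ₂) (𝟙 d) β β₂, rsm_rsm] at this
    simp only [rsm_id] at this
    exact this
  rw [h4, ← map_zero (gm (TM f c F M') hx₂)] at h3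
  obtain ⟨V, hV, hxV, e'⟩ := gm_eq hx₂ h3
  refine ⟨V, hV.trans ((hQ₂.trans k.le).trans hQ), hxV, ?_⟩
  rw [rm_rm] at e'
  exact e'.trans ((map_zero _).trans (map_zero _).symm)

/-- Pulling back and tensoring with a module flat over the base is exact. -/
theorem exact_pull_tensor
    (hF : ∀ x : X, @Module.Flat (ModSite.stalkRing (pt (f x)) O_Y) (Fst F x) _ _ (modFst f c F x)) :
    PreservesFiniteLimits ((fm' f c).pull ⋙ (ModSite.tensorBi O_X).flip.obj F) ∧
      PreservesFiniteColimits ((fm' f c).pull ⋙ (ModSite.tensorBi O_X).flip.obj F) := by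
  have h2 : PreservesFiniteColimits ((fm' f c).pull ⋙ (ModSite.tensorBi O_X).flip.obj F) := by
    have : (fm' f c).pull.IsLeftAdjoint := (fm' f c).adj.isLeftAdjoint
    exact comp_preservesFiniteColimits _ _
  have : ((fm' f c).pull ⋙ (ModSite.tensorBi O_X).flip.obj F).Additive := Balanced.additive_of_rightExact _
  refine ⟨(Functor.preservesFiniteLimits_iff_forall_exact_map_and_mono _).2 fun S hS =>
    ⟨?_, have := hS.mono_f; mono_map S.f hF⟩, h2⟩
  exact ((Functor.preservesFiniteColimits_iff_forall_exact_map_and_epi _).1 h2 S hS).1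

end Mono

end Groth.SitesTopoi.SpaceFlatOver
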