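import Groth.Agent.Misc4.FreeOn
import Groth.Agent.SitesTopoi.Mod.Split
import Groth.Agent.DAlg.RestrPushOver
import Groth.Prelude.Def_AlgSpPerf

/-!
Morphisms between restrictions; local lifting out of direct summands of finite free modules.
-/

universe u

open CategoryTheory CategoryTheory.Limits Opposite

set_option backward.defeqAttrib.useBackward true
set_option backward.isDefEq.respectTransparency false
set_option synthInstance.maxHeartbeats 400000

namespace Groth.SitesTopoi.LocLift

open Groth.SitesTopoi.ModH Groth.Misc4.FreeOn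

variable {C : Type u} [SmallCategory C] {J : GrothendieckTopology C} {O : Sheaf J CommRingCat.{u}}

/-- Morphisms of restrictions. -/
abbrev RH (W : C) (M N : ModSite.Mod O) : Type u := (ModSite.restr O W).obj M ⟶ (ModSite.restr O W).obj N

lemma comp'_over {W : C} {M N : ModSite.Mod O} (ψ : RH W M N) (V : Over W) (m : sc ((ModSite.restr O W).obj M).val V) :
    apm ψ.val V m = toRes N.val V (comp' ψ V.hom (ofRes M.val V m)) := rfl

lemma ext_comp' {W : C} {M N : ModSite.Mod O} {ψ ψ' : RH W M N}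
    (h : ∀ {V : C} (g : V ⟶ W) (m : sc M.val V), comp' ψ g m = comp' ψ' g m) : ψ = ψ' :=
  mod_hom_ext fun V m => congrArg (toRes N.val V) (h V.hom (ofRes M.val V m))

/-- Restriction of a morphism of restrictions along `g : W' ⟶ W`. -/
noncomputable def rh {W W' : C} (g : W' ⟶ W) {M N : ModSite.Mod O} (ψ : RH W M N) : RH W' M N where
  val :=
    { app := fun V => ModuleCat.ofHom (X := sc ((ModSite.restr O W').obj M).val V.unop)
        (Y := sc ((ModSite.restr O W').obj N).val V.unop)
        { toFun := fun m => comp' ψ (V.unop.hom ≫ g) (m : sc M.val V.unop.left)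
          map_add' := fun a b => map_add (comp' ψ (V.unop.hom ≫ g)) a b
          map_smul' := fun r a => map_smul (comp' ψ (V.unop.hom ≫ g)) r a }
      naturality := fun {V V'} f => by
        ext m
        show comp' ψ (V'.unop.hom ≫ g) (rsm M.val f.unop.left m) =
          rsm N.val f.unop.left (comp' ψ (V.unop.hom ≫ g) (m : sc M.val V.unop.left))
        rw [rsm_comp', ← Category.assoc, Over.w] }

lemma comp'_rh {W W' : C} (g : W' ⟶ W) {M N : ModSite.Mod O} (ψ : RH W M N) {V : C} (k : V ⟶ W') (m : sc M.val V) :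
    comp' (rh g ψ) k m = comp' ψ (k ≫ g) m := rfl

lemma rh_comp {W W' : C} (g : W' ⟶ W) {M N P : ModSite.Mod O} (ψ : RH W M N) (χ : RH W N P) :
    rh g (ψ ≫ χ) = rh g ψ ≫ rh g χ := ext_comp' fun _ _ => rfl

lemma rh_add {W W' : C} (g : W' ⟶ W) {M N : ModSite.Mod O} (ψ χ : RH W M N) :
    rh g (ψ + χ) = rh g ψ + rh g χ := ext_comp' fun _ _ => rfl

lemma rh_sub {W W' : C} (g : W' ⟶ W) {M N : ModSite.Mod O} (ψ χ : RH W M N) :
    rh g (ψ - χ) = rh g ψ - rh g χ := ext_comp' fun _ _ => rfl

lemma rh_zero {W W' : C} (g : W' ⟶ W) {M N : ModSite.Mod O} : rh g (0 : RH W M N) = 0 := ext_comp' fun _ _ => rfl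

lemma rh_map {W W' : C} (g : W' ⟶ W) {M N : ModSite.Mod O} (φ : M ⟶ N) :
    rh g ((ModSite.restr O W).map φ) = (ModSite.restr O W').map φ := ext_comp' fun _ _ => rfl

/-- The section of a morphism out of the restricted structure sheaf. -/
noncomputable def usec {W : C} {N : ModSite.Mod O}
    (ψ : RH W (SheafOfModules.unit (ModSite.ringSh O)) N) : sc N.val W :=
  sectionsOverEquiv N W (((ModSite.restr O W).obj N).unitHomEquiv ψ)

lemma usec_injective {W : C} {N : ModSite.Mod O} :
    Function.Injective (usec (W := W) (N := N)) :=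
  fun a b h => ((ModSite.restr O W).obj N).unitHomEquiv.injective ((sectionsOverEquiv N W).injective h)

lemma usec_comp {W : C} {N P : ModSite.Mod O} (ψ : RH W (SheafOfModules.unit (ModSite.ringSh O)) N)
    (χ : RH W N P) : usec (ψ ≫ χ) = comp' χ (𝟙 W) (usec ψ) := rfl

lemma usec_comp_map {W : C} {N P : ModSite.Mod O} (ψ : RH W (SheafOfModules.unit (ModSite.ringSh O)) N)
    (φ : N ⟶ P) : usec (ψ ≫ (ModSite.restr O W).map φ) = apm φ.val W (usec ψ) := rfl

lemma usec_zero {W : C} {N : ModSite.Mod O} : usec (0 : RH W (SheafOfModules.unit (ModSite.ringSh O)) N) = 0 := rfl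

lemma usec_rh {W W' : C} (g : W' ⟶ W) {N : ModSite.Mod O} (ψ : RH W (SheafOfModules.unit (ModSite.ringSh O)) N) :
    usec (rh g ψ) = rsm N.val g (usec ψ) := by
  change comp' ψ (𝟙 W' ≫ g) (1 : rsec O W') = rsm N.val g (comp' ψ (𝟙 W) (1 : rsec O W))
  rw [rsm_comp', Category.comp_id, Category.id_comp]
  exact congrArg (comp' ψ g) (map_one (O.obj.map g.op).hom).symm

/-- Local lifting out of a direct summand of a finite free module. -/
theorem exists_local_lift {E M N P : ModSite.Mod O} (hE : DCoh.IsFinFreeSummandMod (ModSite.ringSh O) E)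
    (q : M ⟶ N) (r : N ⟶ P)
    (hex : ∀ {V : C} (x : sc N.val V), apm r.val V x = 0 → ∃ S ∈ J V, ∀ ⦃V' : C⦄ (g : V' ⟶ V), S g →
      ∃ m, apm q.val V' m = rsm N.val g x)
    {W : C} (ψ : RH W E N) (hψ : ψ ≫ (ModSite.restr O W).map r = 0) :
    ∃ S ∈ J W, ∀ ⦃W' : C⦄ (g : W' ⟶ W), S g →
      ∃ l : RH W' E M, l ≫ (ModSite.restr O W').map q = rh g ψ := by
  classical
  obtain ⟨n, i, p, hip⟩ := hE
  let U₁ := SheafOfModules.unit (ModSite.ringSh O)
  let ι : ULift.{u} (Fin n) → (U₁ ⟶ SheafOfModules.free (R := ModSite.ringSh O) (ULift.{u} (Fin n))) := SheafOfModules.ιFree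
  let x : ULift.{u} (Fin n) → sc N.val W := fun k => usec ((ModSite.restr O W).map (ι k ≫ p) ≫ ψ)
  have hx : ∀ k, apm r.val W (x k) = 0 := fun k => by
    refine (usec_comp_map _ r).symm.trans ?_
    refine (congrArg usec ((Category.assoc _ _ _).trans ((congrArg (_ ≫ ·) hψ).trans comp_zero))).trans usec_zero
  choose S hS hS' using fun k => hex (x k) (hx k)
  have hall : ∀ s : Finset (ULift.{u} (Fin n)), ∃ R ∈ J W, ∀ ⦃W' : C⦄ (g : W' ⟶ W), R g → ∀ k ∈ s, S k g := fun s => by
    induction s using Finset.induction_on with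
    | empty => exact ⟨⊤, J.top_mem W, fun _ _ _ k hk => absurd hk (Finset.notMem_empty k)⟩
    | insert a s _ ih =>
      obtain ⟨R, hR, hR'⟩ := ih
      exact ⟨R ⊓ S a, J.intersection_covering hR (hS a), fun W' g hg k hk => (Finset.mem_insert.1 hk).elim
        (fun e => by subst e; exact hg.2) (hR' g hg.1 k)⟩
  obtain ⟨R, hR, hR'⟩ := hall Finset.univ
  refine ⟨R, hR, fun W' g hg => ?_⟩
  choose m hm using fun k => hS' k g (hR' g hg k (Finset.mem_univ k))
  let hc := isColimitCofanMkObjOfIsColimit (ModSite.restr O W') _ _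
    (SheafOfModules.isColimitFreeCofan (R := ModSite.ringSh O) (ULift.{u} (Fin n)))
  let l₀ : RH W' (SheafOfModules.free (R := ModSite.ringSh O) (ULift.{u} (Fin n))) M :=
    Cofan.IsColimit.desc hc fun k => ((ModSite.restr O W').obj M).unitHomEquiv.symm ((sectionsOverEquiv M W').symm (m k))
  have hl₀ : l₀ ≫ (ModSite.restr O W').map q = (ModSite.restr O W').map p ≫ rh g ψ := by
    refine Cofan.IsColimit.hom_ext hc _ _ fun k => usec_injective (N := N) ?_
    change usec ((ModSite.restr O W').map (ι k) ≫ l₀ ≫ (ModSite.restr O W').map q) =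
      usec ((ModSite.restr O W').map (ι k) ≫ (ModSite.restr O W').map p ≫ rh g ψ)
    have h1 : (ModSite.restr O W').map (ι k) ≫ l₀ =
        ((ModSite.restr O W').obj M).unitHomEquiv.symm ((sectionsOverEquiv M W').symm (m k)) :=
      Cofan.IsColimit.fac hc _ k
    rw [← Category.assoc, h1, usec_comp_map]
    refine (congrArg (apm q.val W') ?_).trans ((hm k).trans ?_)
    · exact ((congrArg (sectionsOverEquiv M W') (Equiv.apply_symm_apply _ _)).trans (Equiv.apply_symm_apply _ _))
    · refine (usec_rh g _).symm.trans (congrArg usec ?_)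
      rw [rh_comp, rh_map, Functor.map_comp, Category.assoc]
  refine ⟨(ModSite.restr O W').map i ≫ l₀, ?_⟩
  refine (Category.assoc _ _ _).trans ((congrArg (_ ≫ ·) hl₀).trans ((Category.assoc _ _ _).symm.trans ?_))
  refine (congrArg (· ≫ rh g ψ) ((Functor.map_comp _ _ _).symm.trans ((congrArg _ hip).trans (CategoryTheory.Functor.map_id _ _)))).trans ?_
  exact Category.id_comp _

/-- Epimorphisms are locally surjective on the kernel of zero. -/
theorem exists_local_lift_epi {E M N : ModSite.Mod O} (hE : DCoh.IsFinFreeSummandMod (ModSite.ringSh O) E)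
    (q : M ⟶ N) [Epi q] {W : C} (ψ : RH W E N) :
    ∃ S ∈ J W, ∀ ⦃W' : C⦄ (g : W' ⟶ W), S g → ∃ l : RH W' E M, l ≫ (ModSite.restr O W').map q = rh g ψ :=
  exists_local_lift hE q (0 : N ⟶ N) (fun x _ => locSurj_of_epi q _ x) ψ
    ((congrArg (ψ ≫ ·) (Functor.map_zero _ _ _)).trans comp_zero)

end Groth.SitesTopoi.LocLift
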