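import Groth.Agent.Misc7.SitePush.Basic
import Groth.Agent.Misc7.SitePush.Modules
import Mathlib.CategoryTheory.Limits.Shapes.Pullback.IsPullback.Basic

/-!
Direct images along continuous functors whose inverse image preserves fibre products.
-/

set_option autoImplicit false

universe u

open CategoryTheory Limits Opposite Simplicial AlgebraicTopology
open Groth.SiteCohomology

set_option synthInstance.maxHeartbeats 400000
set_option maxHeartbeats 4000000

namespace Groth.SitesTopoi.FibrePush

section Wide

variable {A : Type*} [Category A] {X' X : A}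

/-- A universal family of morphisms over the base. -/
def IsWide (f : X' ⟶ X) {n : ℕ} {W : A} (b : W ⟶ X) (p : Fin n → (W ⟶ X')) : Prop :=
  (∀ i, p i ≫ f = b) ∧ ∀ (T : A) (t : T ⟶ X) (q : Fin n → (T ⟶ X')), (∀ i, q i ≫ f = t) →
    ∃! l : T ⟶ W, l ≫ b = t ∧ ∀ i, l ≫ p i = q i

lemma isWide_self (f : X' ⟶ X) : IsWide f f (fun _ : Fin 1 => 𝟙 X') :=
  ⟨fun _ => Category.id_comp f, fun T t q hq => ⟨q 0, ⟨hq 0, fun i => by
    rw [Category.comp_id, Subsingleton.elim i 0]⟩, fun l hl => (Category.comp_id l).symm.trans (hl.2 0)⟩⟩

lemma isWide_succ {f : X' ⟶ X} {n : ℕ} {W : A} {b : W ⟶ X} {p : Fin n → (W ⟶ X')} (h : IsWide f b p) {P : A}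
    {g : P ⟶ W} {g' : P ⟶ X'} (hP : IsPullback g g' b f) :
    IsWide f (g ≫ b) (Fin.snoc (fun i => g ≫ p i) g') := by
  refine ⟨Fin.lastCases (by rw [Fin.snoc_last]; exact hP.w.symm)
    (fun i => by rw [Fin.snoc_castSucc, Category.assoc, h.1]), fun T t q hq => ?_⟩
  obtain ⟨l, ⟨hl, hl'⟩, hu⟩ := h.2 T t (fun i => q i.castSucc) fun i => hq _
  refine ⟨hP.lift l (q (Fin.last n)) (hl.trans (hq _).symm), ⟨?_, ?_⟩, fun m hm => ?_⟩
  · rw [hP.lift_fst_assoc, hl]
  · exact Fin.lastCases (by rw [Fin.snoc_last, hP.lift_snd])
      (fun i => by rw [Fin.snoc_castSucc, hP.lift_fst_assoc, hl'])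
  · refine hP.hom_ext ?_ ?_
    · rw [hP.lift_fst]
      refine hu _ ⟨(Category.assoc _ _ _).trans hm.1, fun i => ?_⟩
      rw [← hm.2 i.castSucc, Fin.snoc_castSucc, Category.assoc]
    · rw [hP.lift_snd, ← hm.2 (Fin.last n), Fin.snoc_last]

/-- The cone of a universal family. -/
def wideCone (f : X' ⟶ X) {n : ℕ} {W : A} (b : W ⟶ X) (p : Fin n → (W ⟶ X')) (h : ∀ i, p i ≫ f = b) :
    Cone (WidePullbackShape.wideCospan X (fun _ : Fin n => X') fun _ => f) :=
  WidePullbackShape.mkCone b p h

/-- A universal family gives a limit cone. -/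
noncomputable def isLimitWideCone (f : X' ⟶ X) {n : ℕ} {W : A} {b : W ⟶ X} {p : Fin n → (W ⟶ X')}
    (h : IsWide f b p) : IsLimit (wideCone f b p h.1) where
  lift s := (h.2 s.pt (s.π.app none) (fun i => s.π.app (some i))
    (fun i => s.w (WidePullbackShape.Hom.term i))).choose
  fac s j := by
    have hs := (h.2 s.pt (s.π.app none) (fun i => s.π.app (some i))
      (fun i => s.w (WidePullbackShape.Hom.term i))).choose_spec.1
    cases j with
    | none => exact hs.1
    | some i => exact hs.2 i
  uniq s m hm := (h.2 s.pt (s.π.app none) (fun i => s.π.app (some i))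
    (fun i => s.w (WidePullbackShape.Hom.term i))).choose_spec.2 m ⟨hm none, fun i => hm (some i)⟩

variable {B : Type*} [Category B] [HasPullbacks A] (F : A ⥤ B) [PreservesLimitsOfShape WalkingCospan F]

lemma exists_isWide (f : X' ⟶ X) : ∀ n : ℕ, ∃ (W : A) (b : W ⟶ X) (p : Fin (n + 1) → (W ⟶ X')),
    IsWide f b p ∧ IsWide (F.map f) (F.map b) fun i => F.map (p i)
  | 0 => ⟨X', f, fun _ => 𝟙 X', isWide_self f, by
      have e : (fun _ : Fin 1 => F.map (𝟙 X')) = fun _ => 𝟙 (F.obj X') := funext fun _ => F.map_id X'
      rw [e]
      exact isWide_self (F.map f)⟩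
  | n + 1 => by
    obtain ⟨W, b, p, h, h'⟩ := exists_isWide f n
    have hP := IsPullback.of_hasPullback b f
    refine ⟨_, _, _, isWide_succ h hP, ?_⟩
    have h'' := isWide_succ h' (hP.map F)
    rw [F.map_comp]
    convert h'' using 1
    funext i
    induction i using Fin.lastCases with
    | last => simp
    | cast i => simp

/-- Preserving fibre products implies preserving finite nonempty wide pullbacks of one morphism. -/
theorem preservesLimit_wideCospan (f : X' ⟶ X) (n : ℕ) :
    PreservesLimit (WidePullbackShape.wideCospan X (fun _ : Fin (n + 1) => X') fun _ => f) F := by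
  obtain ⟨W, b, p, h, h'⟩ := exists_isWide F f n
  refine preservesLimit_of_preserves_limit_cone (isLimitWideCone f h)
    { lift := fun s => (h'.2 s.pt (s.π.app none) (fun i => s.π.app (some i))
        (fun i => s.w (WidePullbackShape.Hom.term i))).choose
      fac := fun s j => ?_
      uniq := fun s m hm => (h'.2 s.pt (s.π.app none) (fun i => s.π.app (some i))
        (fun i => s.w (WidePullbackShape.Hom.term i))).choose_spec.2 m ⟨hm none, fun i => hm (some i)⟩ }
  have hs := (h'.2 s.pt (s.π.app none) (fun i => s.π.app (some i))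
    (fun i => s.w (WidePullbackShape.Hom.term i))).choose_spec.1
  cases j with
  | none => exact hs.1
  | some i => exact hs.2 i

end Wide

section Push

open Groth.Misc7.SitePush

variable {C D : Type u} [SmallCategory C] [SmallCategory D] (J : GrothendieckTopology C)
  (K : GrothendieckTopology D) (u' : D ⥤ C) [u'.IsContinuous K J]
  [PreservesLimitsOfShape WalkingCospan (u'.sheafPullback (Type u) K J)] (F : Sheaf J AddCommGrpCat.{u})

lemma isIso_nerveHom' {X' X : Sheaf K (Type u)} (f : X' ⟶ X) : IsIso (nerveHom J K u' f) := by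
  have : ∀ n, IsIso ((nerveHom J K u' f).app n) := fun n => by
    let P := u'.sheafPullback (Type u) K J
    let W := WidePullbackShape.wideCospan X (fun _ : Fin (n.unop.len + 1) => X') fun _ => f
    have : PreservesLimit W P := preservesLimit_wideCospan P f n.unop.len
    have hl : IsLimit (P.mapCone (limit.cone W)) := isLimitOfPreserves P (limit.isLimit W)
    let s : Cone (W ⋙ P) :=
      { pt := widePullback.{0} (P.obj X) (fun _ : Fin (n.unop.len + 1) => P.obj X') fun _ => P.map f
        π :=
          { app := fun j => match j with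
              | none => WidePullback.base _
              | some i => WidePullback.π (fun _ => P.map f) i
            naturality := by
              intro j j' g
              cases g with
              | id j => simp
              | term i =>
                exact (Category.id_comp _).trans (WidePullback.π_arrow (fun _ => P.map f) i).symm } }
    refine ⟨hl.lift s, hl.hom_ext fun j => ?_, WidePullback.hom_ext _ _ _ (fun i => ?_) ?_⟩
    · rw [Category.assoc, hl.fac, Category.id_comp]
      cases j with
      | none => exact WidePullback.lift_base ..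
      | some i => exact WidePullback.lift_π ..
    · rw [Category.assoc, Category.id_comp]
      exact (congrArg (_ ≫ ·) (WidePullback.lift_π ..)).trans (hl.fac s (some i))
    · rw [Category.assoc, Category.id_comp]
      exact (congrArg (_ ≫ ·) (WidePullback.lift_base ..)).trans (hl.fac s none)
  exact NatIso.isIso_of_isIso_app _

/-- The Čech complexes agree. -/
noncomputable def cechPushIso' {X' X : Sheaf K (Type u)} (f : X' ⟶ X) :
    CohCx.cechNerveCx ((CohSite.push J K u').obj F) f ≅
      CohCx.cechNerveCx F ((u'.sheafPullback (Type u) K J).map f) :=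
  haveI := isIso_nerveHom' J K u' f
  (alternatingCofaceMapComplex AddCommGrpCat.{u}).mapIso
    (Functor.isoWhiskerLeft _ (hk0PushIso J K u' F) ≪≫
      NatIso.ofComponents (fun n => ((CohCx.HK0Functor J F).mapIso
        ((asIso ((nerveHom J K u' f).app (op n))).symm.op)))
      fun {n m} g => by
        change (CohCx.HK0Functor J F).map _ ≫ (CohCx.HK0Functor J F).map _ =
          (CohCx.HK0Functor J F).map _ ≫ (CohCx.HK0Functor J F).map _
        rw [← Functor.map_comp, ← Functor.map_comp]
        congr 1
        apply Quiver.Hom.unop_inj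
        change inv _ ≫ _ = _ ≫ inv _
        rw [IsIso.inv_comp_eq, ← Category.assoc, IsIso.eq_comp_inv]
        exact (nerveHom J K u' f).naturality g.op)

/-- Direct images of totally acyclic sheaves are totally acyclic when the inverse image preserves fibre products. -/
theorem isTotallyAcyclic_push (hF : CohCx.IsTotallyAcyclic F) :
    CohCx.IsTotallyAcyclic ((CohSite.push J K u').obj F) := by
  refine isTotallyAcyclic_of_cech _ fun X' X f hf q => ?_
  have : Epi ((u'.sheafPullback (Type u) K J).map f) :=
    haveI := (u'.sheafAdjunctionContinuous (Type u) K J).leftAdjoint_preservesColimits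
    inferInstance
  exact (isZero_cechNerveCx_homology F hF ((u'.sheafPullback (Type u) K J).map f) q).of_iso
    ((HomologicalComplex.homologyFunctor _ _ (q + 1)).mapIso (cechPushIso' J K u' F f))

end Push

end Groth.SitesTopoi.FibrePush
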