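import Groth.Agent.SitesTopoi.Mod.PullUnit

/-!
The inverse image of a free module is free.
-/

universe u

open CategoryTheory CategoryTheory.Limits Opposite

namespace Groth.SitesTopoi.PullFree

variable {C D : Type u} [SmallCategory C] [SmallCategory D] {J : GrothendieckTopology C}
  {K : GrothendieckTopology D} {O_C : Sheaf J CommRingCat.{u}} {O_D : Sheaf K CommRingCat.{u}}
  (f : ModSite.RMor O_C O_D)

/-- `f^*` of a free module is free. -/
noncomputable def pullFreeIso (I : Type u) :
    f.pull.obj (SheafOfModules.free (R := ModSite.ringSh O_D) I) ≅ SheafOfModules.free (R := ModSite.ringSh O_C) I :=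
  have : f.pull.IsLeftAdjoint := f.adj.isLeftAdjoint
  IsColimit.coconePointsIsoOfNatIso
    (isColimitOfPreserves f.pull (SheafOfModules.isColimitFreeCofan (R := ModSite.ringSh O_D) I))
    (SheafOfModules.isColimitFreeCofan (R := ModSite.ringSh O_C) I)
    (Discrete.natIso fun _ => PullUnit.pullUnitIso f)

end Groth.SitesTopoi.PullFree
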