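import Groth.Agent.SitesTopoi.Mod.LocLift
import Groth.Agent.DerivedCoh.PCoh.Near

/-!
Strictly perfect complexes map locally null-homotopically to complexes without cohomology.
-/

universe u

open CategoryTheory CategoryTheory.Limits Opposite

set_option backward.defeqAttrib.useBackward true
set_option backward.isDefEq.respectTransparency false
set_option synthInstance.maxHeartbeats 400000

namespace Groth.SitesTopoi.LocLift

open Groth.SitesTopoi.ModH Groth.Misc4.FreeOn

variable {C : Type u} [SmallCategory C] {J : GrothendieckTopology C} {O : Sheaf J CommRingCat.{u}}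

lemma locExact {M N P : ModSite.Mod O} (q : M ⟶ N) (r : N ⟶ P) (w : q ≫ r = 0)
    (hex : (ShortComplex.mk q r w).Exact) {V : C} (x : sc N.val V) (hx : apm r.val V x = 0) :
    ∃ S ∈ J V, ∀ ⦃V' : C⦄ (g : V' ⟶ V), S g → ∃ m, apm q.val V' m = rsm N.val g x := by
  have hz : (homEquiv V N).symm x ≫ r = 0 := by
    apply (homEquiv V P).injective
    rw [homEquiv_comp, Equiv.apply_symm_apply, hx]
    refine (((congrArg (homEquiv V P) (comp_zero (f := 𝟙 (ModSite.freeOn O V))).symm)).trans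
      ((homEquiv_comp V (𝟙 _) (0 : ModSite.freeOn O V ⟶ P)).trans rfl)).symm
  have : Epi (kernel.lift r q w) := hex.epi_kernelLift
  obtain ⟨S, hS, hS'⟩ := locSurj_of_epi (kernel.lift r q w) V (homEquiv V _ (kernel.lift r _ hz))
  refine ⟨S, hS, fun V' g hg => ?_⟩
  obtain ⟨m, hm⟩ := hS' g hg
  refine ⟨m, ?_⟩
  have e1 := congrArg (apm (kernel.ι r).val V') hm
  refine Eq.trans ?_ (e1.trans ((rsm_app (kernel.ι r) g _).trans (congrArg _ ?_)))
  · exact (congrArg (fun φ : M ⟶ N => apm φ.val V' m) (kernel.lift_ι r q w)).symm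
  · exact (homEquiv_comp V _ _).symm.trans ((congrArg _ (kernel.lift_ι r _ hz)).trans (Equiv.apply_symm_apply _ _))

variable (E X : CochainComplex (ModSite.Mod O) ℤ) (γ : E ⟶ X)

/-- Null-homotopy data over `W`, valid from degree `j₀` on. -/
def Good (j₀ : ℤ) (W : C) (h : ∀ p q : ℤ, RH W (E.X p) (X.X q)) : Prop :=
  (∀ p q, q + 1 ≠ p → h p q = 0) ∧ ∀ i j k : ℤ, i + 1 = j → j + 1 = k → j₀ ≤ j →
    (ModSite.restr O W).map (γ.f j) =
      (ModSite.restr O W).map (E.d j k) ≫ h k j + h j i ≫ (ModSite.restr O W).map (X.d i j)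

variable {E X γ}

open Classical in
lemma exists_step (hE : DCoh.IsStrictlyPerfectMod (ModSite.ringSh O) E) {j₀ : ℤ}
    (hX : X.ExactAt j₀) {W : C} {h : ∀ p q : ℤ, RH W (E.X p) (X.X q)}
    (hh : Good E X γ (j₀ + 1) W h) :
    ∃ S ∈ J W, ∀ ⦃W' : C⦄ (g : W' ⟶ W), S g → ∃ h', Good E X γ j₀ W' h' := by
  let ψ : RH W (E.X j₀) (X.X j₀) :=
    (ModSite.restr O W).map (γ.f j₀) - (ModSite.restr O W).map (E.d j₀ (j₀ + 1)) ≫ h (j₀ + 1) j₀
  have hψ : ψ ≫ (ModSite.restr O W).map (X.d j₀ (j₀ + 1)) = 0 := by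
    have e := hh.2 j₀ (j₀ + 1) (j₀ + 1 + 1) rfl rfl le_rfl
    have e2 : (ModSite.restr O W).map (γ.f j₀) ≫ (ModSite.restr O W).map (X.d j₀ (j₀ + 1)) =
        (ModSite.restr O W).map (E.d j₀ (j₀ + 1)) ≫ (ModSite.restr O W).map (γ.f (j₀ + 1)) := by
      rw [← Functor.map_comp, ← Functor.map_comp, γ.comm]
    rw [Preadditive.sub_comp, e2, e, Preadditive.comp_add, Category.assoc, ← Category.assoc, ← Functor.map_comp,
      E.d_comp_d]
    have : (ModSite.restr O W).Additive := Balanced.additive_of_rightExact _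
    rw [Functor.map_zero, zero_comp, zero_add, sub_self]
  have hex := (HomologicalComplex.exactAt_iff' X (j₀ - 1) j₀ (j₀ + 1) (by simp) (by simp)).1 hX
  obtain ⟨S, hS, hS'⟩ := exists_local_lift (hE.2 j₀) (X.d (j₀ - 1) j₀) (X.d j₀ (j₀ + 1))
    (locExact _ _ _ hex) ψ hψ
  refine ⟨S, hS, fun W' g hg => ?_⟩
  obtain ⟨l, hl⟩ := hS' g hg
  refine ⟨fun p q => if hpq : p = j₀ ∧ q = j₀ - 1 then
    (ModSite.restr O W').map (eqToHom (by rw [hpq.1])) ≫ l ≫ (ModSite.restr O W').map (eqToHom (by rw [hpq.2]))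
    else rh g (h p q), fun p q hpq => ?_, fun i j k hij hjk hj => ?_⟩
  · dsimp only
    rw [dif_neg (fun h' => hpq (by omega)), hh.1 p q hpq, rh_zero]
  by_cases hj' : j = j₀
  · subst hj'
    obtain rfl : i = j - 1 := by omega
    obtain rfl : k = j + 1 := by omega
    dsimp only
    rw [dif_neg (fun h' => by omega), dif_pos ⟨rfl, rfl⟩, eqToHom_refl, eqToHom_refl,
      CategoryTheory.Functor.map_id, CategoryTheory.Functor.map_id, Category.id_comp, Category.comp_id, hl, rh_sub,
      rh_comp, rh_map, rh_map, add_sub_cancel]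
  · dsimp only
    rw [dif_neg (fun h' => by omega), dif_neg (fun h' => by omega)]
    have e := congrArg (rh g) (hh.2 i j k hij hjk (by omega))
    rw [rh_map, rh_add, rh_comp, rh_comp, rh_map, rh_map] at e
    exact e

theorem exists_local_nullHomotopy (hE : DCoh.IsStrictlyPerfectMod (ModSite.ringSh O) E) (a : ℤ)
    (hEa : ∀ j : ℤ, j < a → IsZero (E.X j)) (hX : ∀ j : ℤ, a ≤ j → X.ExactAt j)
    [∀ W : C, (ModSite.restr O W).Additive] (V : C) :
    ∃ R ∈ J V, ∀ ⦃W : C⦄ (g : W ⟶ V), R g →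
      Nonempty (Homotopy (((ModSite.restr O W).mapHomologicalComplex (ComplexShape.up ℤ)).map γ) 0) := by
  obtain ⟨a₀, b, hb⟩ := hE.1
  have key : ∀ (n : ℕ) (j₀ : ℤ), a ≤ j₀ → j₀ + n = max (b + 1) a →
      ∃ R ∈ J V, ∀ ⦃W : C⦄ (g : W ⟶ V), R g → ∃ h, Good E X γ j₀ W h := by
    intro n
    induction n with
    | zero =>
      intro j₀ _ hj₀
      refine ⟨⊤, J.top_mem V, fun W g _ => ⟨fun _ _ => 0, fun _ _ _ => rfl, fun i j k _ _ hj => ?_⟩⟩
      exact ((ModSite.restr O W).map_isZero (hb j (Or.inr (by omega)))).eq_of_src _ _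
    | succ n ih =>
      intro j₀ ha hj₀
      obtain ⟨R, hR, hR'⟩ := ih (j₀ + 1) (by omega) (by omega)
      refine exists_refine hR fun W g hg => ?_
      obtain ⟨h, hh⟩ := hR' g hg
      obtain ⟨S, hS, hS'⟩ := exists_step hE (hX j₀ ha) hh
      exact ⟨S, hS, fun W' k hk => hS' k hk⟩
  obtain ⟨R, hR, hR'⟩ := key (max (b + 1) a - a).toNat a le_rfl (by omega)
  refine ⟨R, hR, fun W g hg => ?_⟩
  obtain ⟨h, h0, heq⟩ := hR' g hg
  refine ⟨{ hom := fun p q => h p q, zero := fun p q hpq => h0 p q hpq, comm := fun j => ?_ }⟩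
  refine Eq.trans ?_ (congrArg₂ (· + ·) (congrArg₂ (· + ·)
    (dNext_eq _ (show (ComplexShape.up ℤ).Rel j (j + 1) from rfl)).symm
    (prevD_eq _ (show (ComplexShape.up ℤ).Rel (j - 1) j by simp)).symm) rfl)
  refine Eq.trans ?_ (add_zero _).symm
  by_cases hj : a ≤ j
  · exact heq (j - 1) j (j + 1) (by omega) rfl hj
  · exact ((ModSite.restr O W).map_isZero (hEa j (by omega))).eq_of_src _ _

open Groth.DerivedCoh.PCoh Pretriangulated in
lemma exactAt_cone {G F : CochainComplex (ModSite.Mod O) ℤ} (f : G ⟶ F) (a : ℤ)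
    (hiso : ∀ j : ℤ, a < j → IsIso (HomologicalComplex.homologyMap f j))
    (hepi : Epi (HomologicalComplex.homologyMap f a)) (j : ℤ) (hj : a ≤ j) :
    (CochainComplex.mappingCone f).ExactAt j := by
  let := HasDerivedCategory.standard (ModSite.Mod O)
  have hnear : Near a (DerivedCategory.Q.map f) := by
    refine ⟨fun i hi => ?_, ?_⟩
    · exact (NatIso.isIso_map_iff (DerivedCategory.homologyFunctorFactors (ModSite.Mod O) i) f).2 (hiso i hi)
    · have e := (DerivedCategory.homologyFunctorFactors (ModSite.Mod O) a).hom.naturality f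
      have : Epi ((DerivedCategory.Q ⋙ DerivedCategory.homologyFunctor (ModSite.Mod O) a).map f ≫
          (DerivedCategory.homologyFunctorFactors (ModSite.Mod O) a).hom.app F) := by
        rw [e]
        exact epi_comp' inferInstance hepi
      exact ((MorphismProperty.epimorphisms _).cancel_right_of_respectsIso _ _).1 this
  have hT : DerivedCategory.Q.mapTriangle.obj (CochainComplex.mappingCone.triangle f) ∈ distTriang _ :=
    (DerivedCategory.mem_distTriang_iff _).2 ⟨_, _, f, ⟨Iso.refl _⟩⟩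
  have hb := below_of_near _ hT hnear j hj
  rw [HomologicalComplex.exactAt_iff_isZero_homology]
  exact hb.of_iso ((DerivedCategory.homologyFunctorFactors (ModSite.Mod O) j).symm.app _)

open CochainComplex in
theorem exists_local_lift_homotopy {G F : CochainComplex (ModSite.Mod O) ℤ} (α : E ⟶ F) (f : G ⟶ F)
    (hE : DCoh.IsStrictlyPerfectMod (ModSite.ringSh O) E) (a : ℤ)
    (hEa : ∀ j : ℤ, j < a → IsZero (E.X j))
    (hiso : ∀ j : ℤ, a < j → IsIso (HomologicalComplex.homologyMap f j))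
    (hepi : Epi (HomologicalComplex.homologyMap f a)) [∀ W : C, (ModSite.restr O W).Additive] (V : C) :
    ∃ R ∈ J V, ∀ ⦃W : C⦄ (g : W ⟶ V), R g →
      ∃ β : ((ModSite.restr O W).mapHomologicalComplex (ComplexShape.up ℤ)).obj E ⟶
          ((ModSite.restr O W).mapHomologicalComplex (ComplexShape.up ℤ)).obj G,
        Nonempty (Homotopy (β ≫ ((ModSite.restr O W).mapHomologicalComplex (ComplexShape.up ℤ)).map f)
          (((ModSite.restr O W).mapHomologicalComplex (ComplexShape.up ℤ)).map α)) := by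
  obtain ⟨R, hR, hR'⟩ := exists_local_nullHomotopy (γ := α ≫ mappingCone.inr f) hE a hEa
    (fun j hj => exactAt_cone f a hiso hepi j hj) V
  refine ⟨R, hR, fun W g hg => ?_⟩
  obtain ⟨H⟩ := hR' g hg
  let T := ModSite.restr O W
  let h : ∀ p q : ℤ, RH W (E.X p) ((mappingCone f).X q) := fun p q => H.hom p q
  have heq : ∀ j, T.map (α.f j) ≫ T.map ((mappingCone.inr f).f j) =
      T.map (E.d j (j + 1)) ≫ h (j + 1) j + h j (j - 1) ≫ T.map ((mappingCone f).d (j - 1) j) := fun j => by
    have e := H.comm j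
    rw [dNext_eq H.hom (show (ComplexShape.up ℤ).Rel j (j + 1) from rfl),
      prevD_eq H.hom (show (ComplexShape.up ℤ).Rel (j - 1) j by simp)] at e
    simp only [HomologicalComplex.zero_f, add_zero] at e
    exact (T.map_comp _ _).symm.trans e
  let b : ∀ j : ℤ, RH W (E.X j) (G.X j) := fun j =>
    h j (j - 1) ≫ T.map ((mappingCone.fst f).1.v (j - 1) j (by omega))
  have hb : ∀ j k : ℤ, ∀ hjk : j + 1 = k, b k = h k j ≫ T.map ((mappingCone.fst f).1.v j k (by omega)) := by
    intro j k hjk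
    obtain rfl : j = k - 1 := by omega
    rfl
  have hfst : ∀ j, b j ≫ T.map (G.d j (j + 1)) = T.map (E.d j (j + 1)) ≫ b (j + 1) := fun j => by
    have e := congrArg (· ≫ T.map ((mappingCone.fst f).1.v j (j + 1) rfl)) (heq j)
    simp only [Preadditive.add_comp, Category.assoc, ← Functor.map_comp, mappingCone.inr_f_fst_v,
      mappingCone.d_fst_v f (j - 1) j (j + 1) (by omega) rfl, comp_zero, Functor.map_zero] at e
    rw [Functor.map_neg, Functor.map_comp, Preadditive.comp_neg] at e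
    have e' := sub_eq_zero.1 ((sub_eq_add_neg _ _).trans e.symm)
    exact (Category.assoc _ _ _).trans (e'.symm.trans ((Category.assoc _ _ _).trans (congrArg (_ ≫ ·) (hb j (j + 1) rfl).symm)))
  have hsnd : ∀ j, T.map (α.f j) = T.map (E.d j (j + 1)) ≫ h (j + 1) j ≫ T.map ((mappingCone.snd f).v j j (add_zero j)) +
      h j (j - 1) ≫ T.map ((mappingCone.snd f).v (j - 1) (j - 1) (add_zero _)) ≫ T.map (F.d (j - 1) j) +
        b j ≫ T.map (f.f j) := fun j => by
    have e := congrArg (· ≫ T.map ((mappingCone.snd f).v j j (add_zero j))) (heq j)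
    simp only [Preadditive.add_comp, Category.assoc, ← Functor.map_comp, mappingCone.inr_f_snd_v,
      mappingCone.d_snd_v f (j - 1) j (by omega), Category.comp_id] at e
    rw [e]
    simp only [Functor.map_add, Functor.map_comp, Preadditive.comp_add]
    rw [← Category.assoc (h j (j - 1)) (T.map ((mappingCone.fst f).1.v (j - 1) j _)), add_assoc, add_comm (h j (j - 1) ≫ _)]
  refine ⟨{ f := b, comm' := fun p q (hpq : p + 1 = q) => by subst hpq; exact hfst p }, ⟨?_⟩⟩
  refine
    { hom := fun p q => -(h p q ≫ T.map ((mappingCone.snd f).v q q (add_zero q)))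
      zero := fun p q hpq => by
        refine neg_eq_zero.2 ((congrArg (· ≫ T.map _) (H.zero p q hpq)).trans zero_comp)
      comm := fun j => ?_ }
  refine Eq.trans ?_ (congrArg₂ (· + ·) (congrArg₂ (· + ·)
    (dNext_eq _ (show (ComplexShape.up ℤ).Rel j (j + 1) from rfl)).symm
    (prevD_eq _ (show (ComplexShape.up ℤ).Rel (j - 1) j by simp)).symm) rfl)
  show (show RH W (E.X j) (F.X j) from b j ≫ T.map (f.f j)) =
    T.map (E.d j (j + 1)) ≫ (-(h (j + 1) j ≫ T.map ((mappingCone.snd f).v j j (add_zero j)))) +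
      (-(h j (j - 1) ≫ T.map ((mappingCone.snd f).v (j - 1) (j - 1) (add_zero (j - 1))))) ≫ T.map (F.d (j - 1) j) +
        T.map (α.f j)
  refine Eq.trans ?_ (congrArg₂ (· + ·) (congrArg₂ (· + ·) (Preadditive.comp_neg _ _).symm
    ((Preadditive.neg_comp _ _).trans (congrArg Neg.neg (Category.assoc _ _ _))).symm) (hsnd j).symm)
  abel

end Groth.SitesTopoi.LocLift
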