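import Groth.Agent.SitesTopoi.Mod.QcSum
import Groth.Agent.SitesTopoi.Topos.Eps
import Groth.Agent.SiteCohomology.CechVanishing
import Groth.Agent.SiteCohomology.HK
import Groth.Agent.Misc7.SitePush.Modules
import Groth.Agent.SiteCohomology.ModulesGrothendieck

/-!
Direct sums of injective modules are acyclic on a class of objects with finite coverings.
-/

universe u

open CategoryTheory CategoryTheory.Limits Opposite

set_option backward.defeqAttrib.useBackward true
set_option backward.isDefEq.respectTransparency false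
set_option maxHeartbeats 2000000
set_option synthInstance.maxHeartbeats 400000

namespace Groth.SitesTopoi.SumAcyclic

open Groth.SitesTopoi.ModH Groth.SiteCohomology CategoryTheory.Abelian

variable {C : Type u} [SmallCategory C] {J : GrothendieckTopology C}

/-- An object all whose coverings contain a finite covering family is quasi-compact. -/
lemma isQcObject_of_finite_covers (U : C)
    (h : ∀ T ∈ J U, ∃ (ι : Type u) (_ : Finite ι) (V : ι → C) (g : ∀ i, V i ⟶ U),
      Sieve.ofArrows V g ∈ J U ∧ ∀ i, T.arrows (g i)) :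
    CohCx.IsQcObject ((presheafToSheaf J (Type u)).obj (yoneda.obj U)) := by
  classical
  have hs : ToposFin.IsQCSite J U := fun T hT => by
    obtain ⟨ι, hι, V, g, hg, hT'⟩ := h T hT
    have : Fintype ι := Fintype.ofFinite ι
    let e := (Fintype.equivFin ι).symm
    refine ⟨Fintype.card ι, fun k => V (e k), fun k => g (e k), fun k => hT' _, J.superset_covering ?_ hg⟩
    rintro W k ⟨_, a, _, ⟨i⟩, rfl⟩
    obtain ⟨j, rfl⟩ := e.surjective i
    exact (Sieve.mem_ofArrows_iff _ _ _).2 ⟨j, a, rfl⟩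
  intro I L f hf
  obtain ⟨t, ht⟩ := Topos.finite_subcover ((Topos.isQC_eps_iff U).1 hs) (F := L) (π := f) (fun V s => by
    obtain ⟨S, hS, hS'⟩ := hf V s
    refine J.superset_covering (fun W g hg => ?_) hS
    obtain ⟨i, x, hx⟩ := hS' W g hg
    exact ⟨i, x, hx⟩)
  exact ⟨t, fun V s => ⟨_, ht V s, fun W g hg => hg⟩⟩

variable [HasPullbacks C] {O : Sheaf J CommRingCat.{u}}

/-- The Čech complex of the underlying abelian sheaf of a module. -/
noncomputable abbrev cx {U : C} {ι : Type u} (Y : ι → Over U) : ModSite.Mod O ⥤ CochainComplex AddCommGrpCat.{u} ℕ :=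
  SheafOfModules.toSheaf (ModSite.ringSh O) ⋙ sheafToPresheaf J AddCommGrpCat.{u} ⋙
    (Functor.whiskeringLeft (Over U)ᵒᵖ Cᵒᵖ AddCommGrpCat.{u}).obj (Over.forget U).op ⋙ cechComplexFunctor Y

/-- A cochain with values in a direct sum is supported on finitely many summands. -/
lemma exists_support {U : C} {ι : Type u} [Finite ι] (Y : ι → Over U) {I : Type u} (N : I → ModSite.Mod O)
    (n : ℕ) (hqc : ∀ a : Fin (n + 1) → ι,
      CohCx.IsQcObject ((presheafToSheaf J (Type u)).obj (yoneda.obj (∏ᶜ fun k => Y (a k)).left)))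
    (x : ((cx Y).obj (∐ N)).X n) :
    ∃ S : Finset I, x = ∑ i ∈ S, ((cx Y).map (Sigma.ι N i)).f n (((cx Y).map (QcSum.proj N i)).f n x) := by
  classical
  have : Fintype (Fin (n + 1) → ι) := Fintype.ofFinite _
  let W : (Fin (n + 1) → ι) → C := fun a => (∏ᶜ fun k => Y (a k)).left
  let π : ∀ (M : ModSite.Mod O) (a : Fin (n + 1) → ι), ((cx Y).obj M).X n →+ sc M.val (W a) := fun M a =>
    (Pi.π (fun a : Fin (n + 1) → ι => ((SheafOfModules.toSheaf (ModSite.ringSh O)).obj M).obj.obj
      (op (W a))) a).hom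
  have hnat : ∀ {M M' : ModSite.Mod O} (f : M ⟶ M') (a : Fin (n + 1) → ι) (y : ((cx Y).obj M).X n),
      π M' a (((cx Y).map f).f n y) = apm f.val (W a) (π M a y) := fun f a y => by
    exact ConcreteCategory.congr_hom (Pi.map_π
      (fun a : Fin (n + 1) → ι => ((SheafOfModules.toSheaf (ModSite.ringSh O)).map f).hom.app (op (W a))) a) y
  have hext : ∀ {M : ModSite.Mod O} (y z : ((cx Y).obj M).X n), (∀ a, π M a y = π M a z) → y = z :=
    fun {M} y z h => Concrete.limit_ext (F := Discrete.functor fun a : Fin (n + 1) → ι =>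
      ((SheafOfModules.toSheaf (ModSite.ringSh O)).obj M).obj.obj (op (W a))) y z fun ⟨a⟩ => h a
  choose Sa ta hta using fun a => QcSum.exists_finset_sum N (hqc a) (π _ a x)
  refine ⟨Finset.univ.biUnion Sa, hext _ _ fun a => Eq.symm ?_⟩
  refine (map_sum (π (∐ N) a) _ _).trans ?_
  refine (Finset.sum_congr rfl fun i _ => ((hnat (Sigma.ι N i) a _).trans
    (congrArg (apm (Sigma.ι N i).val (W a)) ((hnat (QcSum.proj N i) a x).trans
      ((congrArg (apm (QcSum.proj N i).val (W a)) (hta a)).trans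
        (QcSum.apm_proj_sum N i (Sa a) (W a) (ta a))))))).trans ?_
  rw [← Finset.sum_subset (Finset.subset_biUnion_of_mem Sa (Finset.mem_univ a))
    (fun i _ hi => by rw [if_neg hi, map_zero])]
  exact (Finset.sum_congr rfl fun i hi => by rw [if_pos hi]).trans (hta a).symm

/-- Čech cohomology of a direct sum over a finite family with quasi-compact intersections. -/
lemma isZero_cechH_sigma {U : C} {ι : Type u} [Finite ι] (Y : ι → Over U) {I : Type u} (N : I → ModSite.Mod O)
    (hqc : ∀ (n : ℕ) (a : Fin (n + 1) → ι),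
      CohCx.IsQcObject ((presheafToSheaf J (Type u)).obj (yoneda.obj (∏ᶜ fun k => Y (a k)).left)))
    (p : ℕ) (h : ∀ i, IsZero (((cx Y).obj (N i)).homology (p + 1))) :
    IsZero (((cx Y).obj (∐ N)).homology (p + 1)) := by
  rw [← HomologicalComplex.exactAt_iff_isZero_homology,
    HomologicalComplex.exactAt_iff' _ p (p + 1) (p + 2) (by simp) (by simp), ShortComplex.ab_exact_iff]
  intro (x : ((cx Y).obj (∐ N)).X (p + 1)) hx
  obtain ⟨S, hS⟩ := exists_support Y N (p + 1) (hqc _) x
  have hy : ∀ i, ∃ y : ((cx Y).obj (N i)).X p,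
      ((cx Y).obj (N i)).d p (p + 1) y = ((cx Y).map (QcSum.proj N i)).f (p + 1) x := fun i => by
    have hi := h i
    rw [← HomologicalComplex.exactAt_iff_isZero_homology,
      HomologicalComplex.exactAt_iff' _ p (p + 1) (p + 2) (by simp) (by simp), ShortComplex.ab_exact_iff] at hi
    refine hi _ ((ConcreteCategory.congr_hom (((cx Y).map (QcSum.proj N i)).comm (p + 1) (p + 2)) x).trans ?_)
    exact (congrArg (fun z => ((cx Y).map (QcSum.proj N i)).f (p + 2) z) hx).trans (map_zero _)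
  choose y hy using hy
  refine ⟨∑ i ∈ S, ((cx Y).map (Sigma.ι N i)).f p (y i), ((map_sum _ _ _).trans ?_).trans hS.symm⟩
  refine Finset.sum_congr rfl fun i _ => ?_
  exact (ConcreteCategory.congr_hom (((cx Y).map (Sigma.ι N i)).comm p (p + 1)) (y i)).trans
    (congrArg (fun z => ((cx Y).map (Sigma.ι N i)).f (p + 1) z) (hy i))

variable (B : Set C) (Cov : ∀ (U : C) (ι : Type u), (ι → Over U) → Prop)
  (h1 : ∀ (U : C) (ι : Type u) (Y : ι → Over U), Cov U ι Y → Finite ι ∧ U ∈ B ∧
    Sieve.ofArrows (fun i => (Y i).left) (fun i => (Y i).hom) ∈ J U ∧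
    ∀ (p : ℕ) (a : Fin (p + 1) → ι), (∏ᶜ fun k => Y (a k)).left ∈ B)
  (h2 : ∀ U ∈ B, ∀ T ∈ J U, ∃ (ι : Type u) (Y : ι → Over U), Cov U ι Y ∧ ∀ i, T.arrows (Y i).hom)
include h1 h2

lemma isQcObject_of_mem {U : C} (hU : U ∈ B) :
    CohCx.IsQcObject ((presheafToSheaf J (Type u)).obj (yoneda.obj U)) :=
  isQcObject_of_finite_covers U fun T hT => by
    obtain ⟨ι, Y, hY, hT'⟩ := h2 U hU T hT
    exact ⟨ι, (h1 U ι Y hY).1, _, _, (h1 U ι Y hY).2.2.1, hT'⟩

/-- A direct sum of injective modules has no higher cohomology on members of `B`. -/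
theorem subsingleton_HU_sigma {I : Type u} (N : I → ModSite.Mod O) (hN : ∀ i, Injective (N i))
    {U : C} (hU : U ∈ B) (p : ℕ) : Subsingleton (CohSite.HU (ModSite.toAb (∐ N)) (p + 1) U) := by
  refine subsingleton_HU_of_cech J B Cov (fun U ι Y hY => (h1 U ι Y hY).2) h2 _ ?_ U hU p
  intro V ι Y hY q
  have := (h1 V ι Y hY).1
  refine isZero_cechH_sigma Y N (fun n a => isQcObject_of_mem B Cov h1 h2 ((h1 V ι Y hY).2.2.2 n a)) q fun i => ?_
  have := hN i
  have hac : CohCx.IsTotallyAcyclic (ModSite.toAb (N i)) := Misc7.SitePush.isTotallyAcyclic_toSheaf (ModSite.ringSh O) (N i)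
  obtain ⟨e⟩ := nonempty_cechH_equiv_site Y J (h1 V ι Y hY).2.2.1 (ModSite.toAb (N i)) (q + 1)
    (fun n a k _ => subsingleton_HU_of_totallyAcyclic J _ hac _ k)
  have := subsingleton_HU_of_totallyAcyclic J _ hac V q
  have : Subsingleton (CohCx.cechH (ModSite.toAb (N i)).obj Y (q + 1)) := e.toEquiv.subsingleton
  exact AddCommGrpCat.isZero_of_subsingleton (CohCx.cechH (ModSite.toAb (N i)).obj Y (q + 1))

omit [HasPullbacks C] h1 h2 in
/-- Modules acyclic on `B` are acyclic for the free modules on members of `B`. -/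
theorem subsingleton_ext_freeOn {M : ModSite.Mod O}
    (hM : ∀ V ∈ B, ∀ q : ℕ, Subsingleton (CohSite.HU (ModSite.toAb M) (q + 1) V))
    {U : C} (hU : U ∈ B) (q : ℕ) : Subsingleton (Ext (ModSite.freeOn O U) M (q + 1)) := by
  refine subsingleton_ext_succ_of_class (ModSite.freeOn O U)
    (fun M => ∀ V ∈ B, ∀ q : ℕ, Subsingleton (CohSite.HU (ModSite.toAb M) (q + 1) V)) ?_ ?_ q M hM
  · intro F S hS hF e _ f
    subst e
    have hS' := hS.map_of_exact (SheafOfModules.toSheaf (ModSite.ringSh O))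
    have : Subsingleton (CohSite.HU (S.map (SheafOfModules.toSheaf (ModSite.ringSh O))).X₁ 1 U) := hF U hU 0
    obtain ⟨s, hs⟩ := surjective_sections_of_subsingleton_HU hS' U (Misc4.FreeOn.homEquiv U S.X₃ f)
    refine ⟨(Misc4.FreeOn.homEquiv U S.X₂).symm s, (Misc4.FreeOn.homEquiv U S.X₃).injective ?_⟩
    refine (Misc4.FreeOn.homEquiv_comp U _ S.g).trans ?_
    exact (congrArg (apm S.g.val U) ((Misc4.FreeOn.homEquiv U S.X₂).apply_symm_apply s)).trans hs
  · intro F S hS hF e hI V hV n
    subst e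
    have hS' := hS.map_of_exact (SheafOfModules.toSheaf (ModSite.ringSh O))
    have : Subsingleton (Ext (CohCx.freeSheaf J V) (S.map (SheafOfModules.toSheaf (ModSite.ringSh O))).X₂ (n + 1)) :=
      subsingleton_HU_of_totallyAcyclic J _ (Misc7.SitePush.isTotallyAcyclic_toSheaf (ModSite.ringSh O) S.X₂) V n
    have : Subsingleton (Ext (CohCx.freeSheaf J V) (S.map (SheafOfModules.toSheaf (ModSite.ringSh O))).X₁ (n + 1 + 1)) :=
      hF V hV (n + 1)
    exact subsingleton_ext_right hS' (CohCx.freeSheaf J V) (n + 1)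

end Groth.SitesTopoi.SumAcyclic
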