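import Groth.Agent.SitesTopoi.Mod.Basic
import Groth.Prelude.Def_AlgSpPerf
import Mathlib.RingTheory.Finiteness.Basic
import Mathlib.LinearAlgebra.Finsupp.Pi

/-!
Global sections of direct summands of finite free modules on a site with a final object.
-/

universe u

open CategoryTheory CategoryTheory.Limits Opposite

set_option backward.defeqAttrib.useBackward true
set_option backward.isDefEq.respectTransparency false
set_option synthInstance.maxHeartbeats 400000

namespace Groth.SitesTopoi.GlobalFree

open Groth.SitesTopoi.ModH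

variable {C : Type u} [SmallCategory C] {J : GrothendieckTopology C} {O : Sheaf J CommRingCat.{u}} {X : C}
  {I : Type u}

/-- The free module. -/
noncomputable abbrev fr (O : Sheaf J CommRingCat.{u}) (I : Type u) : ModSite.Mod O :=
  SheafOfModules.free (R := ModSite.ringSh O) I

/-- A generator. -/
noncomputable def gen (O : Sheaf J CommRingCat.{u}) (X : C) (k : I) : sc (fr O I).val X :=
  apm (SheafOfModules.ιFree (R := ModSite.ringSh O) k).val X (1 : rsec O X)

open Classical in
/-- A coordinate. -/
noncomputable def proj (O : Sheaf J CommRingCat.{u}) (k : I) : fr O I ⟶ SheafOfModules.unit (ModSite.ringSh O) :=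
  Cofan.IsColimit.desc (SheafOfModules.isColimitFreeCofan I)
    fun j => if j = k then 𝟙 _ else 0

open Classical in
lemma ι_proj (j k : I) : SheafOfModules.ιFree (R := ModSite.ringSh O) j ≫ proj O k = if j = k then 𝟙 _ else 0 :=
  Cofan.IsColimit.fac (SheafOfModules.isColimitFreeCofan I) _ j

/-- The coordinates of a section. -/
noncomputable def coef (O : Sheaf J CommRingCat.{u}) (X : C) : sc (fr O I).val X →ₗ[rsec O X] (I → rsec O X) :=
  LinearMap.pi fun k => (apm (proj O k).val X : sc (fr O I).val X →ₗ[rsec O X] rsec O X)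

/-- A combination of generators. -/
noncomputable def comb (O : Sheaf J CommRingCat.{u}) (X : C) [Fintype I] : (I → rsec O X) →ₗ[rsec O X] sc (fr O I).val X :=
  Fintype.linearCombination (rsec O X) (gen O X)

lemma apm_eq_smul {M : ModSite.Mod O} (φ : SheafOfModules.unit (ModSite.ringSh O) ⟶ M) (a : rsec O X) :
    apm φ.val X a = a • apm φ.val X (1 : rsec O X) := by
  refine Eq.trans ?_ (map_smul (apm φ.val X) a (1 : rsec O X))
  exact congrArg (apm φ.val X) (mul_one a).symm

lemma comb_coef [Fintype I] (x : sc (fr O I).val X) : comb O X (coef O X x) = x := by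
  classical
  have h : (∑ k, proj O k ≫ SheafOfModules.ιFree (R := ModSite.ringSh O) k : fr O I ⟶ fr O I) = 𝟙 _ := by
    refine Cofan.IsColimit.hom_ext (SheafOfModules.isColimitFreeCofan I) _ _ fun j => ?_
    show SheafOfModules.ιFree j ≫ _ = SheafOfModules.ιFree j ≫ 𝟙 _
    rw [Preadditive.comp_sum, Category.comp_id, Finset.sum_eq_single j]
    · rw [← Category.assoc, ι_proj, if_pos rfl, Category.id_comp]
    · intro k _ hk
      rw [← Category.assoc, ι_proj, if_neg (fun e => hk e.symm), zero_comp]
    · exact fun h => absurd (Finset.mem_univ j) h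
  let T : (fr O I ⟶ fr O I) →+ sc (fr O I).val X :=
    AddMonoidHom.mk' (fun φ => apm φ.val X x) fun _ _ => rfl
  refine Eq.trans ?_ (congrArg T h)
  rw [map_sum]
  refine Finset.sum_congr rfl fun k _ => ?_
  exact (apm_eq_smul (SheafOfModules.ιFree k) (coef O X x k)).symm

lemma coef_gen [DecidableEq I] (j k : I) : coef O X (gen O X j) k = if j = k then 1 else 0 := by
  classical
  refine (congrArg (fun φ : SheafOfModules.unit (ModSite.ringSh O) ⟶ SheafOfModules.unit (ModSite.ringSh O) =>
    apm φ.val X (1 : rsec O X)) (ι_proj j k)).trans ?_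
  split_ifs <;> rfl

lemma coef_comb [Fintype I] (a : I → rsec O X) : coef O X (comb O X a) = a := by
  classical
  funext k
  have : coef O X (comb O X a) k = ∑ j, a j * coef O X (gen O X j) k := by
    rw [comb, Fintype.linearCombination_apply, map_sum, Finset.sum_apply]
    exact Finset.sum_congr rfl fun j _ => congrFun (map_smul (coef O X) (a j) (gen O X j)) k
  rw [this]
  simp [coef_gen]

variable (hX : IsTerminal X)
include hX

lemma hom_ext_gen {M : ModSite.Mod O} {φ ψ : fr O I ⟶ M}
    (h : ∀ k, apm φ.val X (gen O X k) = apm ψ.val X (gen O X k)) : φ = ψ := by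
  refine Cofan.IsColimit.hom_ext (SheafOfModules.isColimitFreeCofan I) _ _ fun k => ?_
  refine M.unitHomEquiv.injective (Subtype.ext (funext fun V => ?_))
  let s := M.unitHomEquiv (SheafOfModules.ιFree k ≫ φ)
  let t := M.unitHomEquiv (SheafOfModules.ιFree k ≫ ψ)
  exact (s.2 (hX.from V.unop).op).symm.trans ((congrArg (rsm M.val (hX.from V.unop)) (h k)).trans (t.2 (hX.from V.unop).op))

lemma exists_hom {M : ModSite.Mod O} (v : I → sc M.val X) :
    ∃ φ : fr O I ⟶ M, ∀ k, apm φ.val X (gen O X k) = v k := by
  refine ⟨M.freeHomEquiv.symm fun k => PresheafOfModules.sectionsMk (fun V => rsm M.val (hX.from V.unop) (v k))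
    fun V W f => ?_, fun k => ?_⟩
  · show rsm M.val f.unop (rsm M.val (hX.from V.unop) (v k)) = rsm M.val (hX.from W.unop) (v k)
    rw [rsm_rsm, hX.hom_ext (f.unop ≫ hX.from V.unop) (hX.from W.unop)]
  · refine (congrArg (fun s : M.sections => s.val (op X)) (congrFun (M.freeHomEquiv.apply_symm_apply _) k)).trans ?_
    show rsm M.val (hX.from X) (v k) = v k
    rw [hX.hom_ext (hX.from X) (𝟙 X), rsm_id]

theorem hom_bijective [Fintype I] {E E' : ModSite.Mod O} (i : E ⟶ fr O I) (p : fr O I ⟶ E) (hip : i ≫ p = 𝟙 E) :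
    Function.Bijective (fun φ : E ⟶ E' => φ.val.app (op X)) := by
  have hid : ∀ x, apm p.val X (apm i.val X x) = x := fun x => congrArg (fun φ : E ⟶ E => apm φ.val X x) hip
  refine ⟨fun φ ψ e => ?_, fun f => ?_⟩
  · have h : p ≫ φ = p ≫ ψ := hom_ext_gen hX fun k =>
      congrArg (fun m => (ModuleCat.Hom.hom m) (apm p.val X (gen O X k))) e
    rw [← Category.id_comp φ, ← hip, Category.assoc, h, reassoc_of% hip]
  · let F : sc E.val X →ₗ[rsec O X] sc E'.val X := f.hom
    obtain ⟨g, hg⟩ := exists_hom hX (fun k => F (apm p.val X (gen O X k)))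
    refine ⟨i ≫ g, ModuleCat.hom_ext (LinearMap.ext fun x => ?_)⟩
    have h2 : (apm g.val X).comp (comb (I := I) O X) = (F.comp (apm p.val X)).comp (comb (I := I) O X) := by
      classical
      refine LinearMap.pi_ext' fun k => LinearMap.ext_ring ?_
      simp only [LinearMap.comp_apply, LinearMap.single_apply, comb, Fintype.linearCombination_apply_single, one_smul]
      exact hg k
    refine Eq.trans ?_ (congrArg F (hid x))
    refine (congrArg (apm g.val X) (comb_coef (apm i.val X x)).symm).trans ?_
    exact (LinearMap.congr_fun h2 _).trans (congrArg (fun z => F (apm p.val X z)) (comb_coef (apm i.val X x)))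

omit hX in
theorem finite_projective [Fintype I] {E : ModSite.Mod O} (i : E ⟶ fr O I) (p : fr O I ⟶ E) (hip : i ≫ p = 𝟙 E) :
    Module.Finite (rsec O X) (sc E.val X) ∧ Module.Projective (rsec O X) (sc E.val X) := by
  let s : sc E.val X →ₗ[rsec O X] (I → rsec O X) := (coef O X).comp (apm i.val X)
  let q : (I → rsec O X) →ₗ[rsec O X] sc E.val X := (apm p.val X).comp (comb O X)
  have h : q.comp s = LinearMap.id := LinearMap.ext fun x =>
    (congrArg (apm p.val X) (comb_coef _)).trans (congrArg (fun φ : E ⟶ E => apm φ.val X x) hip)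
  exact ⟨Module.Finite.of_surjective q fun x => ⟨s x, LinearMap.congr_fun h x⟩, Module.Projective.of_split s q h⟩

theorem exists_summand (M : Type u) [AddCommGroup M] [Module (rsec O X) M] [Module.Finite (rsec O X) M]
    [Module.Projective (rsec O X) M] :
    ∃ (n : ℕ) (E : ModSite.Mod O) (i : E ⟶ fr O (ULift.{u} (Fin n))) (p : fr O (ULift.{u} (Fin n)) ⟶ E),
      i ≫ p = 𝟙 E ∧ Nonempty (sc E.val X ≃ₗ[rsec O X] M) := by
  classical
  obtain ⟨n, q, hq⟩ := Module.Finite.exists_fin' (rsec O X) M
  let L : (ULift.{u} (Fin n) → rsec O X) ≃ₗ[rsec O X] (Fin n → rsec O X) :=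
    LinearEquiv.funCongrLeft (rsec O X) (rsec O X) Equiv.ulift.symm
  let q' := q.comp L.toLinearMap
  obtain ⟨s, hs⟩ := Module.projective_lifting_property q' LinearMap.id (hq.comp L.surjective)
  have hqs : ∀ m, q' (s m) = m := fun m => LinearMap.congr_fun hs m
  obtain ⟨ε, hε⟩ := exists_hom hX (M := fr O (ULift.{u} (Fin n)))
    (fun k => comb O X (s (q' (Pi.single k 1))))
  have hεc : ∀ a, coef O X (apm ε.val X (comb O X a)) = s (q' a) := fun a => by
    have h2 : ((coef O X).comp (apm ε.val X)).comp (comb O X) = s.comp q' := by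
      refine LinearMap.pi_ext' fun k => LinearMap.ext_ring ?_
      simp only [LinearMap.comp_apply, LinearMap.single_apply]
      refine Eq.trans ?_ (coef_comb (s (q' (Pi.single k 1))))
      refine congrArg (coef O X) (Eq.trans ?_ (hε k))
      exact congrArg (apm ε.val X) ((Fintype.linearCombination_apply_single _ _ k 1).trans (one_smul _ _))
    exact LinearMap.congr_fun h2 a
  have hidem : ε ≫ ε = ε := hom_ext_gen hX fun k => by
    show apm ε.val X (apm ε.val X (gen O X k)) = apm ε.val X (gen O X k)
    rw [hε, ← comb_coef (apm ε.val X _), hεc, hqs]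
  obtain ⟨E, i, p, hip, hpi⟩ := IsIdempotentComplete.idempotents_split (fr O (ULift.{u} (Fin n))) ε hidem
  refine ⟨n, E, i, p, hip, ⟨LinearEquiv.ofLinearMap (q'.comp ((coef O X).comp (apm i.val X)))
    ((apm p.val X).comp ((comb O X).comp s)) (LinearMap.ext fun m => ?_) (LinearMap.ext fun x => ?_)⟩⟩
  · show q' (coef O X (apm i.val X (apm p.val X (comb O X (s m))))) = m
    have h3 : apm i.val X (apm p.val X (comb O X (s m))) = apm ε.val X (comb O X (s m)) :=
      congrArg (fun φ : fr O (ULift.{u} (Fin n)) ⟶ fr O (ULift.{u} (Fin n)) => apm φ.val X (comb O X (s m))) hpi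
    rw [h3, hεc, hqs, hqs]
  · show apm p.val X (comb O X (s (q' (coef O X (apm i.val X x))))) = x
    have h4 : apm ε.val X (apm i.val X x) = apm i.val X x :=
      congrArg (fun φ : E ⟶ fr O (ULift.{u} (Fin n)) => apm φ.val X x)
        (show i ≫ ε = i by rw [← hpi, reassoc_of% hip])
    rw [← hεc, comb_coef, comb_coef, h4]
    exact congrArg (fun φ : E ⟶ E => apm φ.val X x) hip

end Groth.SitesTopoi.GlobalFree
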