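import Groth.Agent.SitesTopoi.Mod.KFlatPull
import Groth.Agent.SitesTopoi.Mod.ProjectionNat
import Groth.Agent.S6147

/-!
The restriction of a K-flat complex to a localised site.
-/

universe u

open CategoryTheory CategoryTheory.Limits HomologicalComplex

set_option backward.defeqAttrib.useBackward true
set_option backward.isDefEq.respectTransparency false
set_option synthInstance.maxHeartbeats 400000

namespace Groth.SitesTopoi.KFlatSite

open Groth.SitesTopoi.ModH Groth.DerivedCoh Groth.SitesTopoi

variable {C : Type u} [SmallCategory C] {J : GrothendieckTopology C} {O : Sheaf J CommRingCat.{u}} (U : C)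

local notation "up" => ComplexShape.up ℤ

/-- `(M, N) ↦ M ⊗ N|_U`. -/
noncomputable abbrev TR : ModSite.Mod (O.over U) ⥤ ModSite.Mod O ⥤ ModSite.Mod (O.over U) :=
  T (O.over U) ⋙ (Functor.whiskeringLeft _ _ _).obj (ModSite.restr O U)

/-- The projection formula, naturally in the second variable. -/
noncomputable def trExtZeroIso (M : ModSite.Mod (O.over U)) :
    (TR U).obj M ⋙ ModSite.extZero O U ≅ (T O).obj ((ModSite.extZero O U).obj M) :=
  NatIso.ofComponents (fun N => ModH.projectionIso M N) fun g => ModH.projectionIso_naturality U M g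

instance restr_additive : (ModSite.restr O U).Additive := ⟨fun {_ _ _ _} => rfl⟩

instance tr_additive (M : ModSite.Mod (O.over U)) : ((TR U).obj M).Additive :=
  inferInstanceAs (ModSite.restr O U ⋙ (T (O.over U)).obj M).Additive

instance tr_preservesColimitsOfShape (S : Type) [SmallCategory S] (M : ModSite.Mod (O.over U)) :
    PreservesColimitsOfShape S ((TR U).obj M) :=
  have : (ModSite.extZero O U).IsLeftAdjoint := (ModSite.extZeroAdj O U).isLeftAdjoint
  have : PreservesColimitsOfSize.{0, 0} (ModSite.extZero O U) := preservesColimitsOfSize_shrink.{0, u, 0, u} _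
  have : PreservesColimitsOfShape S ((TR U).obj M ⋙ ModSite.extZero O U) :=
    preservesColimitsOfShape_of_natIso (trExtZeroIso U M).symm
  have : ReflectsColimitsOfShape S (ModSite.extZero O U) := reflectsColimitsOfShape_of_reflectsIsomorphisms
  preservesColimitsOfShape_of_reflects_of_preserves _ (ModSite.extZero O U)

lemma acyclic_tot_restr (E : CochainComplex (ModSite.Mod O) ℤ) (hE : KFlat.IsKFlat (T O) E) (hac : E.Acyclic)
    (L : CochainComplex (ModSite.Mod (O.over U)) ℤ) : (KFlat.tot (TR U) L E).Acyclic := by
  refine KFlat.acyclic_tot_of_forall (TR U) E (fun M i => ?_) L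
  have h := (acyclic_tensor E hE hac ((ModSite.extZero O U).obj M) i).of_iso
    ((NatIso.mapHomologicalComplex (trExtZeroIso U M) up).app E).symm
  exact ModH.exact_of_exact_map_extZero h

theorem isKFlat_restrCx (L : CochainComplex (ModSite.Mod O) ℤ) (hL : KFlat.IsKFlat (T O) L) :
    KFlat.IsKFlat (TR U) L := by
  let q := (resolutionAug O).app L
  have hR := resolution_isKFlat L
  have hq : QuasiIso q := resolution_quasiIso L
  let E := CochainComplex.mappingCone q
  have hE : KFlat.IsKFlat (T O) E := hR.mappingCone (T O) q hL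
  have hac : E.Acyclic := KFlat.acyclic_mappingCone_of_quasiIso q
  have h₂ : KFlat.IsKFlat (TR U) E := fun N _ => acyclic_tot_restr U E hE hac N
  have h₁ : KFlat.IsKFlat (TR U) ((resolution O).obj L) :=
    resolution_isKFlat' (TR U) (fun N h S hS => flat_of_isFlat (Groth.Agent.S6147.result O N h U) S hS) L
  exact (KFlat.isKFlat_two_of_three (TR U) (KFlat.coneSC q) fun M p =>
    ((KFlat.coneSplitting q p).map ((TR U).obj M)).shortExact).2.2 h₂ (h₁.shift (TR U) 1)

end Groth.SitesTopoi.KFlatSite
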