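import Groth.Agent.SitesTopoi.Mod.KFlat
import Mathlib.Algebra.Homology.BifunctorAssociator

/-!
Associativity of the tensor product of sheaves of modules and of complexes of them on a ringed site.
-/

universe u

open CategoryTheory CategoryTheory.Limits MonoidalCategory HomologicalComplex

set_option backward.defeqAttrib.useBackward true
set_option backward.isDefEq.respectTransparency false
set_option synthInstance.maxHeartbeats 400000

namespace Groth.SitesTopoi.TensorAssoc

open Groth.SitesTopoi.ModH Groth.SitesTopoi.KFlatSite Groth.DerivedCoh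

variable {C : Type u} [SmallCategory C] {J : GrothendieckTopology C} {O : Sheaf J CommRingCat.{u}}

local notation "up" => ComplexShape.up ℤ

lemma etaP_nat {M N : PM O} (f : M ⟶ N) : etaP M ≫ ((aP O).map f).val = f ≫ etaP N :=
  ((adjP O).unit.naturality f).symm

section

variable {L L' M M' N N' : PM O} (f : L ⟶ L') (g : M ⟶ M') (h : N ⟶ N')

lemma sq_left {P P' : PM O} (p : P ⟶ P') :
    (etaP P ▷ N : P ⊗ N ⟶ _) ≫ (((aP O).map p).val ⊗ₘ h) = (p ⊗ₘ h) ≫ (etaP P' ▷ N') := by
  rw [← tensorHom_id, ← tensorHom_id, tensorHom_comp_tensorHom, tensorHom_comp_tensorHom, etaP_nat,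
    Category.id_comp, Category.comp_id]

lemma sq_right {P P' : PM O} (p : P ⟶ P') :
    (L ◁ etaP P : L ⊗ P ⟶ _) ≫ (f ⊗ₘ ((aP O).map p).val) = (f ⊗ₘ p) ≫ (L' ◁ etaP P') := by
  rw [← id_tensorHom, ← id_tensorHom, tensorHom_comp_tensorHom, tensorHom_comp_tensorHom, etaP_nat,
    Category.id_comp, Category.comp_id]

/-- The associator on sheafified tensor products of presheaves. -/
noncomputable def assocP (L M N : PM O) :
    (aP O).obj (((aP O).obj (L ⊗ M)).val ⊗ N : PM O) ≅ (aP O).obj (L ⊗ ((aP O).obj (M ⊗ N)).val : PM O) :=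
  (@asIso _ _ _ _ ((aP O).map (etaP (L ⊗ M) ▷ N)) (isIso_aP_map_whiskerRight _ _)).symm ≪≫
    (aP O).mapIso (α_ L M N) ≪≫
    @asIso _ _ _ _ ((aP O).map (L ◁ etaP (M ⊗ N))) (isIso_aP_map_whiskerLeft _ _)

lemma assocP_nat :
    (aP O).map (((aP O).map (f ⊗ₘ g)).val ⊗ₘ h) ≫ (assocP L' M' N').hom =
      (assocP L M N).hom ≫ (aP O).map (f ⊗ₘ ((aP O).map (g ⊗ₘ h)).val) := by
  have := isIso_aP_map_whiskerRight (etaP (L ⊗ M)) N
  have := isIso_aP_map_whiskerRight (etaP (L' ⊗ M')) N'
  rw [← cancel_epi ((aP O).map (etaP (L ⊗ M) ▷ N))]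
  simp only [assocP, Iso.trans_hom, Iso.symm_hom, Functor.mapIso_hom, asIso_hom, asIso_inv, Category.assoc,
    IsIso.hom_inv_id_assoc]
  rw [← Functor.map_comp_assoc, sq_left, Functor.map_comp_assoc, IsIso.hom_inv_id_assoc, ← Functor.map_comp,
    ← Functor.map_comp, ← Functor.map_comp, ← Functor.map_comp, associator_naturality_assoc, ← sq_right]

end

/-- The associator of the tensor product of modules. -/
noncomputable def assocApp (L M N : ModSite.Mod O) :
    ((T O).obj (((T O).obj L).obj M)).obj N ≅ ((T O).obj L).obj (((T O).obj M).obj N) :=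
  assocP L.val M.val N.val

lemma assocApp₃ (L M : ModSite.Mod O) {N N' : ModSite.Mod O} (φ : N ⟶ N') :
    ((T O).obj (((T O).obj L).obj M)).map φ ≫ (assocApp L M N').hom =
      (assocApp L M N).hom ≫ ((T O).obj L).map (((T O).obj M).map φ) := by
  have := assocP_nat (𝟙 L.val) (𝟙 M.val) φ.val
  simp only [id_tensorHom, MonoidalCategory.whiskerLeft_id, CategoryTheory.Functor.map_id] at this
  exact this

lemma assocApp₂ (L : ModSite.Mod O) {M M' : ModSite.Mod O} (ψ : M ⟶ M') (N : ModSite.Mod O) :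
    ((T O).map (((T O).obj L).map ψ)).app N ≫ (assocApp L M' N).hom =
      (assocApp L M N).hom ≫ ((T O).obj L).map (((T O).map ψ).app N) := by
  have := assocP_nat (𝟙 L.val) ψ.val (𝟙 N.val)
  simp only [id_tensorHom, tensorHom_id] at this
  exact this

lemma assocApp₁ {L L' : ModSite.Mod O} (χ : L ⟶ L') (M N : ModSite.Mod O) :
    ((T O).map (((T O).map χ).app M)).app N ≫ (assocApp L' M N).hom =
      (assocApp L M N).hom ≫ ((T O).map χ).app (((T O).obj M).obj N) := by
  have := assocP_nat χ.val (𝟙 M.val) (𝟙 N.val)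
  simp only [tensorHom_id, MonoidalCategory.id_whiskerRight, CategoryTheory.Functor.map_id, SheafOfModules.id_val] at this
  exact this.trans (congrArg ((assocApp L M N).hom ≫ ·) (congrArg (aP O).map (tensorHom_id (C := PM O) χ.val _)))

variable (O) in
/-- The associator as an isomorphism of trifunctors. -/
noncomputable def assocIso : bifunctorComp₁₂ (T O) (T O) ≅ bifunctorComp₂₃ (T O) (T O) :=
  NatIso.ofComponents
    (fun L => NatIso.ofComponents
      (fun M => NatIso.ofComponents (fun N => assocApp L M N) fun φ => assocApp₃ L M φ)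
      fun ψ => NatTrans.ext <| funext fun N => assocApp₂ L ψ N)
    fun χ => NatTrans.ext <| funext fun M => NatTrans.ext <| funext fun N => assocApp₁ χ M N

/-- Associativity of the tensor product of complexes. -/
noncomputable def totAssoc (K₁ K₂ K₃ : CochainComplex (ModSite.Mod O) ℤ) :
    KFlat.tot (T O) (KFlat.tot (T O) K₁ K₂) K₃ ≅ KFlat.tot (T O) K₁ (KFlat.tot (T O) K₂ K₃) :=
  mapBifunctorAssociator (assocIso O) K₁ K₂ K₃ up up up

/-- The tensor product of two K-flat complexes is K-flat. -/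
theorem isKFlat_tot {A B : CochainComplex (ModSite.Mod O) ℤ} (hA : KFlat.IsKFlat (T O) A)
    (hB : KFlat.IsKFlat (T O) B) : KFlat.IsKFlat (T O) (KFlat.tot (T O) A B) := fun N hN i =>
  (hB _ (hA N hN) i).of_iso (totAssoc N A B)

end Groth.SitesTopoi.TensorAssoc
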