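import Groth.Agent.SitesTopoi.Mod.KFlat
import Groth.Agent.SitesTopoi.Mod.Split
import Groth.Agent.DerivedCoh.KFlat.PullbackKFlat

/-!
The inverse image of a K-flat complex of flat modules along a morphism of ringed topoi.
-/

universe u

open CategoryTheory CategoryTheory.Limits HomologicalComplex

set_option backward.defeqAttrib.useBackward true
set_option backward.isDefEq.respectTransparency false
set_option synthInstance.maxHeartbeats 400000

namespace Groth.SitesTopoi.KFlatSite

open Groth.SitesTopoi.ModH Groth.DerivedCoh Groth.SitesTopoi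

variable {C : Type u} [SmallCategory C] {J : GrothendieckTopology C} {O_C : Sheaf J CommRingCat.{u}}
  {D : Type u} [SmallCategory D] {K : GrothendieckTopology D} {O_D : Sheaf K CommRingCat.{u}}
  (f : ModSite.RMor O_C O_D)

local notation "up" => ComplexShape.up ℤ

instance pull_isLeftAdjoint : f.pull.IsLeftAdjoint := f.adj.isLeftAdjoint

instance pull_preservesColimits₀ : PreservesColimitsOfSize.{0, 0} f.pull :=
  preservesColimitsOfSize_shrink.{0, u, 0, u} _

instance pull_preservesFiniteColimits : PreservesFiniteColimits f.pull :=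
  PreservesColimitsOfSize.preservesFiniteColimits _

instance pull_additive : f.pull.Additive := Balanced.additive_of_rightExact f.pull

/-- `(M, N) ↦ M ⊗ f^* N`. -/
noncomputable abbrev TP : ModSite.Mod O_C ⥤ ModSite.Mod O_D ⥤ ModSite.Mod O_C :=
  T O_C ⋙ (Functor.whiskeringLeft _ _ _).obj f.pull

instance tp_additive (M : ModSite.Mod O_C) : ((TP f).obj M).Additive :=
  inferInstanceAs (f.pull ⋙ (T O_C).obj M).Additive

instance tp_preservesColimitsOfShape (S : Type) [SmallCategory S] (M : ModSite.Mod O_C) :
    PreservesColimitsOfShape S ((TP f).obj M) :=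
  inferInstanceAs (PreservesColimitsOfShape S (f.pull ⋙ (T O_C).obj M))

instance tp_preservesFiniteColimits (M : ModSite.Mod O_C) : PreservesFiniteColimits ((TP f).obj M) :=
  have : PreservesColimitsOfSize.{0, 0} ((T O_C).obj M) := preservesColimitsOfSize_shrink.{0, u, 0, u} _
  have : PreservesFiniteColimits ((T O_C).obj M) := PreservesColimitsOfSize.preservesFiniteColimits _
  comp_preservesFiniteColimits f.pull ((T O_C).obj M)

lemma acyclic_tot_pull (E : CochainComplex (ModSite.Mod O_D) ℤ) (hE : KFlat.IsKFlat (T O_D) E) (hac : E.Acyclic)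
    (hfl : ∀ i, ModSite.IsFlat (E.X i)) (L : CochainComplex (ModSite.Mod O_C) ℤ) :
    (KFlat.tot (TP f) L E).Acyclic := by
  refine KFlat.acyclic_tot_of_forall (TP f) E (fun M i => ?_) L
  have hcyc := isFlat_cycles E hE hac hfl (i + 1)
  have hS := CycleExact.shortExact_cycSC E (i + 1) (i + 1 + 1) (by rw [CochainComplex.next]) (by rw [CochainComplex.prev]; omega) (hac _)
  have h3 := isFlat_cycles E hE hac hfl (i + 1 + 1)
  have : Mono (((TP f).obj M).map (E.iCycles (i + 1))) :=
    (shortExact_tensor (shortExact_map_pull f hS h3) (isFlat_pull f h3) M).mono_f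
  exact CycleExact.exactAt_map E ((TP f).obj M) (i := i - 1) (k := i + 1) (by rw [CochainComplex.prev]) (by rw [CochainComplex.next])
    (by rw [CochainComplex.prev]; omega) (hac i) (hac _)

lemma isFlat_cone {M G : CochainComplex (ModSite.Mod O_D) ℤ} (φ : M ⟶ G) (hM : ∀ n, ModSite.IsFlat (M.X n))
    (hG : ∀ n, ModSite.IsFlat (G.X n)) (n : ℤ) : ModSite.IsFlat ((CochainComplex.mappingCone φ).X n) :=
  KFlat.prop_mappingCone φ ModSite.IsFlat (fun e h => ModH.isFlat_of_iso e h) isFlat_biprod hM hG n

theorem isKFlat_pullCx (L : CochainComplex (ModSite.Mod O_D) ℤ) (hL : KFlat.IsKFlat (T O_D) L)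
    (hfl : ∀ n, ModSite.IsFlat (L.X n)) : KFlat.IsKFlat (TP f) L := by
  let q := (resolutionAug O_D).app L
  have hR := resolution_isKFlat L
  have hq : QuasiIso q := resolution_quasiIso L
  let E := CochainComplex.mappingCone q
  have hE : KFlat.IsKFlat (T O_D) E := hR.mappingCone (T O_D) q hL
  have hac : E.Acyclic := KFlat.acyclic_mappingCone_of_quasiIso q
  have h₂ : KFlat.IsKFlat (TP f) E := fun N _ =>
    acyclic_tot_pull f E hE hac (isFlat_cone q (resolution_isFlat L) hfl) N
  have h₁ : KFlat.IsKFlat (TP f) ((resolution O_D).obj L) :=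
    resolution_isKFlat' (TP f) (fun N h S hS => flat_of_isFlat (isFlat_pull f h) S hS) L
  exact (KFlat.isKFlat_two_of_three (TP f) (KFlat.coneSC q) fun M p =>
    ((KFlat.coneSplitting q p).map ((TP f).obj M)).shortExact).2.2 h₂ (h₁.shift (TP f) 1)

end Groth.SitesTopoi.KFlatSite
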