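import Groth.Agent.SitesTopoi.Mod.ExtZero
import Groth.Agent.SitesTopoi.Mod.Stalks
import Mathlib.CategoryTheory.Sites.Point.Over

/-!
Stalks of extensions by zero.
-/

universe u

open CategoryTheory CategoryTheory.Limits Opposite
open scoped DirectSum

namespace Groth.SitesTopoi.ModH

variable {C : Type u} [SmallCategory C] {J : GrothendieckTopology C} {O : Sheaf J CommRingCat.{u}} {U : C}
  (p : GrothendieckTopology.Point.{u} J) (G : ModSite.Mod (O.over U))

/-- The sum of the stalks at the points over `p`. -/
noncomputable abbrev overSum : AddCommGrpCat.{u} := ∐ fun x : p.fiber.obj U => ModSite.stalkAb (p.over x) G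

/-- The class of a section of `G` at a neighbourhood of `p` mapping to `U`. -/
noncomputable def osEl (W : Over U) (w : p.fiber.obj W.left) : sc G.val W →+ overSum p G :=
  (((p.over (p.fiber.map W.hom w)).toPresheafFiber W ⟨w, rfl⟩ (ModSite.toAb G).obj) ≫
    Sigma.ι (fun x : p.fiber.obj U => ModSite.stalkAb (p.over x) G) (p.fiber.map W.hom w)).hom

lemma ι_toFiber_eq (W : Over U) {x x' : p.fiber.obj U} (e : x = x') (w : p.fiber.obj W.left)
    (hw : p.fiber.map W.hom w = x) (s : sc G.val W) :
    (Sigma.ι (fun x : p.fiber.obj U => ModSite.stalkAb (p.over x) G) x).hom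
      (((p.over x).toPresheafFiber W ⟨w, hw⟩ (ModSite.toAb G).obj).hom s) =
    (Sigma.ι (fun x : p.fiber.obj U => ModSite.stalkAb (p.over x) G) x').hom
      (((p.over x').toPresheafFiber W ⟨w, hw.trans e⟩ (ModSite.toAb G).obj).hom s) := by
  subst e
  rfl

lemma osEl_of {W : Over U} (w : p.fiber.obj W.left) {x : p.fiber.obj U} (hw : p.fiber.map W.hom w = x) (s : sc G.val W) :
    osEl p G W w s = (Sigma.ι (fun x : p.fiber.obj U => ModSite.stalkAb (p.over x) G) x).hom
      (((p.over x).toPresheafFiber W ⟨w, hw⟩ (ModSite.toAb G).obj).hom s) :=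
  ι_toFiber_eq p G W hw w rfl s

lemma osEl_rsm {W W' : Over U} (g : W' ⟶ W) (w : p.fiber.obj W'.left) (s : sc G.val W) :
    osEl p G W' w (rsm G.val g s) = osEl p G W (p.fiber.map g.left w) s := by
  have hw : p.fiber.map W'.hom w = p.fiber.map W.hom (p.fiber.map g.left w) := by
    rw [← Over.w g, Functor.map_comp, types_comp_apply]
  rw [osEl_of p G w hw, osEl_of p G (p.fiber.map g.left w) rfl]
  exact congrArg _ ((p.over (p.fiber.map W.hom (p.fiber.map g.left w))).toPresheafFiber_w_apply g ⟨w, hw⟩
    (ModSite.toAb G).obj s)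

open Classical in
/-- The comparison on sections. -/
noncomputable def secToSum (V : C) (v : p.fiber.obj V) : PexSec G.val V →+ overSum p G :=
  DirectSum.toAddMonoid fun a => osEl p G (Over.mk a) v

lemma secToSum_ofc {W : Over U} {V : C} (v : p.fiber.obj V) (s : sc G.val W) (k : V ⟶ W.left) :
    secToSum p G V v (ofc s k) = osEl p G W (p.fiber.map k v) s := by
  classical
  rw [ofc, secToSum, DirectSum.toAddMonoid_of, osEl_rsm]
  rfl

/-- The comparison to the sum of stalks. -/
noncomputable def fiberToSum : (p.presheafFiber (A := AddCommGrpCat.{u})).obj (pexPresheaf G.val) ⟶ overSum p G :=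
  p.presheafFiberDesc (P := pexPresheaf G.val) (fun V v => AddCommGrpCat.ofHom (secToSum p G V v)) fun V V' h v =>
    AddCommGrpCat.hom_ext (AddMonoidHom.ext fun y => by
      change secToSum p G V v (pexMap G.val h y) = secToSum p G V' (p.fiber.map h v) y
      induction y using pexSec_induction with
      | zero => simp
      | gen a x => rw [pexMap_ofc, secToSum_ofc, secToSum_ofc, Category.comp_id]; simp
      | add y z hy hz => simp only [map_add, hy, hz])

/-- The inclusion of the sections over a neighbourhood into the stalk. -/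
noncomputable def puGerm (W : Over U) (w : p.fiber.obj W.left) : sc G.val W →+ (p.presheafFiber (A := AddCommGrpCat.{u})).obj (pexPresheaf G.val) :=
  (p.toPresheafFiber W.left w (pexPresheaf G.val)).hom.comp (AddMonoidHom.mk' (fun s => ofc s (𝟙 W.left)) fun a b => ofc_add a b _)

lemma puGerm_rsm {W W' : Over U} (g : W' ⟶ W) (w : p.fiber.obj W'.left) (s : sc G.val W) :
    puGerm p G W' w (rsm G.val g s) = puGerm p G W (p.fiber.map g.left w) s := by
  refine Eq.trans ?_ (p.toPresheafFiber_w_apply g.left w (pexPresheaf G.val) _)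
  refine congrArg (p.toPresheafFiber W'.left w (pexPresheaf G.val)).hom ?_
  change ofc (rsm G.val g s) (𝟙 W'.left) = pexMap G.val g.left (ofc s (𝟙 W.left))
  rw [ofc_rsm, pexMap_ofc, Category.id_comp, Category.comp_id]

/-- The comparison from the sum of stalks. -/
noncomputable def sumToFiber : overSum p G ⟶ (p.presheafFiber (A := AddCommGrpCat.{u})).obj (pexPresheaf G.val) :=
  Sigma.desc fun x => (p.over x).presheafFiberDesc (P := (ModSite.toAb G).obj)
    (fun W w => AddCommGrpCat.ofHom (puGerm p G W w.1)) fun W W' g w =>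
      AddCommGrpCat.hom_ext (AddMonoidHom.ext fun s => puGerm_rsm p G g w.1 s)

lemma sumToFiber_osEl (W : Over U) (w : p.fiber.obj W.left) (s : sc G.val W) :
    (sumToFiber p G).hom (osEl p G W w s) = puGerm p G W w s := by
  refine (ConcreteCategory.congr_hom (f := Sigma.ι (fun x : p.fiber.obj U => ModSite.stalkAb (p.over x) G) (p.fiber.map W.hom w) ≫
      sumToFiber p G) (Sigma.ι_desc _ (p.fiber.map W.hom w))
    (((p.over (p.fiber.map W.hom w)).toPresheafFiber W ⟨w, rfl⟩ (ModSite.toAb G).obj).hom s)).trans ?_
  exact ConcreteCategory.congr_hom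
    (f := (p.over (p.fiber.map W.hom w)).toPresheafFiber W ⟨w, rfl⟩ (ModSite.toAb G).obj ≫
      (p.over (p.fiber.map W.hom w)).presheafFiberDesc _ _)
    ((p.over (p.fiber.map W.hom w)).toPresheafFiber_presheafFiberDesc _ _ W ⟨w, rfl⟩) s

lemma fiberToSum_puGerm (W : Over U) (w : p.fiber.obj W.left) (s : sc G.val W) :
    (fiberToSum p G).hom (puGerm p G W w s) = osEl p G W w s := by
  refine (ConcreteCategory.congr_hom (f := p.toPresheafFiber W.left w (pexPresheaf G.val) ≫ fiberToSum p G)
      (p.toPresheafFiber_presheafFiberDesc _ _ W.left w) (ofc s (𝟙 W.left))).trans ?_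
  refine (secToSum_ofc p G w s (𝟙 W.left)).trans ?_
  simp

/-- The stalk of a presheaf extension by zero. -/
noncomputable def pexFiberIso : (p.presheafFiber (A := AddCommGrpCat.{u})).obj (pexPresheaf G.val) ≅ overSum p G where
  hom := fiberToSum p G
  inv := sumToFiber p G
  hom_inv_id := by
    refine p.presheafFiber_hom_ext fun V v => AddCommGrpCat.hom_ext (AddMonoidHom.ext fun y => ?_)
    change (sumToFiber p G).hom ((fiberToSum p G).hom ((p.toPresheafFiber V v (pexPresheaf G.val)).hom y)) =
      (p.toPresheafFiber V v (pexPresheaf G.val)).hom y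
    induction y using pexSec_induction with
    | zero => exact (map_zero ((sumToFiber p G).hom.comp ((fiberToSum p G).hom.comp
        (p.toPresheafFiber V v (pexPresheaf G.val)).hom))).trans (map_zero _).symm
    | gen a x =>
      change (sumToFiber p G).hom ((fiberToSum p G).hom (puGerm p G (Over.mk a) v x)) = puGerm p G (Over.mk a) v x
      rw [fiberToSum_puGerm, sumToFiber_osEl]
    | add y z hy hz => exact ((map_add ((sumToFiber p G).hom.comp ((fiberToSum p G).hom.comp
        (p.toPresheafFiber V v (pexPresheaf G.val)).hom)) y z).trans (congrArg₂ (· + ·) hy hz)).trans (map_add _ y z).symm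
  inv_hom_id := by
    refine Sigma.hom_ext _ _ fun x => (p.over x).presheafFiber_hom_ext fun W w => AddCommGrpCat.hom_ext (AddMonoidHom.ext fun s => ?_)
    change (fiberToSum p G).hom ((sumToFiber p G).hom _) = _
    refine Eq.trans ?_ (osEl_of p G w.1 w.2 s)
    refine (congrArg (fun z => (fiberToSum p G).hom ((sumToFiber p G).hom z)) (osEl_of p G w.1 w.2 s).symm).trans ?_
    rw [sumToFiber_osEl, fiberToSum_puGerm]

/-- The stalk of an extension by zero. -/
noncomputable def extZeroStalkIso : ModSite.stalkAb p ((ModSite.extZero O U).obj G) ≅ overSum p G :=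
  have : IsIso (p.presheafFiber.map (CategoryTheory.toSheafify J (pexPresheaf G.val))) :=
    p.W_isInvertedBy_presheafFiber' _ (J.W_toSheafify _)
  p.sheafFiber.mapIso ((SheafOfModules.toSheaf.{u} (ModSite.ringSh O)).mapIso ((extZeroIso U).app G).symm) ≪≫
    (asIso (p.presheafFiber.map (CategoryTheory.toSheafify J (pexPresheaf G.val)))).symm ≪≫ pexFiberIso p G

end Groth.SitesTopoi.ModH
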