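import Groth.Agent.SitesTopoi.Mod.FinFree
import Groth.Agent.SitesTopoi.Mod.FiltColim

/-!
Every module is a filtered colimit of finitely presented ones.
-/

universe u

open CategoryTheory CategoryTheory.Limits Opposite

set_option backward.defeqAttrib.useBackward true
set_option backward.isDefEq.respectTransparency false
set_option synthInstance.maxHeartbeats 400000

namespace Groth.SitesTopoi.FinFree

open Groth.SitesTopoi.ModH Groth.SitesTopoi.FiltColim Groth.Misc4.FreeOn

private lemma eq_zero_loc {C : Type u} [SmallCategory C] {J : GrothendieckTopology C} {O : Sheaf J CommRingCat.{u}}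
    {Q : ModSite.Mod O} {U : C} {S : Sieve U} (hS : S ∈ J U) {s : sc Q.val U}
    (h : ∀ ⦃V : C⦄ (g : V ⟶ U), S g → rsm Q.val g s = 0) : s = 0 :=
  sec_extM Q hS fun V g hg => by rw [h g hg, map_zero]

variable {C : Type u} [SmallCategory C] {J : GrothendieckTopology C} {O : Sheaf J CommRingCat.{u}}
  (B : Set C) (F : ModSite.Mod O)

/-- A generator: a section over a member of `B`. -/
abbrev Gen : Type u := Σ U : B, (ModSite.freeOn O U.1 ⟶ F)

variable {B F}

/-- The finite free module on a finite set of generators. -/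
noncomputable abbrev free₀ (T : Finset (Gen B F)) : ModSite.Mod O := ∐ fun e : T => ModSite.freeOn O e.1.1.1

/-- The evaluation. -/
noncomputable def ev₀ (T : Finset (Gen B F)) : free₀ T ⟶ F := Sigma.desc fun e : T => e.1.2

/-- The inclusion. -/
noncomputable def inc {S T : Finset (Gen B F)} (h : S ⊆ T) : free₀ S ⟶ free₀ T :=
  Sigma.desc fun e : S => Sigma.ι (fun e : T => ModSite.freeOn O e.1.1.1) ⟨e.1, h e.2⟩

lemma inc_ev {S T : Finset (Gen B F)} (h : S ⊆ T) : inc h ≫ ev₀ T = ev₀ S :=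
  Sigma.hom_ext _ _ fun e => by simp [inc, ev₀]

lemma inc_refl (S : Finset (Gen B F)) (h : S ⊆ S) : inc h = 𝟙 (free₀ S) :=
  Sigma.hom_ext _ _ fun e => by simp [inc]

lemma inc_trans {S T W : Finset (Gen B F)} (h : S ⊆ T) (h' : T ⊆ W) (h'' : S ⊆ W) : inc h ≫ inc h' = inc h'' :=
  Sigma.hom_ext _ _ fun e => by simp [inc]

variable (B F) in
/-- A relation among finitely many generators. -/
abbrev Rel : Type u :=
  Σ T : Finset (Gen B F), Σ V : B, {r : ModSite.freeOn O V.1 ⟶ free₀ T // r ≫ ev₀ T = 0}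

variable (B F) in
/-- Finite sets of generators and of relations. -/
def Idx : Type u := {p : Finset (Gen B F) × Finset (Rel B F) // ∀ r ∈ p.2, r.1 ⊆ p.1}

instance : PartialOrder (Idx B F) := Subtype.partialOrder _

instance : Nonempty (Idx B F) := ⟨⟨(∅, ∅), fun r hr => absurd hr (Finset.notMem_empty r)⟩⟩

instance : IsDirected (Idx B F) (· ≤ ·) := ⟨fun p q => by
  classical
  exact ⟨⟨(p.1.1 ∪ q.1.1, p.1.2 ∪ q.1.2), fun r hr => (Finset.mem_union.1 hr).elim
      (fun h => (p.2 r h).trans Finset.subset_union_left) (fun h => (q.2 r h).trans Finset.subset_union_right)⟩,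
    ⟨Finset.subset_union_left, Finset.subset_union_left⟩, ⟨Finset.subset_union_right, Finset.subset_union_right⟩⟩⟩

/-- The relations of a stage. -/
noncomputable def relMap (p : Idx B F) :
    (∐ fun r : p.1.2 => ModSite.freeOn O r.1.2.1.1) ⟶ free₀ p.1.1 :=
  Sigma.desc fun r : p.1.2 => r.1.2.2.1 ≫ inc (p.2 r.1 r.2)

/-- The projection to a stage. -/
noncomputable def proj₀ (p : Idx B F) : free₀ p.1.1 ⟶ cokernel (relMap p) := cokernel.π (relMap p)

instance (p : Idx B F) : Epi (proj₀ p) := inferInstanceAs (Epi (cokernel.π _))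

lemma rel_proj (p : Idx B F) (r : Rel B F) (hr : r ∈ p.1.2) : r.2.2.1 ≫ inc (p.2 r hr) ≫ proj₀ p = 0 := by
  have := congrArg (Sigma.ι (fun r : p.1.2 => ModSite.freeOn O r.1.2.1.1) ⟨r, hr⟩ ≫ ·) (cokernel.condition (relMap p))
  dsimp only at this
  rw [comp_zero, ← Category.assoc, relMap, Sigma.ι_desc, Category.assoc] at this
  exact this

/-- The transition maps. -/
noncomputable def trans₀ {p q : Idx B F} (h : p ≤ q) : cokernel (relMap p) ⟶ cokernel (relMap q) :=
  cokernel.desc _ (inc h.1 ≫ proj₀ q) (Sigma.hom_ext _ _ fun r => by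
    simp only [relMap, Sigma.ι_desc_assoc, Category.assoc, comp_zero]
    rw [← Category.assoc (inc _), inc_trans _ h.1 (q.2 r.1 (h.2 r.2))]
    exact rel_proj q r.1 (h.2 r.2))

lemma proj_trans {p q : Idx B F} (h : p ≤ q) : proj₀ p ≫ trans₀ h = inc h.1 ≫ proj₀ q := cokernel.π_desc _ _ _

variable (B F) in
/-- The diagram. -/
noncomputable def diag : Idx B F ⥤ ModSite.Mod O where
  obj p := cokernel (relMap p)
  map {p q} h := trans₀ h.le
  map_id p := (cancel_epi (cokernel.π (relMap p))).1 (by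
    change proj₀ p ≫ trans₀ _ = proj₀ p ≫ 𝟙 _
    rw [proj_trans, inc_refl, Category.id_comp, Category.comp_id])
  map_comp {p q r} h h' := (cancel_epi (cokernel.π (relMap p))).1 (by
    change proj₀ p ≫ trans₀ _ = proj₀ p ≫ trans₀ _ ≫ trans₀ _
    rw [reassoc_of% (proj_trans h.le), proj_trans, proj_trans, ← Category.assoc, inc_trans])

variable (B F) in
/-- The natural map to `F`. -/
noncomputable def diagι : diag B F ⟶ (Functor.const (Idx B F)).obj F where
  app p := cokernel.desc (relMap p) (ev₀ p.1.1) (Sigma.hom_ext _ _ fun r => by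
    simp [relMap, inc_ev, r.1.2.2.2])
  naturality {p q} h := (cancel_epi (cokernel.π (relMap p))).1 (by
    change proj₀ p ≫ trans₀ h.le ≫ _ = proj₀ p ≫ cokernel.desc _ _ _ ≫ 𝟙 F
    rw [reassoc_of% (proj_trans h.le), proj₀, proj₀, cokernel.π_desc, Category.comp_id, cokernel.π_desc, inc_ev])

lemma proj_diagι (p : Idx B F) : proj₀ p ≫ (diagι B F).app p = ev₀ p.1.1 := cokernel.π_desc _ _ _

lemma isFP_diag (p : Idx B F) : IsFP B ((diag B F).obj p) := by
  obtain ⟨m, V, hV, ⟨i⟩⟩ := isFF_sigma (O := O) (B := B) (U := fun r : p.1.2 => r.1.2.1.1) fun r => r.1.2.1.2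
  obtain ⟨n, U, hU, ⟨j⟩⟩ := isFF_sigma (O := O) (B := B) (U := fun e : p.1.1 => e.1.1.1) fun e => e.1.1.2
  exact ⟨m, n, V, U, i.inv ≫ relMap p ≫ j.hom, hV, hU, ⟨cokernel.mapIso _ _ i j (by simp)⟩⟩

variable (hB₁ : Covs J B)

include hB₁

lemma isIso_desc : IsIso (colimit.desc (diag B F) (Cocone.mk F (diagι B F))) := by
  classical
  let φ := colimit.desc (diag B F) (Cocone.mk F (diagι B F))
  let hc := colimit.isColimit (diag B F)
  have hι : ∀ p, colimit.ι (diag B F) p ≫ φ = (diagι B F).app p := fun p => colimit.ι_desc _ _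
  refine isIso_of_bijective (G := B) hB₁ φ fun U hU => ⟨(injective_iff_map_eq_zero _).2 fun s hs => ?_, fun m => ?_⟩
  · obtain ⟨S, hS, hS'⟩ := exists_local_stage (colimit.cocone (diag B F)) hc U s
    refine eq_zero_loc hS fun V g hg => ?_
    obtain ⟨p, t, ht⟩ := hS' g hg
    obtain ⟨R, hR, hR'⟩ := locSurj_of_epi (proj₀ p) V t
    refine eq_zero_loc hR fun W h hh => ?_
    obtain ⟨x, hx⟩ := hR' h hh
    obtain ⟨κ, YB, y, hy, hY⟩ := hB₁ W
    refine eq_zero_loc hy ?_
    rintro Z _ ⟨_, z, _, ⟨k⟩, rfl⟩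
    rw [← rsm_rsm]
    refine Eq.trans (congrArg (rsm _ z) ?_) (map_zero _)
    let r₀ : ModSite.freeOn O (YB k) ⟶ free₀ p.1.1 := (homEquiv (YB k) _).symm (rsm (free₀ p.1.1).val (y k) x)
    have h1 : homEquiv (YB k) _ (r₀ ≫ proj₀ p ≫ colimit.ι (diag B F) p) =
        rsm (colimit (diag B F)).val (y k) (rsm _ h (rsm _ g s)) := by
      rw [← Category.assoc, homEquiv_comp, homEquiv_comp, Equiv.apply_symm_apply]
      exact (congrArg (apm (colimit.ι (diag B F) p).val (YB k)) ((apm_rsm _ _ _).trans (congrArg _ hx))).trans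
        (((apm_rsm _ _ _).trans (congrArg _ (apm_rsm _ _ _))).trans (congrArg (fun a => rsm _ (y k) (rsm _ h a)) ht))
    have h2 : r₀ ≫ ev₀ p.1.1 = 0 := (homEquiv (YB k) F).injective (by
      rw [← proj_diagι, ← hι p, ← Category.assoc (proj₀ p), ← Category.assoc r₀, homEquiv_comp, h1, homEquiv_zero,
        rsm_rsm, rsm_rsm, apm_rsm, show apm φ.val U s = 0 from hs, map_zero])
    let r : Rel B F := ⟨p.1.1, ⟨YB k, hY k⟩, r₀, h2⟩
    let q : Idx B F := ⟨(p.1.1, insert r p.1.2), fun r' hr' => (Finset.mem_insert.1 hr').elim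
      (fun e => by subst e; exact Finset.Subset.refl _) (p.2 r')⟩
    have hpq : p ≤ q := ⟨Finset.Subset.refl _, Finset.subset_insert _ _⟩
    have h3 : r₀ ≫ proj₀ p ≫ colimit.ι (diag B F) p = 0 := by
      rw [← colimit.w (diag B F) (homOfLE hpq), show (diag B F).map (homOfLE hpq) = trans₀ hpq from rfl,
        reassoc_of% (proj_trans hpq)]
      refine (congrArg (r₀ ≫ ·) (Category.assoc _ _ _).symm).trans ((Category.assoc _ _ _).symm.trans ?_)
      exact (congrArg (· ≫ _) (rel_proj q r (Finset.mem_insert_self _ _))).trans zero_comp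
    rw [← h1, h3, homEquiv_zero]
  · let e : Gen B F := ⟨⟨U, hU⟩, (homEquiv U F).symm m⟩
    obtain ⟨p, he⟩ : ∃ p : Idx B F, e ∈ p.1.1 :=
      ⟨⟨({e}, ∅), fun r hr => absurd hr (Finset.notMem_empty r)⟩, Finset.mem_singleton_self e⟩
    have key : (Sigma.ι (fun e : p.1.1 => ModSite.freeOn O e.1.1.1) ⟨e, he⟩ ≫ proj₀ p ≫ (diagι B F).app p) =
        (homEquiv U F).symm m := by
      rw [proj_diagι]
      exact Sigma.ι_desc _ _
    refine ⟨homEquiv U (colimit (diag B F))
      ((Sigma.ι (fun e : p.1.1 => ModSite.freeOn O e.1.1.1) ⟨e, he⟩ : ModSite.freeOn O U ⟶ free₀ p.1.1) ≫ proj₀ p ≫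
        colimit.ι (diag B F) p), ?_⟩
    rw [← homEquiv_comp, Category.assoc, Category.assoc, hι, key, Equiv.apply_symm_apply]

omit hB₁

/-- Every module is a filtered colimit of finitely presented ones. -/
theorem exists_filtered (hB₁ : Covs J B) (_hB₂ : Qc J B) (F : ModSite.Mod O) :
    ∃ (Λ : Type u) (_ : SmallCategory Λ) (_ : IsFiltered Λ) (D : Λ ⥤ ModSite.Mod O)
      (ι : D ⟶ (Functor.const Λ).obj F), (∀ l, IsFP B (D.obj l)) ∧ Nonempty (IsColimit (Cocone.mk F ι)) := by
  refine ⟨Idx B F, inferInstance, inferInstance, diag B F, diagι B F, isFP_diag, ?_⟩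
  have := isIso_desc (F := F) hB₁
  exact ⟨IsColimit.ofPointIso (r := colimit.cocone (diag B F)) (i := (show IsIso ((colimit.isColimit (diag B F)).desc (Cocone.mk F (diagι B F))) from this)) (colimit.isColimit _)⟩

end Groth.SitesTopoi.FinFree
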