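import Groth.Prelude.Def_ModSite
import Groth.Agent.SiteCohomology.ModulesGrothendieck
import Mathlib.Algebra.Category.ModuleCat.Sheaf.Localization
import Mathlib.CategoryTheory.Sites.Abelian
import Mathlib.CategoryTheory.Sites.LocallyBijective
import Mathlib.Algebra.Category.ModuleCat.Presheaf.EpiMono

/-!
Presheaves and sheaves of modules on a ringed site.
-/

universe u

open CategoryTheory CategoryTheory.Limits Opposite

namespace Groth.SitesTopoi.ModH

variable {C : Type u} [SmallCategory C] {J : GrothendieckTopology C} (O : Sheaf J CommRingCat.{u})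

/-- Presheaves of modules. -/
abbrev PM : Type (u + 1) := PresheafOfModules.{u} (O.obj ⋙ forget₂ CommRingCat.{u} RingCat.{u})

/-- The forgetful functor to presheaves of modules. -/
noncomputable abbrev forgetP : ModSite.Mod O ⥤ PM O := SheafOfModules.forget (ModSite.ringSh O)

/-- Sheafification. -/
noncomputable abbrev aP : PM O ⥤ ModSite.Mod O := ModSite.sheafify O

/-- The sheafification adjunction. -/
noncomputable def adjP : aP O ⊣ forgetP O :=
  PresheafOfModules.sheafificationAdjunction.{u} (𝟙 (ModSite.ringSh O).obj)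

instance : IsIso (adjP O).counit :=
  inferInstanceAs (IsIso (PresheafOfModules.sheafificationAdjunction.{u} (𝟙 (ModSite.ringSh O).obj)).counit)

variable {O}

/-- The ring of sections. -/
abbrev rsec (O : Sheaf J CommRingCat.{u}) (U : C) : Type u := O.obj.obj (op U)

/-- Sections of a presheaf of modules. -/
abbrev sc (M : PM O) (U : C) : Type u := M.obj (op U)

/-- Restriction of scalars of sections. -/
abbrev rsR {U V : C} (g : V ⟶ U) : rsec O U →+* rsec O V := (O.obj.map g.op).hom

/-- Restriction of sections. -/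
noncomputable def rsm (M : PM O) {U V : C} (g : V ⟶ U) : sc M U →+ sc M V :=
  AddMonoidHom.mk' (fun m => M.map g.op m) fun a b => map_add (M.map g.op).hom a b

lemma rsm_eq (M : PM O) {U V : C} (g : V ⟶ U) (m : sc M U) : rsm M g m = M.map g.op m := rfl

lemma rsm_smul (M : PM O) {U V : C} (g : V ⟶ U) (r : rsec O U) (m : sc M U) :
    rsm M g (r • m) = rsR g r • rsm M g m :=
  M.map_smul g.op r m

lemma rsm_rsm (M : PM O) {U V W : C} (g : V ⟶ U) (h : W ⟶ V) (m : sc M U) :
    rsm M h (rsm M g m) = rsm M (h ≫ g) m :=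
  (PresheafOfModules.map_comp_apply M g.op h.op m).symm

lemma rsm_id (M : PM O) {U : C} (m : sc M U) : rsm M (𝟙 U) m = m := by
  change M.map (𝟙 _) m = m
  rw [PresheafOfModules.map_id]
  rfl

lemma rsR_rsR {U V W : C} (g : V ⟶ U) (h : W ⟶ V) (r : rsec O U) : rsR h (rsR g r) = rsR (h ≫ g) r := by
  change (O.obj.map h.op).hom ((O.obj.map g.op).hom r) = (O.obj.map (g.op ≫ h.op)).hom r
  rw [Functor.map_comp]
  rfl

lemma rsR_id {U : C} (r : rsec O U) : rsR (𝟙 U) r = r := by
  change (O.obj.map (𝟙 (op U))).hom r = r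
  rw [CategoryTheory.Functor.map_id]
  rfl

/-- A morphism on sections. -/
noncomputable def apm {M N : PM O} (f : M ⟶ N) (U : C) : sc M U →ₗ[rsec O U] sc N U := (f.app (op U)).hom

lemma apm_rsm {M N : PM O} (f : M ⟶ N) {U V : C} (g : V ⟶ U) (m : sc M U) :
    apm f V (rsm M g m) = rsm N g (apm f U m) :=
  PresheafOfModules.naturality_apply f g.op m

@[simp] lemma apm_comp {M N P : PM O} (f : M ⟶ N) (g : N ⟶ P) (U : C) (m : sc M U) :
    apm (f ≫ g) U m = apm g U (apm f U m) := rfl

@[simp] lemma apm_id {M : PM O} (U : C) (m : sc M U) : apm (𝟙 M) U m = m := rfl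

lemma pm_hom_ext {M N : PM O} {f g : M ⟶ N} (h : ∀ (U : C) (m : sc M U), apm f U m = apm g U m) : f = g := by
  refine PresheafOfModules.hom_ext fun X => ?_
  ext m
  exact h X.unop m

/-- A locally injective morphism. -/
def LocInj {M N : PM O} (f : M ⟶ N) : Prop :=
  ∀ (U : C) (m : sc M U), apm f U m = 0 → ∃ S ∈ J U, ∀ ⦃V : C⦄ (g : V ⟶ U), S g → rsm M g m = 0

/-- A locally surjective morphism. -/
def LocSurj {M N : PM O} (f : M ⟶ N) : Prop :=
  ∀ (U : C) (n : sc N U), ∃ S ∈ J U, ∀ ⦃V : C⦄ (g : V ⟶ U), S g → ∃ m, apm f V m = rsm N g n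

lemma locInj_iff {M N : PM O} (f : M ⟶ N) :
    LocInj f ↔ Presheaf.IsLocallyInjective J ((PresheafOfModules.toPresheaf _).map f) := by
  constructor
  · intro h
    refine ⟨fun {X} a b e => ?_⟩
    obtain ⟨S, hS, h'⟩ := h X.unop (HSub.hSub (α := sc M X.unop) (β := sc M X.unop) a b)
      ((map_sub (apm f X.unop) a b).trans (sub_eq_zero.2 e))
    refine J.superset_covering (fun V g hg => ?_) hS
    exact sub_eq_zero.1 ((map_sub (rsm M g) a b).symm.trans (h' g hg))
  · intro h U m hm
    exact ⟨_, Presheaf.equalizerSieve_mem J ((PresheafOfModules.toPresheaf _).map f) (X := op U) m (0 : sc M U)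
      (hm.trans (map_zero (apm f U)).symm), fun V g hg => hg.trans (map_zero (rsm M g))⟩

lemma locSurj_iff {M N : PM O} (f : M ⟶ N) :
    LocSurj f ↔ Presheaf.IsLocallySurjective J ((PresheafOfModules.toPresheaf _).map f) := by
  constructor
  · intro h
    refine ⟨fun {U} n => ?_⟩
    obtain ⟨S, hS, h'⟩ := h U n
    exact J.superset_covering (fun V g hg => h' g hg) hS
  · intro h U n
    refine ⟨Presheaf.imageSieve ((PresheafOfModules.toPresheaf _).map f) (U := U) n,
      Presheaf.imageSieve_mem J ((PresheafOfModules.toPresheaf _).map f) (U := op U) n, fun V g hg => ?_⟩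
    obtain ⟨m, hm⟩ := hg
    exact ⟨m, hm⟩

/-- The sheafification map. -/
noncomputable def etaP (M : PM O) : M ⟶ ((aP O).obj M).val := (adjP O).unit.app M

lemma toPresheaf_etaP (M : PM O) :
    (PresheafOfModules.toPresheaf _).map (etaP M) = CategoryTheory.toSheafify J M.presheaf := rfl

lemma locInj_etaP (M : PM O) : LocInj (etaP M) :=
  (locInj_iff _).2 (inferInstanceAs (Presheaf.IsLocallyInjective J (CategoryTheory.toSheafify J M.presheaf)))

lemma locSurj_etaP (M : PM O) : LocSurj (etaP M) :=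
  (locSurj_iff _).2 (inferInstanceAs (Presheaf.IsLocallySurjective J (CategoryTheory.toSheafify J M.presheaf)))

lemma etaP_naturality {M N : PM O} (f : M ⟶ N) (U : C) (m : sc M U) :
    apm ((aP O).map f).val U (apm (etaP M) U m) = apm (etaP N) U (apm f U m) :=
  (congrArg (fun φ => apm φ U m) ((adjP O).unit.naturality f)).symm

lemma isSheafForM (Q : ModSite.Mod O) {U : C} {S : Sieve U} (hS : S ∈ J U) :
    Presieve.IsSheafFor (Q.val.presheaf ⋙ forget AddCommGrpCat.{u}) (S : Presieve U) :=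
  (isSheaf_iff_isSheaf_of_type _ _).1
    (Presheaf.isSheaf_comp_of_isSheaf J Q.val.presheaf (forget AddCommGrpCat.{u}) Q.isSheaf) S hS

lemma sec_extM (Q : ModSite.Mod O) {U : C} {S : Sieve U} (hS : S ∈ J U) {s t : sc Q.val U}
    (h : ∀ ⦃V : C⦄ (g : V ⟶ U), S g → rsm Q.val g s = rsm Q.val g t) : s = t :=
  (isSheafForM Q hS).isSeparatedFor.ext h

lemma glueM (Q : ModSite.Mod O) {U : C} {S : Sieve U} (hS : S ∈ J U)
    (x : ∀ ⦃V : C⦄ (g : V ⟶ U), S g → sc Q.val V)
    (hx : ∀ ⦃V W : C⦄ (g : V ⟶ U) (hg : S g) (h : W ⟶ V),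
      rsm Q.val h (x g hg) = x (h ≫ g) (S.downward_closed hg h)) :
    ∃ s : sc Q.val U, ∀ ⦃V : C⦄ (g : V ⟶ U) (hg : S g), rsm Q.val g s = x g hg := by
  have hc : Presieve.FamilyOfElements.SieveCompatible
      (P := Q.val.presheaf ⋙ forget AddCommGrpCat.{u}) (S := S) (fun V g hg => x g hg) :=
    fun {V W} g h hg => (hx g hg h).symm
  exact ⟨(isSheafForM Q hS).amalgamate _ ((Presieve.compatible_iff_sieveCompatible _).2 hc),
    fun V g hg => (isSheafForM Q hS).valid_glue _ g hg⟩

lemma mod_hom_ext {P Q : ModSite.Mod O} {f g : P ⟶ Q} (h : ∀ (U : C) (m : sc P.val U), apm f.val U m = apm g.val U m) :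
    f = g :=
  SheafOfModules.hom_ext (pm_hom_ext h)

lemma mono_of_injective {P Q : ModSite.Mod O} (f : P ⟶ Q) (h : ∀ U, Function.Injective (apm f.val U)) : Mono f :=
  ⟨fun a b e => mod_hom_ext fun U m => h U (congrArg (fun φ => apm (SheafOfModules.Hom.val φ) U m) e)⟩

lemma injective_of_mono {P Q : ModSite.Mod O} (f : P ⟶ Q) [Mono f] (U : C) : Function.Injective (apm f.val U) := by
  have : (forgetP O).IsRightAdjoint := (adjP O).isRightAdjoint
  have : Mono ((forgetP O).map f) := (forgetP O).map_mono f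
  exact PresheafOfModules.injective_of_mono ((forgetP O).map f) (op U)

lemma mono_aP_map_of_locInj {M N : PM O} {f : M ⟶ N} (hf : LocInj f) : Mono ((aP O).map f) := by
  refine mono_of_injective _ fun U => (injective_iff_map_eq_zero _).2 fun z hz => ?_
  obtain ⟨S, hS, h⟩ := locSurj_etaP M U z
  refine sec_extM _ hS fun V g hg => ?_
  obtain ⟨m, hm⟩ := h g hg
  have e : apm (etaP N) V (apm f V m) = 0 := by
    rw [← etaP_naturality, hm, apm_rsm, hz, map_zero]
  obtain ⟨T, hT, h'⟩ := locInj_etaP N V _ e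
  rw [map_zero, ← hm]
  refine sec_extM _ hT fun W k hk => ?_
  rw [map_zero, ← apm_rsm]
  obtain ⟨R, hR, h''⟩ := hf W (rsm M k m) (by rw [apm_rsm, h' k hk])
  refine sec_extM _ hR fun W' l hl => ?_
  rw [map_zero, ← apm_rsm, h'' l hl, map_zero]

lemma locInj_of_mono_aP_map {M N : PM O} {f : M ⟶ N} [Mono ((aP O).map f)] : LocInj f := by
  intro U m hm
  exact locInj_etaP M U m (injective_of_mono ((aP O).map f) U (by rw [etaP_naturality, hm, map_zero, map_zero]))

lemma mono_aP_map_iff {M N : PM O} (f : M ⟶ N) : Mono ((aP O).map f) ↔ LocInj f :=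
  ⟨fun _ => locInj_of_mono_aP_map, mono_aP_map_of_locInj⟩

lemma isIso_aP_map_iff {M N : PM O} (f : M ⟶ N) : IsIso ((aP O).map f) ↔ LocInj f ∧ LocSurj f := by
  rw [locInj_iff, locSurj_iff, ← J.W_iff_isLocallyBijective]
  have h := congrArg (fun W : MorphismProperty (PM O) => W f)
    (PresheafOfModules.inverseImage_W_toPresheaf_eq_inverseImage_isomorphisms (𝟙 (ModSite.ringSh O).obj))
  exact (Iff.of_eq h).symm

end Groth.SitesTopoi.ModH
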