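import Groth.Agent.SitesTopoi.Mod.Restrict
import Groth.Agent.SitesTopoi.Mod.Relations
import Mathlib.Algebra.DirectSum.Module

/-!
Extension by zero as the sheafification of a direct sum.
-/

universe u

open CategoryTheory CategoryTheory.Limits Opposite
open scoped DirectSum

namespace Groth.SitesTopoi.ModH

variable {C : Type u} [SmallCategory C] {J : GrothendieckTopology C} {O : Sheaf J CommRingCat.{u}} {U : C}

/-- Sections over the object given by an arrow to `U`. -/
abbrev Cmp (G : PM (O.over U)) {V : C} (φ : V ⟶ U) : Type u := sc G (Over.mk φ)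

/-- The module structure on sections over an arrow to `U`. -/
noncomputable instance cmpModule (G : PM (O.over U)) {V : C} (φ : V ⟶ U) : Module (rsec O V) (Cmp G φ) :=
  inferInstanceAs (Module (rsec (O.over U) (Over.mk φ)) (sc G (Over.mk φ)))

/-- Sections of the presheaf extension by zero. -/
abbrev PexSec (G : PM (O.over U)) (V : C) : Type u := ⨁ φ : V ⟶ U, Cmp G φ

open Classical in
/-- The summand of a section along an arrow. -/
noncomputable def ofc {G : PM (O.over U)} {W : Over U} {V : C} (x : sc G W) (k : V ⟶ W.left) : PexSec G V :=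
  DirectSum.of (fun φ : V ⟶ U => Cmp G φ) (k ≫ W.hom) (rsm G (Over.homMk k : Over.mk (k ≫ W.hom) ⟶ W) x)

open Classical in
lemma of_homMk_eq_ofc {G : PM (O.over U)} {W : Over U} {V : C} (a : V ⟶ U) (k : V ⟶ W.left) (e : k ≫ W.hom = a)
    (x : sc G W) :
    DirectSum.of (fun φ : V ⟶ U => Cmp G φ) a (rsm G (Over.homMk k e : Over.mk a ⟶ W) x) = ofc x k := by
  subst e
  rfl

open Classical in
lemma of_eq_ofc {G : PM (O.over U)} {W : Over U} {V : C} (a : V ⟶ U) (g : Over.mk a ⟶ W) (x : sc G W) :
    DirectSum.of (fun φ : V ⟶ U => Cmp G φ) a (rsm G g x) = ofc x g.left := by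
  have : g = Over.homMk g.left (Over.w g) := by ext; rfl
  conv_lhs => rw [this]
  exact of_homMk_eq_ofc a g.left (Over.w g) x

open Classical in
lemma of_eq_ofc_id {G : PM (O.over U)} {V : C} (a : V ⟶ U) (x : Cmp G a) :
    DirectSum.of (fun φ : V ⟶ U => Cmp G φ) a x = ofc (W := Over.mk a) x (𝟙 V) := by
  have := of_eq_ofc a (𝟙 (Over.mk a)) x
  rwa [rsm_id] at this

lemma ofc_rsm {G : PM (O.over U)} {W W' : Over U} {V : C} (g : W' ⟶ W) (x : sc G W) (k : V ⟶ W'.left) :
    ofc (rsm G g x) k = ofc x (k ≫ g.left) := by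
  rw [ofc, rsm_rsm]
  exact of_eq_ofc _ _ x

lemma ofc_smul {G : PM (O.over U)} {W : Over U} {V : C} (r : rsec O W.left) (x : sc G W) (k : V ⟶ W.left) :
    ofc ((show rsec (O.over U) W from r) • x) k = rsR k r • ofc x k := by
  classical
  rw [ofc, rsm_smul]
  exact DirectSum.of_smul (R := rsec O V) (M := fun φ : V ⟶ U => Cmp G φ) (k ≫ W.hom) (rsR k r) _

lemma ofc_add {G : PM (O.over U)} {W : Over U} {V : C} (x y : sc G W) (k : V ⟶ W.left) :
    ofc (x + y) k = ofc x k + ofc y k := by
  rw [ofc, ofc, ofc, map_add, map_add]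

lemma pexSec_induction {G : PM (O.over U)} {V : C} {P : PexSec G V → Prop} (zero : P 0)
    (gen : ∀ (a : V ⟶ U) (x : Cmp G a), P (ofc (W := Over.mk a) x (𝟙 V)))
    (add : ∀ y z, P y → P z → P (y + z)) (y : PexSec G V) : P y := by
  classical
  induction y using DirectSum.induction_on with
  | zero => exact zero
  | of a x => rw [of_eq_ofc_id]; exact gen a x
  | add y z hy hz => exact add y z hy hz

open Classical in
/-- Restriction of sections of the presheaf extension by zero. -/
noncomputable def pexMap (G : PM (O.over U)) {V V' : C} (h : V' ⟶ V) : PexSec G V →+ PexSec G V' :=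
  DirectSum.toAddMonoid fun a => AddMonoidHom.mk' (fun x => ofc (W := Over.mk a) x h) fun x y => ofc_add x y h

lemma pexMap_ofc (G : PM (O.over U)) {W : Over U} {V V' : C} (h : V' ⟶ V) (x : sc G W) (k : V ⟶ W.left) :
    pexMap G h (ofc x k) = ofc x (h ≫ k) := by
  classical
  rw [ofc, pexMap, DirectSum.toAddMonoid_of]
  exact (ofc_rsm (Over.homMk k : Over.mk (k ≫ W.hom) ⟶ W) x h)

lemma pexMap_smul (G : PM (O.over U)) {V V' : C} (h : V' ⟶ V) (r : rsec O V) (y : PexSec G V) :
    pexMap G h (r • y) = rsR h r • pexMap G h y := by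
  induction y using pexSec_induction with
  | zero => simp
  | gen a x =>
    have e : r • ofc (W := Over.mk a) x (𝟙 V) = ofc (W := Over.mk a) ((show rsec (O.over U) (Over.mk a) from r) • x) (𝟙 V) := by
      rw [ofc_smul]
      exact congrArg (· • ofc (W := Over.mk a) x (𝟙 V)) (rsR_id r).symm
    rw [e, pexMap_ofc, pexMap_ofc, ofc_smul]
    exact congrArg (fun k => rsR k r • ofc (W := Over.mk a) x (h ≫ 𝟙 V)) (Category.comp_id h)
  | add y z hy hz => simp only [smul_add, map_add, hy, hz]

/-- The underlying presheaf of groups of the extension by zero. -/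
noncomputable def pexPresheaf (G : PM (O.over U)) : Cᵒᵖ ⥤ AddCommGrpCat.{u} where
  obj V := AddCommGrpCat.of (PexSec G V.unop)
  map h := AddCommGrpCat.ofHom (pexMap G h.unop)
  map_id V := by
    refine AddCommGrpCat.hom_ext (AddMonoidHom.ext fun y => ?_)
    change pexMap G (𝟙 _) y = y
    induction y using pexSec_induction with
    | zero => simp
    | gen a x => rw [pexMap_ofc, Category.comp_id]
    | add y z hy hz => simp only [map_add, hy, hz]
  map_comp {V V' V''} h h' := by
    refine AddCommGrpCat.hom_ext (AddMonoidHom.ext fun y => ?_)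
    change pexMap G (h'.unop ≫ h.unop) y = pexMap G h'.unop (pexMap G h.unop y)
    induction y using pexSec_induction with
    | zero => simp
    | gen a x => rw [pexMap_ofc, pexMap_ofc, pexMap_ofc, Category.assoc]
    | add y z hy hz => simp only [map_add, hy, hz]

noncomputable instance (G : PM (O.over U)) (X : Cᵒᵖ) :
    Module ((O.obj ⋙ forget₂ CommRingCat.{u} RingCat.{u}).obj X) ((pexPresheaf G).obj X) :=
  inferInstanceAs (Module (rsec O X.unop) (PexSec G X.unop))

/-- The presheaf extension by zero. -/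
noncomputable def pexObj (G : PM (O.over U)) : PM O :=
  PresheafOfModules.ofPresheaf (pexPresheaf G) fun _ _ h r m => pexMap_smul G h.unop r m

/-- The tautological section of the presheaf extension by zero. -/
noncomputable def pu {G : PM (O.over U)} {W : Over U} (x : sc G W) {V : C} (k : V ⟶ W.left) : sc (pexObj G) V :=
  ofc x k

lemma rsm_pu {G : PM (O.over U)} {W : Over U} (x : sc G W) {V V' : C} (h : V' ⟶ V) (k : V ⟶ W.left) :
    rsm (pexObj G) h (pu x k) = pu x (h ≫ k) :=
  pexMap_ofc G h x k

lemma pu_rsm {G : PM (O.over U)} {W W' : Over U} (g : W' ⟶ W) (x : sc G W) {V : C} (k : V ⟶ W'.left) :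
    pu (rsm G g x) k = pu x (k ≫ g.left) :=
  ofc_rsm g x k

lemma pu_smul {G : PM (O.over U)} {W : Over U} (r : rsec O W.left) (x : sc G W) {V : C} (k : V ⟶ W.left) :
    pu ((show rsec (O.over U) W from r) • x) k = rsR k r • pu x k :=
  ofc_smul r x k

lemma pu_add {G : PM (O.over U)} {W : Over U} (x y : sc G W) {V : C} (k : V ⟶ W.left) :
    pu (x + y) k = pu x k + pu y k :=
  ofc_add x y k

lemma pexObj_hom_ext {G : PM (O.over U)} {M : PM O} {f g : pexObj G ⟶ M}
    (h : ∀ (W : Over U) (x : sc G W), apm f W.left (pu x (𝟙 W.left)) = apm g W.left (pu x (𝟙 W.left))) : f = g := by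
  refine pm_hom_ext fun V y => ?_
  induction y using pexSec_induction with
  | zero => exact (map_zero (apm f V)).trans (map_zero (apm g V)).symm
  | gen a x => exact h (Over.mk a) x
  | add y z hy hz => exact ((map_add (apm f V) y z).trans (congrArg₂ (· + ·) hy hz)).trans (map_add (apm g V) y z).symm

variable (M : PM O) (G : PM (O.over U))

open Classical in
/-- The value of an adjunct on a section of the presheaf extension by zero. -/
noncomputable def pexDesc (θ : G ⟶ (resP U).obj M) (V : C) : PexSec G V →ₗ[rsec O V] sc M V :=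
  DirectSum.toModule (rsec O V) (V ⟶ U) (sc M V) fun a =>
    { toFun := fun x => ofRes M (Over.mk a) (apm θ (Over.mk a) x)
      map_add' := fun x y => by rw [map_add, map_add]
      map_smul' := fun r x => by
        exact congrArg (ofRes M (Over.mk a)) (map_smul (apm θ (Over.mk a)) (show rsec (O.over U) (Over.mk a) from r) x) }

lemma pexDesc_ofc (θ : G ⟶ (resP U).obj M) {W : Over U} {V : C} (x : sc G W) (k : V ⟶ W.left) :
    pexDesc M G θ V (ofc x k) = rsm M k (ofRes M W (apm θ W x)) := by
  classical
  refine (DirectSum.toModule_lof (rsec O V) (M := fun φ : V ⟶ U => Cmp G φ) (k ≫ W.hom) _).trans ?_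
  exact congrArg (ofRes M _) (apm_rsm θ (Over.homMk k : Over.mk (k ≫ W.hom) ⟶ W) x)

/-- The morphism out of the presheaf extension by zero. -/
noncomputable def pexHom (θ : G ⟶ (resP U).obj M) : pexObj G ⟶ M where
  app X := ModuleCat.ofHom (X := (pexObj G).obj X) (Y := M.obj X) (pexDesc M G θ X.unop)
  naturality {X Y} h := by
    ext y
    change pexDesc M G θ Y.unop (pexMap G h.unop y) = rsm M h.unop (pexDesc M G θ X.unop y)
    induction y using pexSec_induction with
    | zero => simp
    | gen a x => rw [pexMap_ofc, pexDesc_ofc, pexDesc_ofc, rsm_rsm]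
    | add y z hy hz => simp only [map_add, hy, hz]

lemma apm_pexHom (θ : G ⟶ (resP U).obj M) {W : Over U} {V : C} (x : sc G W) (k : V ⟶ W.left) :
    apm (pexHom M G θ) V (pu x k) = rsm M k (ofRes M W (apm θ W x)) :=
  pexDesc_ofc M G θ x k

/-- The adjunct of a morphism out of the presheaf extension by zero. -/
noncomputable def pexAdjunct (f : pexObj G ⟶ M) : G ⟶ (resP U).obj M where
  app X := ModuleCat.ofHom (X := G.obj X) (Y := ((resP U).obj M).obj X)
    { toFun := fun x => toRes M X.unop (apm f X.unop.left (pu x (𝟙 X.unop.left)))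
      map_add' := fun x y => by rw [pu_add, map_add, map_add]
      map_smul' := fun r x => by
        change toRes M X.unop (apm f X.unop.left (pu (r • x) (𝟙 X.unop.left))) = _
        rw [show pu (r • x) (𝟙 X.unop.left) = rsR (𝟙 X.unop.left) r • pu x (𝟙 X.unop.left) from pu_smul r x _,
          rsR_id, map_smul]
        rfl }
  naturality {X Y} h := by
    ext x
    change toRes M Y.unop (apm f Y.unop.left (pu (rsm G h.unop x) (𝟙 Y.unop.left))) =
      rsm ((resP U).obj M) h.unop (toRes M X.unop (apm f X.unop.left (pu x (𝟙 X.unop.left))))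
    rw [rsm_resP, pu_rsm, ← apm_rsm, rsm_pu]
    exact congrArg (fun k => toRes M Y.unop (apm f Y.unop.left (pu x k)))
      ((Category.id_comp _).trans (Category.comp_id _).symm)

lemma apm_pexAdjunct (f : pexObj G ⟶ M) {W : Over U} (x : sc G W) :
    apm (pexAdjunct M G f) W x = toRes M W (apm f W.left (pu x (𝟙 W.left))) := rfl

/-- The universal property of the presheaf extension by zero. -/
noncomputable def pexHomEquiv : (pexObj G ⟶ M) ≃ (G ⟶ (resP U).obj M) where
  toFun := pexAdjunct M G
  invFun := pexHom M G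
  left_inv f := pexObj_hom_ext fun W x => by
    rw [apm_pexHom, rsm_id, apm_pexAdjunct, ofRes_toRes]
  right_inv θ := pm_hom_ext fun W x => by
    rw [apm_pexAdjunct, apm_pexHom, rsm_id]
    rfl

variable (U)

/-- The presheaf extension by zero, as a functor. -/
noncomputable def Pex : PM (O.over U) ⥤ PM O :=
  Adjunction.leftAdjointOfEquiv (G := resP U) (F_obj := pexObj) (fun G M => pexHomEquiv M G)
    fun _ _ _ _ _ => pm_hom_ext fun _ _ => rfl

/-- The adjunction of presheaf extension by zero and restriction. -/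
noncomputable def pexAdj : Pex (O := O) U ⊣ resP U := Adjunction.adjunctionOfEquivLeft _ _

variable {U}

lemma apm_Pex_map {G G' : PM (O.over U)} (f : G ⟶ G') {W : Over U} (x : sc G W) {V : C} (k : V ⟶ W.left) :
    apm ((Pex U).map f) V (pu x k) = pu (apm f W x) k := by
  change apm (pexHom _ _ (f ≫ pexAdjunct _ _ (𝟙 (pexObj G')))) V (pu x k) = pu (apm f W x) k
  rw [apm_pexHom, apm_comp, apm_pexAdjunct, ofRes_toRes, apm_id, rsm_pu, Category.comp_id]

open Classical in
/-- A coefficient of a section of the presheaf extension by zero. -/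
noncomputable def pexCoeff (G : PM (O.over U)) {V : C} (a : V ⟶ U) : sc (pexObj G) V →+ Cmp G a :=
  AddMonoidHom.mk' (fun y => (show PexSec G V from y) a) fun _ _ => rfl

lemma pexCoeff_pu_self (G : PM (O.over U)) {V : C} (a : V ⟶ U) (x : Cmp G a) :
    pexCoeff G a (pu (W := Over.mk a) x (𝟙 V)) = x := by
  classical
  change (ofc (W := Over.mk a) x (𝟙 V)) a = x
  rw [← of_eq_ofc_id, DirectSum.of_eq_same]

lemma pexCoeff_pu_ne (G : PM (O.over U)) {V : C} {a b : V ⟶ U} (x : Cmp G a) (h : a ≠ b) :
    pexCoeff G b (pu (W := Over.mk a) x (𝟙 V)) = 0 := by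
  classical
  change (ofc (W := Over.mk a) x (𝟙 V)) b = 0
  rw [← of_eq_ofc_id, DirectSum.of_eq_of_ne _ _ _ (Ne.symm h)]

lemma pexCoeff_smul (G : PM (O.over U)) {V : C} (a : V ⟶ U) (r : rsec O V) (y : sc (pexObj G) V) :
    pexCoeff G a (r • y) = r • pexCoeff G a y := by
  classical
  exact DirectSum.smul_apply (R := rsec O V) (M := fun φ : V ⟶ U => Cmp G φ) r y a

lemma pex_ext (G : PM (O.over U)) {V : C} {y z : sc (pexObj G) V} (h : ∀ a, pexCoeff G a y = pexCoeff G a z) :
    y = z :=
  DirectSum.ext (β := fun φ : V ⟶ U => Cmp G φ) h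

lemma pexCoeff_map {G G' : PM (O.over U)} (f : G ⟶ G') {V : C} (a : V ⟶ U) (y : sc (pexObj G) V) :
    pexCoeff G' a (apm ((Pex U).map f) V y) = apm f (Over.mk a) (pexCoeff G a y) := by
  induction y using pexSec_induction with
  | zero =>
    exact ((congrArg (pexCoeff G' a) (map_zero (apm ((Pex U).map f) V))).trans (map_zero _)).trans
      ((congrArg (apm f (Over.mk a)) (map_zero (pexCoeff G a))).trans (map_zero _)).symm
  | gen b x =>
    change pexCoeff G' a (apm ((Pex U).map f) V (pu (W := Over.mk b) x (𝟙 V))) =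
      apm f (Over.mk a) (pexCoeff G a (pu (W := Over.mk b) x (𝟙 V)))
    rw [apm_Pex_map]
    by_cases h : b = a
    · subst h
      exact (pexCoeff_pu_self G' b _).trans (congrArg (apm f (Over.mk b)) (pexCoeff_pu_self G b x)).symm
    · exact (pexCoeff_pu_ne G' _ h).trans
        ((congrArg (apm f (Over.mk a)) (pexCoeff_pu_ne G x h)).trans (map_zero _)).symm
  | add y z hy hz =>
    refine ((congrArg (pexCoeff G' a) (map_add (apm ((Pex U).map f) V) y z)).trans (map_add _ _ _)).trans ?_
    exact (congrArg₂ (· + ·) hy hz).trans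
      ((congrArg (apm f (Over.mk a)) (map_add (pexCoeff G a) y z)).trans (map_add _ _ _)).symm

lemma injective_Pex_map {G G' : PM (O.over U)} (f : G ⟶ G') (hf : ∀ W, Function.Injective (apm f W)) (V : C) :
    Function.Injective (apm ((Pex U).map f) V) := fun y z e => pex_ext G fun a =>
  hf (Over.mk a) (by rw [← pexCoeff_map, ← pexCoeff_map, e])

variable (U) in
/-- Extension by zero is the sheafified presheaf extension by zero. -/
noncomputable def extZeroIso : forgetP (O.over U) ⋙ Pex U ⋙ aP O ≅ ModSite.extZero O U :=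
  Functor.isoWhiskerLeft (forgetP (O.over U))
      (((pexAdj U).comp (adjP O)).leftAdjointUniq ((adjP (O.over U)).comp (ModSite.extZeroAdj O U))) ≪≫
    (Functor.associator _ _ _).symm ≪≫
      Functor.isoWhiskerRight (asIso (adjP (O.over U)).counit) _ ≪≫ Functor.leftUnitor _

variable (U) in
/-- Extension by zero after sheafification. -/
noncomputable def aPExtZeroIso : Pex U ⋙ aP O ≅ aP (O.over U) ⋙ ModSite.extZero O U :=
  ((pexAdj U).comp (adjP O)).leftAdjointUniq ((adjP (O.over U)).comp (ModSite.extZeroAdj O U))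

lemma mono_extZero_map {G G' : ModSite.Mod (O.over U)} (f : G ⟶ G') [Mono f] : Mono ((ModSite.extZero O U).map f) := by
  have : Mono ((aP O).map ((Pex U).map f.val)) := mono_aP_map_of_locInj fun V y hy =>
    ⟨⊤, J.top_mem V, fun V' g _ => by
      rw [(injective_iff_map_eq_zero _).1 (injective_Pex_map f.val (fun W => injective_of_mono f W) V) y hy, map_zero]⟩
  exact ((MorphismProperty.monomorphisms (ModSite.Mod O)).arrow_mk_iso_iff
    (((Functor.mapArrowFunctor _ _).mapIso (extZeroIso U)).app (Arrow.mk f))).1 this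

/-- The unit of presheaf extension by zero. -/
lemma injective_unit (G : PM (O.over U)) (W : Over U) :
    Function.Injective (apm ((pexAdj U).unit.app G) W) := fun x y e => by
  have h : ∀ x : sc G W, apm ((pexAdj U).unit.app G) W x = toRes _ W (pu x (𝟙 W.left)) := fun x => rfl
  rw [h, h] at e
  have e' : (pu (W := Over.mk W.hom) x (𝟙 W.left) : sc (pexObj G) W.left) = pu (W := Over.mk W.hom) y (𝟙 W.left) := e
  exact (pexCoeff_pu_self G W.hom x).symm.trans ((congrArg (pexCoeff G W.hom) e').trans (pexCoeff_pu_self G W.hom y))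

end Groth.SitesTopoi.ModH
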