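import Groth.Agent.SitesTopoi.Mod.GenSysPull

/-!
The tensor product preserves local generation, finite type, quasi-coherence, finite presentation and local freeness.
-/

set_option autoImplicit false

universe u

open CategoryTheory CategoryTheory.Limits Opposite MonoidalCategory

set_option backward.defeqAttrib.useBackward true
set_option backward.isDefEq.respectTransparency false
set_option backward.isDefEq.respectTransparency.types false
set_option synthInstance.maxHeartbeats 400000

namespace Groth.SitesTopoi.GenSysTensor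

open Groth.SitesTopoi.ModH Groth.SitesTopoi.GenSys Groth.SitesTopoi.PullTensor Groth.Misc4.FlatFactor

section Algebra

variable {R A B : Type u} [CommRing R] [AddCommGroup A] [AddCommGroup B] [Module R A] [Module R B]

/-- The relators of a tensor product. -/
noncomputable def relv : (R × A × A × B) ⊕ (R × A × B × B) → ((A × B) →₀ R)
  | Sum.inl (r, x, x', y) => Finsupp.single (r • x + x', y) 1 - Finsupp.single (x, y) r - Finsupp.single (x', y) 1
  | Sum.inr (r, x, y, y') => Finsupp.single (x, r • y + y') 1 - Finsupp.single (x, y) r - Finsupp.single (x, y') 1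

/-- A formal combination vanishing in the tensor product is a combination of relators. -/
theorem mem_span_relv (z : (A × B) →₀ R)
    (h : Finsupp.linearCombination R (fun p : A × B => p.1 ⊗ₜ[R] p.2) z = 0) :
    z ∈ Submodule.span R (Set.range (relv (R := R) (A := A) (B := B))) := by
  let S := Submodule.span R (Set.range (relv (R := R) (A := A) (B := B)))
  let b : A → B → ((A × B) →₀ R) ⧸ S := fun x y => Submodule.Quotient.mk (Finsupp.single (x, y) 1)
  have hl : ∀ (r : R) (x x' : A) (y : B), b (r • x + x') y = r • b x y + b x' y := fun r x x' y => by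
    show (Submodule.Quotient.mk _ : ((A × B) →₀ R) ⧸ S) = r • Submodule.Quotient.mk _ + Submodule.Quotient.mk _
    rw [← Submodule.Quotient.mk_smul, ← Submodule.Quotient.mk_add, Submodule.Quotient.eq]
    refine Submodule.subset_span ⟨Sum.inl (r, x, x', y), ?_⟩
    simp [relv, Finsupp.smul_single, sub_sub]
  have hr : ∀ (r : R) (x : A) (y y' : B), b x (r • y + y') = r • b x y + b x y' := fun r x y y' => by
    show (Submodule.Quotient.mk _ : ((A × B) →₀ R) ⧸ S) = r • Submodule.Quotient.mk _ + Submodule.Quotient.mk _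
    rw [← Submodule.Quotient.mk_smul, ← Submodule.Quotient.mk_add, Submodule.Quotient.eq]
    refine Submodule.subset_span ⟨Sum.inr (r, x, y, y'), ?_⟩
    simp [relv, Finsupp.smul_single, sub_sub]
  have hl0 : ∀ y, b 0 y = 0 := fun y => by
    have h1 := hl 1 0 0 y
    simp only [one_smul, add_zero] at h1
    exact left_eq_add.1 h1
  have hr0 : ∀ x, b x 0 = 0 := fun x => by
    have h1 := hr 1 x 0 0
    simp only [one_smul, add_zero] at h1
    exact left_eq_add.1 h1
  let L : A →ₗ[R] B →ₗ[R] ((A × B) →₀ R) ⧸ S := LinearMap.mk₂ R b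
    (fun x x' y => by have h1 := hl 1 x x' y; simpa using h1)
    (fun r x y => by have h1 := hl r x 0 y; simpa [hl0] using h1)
    (fun x y y' => by have h1 := hr 1 x y y'; simpa using h1)
    (fun r x y => by have h1 := hr r x y 0; simpa [hr0] using h1)
  have key : ∀ w, TensorProduct.lift L (Finsupp.linearCombination R (fun p : A × B => p.1 ⊗ₜ[R] p.2) w) =
      Submodule.Quotient.mk w := fun w => by
    induction w using Finsupp.induction_linear with
    | zero => simp
    | add a c ha hc => simp only [map_add, ha, hc, Submodule.Quotient.mk_add]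
    | single p r =>
      rw [Finsupp.linearCombination_single, map_smul, TensorProduct.lift.tmul]
      show r • Submodule.Quotient.mk (Finsupp.single (p.1, p.2) 1) = _
      rw [← Submodule.Quotient.mk_smul, Finsupp.smul_single, smul_eq_mul, mul_one]
  refine (Submodule.Quotient.mk_eq_zero S).1 ?_
  rw [← key, h, map_zero]

end Algebra

variable {C : Type u} [SmallCategory C] {J : GrothendieckTopology C} {O : Sheaf J CommRingCat.{u}}
  {M N : ModSite.Mod O}

lemma tau_add_left {V : C} (x x' : sc M.val V) (y : sc N.val V) : tau M N (x + x') y = tau M N x y + tau M N x' y :=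
  (congrArg _ (tm_add_left _ _ _)).trans (map_add _ _ _)

lemma tau_add_right {V : C} (x : sc M.val V) (y y' : sc N.val V) : tau M N x (y + y') = tau M N x y + tau M N x y' :=
  (congrArg _ (tm_add_right _ _ _)).trans (map_add _ _ _)

lemma tau_smul_left {V : C} (r : rsec O V) (x : sc M.val V) (y : sc N.val V) :
    tau M N (r • x) y = r • tau M N x y :=
  (congrArg _ (tm_smul_left _ _ _)).trans (map_smul _ _ _)

lemma tau_smul_right {V : C} (r : rsec O V) (x : sc M.val V) (y : sc N.val V) :
    tau M N x (r • y) = r • tau M N x y :=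
  (congrArg _ (tm_smul_right _ _ _)).trans (map_smul _ _ _)

variable {Y : C} {I I' R R' : Type u}

/-- The products of two families of sections. -/
noncomputable def te (e : I → sc M.val Y) (e' : I' → sc N.val Y) : I × I' → sc (tMN M N).val Y :=
  fun p => tau M N (e p.1) (e' p.2)

open Classical in
/-- The relations of a tensor product. -/
noncomputable def tc (c : R → I → rsec O Y) (c' : R' → I' → rsec O Y) :
    (R × I') ⊕ (I × R') → I × I' → rsec O Y :=
  Sum.elim (fun k p => if k.2 = p.2 then c k.1 p.1 else 0) (fun k p => if k.1 = p.1 then c' k.2 p.2 else 0)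

/-- The product of two vectors. -/
noncomputable def outer {V : C} (a : I →₀ rsec O V) (b : I' →₀ rsec O V) : I × I' →₀ rsec O V :=
  Finsupp.onFinset (a.support ×ˢ b.support) (fun p => a p.1 * b p.2) fun p hp => by
    simp only [Finset.mem_product, Finsupp.mem_support_iff]
    exact ⟨fun h => hp (by rw [h, zero_mul]), fun h => hp (by rw [h, mul_zero])⟩

lemma outer_apply {V : C} (a : I →₀ rsec O V) (b : I' →₀ rsec O V) (p : I × I') : outer a b p = a p.1 * b p.2 := rfl

variable {e : I → sc M.val Y} {e' : I' → sc N.val Y}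

lemma res_te {V : C} (g : V ⟶ Y) (p : I × I') : res (te e e') g p = tau M N (res e g p.1) (res e' g p.2) :=
  rsm_tau M N g _ _

lemma lc_outer {V : C} (g : V ⟶ Y) (a : I →₀ rsec O V) (b : I' →₀ rsec O V) :
    lc (res (te e e') g) (outer a b) = tau M N (lc (res e g) a) (lc (res e' g) b) := by
  classical
  have hz : ∀ y : sc N.val V, tau M N (0 : sc M.val V) y = 0 := fun y => by simp [tau]
  induction a using Finsupp.induction_linear with
  | zero =>
    rw [show outer (0 : I →₀ rsec O V) b = 0 from Finsupp.ext fun p => by rw [outer_apply]; simp, map_zero, map_zero, hz]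
  | add a a' ha ha' =>
    rw [show outer (a + a') b = outer a b + outer a' b from Finsupp.ext fun p => by
      simp only [outer_apply, Finsupp.add_apply, add_mul], map_add, map_add, tau_add_left, ha, ha']
  | single i r =>
    induction b using Finsupp.induction_linear with
    | zero =>
      rw [show outer (Finsupp.single i r) (0 : I' →₀ rsec O V) = 0 from Finsupp.ext fun p => by rw [outer_apply]; simp,
        map_zero, map_zero]
      simp [tau]
    | add b b' hb hb' =>
      rw [show outer (Finsupp.single i r) (b + b') = outer (Finsupp.single i r) b + outer (Finsupp.single i r) b' from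
        Finsupp.ext fun p => by simp only [outer_apply, Finsupp.add_apply, mul_add], map_add, map_add, tau_add_right,
        hb, hb']
    | single j s =>
      rw [show outer (Finsupp.single i r) (Finsupp.single j s) = Finsupp.single (i, j) (r * s) from
        Finsupp.ext fun ⟨i', j'⟩ => by
          simp only [outer_apply, Finsupp.single_apply, Prod.mk.injEq]
          split_ifs <;> simp_all]
      simp only [lc, Finsupp.linearCombination_single, res_te, tau_smul_left, tau_smul_right, mul_smul]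
      exact smul_comm r s _

theorem gens_tensor (he : Gens e) (he' : Gens e') : Gens (te e e') := by
  intro V g t
  obtain ⟨S, hS, hS'⟩ := locSurj_etaP (M.val ⊗ N.val : PM O) V t
  refine exists_refine hS fun V₁ h hh => ?_
  obtain ⟨q, hq⟩ := hS' h hh
  suffices hmain : ∃ T ∈ J V₁, ∀ ⦃V₂ : C⦄ (k : V₂ ⟶ V₁), T k → ∃ a : I × I' →₀ rsec O V₂,
      rsm (tMN M N).val k (apm (etaP (M.val ⊗ N.val : PM O)) V₁ q) = lc (res (te e e') (k ≫ h ≫ g)) a by
    obtain ⟨T, hT, hT'⟩ := hmain
    refine ⟨T, hT, fun V₂ k hk => ?_⟩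
    obtain ⟨a, ha⟩ := hT' k hk
    refine ⟨a, ?_⟩
    rw [Category.assoc, ← ha]
    exact (rsm_rsm _ h k t).symm.trans (congrArg (rsm (tMN M N).val k) hq.symm)
  clear hq
  induction q using tens_induction with
  | zero => exact ⟨⊤, J.top_mem V₁, fun V₂ k _ => ⟨0, by simp⟩⟩
  | tmul m n =>
    obtain ⟨T, hT, hT'⟩ := he (h ≫ g) m
    obtain ⟨T', hT₂, hT₂'⟩ := he' (h ≫ g) n
    refine ⟨T ⊓ T', J.intersection_covering hT hT₂, fun V₂ k hk => ?_⟩
    obtain ⟨a, ha⟩ := hT' k hk.1
    obtain ⟨b, hb⟩ := hT₂' k hk.2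
    exact ⟨outer a b, ((rsm_tau M N k m n).trans (by rw [ha, hb])).trans (lc_outer _ a b).symm⟩
  | add q q' hq hq' =>
    obtain ⟨T, hT, hT'⟩ := hq
    obtain ⟨T', hT₂, hT₂'⟩ := hq'
    refine ⟨T ⊓ T', J.intersection_covering hT hT₂, fun V₂ k hk => ?_⟩
    obtain ⟨a, ha⟩ := hT' k hk.1
    obtain ⟨b, hb⟩ := hT₂' k hk.2
    exact ⟨a + b, by rw [map_add, map_add, ha, hb, map_add]⟩

variable {c : R → I → rsec O Y} {c' : R' → I' → rsec O Y}

lemma mul_mem_left {V : C} {g : V ⟶ Y} {α : I → rsec O V} (hα : α ∈ relSpan c g) (β : I' →₀ rsec O V) :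
    (fun p : I × I' => α p.1 * β p.2) ∈ relSpan (tc c c') g := by
  classical
  induction hα using Submodule.span_induction with
  | zero =>
    simp only [Pi.zero_apply, zero_mul]
    exact zero_mem _
  | add a b _ _ ha hb =>
    simp only [Pi.add_apply, add_mul]
    exact add_mem ha hb
  | smul r a _ ha =>
    simp only [Pi.smul_apply, smul_eq_mul, mul_assoc]
    exact Submodule.smul_mem _ r ha
  | mem a ha =>
    obtain ⟨k, rfl⟩ := ha
    have h1 : (fun p : I × I' => rsR g (c k p.1) * β p.2) =
        ∑ j ∈ β.support, β j • fun p => rsR g (tc c c' (Sum.inl (k, j)) p) := by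
      funext p
      simp only [Finset.sum_apply, Pi.smul_apply, smul_eq_mul, tc, Sum.elim_inl, apply_ite (rsR g), map_zero, mul_ite,
        mul_zero, Finset.sum_ite_eq']
      split_ifs with h
      · exact mul_comm _ _
      · rw [Finsupp.notMem_support_iff.1 h, mul_zero]
    rw [h1]
    exact Submodule.sum_mem _ fun j _ => Submodule.smul_mem _ _ (Submodule.subset_span ⟨_, rfl⟩)

lemma mul_mem_right {V : C} {g : V ⟶ Y} (α : I →₀ rsec O V) {β : I' → rsec O V} (hβ : β ∈ relSpan c' g) :
    (fun p : I × I' => α p.1 * β p.2) ∈ relSpan (tc c c') g := by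
  classical
  induction hβ using Submodule.span_induction with
  | zero =>
    simp only [Pi.zero_apply, mul_zero]
    exact zero_mem _
  | add a b _ _ ha hb =>
    simp only [Pi.add_apply, mul_add]
    exact add_mem ha hb
  | smul r a _ ha =>
    simp only [Pi.smul_apply, smul_eq_mul, mul_left_comm _ r]
    exact Submodule.smul_mem _ r ha
  | mem a ha =>
    obtain ⟨k, rfl⟩ := ha
    have h1 : (fun p : I × I' => α p.1 * rsR g (c' k p.2)) =
        ∑ i ∈ α.support, α i • fun p => rsR g (tc c c' (Sum.inr (i, k)) p) := by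
      funext p
      simp only [Finset.sum_apply, Pi.smul_apply, smul_eq_mul, tc, Sum.elim_inr, apply_ite (rsR g), map_zero, mul_ite,
        mul_zero, Finset.sum_ite_eq']
      split_ifs with h
      · rfl
      · rw [Finsupp.notMem_support_iff.1 h, zero_mul]
    rw [h1]
    exact Submodule.sum_mem _ fun j _ => Submodule.smul_mem _ _ (Submodule.subset_span ⟨_, rfl⟩)

theorem pres_tensor (P : Pres e c) (P' : Pres e' c') : Pres (te e e') (tc c c') := by
  classical
  refine ⟨gens_tensor P.gens P'.gens, ?_, fun V g a ha => ?_⟩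
  · rintro (⟨k, j⟩ | ⟨i, k⟩)
    · obtain ⟨S, hS, hS'⟩ := P.zero k
      refine ⟨S, hS, fun W h hh => ?_⟩
      obtain ⟨a, ha, ha0⟩ := hS' h hh
      refine ⟨outer a (Finsupp.single j 1), fun p => ?_, ?_⟩
      · simp only [outer_apply, ha, Finsupp.single_apply, tc, Sum.elim_inl, mul_ite, mul_one, mul_zero,
          apply_ite (rsR h), map_zero]
      · rw [lc_outer, ha0]
        simp [tau]
    · obtain ⟨S, hS, hS'⟩ := P'.zero k
      refine ⟨S, hS, fun W h hh => ?_⟩
      obtain ⟨a, ha, ha0⟩ := hS' h hh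
      refine ⟨outer (Finsupp.single i 1) a, fun p => ?_, ?_⟩
      · simp only [outer_apply, ha, Finsupp.single_apply, tc, Sum.elim_inr, ite_mul, one_mul, zero_mul,
          apply_ite (rsR h), map_zero]
      · rw [lc_outer, ha0]
        simp [tau]
  -- descend to the tensor product of sections
  let ev : I × I' → sc M.val V × sc N.val V := fun p => (res e g p.1, res e' g p.2)
  have h0 : apm (etaP (M.val ⊗ N.val : PM O)) V (∑ p ∈ a.support, a p • tm (ev p).1 (ev p).2) = 0 := by
    refine Eq.trans ?_ ha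
    simp only [lc, Finsupp.linearCombination_apply, Finsupp.sum, map_sum, map_smul, res_te]
    rfl
  obtain ⟨T, hT, hT'⟩ := locInj_etaP (M.val ⊗ N.val : PM O) V _ h0
  refine exists_refine hT fun V₁ h hh => ?_
  let ev₁ : I × I' → sc M.val V₁ × sc N.val V₁ := fun p => (res e (h ≫ g) p.1, res e' (h ≫ g) p.2)
  let z : (sc M.val V₁ × sc N.val V₁) →₀ rsec O V₁ := (vr h a).mapDomain ev₁
  have hz : Finsupp.linearCombination (rsec O V₁)
      (fun p : sc M.val V₁ × sc N.val V₁ => p.1 ⊗ₜ[rsec O V₁] p.2) z = 0 := by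
    refine Eq.trans ?_ (hT' h hh)
    rw [Finsupp.linearCombination_mapDomain, Finsupp.linearCombination_apply]
    refine (Finsupp.sum_of_support_subset _ (show (vr h a).support ⊆ a.support from fun p hp => Finsupp.mem_support_iff.2 fun h' =>
        Finsupp.mem_support_iff.1 hp (by rw [vr_apply, h', map_zero]))
      (fun p r => r • _) fun _ _ => zero_smul _ _).trans ?_
    rw [map_sum]
    refine Finset.sum_congr rfl fun p _ => ?_
    refine Eq.trans ?_ (rsm_smul (M.val ⊗ N.val : PM O) h (a p) (tm (ev p).1 (ev p).2)).symm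
    refine congrArg (fun t => rsR h (a p) • t) (Eq.trans ?_ (rsm_tm _ _ _).symm)
    show tm (res e (h ≫ g) p.1) (res e' (h ≫ g) p.2) = _
    simp only [ev, res, rsm_rsm]
  obtain ⟨q, hq⟩ := Finsupp.mem_span_range_iff_exists_finsupp.1 (mem_span_relv z hz)
  let fstL : (rsec O V₁ × sc M.val V₁ × sc M.val V₁ × sc N.val V₁) ⊕ (rsec O V₁ × sc M.val V₁ × sc N.val V₁ × sc N.val V₁) →
      Finset (sc M.val V₁) := Sum.elim (fun r => {r.1 • r.2.1 + r.2.2.1, r.2.1, r.2.2.1}) (fun r => {r.2.1})
  let sndL : (rsec O V₁ × sc M.val V₁ × sc M.val V₁ × sc N.val V₁) ⊕ (rsec O V₁ × sc M.val V₁ × sc N.val V₁ × sc N.val V₁) →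
      Finset (sc N.val V₁) := Sum.elim (fun r => {r.2.2.2}) (fun r => {r.1 • r.2.2.1 + r.2.2.2, r.2.2.1, r.2.2.2})
  let X := q.support.biUnion fstL ∪ a.support.image fun p => (ev₁ p).1
  let Z := q.support.biUnion sndL ∪ a.support.image fun p => (ev₁ p).2
  obtain ⟨T₁, hT₁, hT₁'⟩ := P.gens.exists_coeffs (h ≫ g) (fun x : sc M.val V₁ => x) X
  obtain ⟨T₂, hT₂, hT₂'⟩ := P'.gens.exists_coeffs (h ≫ g) (fun x : sc N.val V₁ => x) Z
  refine exists_refine (J.intersection_covering hT₁ hT₂) fun V₂ k hk => ?_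
  obtain ⟨A, hA⟩ := hT₁' k hk.1
  obtain ⟨B, hB⟩ := hT₂' k hk.2
  let badA : ((rsec O V₁ × sc M.val V₁ × sc M.val V₁ × sc N.val V₁) ⊕ (I × I')) → (I →₀ rsec O V₂) :=
    Sum.elim (fun r => A (r.1 • r.2.1 + r.2.2.1) - rsR k r.1 • A r.2.1 - A r.2.2.1)
      (fun p => Finsupp.single p.1 1 - A (ev₁ p).1)
  let badB : ((rsec O V₁ × sc M.val V₁ × sc N.val V₁ × sc N.val V₁) ⊕ (I × I')) → (I' →₀ rsec O V₂) :=
    Sum.elim (fun r => B (r.1 • r.2.2.1 + r.2.2.2) - rsR k r.1 • B r.2.2.1 - B r.2.2.2)
      (fun p => Finsupp.single p.2 1 - B (ev₁ p).2)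
  let sA : Finset ((rsec O V₁ × sc M.val V₁ × sc M.val V₁ × sc N.val V₁) ⊕ (I × I')) :=
    q.support.toLeft.disjSum a.support
  let sB : Finset ((rsec O V₁ × sc M.val V₁ × sc N.val V₁ × sc N.val V₁) ⊕ (I × I')) :=
    q.support.toRight.disjSum a.support
  have hA0 : ∀ x ∈ sA, lc (res e (k ≫ h ≫ g)) (badA x) = 0 := by
    rintro (r | p) hx
    · have hr : Sum.inl r ∈ q.support := Finset.mem_toLeft.1 (Finset.inl_mem_disjSum.1 hx)
      have m : ∀ x ∈ fstL (Sum.inl r), rsm M.val k x = lc (res e (k ≫ h ≫ g)) (A x) := fun x hx =>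
        hA x (Finset.mem_union_left _ (Finset.mem_biUnion.2 ⟨_, hr, hx⟩))
      simp only [badA, Sum.elim_inl, map_sub, map_smul]
      rw [← m _ (by simp [fstL]), ← m _ (by simp [fstL]), ← m _ (by simp [fstL]), map_add, rsm_smul]
      abel
    · have hp : p ∈ a.support := Finset.inr_mem_disjSum.1 hx
      simp only [badA, Sum.elim_inr, map_sub]
      rw [← hA _ (Finset.mem_union_right _ (Finset.mem_image_of_mem (fun p => (ev₁ p).1) hp))]
      simp [lc, res, ev₁, rsm_rsm]
  have hB0 : ∀ x ∈ sB, lc (res e' (k ≫ h ≫ g)) (badB x) = 0 := by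
    rintro (r | p) hx
    · have hr : Sum.inr r ∈ q.support := Finset.mem_toRight.1 (Finset.inl_mem_disjSum.1 hx)
      have m : ∀ x ∈ sndL (Sum.inr r), rsm N.val k x = lc (res e' (k ≫ h ≫ g)) (B x) := fun x hx =>
        hB x (Finset.mem_union_left _ (Finset.mem_biUnion.2 ⟨_, hr, hx⟩))
      simp only [badB, Sum.elim_inl, map_sub, map_smul]
      rw [← m _ (by simp [sndL]), ← m _ (by simp [sndL]), ← m _ (by simp [sndL]), map_add, rsm_smul]
      abel
    · have hp : p ∈ a.support := Finset.inr_mem_disjSum.1 hx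
      simp only [badB, Sum.elim_inr, map_sub]
      rw [← hB _ (Finset.mem_union_right _ (Finset.mem_image_of_mem (fun p => (ev₁ p).2) hp))]
      simp [lc, res, ev₁, rsm_rsm]
  obtain ⟨T₃, hT₃, hT₃'⟩ := P.ker_finset (k ≫ h ≫ g) badA sA hA0
  obtain ⟨T₄, hT₄, hT₄'⟩ := P'.ker_finset (k ≫ h ≫ g) badB sB hB0
  refine ⟨T₃ ⊓ T₄, J.intersection_covering hT₃ hT₄, fun V₃ l hl => ?_⟩
  let G : V₃ ⟶ Y := l ≫ k ≫ h ≫ g
  have hbA : ∀ x ∈ sA, (fun i => rsR l (badA x i)) ∈ relSpan c G := hT₃' l hl.1
  have hbB : ∀ x ∈ sB, (fun i => rsR l (badB x i)) ∈ relSpan c' G := hT₄' l hl.2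
  let Φ : ((sc M.val V₁ × sc N.val V₁) →₀ rsec O V₁) →+ (I × I' → rsec O V₃) :=
    Finsupp.liftAddHom fun xy =>
      { toFun := fun b p => rsR (l ≫ k) b * (rsR l (A xy.1 p.1) * rsR l (B xy.2 p.2))
        map_zero' := funext fun p => by simp
        map_add' := fun b b' => funext fun p => by simp [add_mul] }
  have hΦ : ∀ x y b p, Φ (Finsupp.single (x, y) b) p = rsR (l ≫ k) b * (rsR l (A x p.1) * rsR l (B y p.2)) :=
    fun x y b p => by
      simp only [Φ, Finsupp.liftAddHom_apply_single]
      rfl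
  have hΦs : ∀ (b : rsec O V₁) w, Φ (b • w) = rsR (l ≫ k) b • Φ w := fun b w => by
    induction w using Finsupp.induction_linear with
    | zero => simp
    | add x y hx hy => simp only [smul_add, map_add, hx, hy]
    | single x r' =>
      obtain ⟨x, y⟩ := x
      funext p
      rw [Finsupp.smul_single, hΦ, Pi.smul_apply, hΦ, smul_eq_mul, smul_eq_mul, map_mul, mul_assoc]
  have hrel : Φ z ∈ relSpan (tc c c') G := by
    rw [← hq, map_finsuppSum]
    refine Submodule.sum_mem _ fun x hx => ?_
    show Φ (q x • relv x) ∈ _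
    rw [hΦs]
    refine Submodule.smul_mem _ _ ?_
    rcases x with ⟨r, x, x', y⟩ | ⟨r, x, y, y'⟩
    · have h1 := mul_mem_left (c' := c') (hbA (Sum.inl (r, x, x', y))
        (Finset.inl_mem_disjSum.2 (Finset.mem_toLeft.2 hx))) (vr l (B y))
      convert h1 using 1
      funext p
      simp only [relv, map_sub, Pi.sub_apply, hΦ, badA, Sum.elim_inl, Finsupp.sub_apply, Finsupp.smul_apply, smul_eq_mul,
        map_mul, vr_apply, map_one, one_mul, rsR_rsR]
      ring
    · have h1 := mul_mem_right (c := c) (vr l (A x)) (hbB (Sum.inl (r, x, y, y'))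
        (Finset.inl_mem_disjSum.2 (Finset.mem_toRight.2 hx)))
      convert h1 using 1
      funext p
      simp only [relv, map_sub, Pi.sub_apply, hΦ, badB, Sum.elim_inl, Finsupp.sub_apply, Finsupp.smul_apply, smul_eq_mul,
        map_mul, vr_apply, map_one, one_mul, rsR_rsR]
      ring
  have key : (fun p => rsR ((l ≫ k) ≫ h) (a p)) = Φ z + ∑ p₀ ∈ a.support, rsR ((l ≫ k) ≫ h) (a p₀) •
      ((fun p : I × I' => rsR l (badA (Sum.inr p₀) p.1) * vr l (Finsupp.single p₀.2 1) p.2) +
        fun p : I × I' => vr l (A (ev₁ p₀).1) p.1 * rsR l (badB (Sum.inr p₀) p.2)) := by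
    have hz' : z = ∑ p₀ ∈ a.support, Finsupp.single (ev₁ p₀) (rsR h (a p₀)) := by
      suffices h1 : vr h a = ∑ p₀ ∈ a.support, Finsupp.single p₀ (rsR h (a p₀)) by
        show (vr h a).mapDomain ev₁ = _
        rw [h1, Finsupp.mapDomain_finsetSum]
        exact Finset.sum_congr rfl fun p₀ _ => Finsupp.mapDomain_single
      refine Finsupp.ext fun p => ?_
      simp only [vr_apply, Finsupp.finsetSum_apply, Finsupp.single_apply, Finset.sum_ite_eq']
      split_ifs with hp
      · rfl
      · rw [Finsupp.notMem_support_iff.1 hp, map_zero]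
    funext p
    rw [hz', map_sum, Pi.add_apply, Finset.sum_apply, Finset.sum_apply, ← Finset.sum_add_distrib]
    have e1 : ∀ p₀, Φ (Finsupp.single (ev₁ p₀) (rsR h (a p₀))) p + rsR ((l ≫ k) ≫ h) (a p₀) *
        (rsR l (badA (Sum.inr p₀) p.1) * vr l (Finsupp.single p₀.2 1) p.2 +
          vr l (A (ev₁ p₀).1) p.1 * rsR l (badB (Sum.inr p₀) p.2)) =
        if p₀ = p then rsR ((l ≫ k) ≫ h) (a p₀) else 0 := fun p₀ => by
      refine Eq.trans (congrArg (· + _) (hΦ (ev₁ p₀).1 (ev₁ p₀).2 _ p)) ?_
      simp only [badA, badB, Sum.elim_inr, Finsupp.sub_apply, map_sub, vr_apply, rsR_rsR, Finsupp.single_apply,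
        apply_ite (rsR l), map_one, map_zero]
      have e2 : (if p₀ = p then rsR ((l ≫ k) ≫ h) (a p₀) else 0) = rsR ((l ≫ k) ≫ h) (a p₀) *
          ((if p₀.1 = p.1 then 1 else 0) * (if p₀.2 = p.2 then 1 else 0)) := by
        obtain ⟨i₀, j₀⟩ := p₀
        obtain ⟨i, j⟩ := p
        simp only [Prod.mk.injEq]
        split_ifs <;> simp_all
      rw [e2]
      ring
    simp only [Pi.smul_apply, Pi.add_apply, smul_eq_mul, e1, Finset.sum_ite_eq']
    split_ifs with hp
    · rfl
    · rw [Finsupp.notMem_support_iff.1 hp, map_zero]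
  have h5 := Submodule.add_mem _ hrel (Submodule.sum_mem _ (t := a.support) fun p₀ hp₀ =>
    Submodule.smul_mem _ (rsR ((l ≫ k) ≫ h) (a p₀)) (Submodule.add_mem _
      (mul_mem_left (c' := c') (hbA (Sum.inr p₀) (Finset.inr_mem_disjSum.2 hp₀)) (vr l (Finsupp.single p₀.2 1)))
      (mul_mem_right (c := c) (vr l (A (ev₁ p₀).1)) (hbB (Sum.inr p₀) (Finset.inr_mem_disjSum.2 hp₀)))))
  rw [← key] at h5
  simpa only [G, Category.assoc] using h5

end Groth.SitesTopoi.GenSysTensor
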