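import Groth.Agent.SitesTopoi.Mod.Relations
import Groth.Agent.SitesTopoi.Mod.LocFiltered
import Mathlib.Algebra.Homology.ShortComplex.ModuleCat

/-!
Generators and relations for the inverse image of a sheaf of modules.
-/

universe u

open CategoryTheory CategoryTheory.Limits Opposite

namespace Groth.SitesTopoi.ModH

variable {C D : Type u} [SmallCategory C] [SmallCategory D] {J : GrothendieckTopology C}
  {K : GrothendieckTopology D} {O_C : Sheaf J CommRingCat.{u}} {O_D : Sheaf K CommRingCat.{u}}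
  (f : ModSite.RMor O_C O_D)

/-- The structure map on sections. -/
noncomputable def shf (d : D) : rsec O_D d →+* rsec O_C (f.fn.obj d) := (f.sharp.hom.app (op d)).hom

/-- The structure map followed by a restriction. -/
noncomputable def sha {c : C} {d : D} (α : c ⟶ f.fn.obj d) : rsec O_D d →+* rsec O_C c := (rsR α).comp (shf f d)

lemma shf_nat {d d' : D} (u : d' ⟶ d) (r : rsec O_D d) : shf f d' (rsR u r) = rsR (f.fn.map u) (shf f d r) :=
  NatTrans.naturality_apply f.sharp.hom u.op r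

lemma sha_rsR {c : C} {d d' : D} (β : c ⟶ f.fn.obj d') (u : d' ⟶ d) (r : rsec O_D d) :
    sha f β (rsR u r) = sha f (β ≫ f.fn.map u) r := by
  simp only [sha, RingHom.comp_apply, shf_nat, rsR_rsR]

lemma rsR_sha {c c' : C} (h : c' ⟶ c) {d : D} (α : c ⟶ f.fn.obj d) (r : rsec O_D d) :
    rsR h (sha f α r) = sha f (h ≫ α) r := by
  simp only [sha, RingHom.comp_apply, rsR_rsR]

variable (M : ModSite.Mod O_D)

/-- The linear combination map of the sections over an object. -/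
noncomputable def combD (d : D) : (sc M.val d →₀ rsec O_D d) →ₗ[rsec O_D d] sc M.val d :=
  Finsupp.linearCombination _ id

/-- Generators of the inverse image. -/
def Gen : Cᵒᵖ ⥤ Type u where
  obj c := Σ d : D, (c.unop ⟶ f.fn.obj d) × sc M.val d
  map h := ↾fun e => ⟨e.1, h.unop ≫ e.2.1, e.2.2⟩
  map_id _ := by ext ⟨_, _, _⟩ <;> simp
  map_comp _ _ := by ext ⟨_, _, _⟩ <;> simp

/-- A generator. -/
abbrev gn {c : C} {d : D} (α : c ⟶ f.fn.obj d) (x : sc M.val d) : (Gen f M).obj (op c) := ⟨d, α, x⟩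

/-- Relations of the inverse image. -/
def Rl : Cᵒᵖ ⥤ Type u where
  obj c := (Σ d : D, (c.unop ⟶ f.fn.obj d) × LinearMap.ker (combD M d)) ⊕
    (Σ (d d' : D), (d' ⟶ d) × (c.unop ⟶ f.fn.obj d') × sc M.val d)
  map h := ↾fun e => Sum.map (fun e => ⟨e.1, h.unop ≫ e.2.1, e.2.2⟩)
    (fun e => ⟨e.1, e.2.1, e.2.2.1, h.unop ≫ e.2.2.2.1, e.2.2.2.2⟩) e
  map_id _ := by ext (⟨_, _, _⟩ | ⟨_, _, _, _, _⟩) <;> simp
  map_comp _ _ := by ext (⟨_, _, _⟩ | ⟨_, _, _, _, _⟩) <;> simp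

/-- The relation attached to an index. -/
noncomputable def relElt (c : C) : (Rl f M).obj (op c) → sc (FT O_C (Gen f M)) c
  | Sum.inl ⟨_, α, r⟩ => (r : sc M.val _ →₀ _).sum fun x a => sha f α a • fm (gn f M α x)
  | Sum.inr ⟨_, _, u, α, x⟩ => fm (gn f M α (rsm M.val u x)) - fm (gn f M (α ≫ f.fn.map u) x)

lemma rsm_fm_gn {c c' : C} (h : c' ⟶ c) {d : D} (α : c ⟶ f.fn.obj d) (x : sc M.val d) :
    rsm (FT O_C (Gen f M)) h (fm (gn f M α x)) = fm (gn f M (h ≫ α) x) :=
  rsm_fm h _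

lemma rsm_relElt {c c' : C} (h : c' ⟶ c) (i : (Rl f M).obj (op c)) :
    rsm (FT O_C (Gen f M)) h (relElt f M c i) = relElt f M c' ((Rl f M).map h.op i) := by
  rcases i with ⟨d, α, r⟩ | ⟨d, d', u, α, x⟩
  · change rsm _ h ((r.1 : sc M.val d →₀ rsec O_D d).sum fun x a => sha f α a • fm (gn f M α x)) =
      (r.1 : sc M.val d →₀ rsec O_D d).sum fun x a => sha f (h ≫ α) a • fm (gn f M (h ≫ α) x)
    simp only [Finsupp.sum, map_sum, rsm_smul, rsm_fm_gn, rsR_sha]
  · change rsm _ h (fm _ - fm _) = fm (gn f M (h ≫ α) _) - fm (gn f M ((h ≫ α) ≫ f.fn.map u) _)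
    rw [map_sub, rsm_fm_gn, rsm_fm_gn, Category.assoc]

/-- The presentation. -/
noncomputable def pres : FT O_C (Rl f M) ⟶ FT O_C (Gen f M) :=
  PresheafOfModules.freeObjDesc
    { app := fun c => ↾relElt f M c.unop
      naturality := fun c c' h => by
        ext i
        exact (rsm_relElt f M h.unop i).symm }

lemma pres_fm {c : C} (i : (Rl f M).obj (op c)) : apm (pres f M) c (fm i) = relElt f M c i :=
  ModuleCat.freeDesc_apply _ i

/-- The presheaf inverse image. -/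
noncomputable abbrev Qp : PM O_C := cokernel (pres f M)

/-- The projection. -/
noncomputable abbrev qpr : FT O_C (Gen f M) ⟶ Qp f M := cokernel.π (pres f M)

lemma qpr_pres {c : C} (z : sc (FT O_C (Rl f M)) c) : apm (qpr f M) c (apm (pres f M) c z) = 0 :=
  congrArg (fun φ => apm φ c z) (cokernel.condition (pres f M))

lemma qpr_surjective (c : C) : Function.Surjective (apm (qpr f M) c) :=
  PresheafOfModules.surjective_of_epi (qpr f M) (op c)

lemma exists_pres_of_qpr_eq_zero {c : C} {y : sc (FT O_C (Gen f M)) c} (hy : apm (qpr f M) c y = 0) :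
    ∃ z, apm (pres f M) c z = y := by
  let S : ShortComplex (PM O_C) := ShortComplex.mk (pres f M) (qpr f M) (cokernel.condition _)
  have hS : S.Exact := ShortComplex.exact_of_g_is_cokernel _ (cokernelIsCokernel (pres f M))
  exact (ShortComplex.moduleCat_exact_iff _).1 (hS.map (PresheafOfModules.evaluation _ (op c))) y hy

/-- A section of the inverse image attached to a section. -/
noncomputable def ge {c : C} {d : D} (α : c ⟶ f.fn.obj d) (x : sc M.val d) : sc (Qp f M) c :=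
  apm (qpr f M) c (fm (gn f M α x))

lemma rsm_ge {c c' : C} (h : c' ⟶ c) {d : D} (α : c ⟶ f.fn.obj d) (x : sc M.val d) :
    rsm (Qp f M) h (ge f M α x) = ge f M (h ≫ α) x := by
  rw [ge, ge, ← apm_rsm, rsm_fm_gn]

lemma ge_rsm {c : C} {d d' : D} (α : c ⟶ f.fn.obj d') (u : d' ⟶ d) (x : sc M.val d) :
    ge f M α (rsm M.val u x) = ge f M (α ≫ f.fn.map u) x := by
  refine sub_eq_zero.1 ?_
  rw [ge, ge, ← map_sub]
  have := qpr_pres f M (fm (Sum.inr ⟨d, d', u, α, x⟩ : (Rl f M).obj (op c)))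
  rwa [pres_fm] at this

lemma ge_sum {c : C} {d : D} (α : c ⟶ f.fn.obj d) (r : sc M.val d →₀ rsec O_D d) :
    ge f M α (combD M d r) = r.sum fun x a => sha f α a • ge f M α x := by
  classical
  let r' : sc M.val d →₀ rsec O_D d := r - Finsupp.single (combD M d r) 1
  have hr' : r' ∈ LinearMap.ker (combD M d) := by
    rw [LinearMap.mem_ker, map_sub, sub_eq_zero]
    simp [combD]
  have := qpr_pres f M (fm (Sum.inl ⟨d, α, ⟨r', hr'⟩⟩ : (Rl f M).obj (op c)))
  rw [pres_fm] at this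
  change apm (qpr f M) c (r'.sum fun x a => sha f α a • fm (gn f M α x)) = 0 at this
  rw [Finsupp.sum_sub_index (fun _ _ _ => by rw [map_sub, sub_smul]), map_sub,
    Finsupp.sum_single_index (by rw [map_zero, zero_smul]), map_one, one_smul, sub_eq_zero] at this
  refine this.symm.trans ?_
  simp only [Finsupp.sum, map_sum, map_smul]
  rfl

lemma ge_add {c : C} {d : D} (α : c ⟶ f.fn.obj d) (x y : sc M.val d) :
    ge f M α (x + y) = ge f M α x + ge f M α y := by
  classical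
  have := ge_sum f M α (Finsupp.single x 1 + Finsupp.single y 1)
  rw [Finsupp.sum_add_index' (fun _ => by rw [map_zero, zero_smul]) (fun _ _ _ => by rw [map_add, add_smul]),
    Finsupp.sum_single_index (by rw [map_zero, zero_smul]), Finsupp.sum_single_index (by rw [map_zero, zero_smul])] at this
  simpa [combD] using this

lemma ge_smul {c : C} {d : D} (α : c ⟶ f.fn.obj d) (a : rsec O_D d) (x : sc M.val d) :
    ge f M α (a • x) = sha f α a • ge f M α x := by
  have := ge_sum f M α (Finsupp.single x a)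
  rw [Finsupp.sum_single_index (by rw [map_zero, zero_smul])] at this
  simpa [combD] using this

lemma ge_zero {c : C} {d : D} (α : c ⟶ f.fn.obj d) : ge f M α 0 = 0 := by
  simpa using ge_sum f M α 0

lemma ge_finsetSum {c : C} {d : D} (α : c ⟶ f.fn.obj d) {ι : Type*} (s : Finset ι) (x : ι → sc M.val d) :
    ge f M α (∑ i ∈ s, x i) = ∑ i ∈ s, ge f M α (x i) :=
  map_sum (AddMonoidHom.mk' (ge f M α) (ge_add f M α)) x s

/-- Vectors over a single object. -/
abbrev Vec (d : D) (c : C) : Type u := sc M.val d →₀ rsec O_C c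

/-- The section of the inverse image attached to a vector. -/
noncomputable def vecTo {c : C} {d : D} (α : c ⟶ f.fn.obj d) : Vec (O_C := O_C) M d c →ₗ[rsec O_C c] sc (Qp f M) c :=
  Finsupp.linearCombination _ (ge f M α)

/-- Relations over a single object. -/
noncomputable def rel₀ {c : C} {d : D} (β : c ⟶ f.fn.obj d) : Submodule (rsec O_C c) (Vec (O_C := O_C) M d c) :=
  Submodule.span _ ((fun r : sc M.val d →₀ rsec O_D d => r.mapRange (sha f β) (map_zero _)) '' (LinearMap.ker (combD M d) : Set _))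

/-- Transport of vectors. -/
noncomputable def vpush {c c' : C} {d d' : D} (w : d' ⟶ d) (h : c' ⟶ c) :
    Vec (O_C := O_C) M d c →+ Vec (O_C := O_C) M d' c' :=
  (Finsupp.mapDomain.addMonoidHom (rsm M.val w)).comp (Finsupp.mapRange.addMonoidHom (rsR h).toAddMonoidHom)

lemma vpush_single {c c' : C} {d d' : D} (w : d' ⟶ d) (h : c' ⟶ c) (x : sc M.val d) (r : rsec O_C c) :
    vpush M w h (Finsupp.single x r) = Finsupp.single (rsm M.val w x) (rsR h r) := by
  simp [vpush]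

lemma vpush_smul {c c' : C} {d d' : D} (w : d' ⟶ d) (h : c' ⟶ c) (r : rsec O_C c) (v : Vec (O_C := O_C) M d c) :
    vpush M w h (r • v) = rsR h r • vpush M w h v := by
  induction v using Finsupp.induction_linear with
  | zero => simp
  | add a b ha hb => simp [smul_add, ha, hb]
  | single x a => rw [Finsupp.smul_single, vpush_single, vpush_single, Finsupp.smul_single, smul_eq_mul, map_mul, smul_eq_mul]

lemma vpush_vpush {c c' c'' : C} {d d' d'' : D} (w : d' ⟶ d) (h : c' ⟶ c) (w' : d'' ⟶ d') (h' : c'' ⟶ c')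
    (v : Vec (O_C := O_C) M d c) : vpush M w' h' (vpush M w h v) = vpush M (w' ≫ w) (h' ≫ h) v := by
  induction v using Finsupp.induction_linear with
  | zero => simp
  | add a b ha hb => simp only [map_add, ha, hb]
  | single x a => simp only [vpush_single, rsm_rsm, rsR_rsR]

lemma vpush_mapRange {c c' : C} {d d' : D} (w : d' ⟶ d) (h : c' ⟶ c) (β : c ⟶ f.fn.obj d) (β' : c' ⟶ f.fn.obj d')
    (e : β' ≫ f.fn.map w = h ≫ β) (r : sc M.val d →₀ rsec O_D d) :
    vpush M w h (r.mapRange (sha f β) (map_zero _)) =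
      ((r.mapRange (rsR w) (map_zero _)).mapDomain (rsm M.val w)).mapRange (sha f β') (map_zero _) := by
  induction r using Finsupp.induction_linear with
  | zero => simp
  | add a b ha hb => simp only [Finsupp.mapRange_add (map_add _), map_add, Finsupp.mapDomain_add, ha, hb]
  | single x a => simp only [Finsupp.mapRange_single, vpush_single, Finsupp.mapDomain_single, rsR_sha, sha_rsR, e]

lemma comb_transport {d d' : D} (w : d' ⟶ d) (r : sc M.val d →₀ rsec O_D d) :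
    combD M d' ((r.mapRange (rsR w) (map_zero _)).mapDomain (rsm M.val w)) = rsm M.val w (combD M d r) := by
  induction r using Finsupp.induction_linear with
  | zero => simp
  | add a b ha hb => simp only [Finsupp.mapRange_add (map_add _), map_add, Finsupp.mapDomain_add, ha, hb]
  | single x a => simp [combD, rsm_smul]

lemma vpush_mem_rel₀ {c c' : C} {d d' : D} (w : d' ⟶ d) (h : c' ⟶ c) (β : c ⟶ f.fn.obj d) (β' : c' ⟶ f.fn.obj d')
    (e : β' ≫ f.fn.map w = h ≫ β) {v : Vec (O_C := O_C) M d c} (hv : v ∈ rel₀ f M β) :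
    vpush M w h v ∈ rel₀ f M β' := by
  induction hv using Submodule.span_induction with
  | zero => simp
  | add a b _ _ ha hb => rw [map_add]; exact add_mem ha hb
  | smul r a _ ha => rw [vpush_smul]; exact Submodule.smul_mem _ _ ha
  | mem v hv =>
    obtain ⟨r, hr, rfl⟩ := hv
    refine Submodule.subset_span ⟨(r.mapRange (rsR w) (map_zero _)).mapDomain (rsm M.val w), ?_, ?_⟩
    · rw [SetLike.mem_coe, LinearMap.mem_ker, comb_transport, LinearMap.mem_ker.1 hr, map_zero]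
    · exact (vpush_mapRange f M w h β β' e r).symm

section Eval

variable {c c' : C} (g : c' ⟶ c) {d₀ : D} (E : Finset ((Gen f M).obj (op c))) (u : ∀ e ∈ E, d₀ ⟶ e.1)

open Classical in
/-- Evaluation of formal sums in a chart. -/
noncomputable def evalV : sc (FT O_C (Gen f M)) c →+ Vec (O_C := O_C) M d₀ c' :=
  (Finsupp.liftAddHom fun e => if he : e ∈ E then
      (Finsupp.singleAddHom (rsm M.val (u e he) e.2.2)).comp (rsR g).toAddMonoidHom else 0).comp
    (toF (O := O_C) (Gen f M) c).toLinearMap.toAddMonoidHom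

lemma evalV_smul_fm (r : rsec O_C c) (e : (Gen f M).obj (op c)) (he : e ∈ E) :
    evalV f M g E u (r • fm e) = Finsupp.single (rsm M.val (u e he) e.2.2) (rsR g r) := by
  simp only [evalV, AddMonoidHom.coe_comp, Function.comp_apply, LinearMap.toAddMonoidHom_coe, LinearEquiv.coe_coe,
    map_smul, toF_fm, Finsupp.smul_single, smul_eq_mul, mul_one, Finsupp.liftAddHom_apply_single, dif_pos he]
  rfl

lemma evalV_fm (e : (Gen f M).obj (op c)) (he : e ∈ E) :
    evalV f M g E u (fm e) = Finsupp.single (rsm M.val (u e he) e.2.2) 1 := by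
  simpa using evalV_smul_fm f M g E u 1 e he

lemma evalV_smul (r : rsec O_C c) (y : sc (FT O_C (Gen f M)) c) :
    evalV f M g E u (r • y) = rsR g r • evalV f M g E u y := by
  classical
  rw [eq_sum_fm y, Finset.smul_sum, map_sum, map_sum, Finset.smul_sum]
  refine Finset.sum_congr rfl fun e _ => ?_
  rw [smul_smul]
  by_cases he : e ∈ E
  · rw [evalV_smul_fm f M g E u _ e he, evalV_smul_fm f M g E u _ e he, map_mul, Finsupp.smul_single, smul_eq_mul]
  · simp [evalV, toF_fm, he]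

lemma evalV_refine {c'' : C} (h : c'' ⟶ c') {d₁ : D} (w : d₁ ⟶ d₀) {E' : Finset ((Gen f M).obj (op c))}
    (u' : ∀ e ∈ E', d₁ ⟶ e.1) (hE : E ⊆ E') (hu' : ∀ e he, u' e (hE he) = w ≫ u e he)
    {y : sc (FT O_C (Gen f M)) c} (hy : (toF (Gen f M) c y).support ⊆ E) :
    evalV f M (h ≫ g) E' u' y = vpush M w h (evalV f M g E u y) := by
  rw [eq_sum_fm y, map_sum, map_sum, map_sum]
  refine Finset.sum_congr rfl fun e he => ?_
  rw [evalV_smul_fm f M _ _ _ _ e (hE (hy he)), evalV_smul_fm f M g E u _ e (hy he), vpush_single, rsm_rsm, rsR_rsR,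
    hu' e (hy he)]

end Eval

lemma vecTo_single {c : C} {d : D} (α : c ⟶ f.fn.obj d) (x : sc M.val d) (r : rsec O_C c) :
    vecTo f M α (Finsupp.single x r) = r • ge f M α x :=
  Finsupp.linearCombination_single _ _ _

lemma vecTo_evalV {c c' : C} (g : c' ⟶ c) {d₀ : D} (β : c' ⟶ f.fn.obj d₀) (E : Finset ((Gen f M).obj (op c)))
    (u : ∀ e ∈ E, d₀ ⟶ e.1) (hu : ∀ e he, β ≫ f.fn.map (u e he) = g ≫ e.2.1)
    {y : sc (FT O_C (Gen f M)) c} (hy : (toF (Gen f M) c y).support ⊆ E) :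
    vecTo f M β (evalV f M g E u y) = rsm (Qp f M) g (apm (qpr f M) c y) := by
  rw [eq_sum_fm y, map_sum, map_sum, map_sum, map_sum]
  refine Finset.sum_congr rfl fun e he => ?_
  rw [evalV_smul_fm f M g E u _ e (hy he), vecTo_single, map_smul, rsm_smul, ge_rsm, hu e (hy he), ← rsm_ge]
  rfl

lemma vecTo_vpush {c c' : C} {d d' : D} (w : d' ⟶ d) (h : c' ⟶ c) (β : c ⟶ f.fn.obj d) (β' : c' ⟶ f.fn.obj d')
    (e : β' ≫ f.fn.map w = h ≫ β) (v : Vec (O_C := O_C) M d c) :
    vecTo f M β' (vpush M w h v) = rsm (Qp f M) h (vecTo f M β v) := by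
  induction v using Finsupp.induction_linear with
  | zero => simp
  | add a b ha hb => simp only [map_add, ha, hb]
  | single x a => rw [vpush_single, vecTo_single, vecTo_single, rsm_smul, ge_rsm, e, rsm_ge]

section Local

variable {f M} (hl : LocFiltered J K f.fn)
include hl

lemma exists_extend {c : C} {d₀ : D} (β : c ⟶ f.fn.obj d₀) {ι : Type u} (s : Finset ι) (dd : ι → D)
    (αα : ∀ i, c ⟶ f.fn.obj (dd i)) :
    ∃ S ∈ J c, ∀ ⦃c' : C⦄ (h : c' ⟶ c), S h → ∃ (d₁ : D) (w : d₁ ⟶ d₀) (β₁ : c' ⟶ f.fn.obj d₁)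
      (u : ∀ i ∈ s, d₁ ⟶ dd i), β₁ ≫ f.fn.map w = h ≫ β ∧ ∀ i hi, β₁ ≫ f.fn.map (u i hi) = h ≫ αα i := by
  classical
  induction s using Finset.induction_on with
  | empty => exact ⟨⊤, J.top_mem c, fun c' h _ => ⟨d₀, 𝟙 _, h ≫ β, fun i hi => absurd hi (Finset.notMem_empty i),
      by simp, fun i hi => absurd hi (Finset.notMem_empty i)⟩⟩
  | insert i₀ s hi₀ ih =>
    obtain ⟨S, hS, hS'⟩ := ih
    refine exists_refine hS fun c' h hh => ?_
    obtain ⟨d₁, w, β₁, u, hw, hu⟩ := hS' h hh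
    obtain ⟨T, hT, hT'⟩ := hl.pair c' d₁ (dd i₀) β₁ (h ≫ αα i₀)
    refine ⟨T, hT, fun c'' k hk => ?_⟩
    obtain ⟨d₂, w₁, w₂, β₂, e₁, e₂⟩ := hT' k hk
    refine ⟨d₂, w₁ ≫ w, β₂, fun i hi => if h' : i = i₀ then w₂ ≫ eqToHom (by rw [h']) else
      w₁ ≫ u i ((Finset.mem_insert.1 hi).resolve_left h'), ?_, fun i hi => ?_⟩
    · rw [Functor.map_comp, ← Category.assoc, e₁, Category.assoc, hw, Category.assoc]
    · dsimp only
      split_ifs with h'
      · subst h'
        simp [e₂]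
      · rw [Functor.map_comp, ← Category.assoc, e₁, Category.assoc, hu, Category.assoc]

lemma exists_equalize {c : C} {d₀ : D} (β : c ⟶ f.fn.obj d₀) :
    ∀ (L : List (Σ x : D, (d₀ ⟶ x) × (d₀ ⟶ x))), (∀ p ∈ L, β ≫ f.fn.map p.2.1 = β ≫ f.fn.map p.2.2) →
    ∃ S ∈ J c, ∀ ⦃c' : C⦄ (h : c' ⟶ c), S h → ∃ (d₁ : D) (w : d₁ ⟶ d₀) (β₁ : c' ⟶ f.fn.obj d₁),
      β₁ ≫ f.fn.map w = h ≫ β ∧ ∀ p ∈ L, w ≫ p.2.1 = w ≫ p.2.2
  | [], _ => ⟨⊤, J.top_mem c, fun c' h _ => ⟨d₀, 𝟙 _, h ≫ β, by simp, fun p hp => (List.not_mem_nil hp).elim⟩⟩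
  | p :: L, hL => by
    obtain ⟨S, hS, hS'⟩ := exists_equalize β L fun q hq => hL q (List.mem_cons_of_mem p hq)
    refine exists_refine hS fun c' h hh => ?_
    obtain ⟨d₁, w, β₁, hw, hw'⟩ := hS' h hh
    obtain ⟨T, hT, hT'⟩ := hl.equalize c' d₁ p.1 (w ≫ p.2.1) (w ≫ p.2.2) β₁ (by
      rw [Functor.map_comp, Functor.map_comp, ← Category.assoc, hw, Category.assoc, hL p List.mem_cons_self,
        ← Category.assoc, ← hw, Category.assoc])
    refine ⟨T, hT, fun c'' k hk => ?_⟩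
    obtain ⟨d₂, w₁, β₂, hw₁, e⟩ := hT' k hk
    refine ⟨d₂, w₁ ≫ w, β₂, by rw [Functor.map_comp, ← Category.assoc, e, Category.assoc, hw, Category.assoc],
      fun q hq => ?_⟩
    rcases List.mem_cons.1 hq with rfl | hq
    · simpa using hw₁
    · rw [Category.assoc, Category.assoc, hw' q hq]

omit hl in
/-- A formal sum which vanishes in every chart, locally. -/
def Null {c : C} (y : sc (FT O_C (Gen f M)) c) : Prop :=
  ∀ (E : Finset ((Gen f M).obj (op c))), (toF (Gen f M) c y).support ⊆ E → ∀ ⦃c' : C⦄ (g : c' ⟶ c) ⦃d₀ : D⦄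
    (β : c' ⟶ f.fn.obj d₀) (u : ∀ e ∈ E, d₀ ⟶ e.1), (∀ e he, β ≫ f.fn.map (u e he) = g ≫ e.2.1) →
    ∃ S ∈ J c', ∀ ⦃c'' : C⦄ (h : c'' ⟶ c'), S h → ∃ (d₁ : D) (w : d₁ ⟶ d₀) (β₁ : c'' ⟶ f.fn.obj d₁),
      β₁ ≫ f.fn.map w = h ≫ β ∧ vpush M w h (evalV f M g E u y) ∈ rel₀ f M β₁

lemma null_of_ext {c : C} {y : sc (FT O_C (Gen f M)) c} (E₁ : Finset ((Gen f M).obj (op c)))
    (h : ∀ (E : Finset ((Gen f M).obj (op c))), E₁ ⊆ E → (toF (Gen f M) c y).support ⊆ E → ∀ ⦃c' : C⦄ (g : c' ⟶ c)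
      ⦃d₀ : D⦄ (β : c' ⟶ f.fn.obj d₀) (u : ∀ e ∈ E, d₀ ⟶ e.1), (∀ e he, β ≫ f.fn.map (u e he) = g ≫ e.2.1) →
      ∃ S ∈ J c', ∀ ⦃c'' : C⦄ (h : c'' ⟶ c'), S h → ∃ (d₁ : D) (w : d₁ ⟶ d₀) (β₁ : c'' ⟶ f.fn.obj d₁),
        β₁ ≫ f.fn.map w = h ≫ β ∧ vpush M w h (evalV f M g E u y) ∈ rel₀ f M β₁) : Null y := by
  classical
  intro E hE c' g d₀ β u hu
  obtain ⟨S, hS, hS'⟩ := exists_extend hl β E₁ (fun e => e.1) (fun e => g ≫ e.2.1)
  refine exists_refine hS fun c₁ k hk => ?_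
  obtain ⟨d₁, w, β₁, u₁, hw, hu₁⟩ := hS' k hk
  let u' : ∀ e ∈ E ∪ E₁, d₁ ⟶ e.1 := fun e he =>
    if h' : e ∈ E then w ≫ u e h' else u₁ e ((Finset.mem_union.1 he).resolve_left h')
  obtain ⟨T, hT, hT'⟩ := h (E ∪ E₁) Finset.subset_union_right (hE.trans Finset.subset_union_left) (k ≫ g) β₁ u'
    fun e he => by
      simp only [u']
      split_ifs with h'
      · rw [Functor.map_comp, ← Category.assoc, hw, Category.assoc, hu e h', Category.assoc]
      · rw [hu₁, Category.assoc]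
  refine ⟨T, hT, fun c₂ l hl' => ?_⟩
  obtain ⟨d₂, w₂, β₂, hw₂, hmem⟩ := hT' l hl'
  rw [evalV_refine f M g E u k w u' Finset.subset_union_left (fun e he => dif_pos he) hE, vpush_vpush] at hmem
  exact ⟨d₂, w₂ ≫ w, β₂, by rw [Functor.map_comp, ← Category.assoc, hw₂, Category.assoc, hw, Category.assoc], hmem⟩

lemma Null.add {c : C} {y₁ y₂ : sc (FT O_C (Gen f M)) c} (h₁ : Null y₁) (h₂ : Null y₂) : Null (y₁ + y₂) := by
  classical
  refine null_of_ext hl ((toF (Gen f M) c y₁).support ∪ (toF (Gen f M) c y₂).support) fun E hE _ c' g d₀ β u hu => ?_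
  obtain ⟨S, hS, hS'⟩ := h₁ E (Finset.subset_union_left.trans hE) g β u hu
  refine exists_refine hS fun c₁ k hk => ?_
  obtain ⟨d₁, w, β₁, hw, hm⟩ := hS' k hk
  obtain ⟨T, hT, hT'⟩ := h₂ E (Finset.subset_union_right.trans hE) (k ≫ g) β₁ (fun e he => w ≫ u e he)
    fun e he => by rw [Functor.map_comp, ← Category.assoc, hw, Category.assoc, hu, Category.assoc]
  refine ⟨T, hT, fun c₂ l hl' => ?_⟩
  obtain ⟨d₂, w₂, β₂, hw₂, hm₂⟩ := hT' l hl'
  rw [evalV_refine f M g E u k w _ (Finset.Subset.refl E) (fun _ _ => rfl) (Finset.subset_union_right.trans hE),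
    vpush_vpush] at hm₂
  refine ⟨d₂, w₂ ≫ w, β₂, by rw [Functor.map_comp, ← Category.assoc, hw₂, Category.assoc, hw, Category.assoc], ?_⟩
  rw [map_add, map_add]
  refine add_mem ?_ hm₂
  rw [← vpush_vpush]
  exact vpush_mem_rel₀ f M w₂ l β₁ β₂ hw₂ hm

lemma Null.smul {c : C} {y : sc (FT O_C (Gen f M)) c} (h₁ : Null y) (r : rsec O_C c) : Null (r • y) := by
  refine null_of_ext hl (toF (Gen f M) c y).support fun E hE _ c' g d₀ β u hu => ?_
  obtain ⟨S, hS, hS'⟩ := h₁ E hE g β u hu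
  refine ⟨S, hS, fun c₁ k hk => ?_⟩
  obtain ⟨d₁, w, β₁, hw, hm⟩ := hS' k hk
  exact ⟨d₁, w, β₁, hw, by rw [evalV_smul, vpush_smul]; exact Submodule.smul_mem _ _ hm⟩

omit hl in
lemma Null.zero {c : C} : Null (0 : sc (FT O_C (Gen f M)) c) :=
  fun E _ c' g d₀ β u _ => ⟨⊤, J.top_mem c', fun c'' h _ => ⟨d₀, 𝟙 _, h ≫ β, by simp, by simp⟩⟩

lemma null_relElt {c : C} (i : (Rl f M).obj (op c)) : Null (relElt f M c i) := by
  classical
  rcases i with ⟨d, α, r, hr⟩ | ⟨d, d', v, α, x⟩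
  · refine null_of_ext hl (r.support.image fun x => gn f M α x) fun E hE _ c' g d₀ β u hu => ?_
    have hmem : ∀ x ∈ r.support, gn f M α x ∈ E := fun x hx => hE (Finset.mem_image_of_mem _ hx)
    change ∃ S ∈ J c', ∀ ⦃c'' : C⦄ (h : c'' ⟶ c'), S h → ∃ (d₁ : D) (w : d₁ ⟶ d₀) (β₁ : c'' ⟶ f.fn.obj d₁),
      β₁ ≫ f.fn.map w = h ≫ β ∧ vpush M w h (evalV f M g E u (r.sum fun x a => sha f α a • fm (gn f M α x))) ∈ rel₀ f M β₁
    rcases r.support.eq_empty_or_nonempty with h0 | ⟨x₀, hx₀⟩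
    · exact ⟨⊤, J.top_mem c', fun c'' h _ => ⟨d₀, 𝟙 _, h ≫ β, by simp, by simp [Finsupp.sum, h0]⟩⟩
    obtain ⟨S, hS, hS'⟩ := exists_equalize hl β
      (r.support.attach.toList.map fun (x : {x // x ∈ r.support}) =>
        (⟨d, u (gn f M α x.1) (hmem x.1 x.2), u (gn f M α x₀) (hmem x₀ hx₀)⟩ : Σ x : D, (d₀ ⟶ x) × (d₀ ⟶ x))) (by
        intro p hp
        obtain ⟨x, -, rfl⟩ := List.mem_map.1 hp
        exact (hu _ (hmem x.1 x.2)).trans (hu _ (hmem x₀ hx₀)).symm)
    refine ⟨S, hS, fun c₁ k hk => ?_⟩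
    obtain ⟨d₁, w, β₁, hw, hweq⟩ := hS' k hk
    let z : d₁ ⟶ d := w ≫ u (gn f M α x₀) (hmem x₀ hx₀)
    refine ⟨d₁, w, β₁, hw, Submodule.subset_span ⟨(r.mapRange (rsR z) (map_zero _)).mapDomain (rsm M.val z), ?_, ?_⟩⟩
    · rw [SetLike.mem_coe, LinearMap.mem_ker, comb_transport, LinearMap.mem_ker.1 hr, map_zero]
    · have key : ∀ x ∈ r.support, vpush M w k (evalV f M g E u (sha f α (r x) • fm (gn f M α x))) =
          Finsupp.single (rsm M.val z x) (sha f β₁ (rsR z (r x))) := fun x hx => by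
        rw [evalV_smul_fm f M g E u _ _ (hmem x hx), vpush_single, rsm_rsm, rsR_sha, rsR_sha, sha_rsR]
        have e := hweq _ (List.mem_map.2 ⟨⟨x, hx⟩, by simp, rfl⟩)
        dsimp at e
        change Finsupp.single (rsm M.val (w ≫ _) x) _ = _
        rw [e]
        simp only [z, Functor.map_comp, ← Category.assoc, hw]
        rw [Category.assoc, Category.assoc, hu]
      dsimp only
      conv_lhs => rw [← Finsupp.sum_single r]
      simp only [Finsupp.sum, map_sum, Finsupp.mapRange_finsetSum, Finsupp.mapDomain_finsetSum, Finsupp.mapRange_single,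
        Finsupp.mapDomain_single]
      exact Finset.sum_congr rfl fun x hx => (key x hx).symm
  · refine null_of_ext hl {gn f M α (rsm M.val v x), gn f M (α ≫ f.fn.map v) x} fun E hE _ c' g d₀ β u hu => ?_
    have h₁ : gn f M α (rsm M.val v x) ∈ E := hE (by simp)
    have h₂ : gn f M (α ≫ f.fn.map v) x ∈ E := hE (by simp)
    obtain ⟨S, hS, hS'⟩ := hl.equalize c' d₀ d (u _ h₁ ≫ v) (u _ h₂) β (by
      rw [Functor.map_comp, ← Category.assoc, hu, hu, Category.assoc])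
    refine ⟨S, hS, fun c₁ k hk => ?_⟩
    obtain ⟨d₁, w, β₁, hweq, hw⟩ := hS' k hk
    refine ⟨d₁, w, β₁, hw, ?_⟩
    change vpush M w k (evalV f M g E u (fm _ - fm _)) ∈ _
    rw [map_sub, evalV_fm f M g E u _ h₁, evalV_fm f M g E u _ h₂, map_sub, vpush_single, vpush_single, rsm_rsm,
      rsm_rsm, rsm_rsm, Category.assoc, hweq, sub_self]
    exact zero_mem _

lemma null_of_qpr_eq_zero {c : C} {y : sc (FT O_C (Gen f M)) c} (hy : apm (qpr f M) c y = 0) : Null y := by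
  obtain ⟨z, rfl⟩ := exists_pres_of_qpr_eq_zero f M hy
  rw [eq_sum_fm z, map_sum]
  refine Finset.sum_induction _ _ (fun a b ha hb => ha.add hl hb) Null.zero fun i _ => ?_
  rw [map_smul, pres_fm]
  exact (null_relElt hl i).smul hl _

/-- A vanishing vector is locally a combination of relations over a single object. -/
lemma exists_rel₀ {c : C} {d : D} (α : c ⟶ f.fn.obj d) (v : Vec (O_C := O_C) M d c) (hv : vecTo f M α v = 0) :
    ∃ S ∈ J c, ∀ ⦃c' : C⦄ (h : c' ⟶ c), S h → ∃ (d₁ : D) (w : d₁ ⟶ d) (β₁ : c' ⟶ f.fn.obj d₁),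
      β₁ ≫ f.fn.map w = h ≫ α ∧ vpush M w h v ∈ rel₀ f M β₁ := by
  classical
  let y : sc (FT O_C (Gen f M)) c := ∑ x ∈ v.support, v x • fm (gn f M α x)
  let E := v.support.image fun x => gn f M α x
  have hE : ∀ e ∈ E, e.1 = d := fun e he => by
    obtain ⟨x, -, rfl⟩ := Finset.mem_image.1 he
    rfl
  have hy : (toF (Gen f M) c y).support ⊆ E := fun e he => by
    simp only [y, map_sum, map_smul, toF_fm, Finsupp.smul_single, smul_eq_mul, mul_one] at he
    obtain ⟨x, hx, hxe⟩ := Finsupp.mem_support_finsetSum e he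
    exact Finset.mem_image.2 ⟨x, hx, ((Finsupp.mem_support_single _ _ _).1 hxe).1.symm⟩
  have h0 : apm (qpr f M) c y = 0 := by
    rw [← hv, vecTo, Finsupp.linearCombination_apply]
    simp only [y, map_sum, map_smul]
    rfl
  have hu : ∀ e (he : e ∈ E), α ≫ f.fn.map (eqToHom (hE e he).symm) = 𝟙 c ≫ e.2.1 := fun e he => by
    obtain ⟨x, -, rfl⟩ := Finset.mem_image.1 he
    simp
  obtain ⟨S, hS, hS'⟩ := null_of_qpr_eq_zero hl h0 E hy (𝟙 c) α (fun e he => eqToHom (hE e he).symm) hu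
  refine ⟨S, hS, fun c' h hh => ?_⟩
  obtain ⟨d₁, w, β₁, hw, hm⟩ := hS' h hh
  refine ⟨d₁, w, β₁, hw, ?_⟩
  suffices e : evalV f M (𝟙 c) E (fun e he => eqToHom (hE e he).symm) y = v by rwa [e] at hm
  conv_rhs => rw [← Finsupp.sum_single v]
  simp only [y, map_sum, Finsupp.sum]
  refine Finset.sum_congr rfl fun x hx => ?_
  rw [evalV_smul_fm f M _ _ _ _ _ (Finset.mem_image_of_mem _ hx), rsR_id]
  simp [rsm_id]

/-- Locally, finitely many sections come from a single object. -/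
lemma exists_repr {c : C} {n : ℕ} (q : Fin n → sc (Qp f M) c) :
    ∃ S ∈ J c, ∀ ⦃c' : C⦄ (h : c' ⟶ c), S h → ∃ (d : D) (β : c' ⟶ f.fn.obj d) (v : Fin n → Vec (O_C := O_C) M d c'),
      ∀ j, rsm (Qp f M) h (q j) = vecTo f M β (v j) := by
  classical
  choose y hy using fun j => qpr_surjective f M c (q j)
  obtain ⟨S, hS, hS'⟩ := hl.nonempty c
  refine exists_refine hS fun c' g hg => ?_
  obtain ⟨d₀, ⟨β⟩⟩ := hS' g hg
  let E := Finset.univ.biUnion fun j => (toF (Gen f M) c (y j)).support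
  obtain ⟨T, hT, hT'⟩ := exists_extend hl β E (fun e => e.1) (fun e => g ≫ e.2.1)
  refine ⟨T, hT, fun c'' k hk => ?_⟩
  obtain ⟨d₁, w, β₁, u, -, hu⟩ := hT' k hk
  refine ⟨d₁, β₁, fun j => evalV f M (k ≫ g) E u (y j), fun j => ?_⟩
  rw [← hy j]
  exact (vecTo_evalV f M (k ≫ g) β₁ E u (fun e he => by rw [hu, Category.assoc])
    (Finset.subset_biUnion_of_mem (fun j => (toF (Gen f M) c (y j)).support) (Finset.mem_univ j))).symm

end Local

end Groth.SitesTopoi.ModH
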