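import Groth.Agent.SitesTopoi.Mod.SpaceGerm

/-!
Sheaves of modules of finite type and of finite presentation on topological spaces, through sections.
-/

set_option autoImplicit false

universe u

open CategoryTheory CategoryTheory.Limits Opposite TopologicalSpace

set_option backward.defeqAttrib.useBackward true
set_option backward.isDefEq.respectTransparency false
set_option backward.isDefEq.respectTransparency.types false
set_option synthInstance.maxHeartbeats 400000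

namespace Groth.SitesTopoi.SpaceFT

open Groth.SitesTopoi.ModH Groth.AdicLinTop.SpacePres Groth.SitesTopoi.SpaceGerm

variable {T : Type u} [TopologicalSpace T] {O : Sheaf (Opens.grothendieckTopology T) CommRingCat.{u}}
  {F G : ModSite.Mod O}

/-! ### Elementary properties of sections -/

lemma rm_apm (φ : G ⟶ F) {U V : Opens T} (h : V ≤ U) (s : sc G.val U) :
    rm F h (apm φ.val U s) = apm φ.val V (rm G h s) := (apm_rsm φ.val (homOfLE h) s).symm

lemma rm_comb {U V : Opens T} (h : V ≤ U) {ι : Type*} [Fintype ι] (a : ι → rsec O U) (s : ι → sc F.val U) :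
    rm F h (∑ i, a i • s i) = ∑ i, rr h (a i) • rm F h (s i) :=
  (map_sum _ _ _).trans (Finset.sum_congr rfl fun i _ => rm_smul F h _ _)

lemma apm_comb (φ : G ⟶ F) {U : Opens T} {ι : Type*} [Fintype ι] (a : ι → rsec O U) (s : ι → sc G.val U) :
    apm φ.val U (∑ i, a i • s i) = ∑ i, a i • apm φ.val U (s i) :=
  (map_sum _ _ _).trans (Finset.sum_congr rfl fun i _ => map_smul _ _ _)

lemma ext_local {U : Opens T} {s t : sc F.val U}
    (h : ∀ y ∈ U, ∃ (V : Opens T) (hV : V ≤ U), y ∈ V ∧ rm F hV s = rm F hV t) : s = t := by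
  refine sub_eq_zero.1 (eq_zero_of_local fun y hy => ?_)
  obtain ⟨V, hV, hyV, e⟩ := h y hy
  exact ⟨V, hV, hyV, by rw [map_sub, e, sub_self]⟩

lemma rext_local {U : Opens T} {s t : rsec O U}
    (h : ∀ y ∈ U, ∃ (V : Opens T) (hV : V ≤ U), y ∈ V ∧ rr hV s = rr hV t) : s = t :=
  ext_local (F := ModSite.unit O) h

/-! ### Local surjectivity -/

lemma nhds_of_epi (φ : G ⟶ F) [Epi φ] {W : Opens T} (t : sc F.val W) {y : T} (hy : y ∈ W) :
    ∃ (V : Opens T) (hV : V ≤ W), y ∈ V ∧ ∃ p, apm φ.val V p = rm F hV t := by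
  obtain ⟨S, hS, hS'⟩ := locSurj_of_epi φ W t
  obtain ⟨V, hV, hyV, hSV⟩ := exists_nhd_of_mem hS hy
  exact ⟨V, hV, hyV, hS' _ hSV⟩

lemma epi_restr_of_nhds (φ : G ⟶ F) (U : Opens T)
    (h : ∀ (W : Opens T), W ≤ U → ∀ (t : sc F.val W), ∀ y ∈ W,
      ∃ (V : Opens T) (hV : V ≤ W), y ∈ V ∧ ∃ p, apm φ.val V p = rm F hV t) :
    Epi ((ModSite.restr O U).map φ) :=
  epi_of_locSurj _ (locSurj_of_nhds _ fun W q y hy => h W.left W.hom.le q y hy)

lemma epi_of_nhds (φ : G ⟶ F)
    (h : ∀ (W : Opens T) (t : sc F.val W), ∀ y ∈ W,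
      ∃ (V : Opens T) (hV : V ≤ W), y ∈ V ∧ ∃ p, apm φ.val V p = rm F hV t) : Epi φ := by
  refine ⟨fun {R} a b e => mod_hom_ext fun W q => ext_local fun y hy => ?_⟩
  obtain ⟨V, hV, hyV, p, hp⟩ := h W q y hy
  refine ⟨V, hV, hyV, ?_⟩
  rw [rm_apm, rm_apm, ← hp]
  exact congrArg (fun k => apm (SheafOfModules.Hom.val k) V p) e

lemma exists_lifts_of_epi (φ : G ⟶ F) [Epi φ] {U : Opens T} {x : T} (hx : x ∈ U) {ι : Type*} [Finite ι]
    (s : ι → sc F.val U) :
    ∃ (V : Opens T) (hV : V ≤ U), x ∈ V ∧ ∃ u : ι → sc G.val V, ∀ i, apm φ.val V (u i) = rm F hV (s i) := by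
  obtain ⟨V, hV, hxV, h⟩ := exists_nhd_forall hx
    (fun i V => ∀ (V' : Opens T) (hV' : V' ≤ U), V' ≤ V → ∃ p, apm φ.val V' p = rm F hV' (s i))
    (fun i V V' hle h V'' h1 h2 => h V'' h1 (h2.trans hle))
    (fun i => by
      obtain ⟨V, hV, hxV, p, hp⟩ := nhds_of_epi φ (s i) hx
      exact ⟨V, hV, hxV, fun V' hV' hle => ⟨rm G hle p, by rw [← rm_apm, hp, rm_rm]⟩⟩)
  choose u hu using fun i => h i V hV le_rfl
  exact ⟨V, hV, hxV, u, hu⟩

lemma exists_kernel_preimage (φ : G ⟶ F) {U : Opens T} (t : sc G.val U) (ht : apm φ.val U t = 0) :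
    ∃ z, apm (kernel.ι φ).val U z = t := by
  let S : ShortComplex (ModSite.Mod O) := ShortComplex.mk (kernel.ι φ) φ (kernel.condition φ)
  have hex : S.Exact := ShortComplex.exact_of_f_is_kernel _ (kernelIsKernel φ)
  have : (forgetP O).IsRightAdjoint := (adjP O).isRightAdjoint
  let E := forgetP O ⋙ PresheafOfModules.evaluation _ (op U)
  have hlim : PreservesFiniteLimits E := comp_preservesFiniteLimits _ _
  have hadd : E.Additive := ⟨fun {_ _ _ _} => rfl⟩
  have hh := E.preservesFiniteLimits_tfae.out 3 1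
  exact (ShortComplex.moduleCat_exact_iff _).1 (hh.1 hlim S ⟨hex, inferInstance⟩).1 t ht

lemma exists_local_preimage {S : ShortComplex (ModSite.Mod O)} (hS : S.Exact) {W : Opens T}
    (t : sc S.X₂.val W) (ht : apm S.g.val W t = 0) {y : T} (hy : y ∈ W) :
    ∃ (V : Opens T) (hV : V ≤ W), y ∈ V ∧ ∃ w, apm S.f.val V w = rm S.X₂ hV t := by
  obtain ⟨z, hz⟩ := exists_kernel_preimage S.g t ht
  have := hS.epi_kernelLift
  obtain ⟨V, hV, hyV, w, hw⟩ := nhds_of_epi (kernel.lift S.g S.f S.zero) z hy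
  refine ⟨V, hV, hyV, w, ?_⟩
  have e := congrArg (fun k => apm (SheafOfModules.Hom.val k) V w) (kernel.lift_ι S.g S.f S.zero)
  refine e.symm.trans ?_
  show apm (kernel.ι S.g).val V (apm (kernel.lift S.g S.f S.zero).val V w) = _
  rw [hw, ← rm_apm, hz]

/-! ### Generators -/

/-- Sections generating a module near every point of an open. -/
def Gens {U : Opens T} {ι : Type*} [Fintype ι] (s : ι → sc F.val U) : Prop :=
  ∀ (W : Opens T) (hW : W ≤ U) (t : sc F.val W), ∀ y ∈ W,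
    ∃ (V : Opens T) (hV : V ≤ W), y ∈ V ∧ ∃ a : ι → rsec O V,
      rm F hV t = ∑ i, a i • rm F (hV.trans hW) (s i)

lemma Gens.restrict {U U' : Opens T} {ι : Type*} [Fintype ι] {s : ι → sc F.val U} (hs : Gens s) (h : U' ≤ U) :
    Gens (fun i => rm F h (s i)) := fun W hW t y hy => by
  obtain ⟨V, hV, hyV, a, ha⟩ := hs W (hW.trans h) t y hy
  exact ⟨V, hV, hyV, a, ha.trans (Finset.sum_congr rfl fun i _ => by rw [rm_rm])⟩

lemma gens_of_genData {U : Opens T} {n : ℕ} (P : GenData F U n) : Gens P.s := P.gen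

/-- Generators indexed by a finite type. -/
noncomputable def genData {U : Opens T} {ι : Type*} [Fintype ι] {s : ι → sc F.val U} (hs : Gens s) :
    GenData F U (Fintype.card ι) where
  s i := s ((Fintype.equivFin ι).symm i)
  gen W hW t y hy := by
    obtain ⟨V, hV, hyV, a, ha⟩ := hs W hW t y hy
    refine ⟨V, hV, hyV, fun i => a ((Fintype.equivFin ι).symm i), ha.trans ?_⟩
    exact (Equiv.sum_comp (Fintype.equivFin ι).symm fun i => a i • rm F (hV.trans hW) (s i)).symm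

theorem isFiniteType_of_gens
    (h : ∀ x : T, ∃ (U : Opens T) (_ : x ∈ U) (ι : Type) (_ : Fintype ι) (s : ι → sc F.val U), Gens s) :
    SheafOfModules.IsFiniteType.{u} (R := ModSite.ringSh O) F := by
  refine isFiniteType_of_genData fun x => ?_
  obtain ⟨U, hx, ι, _, s, hs⟩ := h x
  exact ⟨U, _, hx, ⟨genData hs⟩⟩

theorem exists_gens [hF : SheafOfModules.IsFiniteType.{u} (R := ModSite.ringSh O) F] (x : T) :
    ∃ (U : Opens T) (_ : x ∈ U) (n : ℕ) (s : Fin n → sc F.val U), Gens s := by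
  obtain ⟨σ, hσ⟩ := hF.exists_localGeneratorsData
  obtain ⟨k, hk⟩ : ∃ k, x ∈ σ.X k := by
    have := σ.coversTop
    rw [Opens.coversTop_iff] at this
    exact Opens.mem_iSup.mp ((this ▸ trivial : x ∈ iSup σ.X))
  let γ : ((ModSite.restr O (σ.X k)).obj F).GeneratingSections := σ.generators k
  have : γ.IsFiniteType := hσ.isFiniteType k
  obtain ⟨n, P, -, -⟩ := nonempty_genData γ
  exact ⟨σ.X k, hk, n, P.s, gens_of_genData P⟩

lemma exists_coeffs {U : Opens T} {ι : Type*} [Fintype ι] {s : ι → sc F.val U} (hs : Gens s)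
    {W : Opens T} (hW : W ≤ U) {κ : Type*} [Finite κ] (t : κ → sc F.val W) {y : T} (hy : y ∈ W) :
    ∃ (V : Opens T) (hV : V ≤ W), y ∈ V ∧ ∃ a : κ → ι → rsec O V,
      ∀ k, rm F hV (t k) = ∑ i, a k i • rm F (hV.trans hW) (s i) := by
  obtain ⟨V, hV, hyV, h⟩ := exists_nhd_forall hy
    (fun k V => ∀ (V' : Opens T) (hV' : V' ≤ W), V' ≤ V → ∃ a : ι → rsec O V',
      rm F hV' (t k) = ∑ i, a i • rm F (hV'.trans hW) (s i))
    (fun k V V' hle h V'' h1 h2 => h V'' h1 (h2.trans hle))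
    (fun k => by
      obtain ⟨V, hV, hyV, a, ha⟩ := hs W hW (t k) y hy
      refine ⟨V, hV, hyV, fun V' hV' hle => ⟨fun i => rr hle (a i), ?_⟩⟩
      have e := congrArg (rm F hle) ha
      rw [rm_rm, rm_comb] at e
      exact e.trans (Finset.sum_congr rfl fun i _ => by rw [rm_rm]))
  choose a ha using fun k => h k V hV le_rfl
  exact ⟨V, hV, hyV, a, ha⟩

/-- Germs of generators span the stalk. -/
lemma exists_gm_eq {U : Opens T} {ι : Type*} [Fintype ι] {s : ι → sc F.val U} (hs : Gens s) {x : T} (hx : x ∈ U)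
    (m : ModSite.stalkAb (pt x) F) : ∃ c : ι → ModSite.stalkRing (pt x) O, m = ∑ i, c i • gm F hx (s i) := by
  obtain ⟨W, hW, t, rfl⟩ := gm_surj m
  obtain ⟨V, hV, hxV, a, ha⟩ := hs (U ⊓ W) inf_le_left (rm F inf_le_right t) x ⟨hx, hW⟩
  refine ⟨fun i => gr hxV (a i), ?_⟩
  have e := congrArg (gm F hxV) ha
  rw [gm_comb] at e
  simp only [gm_rm] at e
  exact e

end Groth.SitesTopoi.SpaceFT
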