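import Groth.Agent.AdicLinTop.SpacePres
import Groth.Agent.SitesTopoi.Mod.Stalks
import Mathlib.Topology.Sheaves.Points
import Mathlib.Topology.Sheaves.Stalks

/-!
Germs of sections of sheaves of modules on topological spaces.
-/

set_option autoImplicit false

universe u

open CategoryTheory CategoryTheory.Limits Opposite TopologicalSpace

set_option backward.defeqAttrib.useBackward true
set_option backward.isDefEq.respectTransparency false
set_option backward.isDefEq.respectTransparency.types false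
set_option synthInstance.maxHeartbeats 400000

namespace Groth.SitesTopoi.SpaceGerm

open Groth.SitesTopoi.ModH Groth.AdicLinTop.SpacePres

variable {T : Type u} [TopologicalSpace T] {O : Sheaf (Opens.grothendieckTopology T) CommRingCat.{u}}

/-- The point of the site of opens at a point of the space. -/
abbrev pt (x : T) : GrothendieckTopology.Point.{u} (Opens.grothendieckTopology T) :=
  Opens.pointGrothendieckTopology x

/-- The germ of a section. -/
noncomputable abbrev gm (F : ModSite.Mod O) {U : Opens T} {x : T} (hx : x ∈ U) :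
    sc F.val U →+ ModSite.stalkAb (pt x) F := gM (pt x) F U ⟨⟨hx⟩⟩

/-- The germ of a function. -/
noncomputable abbrev gr {U : Opens T} {x : T} (hx : x ∈ U) : rsec O U →+* ModSite.stalkRing (pt x) O :=
  gR (pt x) U ⟨⟨hx⟩⟩

variable {x : T} {F G : ModSite.Mod O}

lemma gm_rm {U V : Opens T} (h : V ≤ U) (hx : x ∈ V) (s : sc F.val U) :
    gm F hx (rm F h s) = gm F (h hx) s :=
  gM_res (pt x) F (homOfLE h) ⟨⟨hx⟩⟩ s

lemma gr_rr {U V : Opens T} (h : V ≤ U) (hx : x ∈ V) (r : rsec O U) :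
    gr hx (rr h r) = gr (O := O) (h hx) r :=
  gR_res (pt x) (homOfLE h) ⟨⟨hx⟩⟩ r

lemma gm_smul {U : Opens T} (hx : x ∈ U) (r : rsec O U) (s : sc F.val U) :
    gm F hx (r • s) = gr hx r • gm F hx s := gM_smul (pt x) F U _ r s

lemma gm_comb {U : Opens T} (hx : x ∈ U) {ι : Type*} (I : Finset ι) (a : ι → rsec O U) (s : ι → sc F.val U) :
    gm F hx (∑ i ∈ I, a i • s i) = ∑ i ∈ I, gr hx (a i) • gm F hx (s i) :=
  (map_sum _ _ _).trans (Finset.sum_congr rfl fun i _ => gm_smul hx _ _)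

lemma gm_surj (m : ModSite.stalkAb (pt x) F) : ∃ (U : Opens T) (hx : x ∈ U) (s : sc F.val U), gm F hx s = m := by
  obtain ⟨U, ⟨⟨hU⟩⟩, s, hs⟩ := gM_surj (pt x) F m
  exact ⟨U, hU, s, hs⟩

lemma gr_surj (m : ModSite.stalkRing (pt x) O) : ∃ (U : Opens T) (hx : x ∈ U) (r : rsec O U), gr hx r = m := by
  obtain ⟨U, ⟨⟨hU⟩⟩, s, hs⟩ := gR_surj (pt x) m
  exact ⟨U, hU, s, hs⟩

lemma gm_eq {U : Opens T} (hx : x ∈ U) {s t : sc F.val U} (h : gm F hx s = gm F hx t) :
    ∃ (V : Opens T) (hV : V ≤ U), x ∈ V ∧ rm F hV s = rm F hV t := by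
  obtain ⟨V, g, ⟨⟨hxV⟩⟩, -, e⟩ := ((pt x).toPresheafFiber_eq_iff' (P := (ModSite.toAb F).obj) U _ s t).1 h
  exact ⟨V, g.le, hxV, e⟩

/-- A finite family of neighbourhood conditions is satisfied on one neighbourhood. -/
lemma exists_nhd_forall {ι : Type*} [Finite ι] {U : Opens T} (hx : x ∈ U) (P : ι → Opens T → Prop)
    (hmono : ∀ i V V', V' ≤ V → P i V → P i V') (h : ∀ i, ∃ V, V ≤ U ∧ x ∈ V ∧ P i V) :
    ∃ V, V ≤ U ∧ x ∈ V ∧ ∀ i, P i V := by
  choose V hV hxV hP using h
  have : Fintype ι := Fintype.ofFinite ι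
  classical
  have key : ∀ s : Finset ι, x ∈ U ⊓ s.inf V := fun s => by
    induction s using Finset.induction_on with
    | empty => exact ⟨hx, trivial⟩
    | insert a s _ ih => rw [Finset.inf_insert]; exact ⟨hx, hxV a, ih.2⟩
  exact ⟨U ⊓ Finset.univ.inf V, inf_le_left, key _,
    fun i => hmono i _ _ (inf_le_right.trans (Finset.inf_le (Finset.mem_univ i))) (hP i)⟩

lemma gm_eq_fin {U : Opens T} (hx : x ∈ U) {ι : Type*} [Finite ι] {s t : ι → sc F.val U}
    (h : ∀ i, gm F hx (s i) = gm F hx (t i)) :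
    ∃ (V : Opens T) (hV : V ≤ U), x ∈ V ∧ ∀ i, rm F hV (s i) = rm F hV (t i) := by
  obtain ⟨V, hV, hxV, e⟩ := exists_nhd_forall hx
    (fun i V => ∀ W (hW : W ≤ U), W ≤ V → rm F hW (s i) = rm F hW (t i))
    (fun i V V' hle h W hW hW' => h W hW (hW'.trans hle))
    (fun i => by
      obtain ⟨V, hV, hxV, e⟩ := gm_eq hx (h i)
      refine ⟨V, hV, hxV, fun W hW hW' => ?_⟩
      have h1 := congrArg (rm F hW') e
      rwa [rm_rm, rm_rm] at h1)
  exact ⟨V, hV, hxV, fun i => e i V hV le_rfl⟩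

/-- Finitely many germs have representatives on one neighbourhood. -/
lemma exists_reps {ι : Type*} [Finite ι] {U : Opens T} (hx : x ∈ U) (m : ι → ModSite.stalkAb (pt x) F) :
    ∃ (V : Opens T) (_ : V ≤ U) (hxV : x ∈ V) (s : ι → sc F.val V), ∀ i, gm F hxV (s i) = m i := by
  obtain ⟨V, hV, hxV, h⟩ := exists_nhd_forall hx
    (fun i V => ∀ hxV : x ∈ V, ∃ s : sc F.val V, gm F hxV s = m i)
    (fun i V V' hle h hxV' => by
      obtain ⟨s, hs⟩ := h (hle hxV')
      exact ⟨rm F hle s, (gm_rm hle hxV' s).trans hs⟩)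
    (fun i => by
      obtain ⟨W, hW, s, hs⟩ := gm_surj (m i)
      exact ⟨U ⊓ W, inf_le_left, ⟨hx, hW⟩, fun h' => ⟨rm F inf_le_right s, (gm_rm _ h' s).trans hs⟩⟩)
  choose s hs using fun i => h i hxV
  exact ⟨V, hV, hxV, s, hs⟩

/-- Finitely many germs of functions have representatives on one neighbourhood. -/
lemma exists_rreps {ι : Type*} [Finite ι] {U : Opens T} (hx : x ∈ U) (m : ι → ModSite.stalkRing (pt x) O) :
    ∃ (V : Opens T) (_ : V ≤ U) (hxV : x ∈ V) (s : ι → rsec O V), ∀ i, gr hxV (s i) = m i := by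
  obtain ⟨V, hV, hxV, h⟩ := exists_nhd_forall hx
    (fun i V => ∀ hxV : x ∈ V, ∃ s : rsec O V, gr hxV s = m i)
    (fun i V V' hle h hxV' => by
      obtain ⟨s, hs⟩ := h (hle hxV')
      exact ⟨rr hle s, (gr_rr hle hxV' s).trans hs⟩)
    (fun i => by
      obtain ⟨W, hW, s, hs⟩ := gr_surj (m i)
      exact ⟨U ⊓ W, inf_le_left, ⟨hx, hW⟩, fun h' => ⟨rr inf_le_right s, (gr_rr _ h' s).trans hs⟩⟩)
  choose s hs using fun i => h i hxV
  exact ⟨V, hV, hxV, s, hs⟩

lemma stalkMap_gm (φ : G ⟶ F) {U : Opens T} (hx : x ∈ U) (s : sc G.val U) :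
    (ModSite.stalkMap (pt x) φ).hom (gm G hx s) = gm F hx (apm φ.val U s) :=
  (pt x).toPresheafFiber_naturality_apply ((SheafOfModules.toSheaf (ModSite.ringSh O)).map φ).hom U _ s

section RingStalk

variable (O) (x)

/-- The comparison of the two stalks of the structure sheaf. -/
noncomputable def toTopStalk : ModSite.stalkRing (pt x) O ⟶ TopCat.Presheaf.stalk (C := CommRingCat.{u}) (X := TopCat.of T) O.obj x :=
  (pt x).presheafFiberDesc (fun U hx => TopCat.Presheaf.germ (C := CommRingCat.{u}) (X := TopCat.of T) O.obj U x hx.down.down)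
    (fun {U V} f hx => TopCat.Presheaf.germ_res (C := CommRingCat.{u}) (X := TopCat.of T) O.obj f x hx.down.down)

variable {O} {x}

lemma toTopStalk_gr {U : Opens T} (hx : x ∈ U) (r : rsec O U) :
    toTopStalk O x (gr hx r) = TopCat.Presheaf.germ (C := CommRingCat.{u}) (X := TopCat.of T) O.obj U x hx r :=
  ConcreteCategory.congr_hom (show (pt x).toPresheafFiber U ⟨⟨hx⟩⟩ O.obj ≫ toTopStalk O x =
    TopCat.Presheaf.germ (C := CommRingCat.{u}) (X := TopCat.of T) O.obj U x hx from colimit.ι_desc _ _) r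

lemma toTopStalk_bijective : Function.Bijective (toTopStalk O x) := by
  constructor
  · rw [injective_iff_map_eq_zero]
    intro a ha
    obtain ⟨U, hU, r, rfl⟩ := gr_surj a
    rw [toTopStalk_gr] at ha
    obtain ⟨V, hV, i, i', e⟩ := TopCat.Presheaf.germ_eq (C := CommRingCat.{u}) (X := TopCat.of T) (F := O.obj) x hU hU r 0 (ha.trans (map_zero _).symm)
    rw [← gr_rr i.le hV, show rr i.le r = 0 from e.trans (map_zero _), map_zero]
  · intro b
    obtain ⟨U, hU, r, rfl⟩ := TopCat.Presheaf.exists_germ_eq (C := CommRingCat.{u}) (X := TopCat.of T) O.obj b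
    exact ⟨gr hU r, toTopStalk_gr hU r⟩

/-- The ring isomorphism of the two stalks of the structure sheaf. -/
noncomputable def topStalkEquiv : ModSite.stalkRing (pt x) O ≃+* TopCat.Presheaf.stalk (C := CommRingCat.{u}) (X := TopCat.of T) O.obj x :=
  RingEquiv.ofBijective (toTopStalk O x).hom toTopStalk_bijective

end RingStalk

end Groth.SitesTopoi.SpaceGerm
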